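import Groth.Statements.S6090
import Groth.Agent.Deform.GenSub.SpreadDerived

set_option autoImplicit false
universe u
open CategoryTheory CategoryTheory.Limits MonoidalCategory CartesianMonoidalCategory MonObj GrpObj AlgebraicGeometry
open SGA3

namespace Groth.Agent.S6090
attribute [local instance] CategoryTheory.Hom.monoid CategoryTheory.Hom.group
set_option linter.style.haveILetI false
/-- Let S be an integral scheme, G an S-group scheme of finite presentation over S all of whose fibres
are smooth, and n ≥ 1 an integer. Then there are a nonempty open subset U of S and a normal closed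
subgroup scheme d : D → G|_U, of finite presentation over U with smooth fibres, such that for every
s ∈ U the fibre D_s → G_s is the n-th derived subgroup scheme of G_s: there are closed subgroup
schemes K⁰, …, Kⁿ of G_s with K⁰ = G_s, each K^p (p ≥ 1) the smallest closed subgroup scheme of G_s
through which K^{p-1} ×_{κ(s)} K^{p-1} → G_s, (x, y) ↦ x y x⁻¹ y⁻¹, factors, and D_s = Kⁿ as
subgroup schemes of G_s. (The published statement also treats the lower central series (G, K^{p-1});
that variant is not stated here.) -/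
theorem result (S : Scheme.{u}) [IsIntegral S] (G : Over S) [GrpObj G]
    [LocallyOfFinitePresentation G.hom] [QuasiCompact G.hom] [QuasiSeparated G.hom]
    (hsm : ∀ s : S, Smooth (G.hom.fiberToSpecResidueField s)) (n : ℕ) (hn : 1 ≤ n) :
    ∃ U : S.Opens, (U : Set S).Nonempty ∧
      ∃ (D : Over (U : Scheme.{u})) (_ : GrpObj D) (d : D ⟶ Red.bc U.ι G), IsMonHom d ∧ IsClosedImmersion d.left ∧
        AlgGrp.IsNormalHom d ∧ LocallyOfFinitePresentation D.hom ∧ QuasiCompact D.hom ∧ QuasiSeparated D.hom ∧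
        (∀ s : (U : Scheme.{u}), Smooth (D.hom.fiberToSpecResidueField s)) ∧
        ∀ s : (U : Scheme.{u}),
          ∃ (K : Fin (n + 1) → Over (Spec ((U : Scheme.{u}).residueField s))) (_ : ∀ p, GrpObj (K p)) (emb : ∀ p, K p ⟶ (Red.bc ((U : Scheme.{u}).fromSpecResidueField s) (Red.bc U.ι G))),
            (∀ p, IsMonHom (emb p) ∧ IsClosedImmersion (emb p).left) ∧ IsIso (emb 0) ∧
            (∀ p : Fin n,
              (∃ c : (K p.castSucc) ⊗ (K p.castSucc) ⟶ (K p.succ), c ≫ emb p.succ = (((fst (K p.castSucc) (K p.castSucc)) ≫ emb p.castSucc) * ((snd (K p.castSucc) (K p.castSucc)) ≫ emb p.castSucc) * ((fst (K p.castSucc) (K p.castSucc)) ≫ emb p.castSucc)⁻¹ * ((snd (K p.castSucc) (K p.castSucc)) ≫ emb p.castSucc)⁻¹)) ∧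
              ∀ (Γ' : Over (Spec ((U : Scheme.{u}).residueField s))) (_ : GrpObj Γ') (i' : Γ' ⟶ (Red.bc ((U : Scheme.{u}).fromSpecResidueField s) (Red.bc U.ι G))), IsMonHom i' → IsClosedImmersion i'.left →
                (∃ c' : (K p.castSucc) ⊗ (K p.castSucc) ⟶ Γ', c' ≫ i' = (((fst (K p.castSucc) (K p.castSucc)) ≫ emb p.castSucc) * ((snd (K p.castSucc) (K p.castSucc)) ≫ emb p.castSucc) * ((fst (K p.castSucc) (K p.castSucc)) ≫ emb p.castSucc)⁻¹ * ((snd (K p.castSucc) (K p.castSucc)) ≫ emb p.castSucc)⁻¹)) → ∃ j : (K p.succ) ⟶ Γ', j ≫ i' = emb p.succ) ∧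
            ∃ e : (Red.bc ((U : Scheme.{u}).fromSpecResidueField s) D) ≅ K (Fin.last n), e.hom ≫ emb (Fin.last n) = ((Over.pullback ((U : Scheme.{u}).fromSpecResidueField s)).map d) := by
  open Deform.GenSub.Spread in
  let ξ := genericPoint S
  let K := AlgebraicClosure (S.residueField ξ)
  let σ : Spec (CommRingCat.of K) ⟶ Spec (CommRingCat.of ↑(S.residueField ξ)) :=
    Spec.map (CommRingCat.ofHom (algebraMap (S.residueField ξ) K))
  obtain ⟨U, hU, D, str, d, h0, hD, hlink⟩ := exists_derived σ (G := G) (hsm ξ) n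
  haveI := h0
  obtain ⟨hmon, hcl, hs, hqc, hnorm⟩ := hD (Fin.last n)
  haveI := hmon; haveI := hcl; haveI := hs; haveI := hqc
  haveI : QuasiSeparated (Red.bc U.ι G).hom := MorphismProperty.pullback_snd G.hom U.ι inferInstance
  haveI : QuasiSeparated (D (Fin.last n : ℕ)).hom := by rw [← Over.w (d (Fin.last n : ℕ))]; infer_instance
  refine ⟨U, ⟨ξ, hU⟩, D (Fin.last n : ℕ), str (Fin.last n), d (Fin.last n : ℕ), hmon, hcl, hnorm, inferInstance, hqc,
    inferInstance, fun s => MorphismProperty.pullback_snd (P := @Smooth) _ _ hs, fun s => ?_⟩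
  let F := Over.pullback ((U : Scheme.{u}).fromSpecResidueField s)
  letI instK : ∀ p : Fin (n + 1), GrpObj (F.obj (D p)) := fun p =>
    letI := str p
    inferInstance
  refine ⟨fun p => F.obj (D p), instK, fun p => F.map (d p), fun p => ?_, inferInstanceAs (IsIso (F.map (d 0))),
    fun p => ?_, Iso.refl _, Category.id_comp _⟩
  · obtain ⟨h₁, h₂, -, -, -⟩ := hD p
    letI := str p
    haveI := h₁
    exact ⟨inferInstance, MorphismProperty.overPullbackMap (P := @IsClosedImmersion) _ (d p) h₂⟩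
  · obtain ⟨hc, N, hr⟩ := hlink p p.2
    obtain ⟨h₁, h₂, h₃, -, -⟩ := hD p.succ
    obtain ⟨g₁, -, -, -, -⟩ := hD p.castSucc
    letI : GrpObj (D (p : ℕ)) := str p.castSucc
    letI : GrpObj (D ((p : ℕ) + 1)) := str p.succ
    haveI : IsMonHom (d (p : ℕ)) := g₁
    haveI : IsMonHom (d ((p : ℕ) + 1)) := h₁
    haveI : IsClosedImmersion (d ((p : ℕ) + 1)).left := h₂
    haveI : Smooth (D ((p : ℕ) + 1)).hom := h₃
    refine ⟨fibre_factor (d (p : ℕ)) (d (p : ℕ)) (d ((p : ℕ) + 1)) hc s, ?_⟩
    intro Γ iΓ i hi hic hf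
    haveI := hi; haveI := hic
    exact fibre_min (d (p : ℕ)) (d (p : ℕ)) (d ((p : ℕ) + 1)) N hr s Γ i hf

end Groth.Agent.S6090
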