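import Groth.Statements.S6101
import Groth.Agent.SplitGrp.Ordered

set_option autoImplicit false
open CategoryTheory MonoidalCategory CartesianMonoidalCategory MonObj GrpObj AlgebraicGeometry
universe u
open RedSub

namespace Groth.Agent.S6101

/-- On points: let G be a split reductive S-group (splitting D with torus T, lattice M and root
homomorphisms u_a), fix a total order on M compatible with addition, and let a_1 < ⋯ < a_N be the
roots which are positive for it, enumerated increasingly by e. For i + m = N write U_{>i} for the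
products u_{a_{i+1}}(y_1) ⋯ u_{a_N}(y_m) of points of G_a, taken in increasing order. Then: U_{>i}
is closed under products and inverses; it is normalised by the points of T and by the points of
U_{>0}; and conjugating a point of U_{>i} by a point of U_{>0} does not change its first factor y_1
(inner automorphisms of U_{>0} act trivially on U_{>i}/U_{>i+1} = U_{a_{i+1}}). -/
theorem result {S : Scheme.{u}} {G : Over S} [GrpObj G] (D : Red.SplitRed G)
    [LinearOrder D.M] [IsOrderedAddMonoid D.M] {N : ℕ} (e : Fin N → D.idx) (he : Function.Injective e)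
    (hrange : ∀ a : D.idx, a ∈ Set.range e ↔ 0 < D.P.root a) (hmono : StrictMono (fun k => D.P.root (e k)))
    (i m : ℕ) (h : i + m = N) :
    (∀ (X : Over S) (y y' : Fin m → (X ⟶ Red.Ga S)), ∃ z : Fin m → (X ⟶ Red.Ga S),
      (List.ofFn (fun k => z k ≫ D.u (e (Fin.cast h (Fin.natAdd i k))))).prod =
        (List.ofFn (fun k => y k ≫ D.u (e (Fin.cast h (Fin.natAdd i k))))).prod *
          (List.ofFn (fun k => y' k ≫ D.u (e (Fin.cast h (Fin.natAdd i k))))).prod) ∧
    (∀ (X : Over S) (y : Fin m → (X ⟶ Red.Ga S)), ∃ z : Fin m → (X ⟶ Red.Ga S),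
      (List.ofFn (fun k => z k ≫ D.u (e (Fin.cast h (Fin.natAdd i k))))).prod =
        ((List.ofFn (fun k => y k ≫ D.u (e (Fin.cast h (Fin.natAdd i k))))).prod)⁻¹) ∧
    (∀ (X : Over S) (t : X ⟶ D.T) (y : Fin m → (X ⟶ Red.Ga S)), ∃ z : Fin m → (X ⟶ Red.Ga S),
      (List.ofFn (fun k => z k ≫ D.u (e (Fin.cast h (Fin.natAdd i k))))).prod =
        (t ≫ D.i) * (List.ofFn (fun k => y k ≫ D.u (e (Fin.cast h (Fin.natAdd i k))))).prod * (t ≫ D.i)⁻¹) ∧
    (∀ (X : Over S) (x : Fin N → (X ⟶ Red.Ga S)) (y : Fin m → (X ⟶ Red.Ga S)), ∃ z : Fin m → (X ⟶ Red.Ga S),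
      (List.ofFn (fun k => z k ≫ D.u (e (Fin.cast h (Fin.natAdd i k))))).prod =
        (List.ofFn (fun k => x k ≫ D.u (e k))).prod *
          (List.ofFn (fun k => y k ≫ D.u (e (Fin.cast h (Fin.natAdd i k))))).prod *
            ((List.ofFn (fun k => x k ≫ D.u (e k))).prod)⁻¹ ∧
      ∀ k : Fin m, (k : ℕ) = 0 → z k = y k) := by
  obtain ⟨lam, ⟨n₀, q₀, e₀, b₀, hbig⟩, hsub⟩ := SplitGrp.exists_ordered D e he hrange hmono
  obtain ⟨n₁, q₁, e₁, b₁, htail⟩ := hsub i m h
  let E := SplitGrp.ofSplit D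
  let a : Fin m → D.idx := fun k => e (Fin.cast h (Fin.natAdd i k))
  have hR : ∀ {p : ℕ} (f : Fin p → D.idx) {X : Over S} (z : Fin p → (X ⟶ Red.Ga S)),
      (List.ofFn (fun k => z k ≫ D.u (f k))).prod = E.Prod f (fun k => Red.gaFn (z k)) := fun f X z => by
    rw [show (fun k => z k ≫ D.u (f k)) = fun k => E.U (f k) (Red.gaFn (z k)) from
      funext fun k => SplitGrp.eq_U (D := E) (a := f k) (z k)]
    rfl
  have hback : ∀ {X : Over S} (w : Fin m → Γ(X.left, ⊤)),
      (List.ofFn (fun k => GrpSchLib.GaPts.ptOfFn (S := S) (w k) ≫ D.u (a k))).prod = E.Prod a w := fun w => by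
    rw [hR]; simp only [GrpSchLib.GaPts.gaFn_ptOfFn]
  refine ⟨fun X y y' => ?_, fun X y => ?_, fun X t y => ?_, fun X x y => ?_⟩
  · obtain ⟨w, hw⟩ := htail.exists_mul (fun k => Red.gaFn (y k)) (fun k => Red.gaFn (y' k))
    exact ⟨fun k => GrpSchLib.GaPts.ptOfFn (w k), (hback w).trans (hw.symm.trans (by rw [hR a y, hR a y']))⟩
  · obtain ⟨w, hw⟩ := htail.exists_inv (fun k => Red.gaFn (y k))
    exact ⟨fun k => GrpSchLib.GaPts.ptOfFn (w k), (hback w).trans (hw.symm.trans (by rw [hR a y]))⟩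
  · refine ⟨fun k => GrpSchLib.GaPts.ptOfFn (Red.gmFn ((t ≫ D.split.hom.hom.hom) ≫ Red.chi S (D.P.root (a k))) *
      Red.gaFn (y k)), (hback _).trans ?_⟩
    rw [hR a y, ← SplitGrp.split_comp_j D t]
    exact (SplitGrp.conj_Prod (D := E) (t ≫ D.split.hom.hom.hom) a (fun k => Red.gaFn (y k))).symm
  · rcases Nat.eq_zero_or_pos m with rfl | hm
    · refine ⟨y, ?_, fun k _ => rfl⟩
      rw [show (List.ofFn fun k => y k ≫ D.u (e (Fin.cast h (Fin.natAdd i k)))) = [] from List.ofFn_zero,
        List.prod_nil, _root_.mul_one, mul_inv_cancel]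
    obtain ⟨m, rfl⟩ : ∃ m', m = m' + 1 := ⟨m - 1, by omega⟩
    let σ : Fin (m + 1) → Fin N := fun k => Fin.cast h (Fin.natAdd i k)
    obtain ⟨v, hv⟩ := hbig.exists_word (Fin.append (Fin.append (id : Fin N → Fin N) σ) Fin.rev)
      (Fin.append (Fin.append (fun k => Red.gaFn (x k)) (fun k => Red.gaFn (y k)))
        (fun k => -Red.gaFn (x (Fin.rev k))))
    have hv' : E.Prod e (fun k => Red.gaFn (x k)) * E.Prod a (fun k => Red.gaFn (y k)) *
        (E.Prod e (fun k => Red.gaFn (x k)))⁻¹ = E.Prod e v := by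
      exact (SplitGrp.Prod_conj_word (D := E) σ _ _).symm.trans hv
    letI : LinearOrder E.M := ‹LinearOrder D.M›
    haveI : IsOrderedAddMonoid E.M := ‹IsOrderedAddMonoid D.M›
    obtain ⟨h0, h1⟩ := hbig.conj_upper (fun l => (hrange _).1 ⟨l, rfl⟩) hmono σ
      (fun k => by show i + 0 ≤ i + (k : ℕ); omega)
      (fun k hk => Fin.natAdd_injective _ _ (Fin.cast_injective h hk)) _ _ v hv'
    have hvsplit : E.Prod e v = E.Prod a (fun k => v (σ k)) := by
      have h' : N = i + (m + 1) := h.symm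
      subst h'
      have e1 : e = Fin.append (fun j => e (Fin.castAdd (m + 1) j)) a := (Fin.append_castAdd_natAdd).symm
      have e2 : v = Fin.append (fun _ => 0) (fun k => v (σ k)) := funext fun l =>
        Fin.addCases (fun j => by
          rw [Fin.append_left]
          exact h0 _ (show (j : ℕ) < i + 0 by omega)) (fun j => by rw [Fin.append_right]; rfl) l
      exact (congrArg₂ (E.Prod (X := X)) e1 e2).trans ((SplitGrp.Prod_append (D := E) _ a _ _).trans
        ((congrArg (· * _) (SplitGrp.Prod_zero (D := E) _)).trans (_root_.one_mul _)))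
    refine ⟨fun k => GrpSchLib.GaPts.ptOfFn (v (σ k)), ?_, fun k hk => ?_⟩
    · rw [hback, hR e x, hR a y, hv', hvsplit]
    · obtain rfl : k = 0 := Fin.ext hk
      exact GrpSchLib.GaPts.gaFn_injective ((GrpSchLib.GaPts.gaFn_ptOfFn _).trans h1)

end Groth.Agent.S6101
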