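import Groth.Statements.S6102
import Groth.Agent.SplitGrp.GroupLaw

set_option autoImplicit false
open CategoryTheory MonoidalCategory CartesianMonoidalCategory MonObj GrpObj AlgebraicGeometry
universe u
open RedSub

namespace Groth.Agent.S6102

/-- Existence, uniqueness and triangular form of the polynomial group law: let G be a split reductive
S-group (splitting D with root homomorphisms u_a and lattice M), fix a total order on M compatible
with addition, and let a_1 < ⋯ < a_N be the positive roots, enumerated increasingly by e. Then there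
is a unique family (Q_k) of polynomials in 2N variables over Γ(S, O_S) expressing the group law in
the coordinates x ↦ u_{a_1}(x_1) ⋯ u_{a_N}(x_N): for points x, y, z of G_a^N one has u(z) = u(x)
u(y) if and only if the coordinate of each z_k is Q_k(x, y); moreover Q_k = x_k + y_k + Q'_k with
Q'_k a polynomial in the x_j, y_j for j < k only. (The further assertion that the coefficients lie
in the subring generated by the structure constants of the commutator formulas is not stated.) -/
theorem result {S : Scheme.{u}} {G : Over S} [GrpObj G] (D : Red.SplitRed G)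
    [LinearOrder D.M] [IsOrderedAddMonoid D.M] {N : ℕ} (e : Fin N → D.idx) (he : Function.Injective e)
    (hrange : ∀ a : D.idx, a ∈ Set.range e ↔ 0 < D.P.root a) (hmono : StrictMono (fun k => D.P.root (e k))) :
    ∃! Q : Fin N → MvPolynomial (Fin N ⊕ Fin N) Γ(S, ⊤),
      (∀ (X : Over S) (x y z : Fin N → (X ⟶ Red.Ga S)),
        (List.ofFn (fun k => z k ≫ D.u (e k))).prod =
            (List.ofFn (fun k => x k ≫ D.u (e k))).prod * (List.ofFn (fun k => y k ≫ D.u (e k))).prod ↔
          ∀ k, Red.gaFn (z k) = MvPolynomial.eval₂ X.hom.appTop.hom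
            (Sum.elim (fun j => Red.gaFn (x j)) (fun j => Red.gaFn (y j))) (Q k)) ∧
      (∀ k : Fin N, ∀ v ∈ (Q k - MvPolynomial.X (Sum.inl k) - MvPolynomial.X (Sum.inr k)).vars,
        Sum.elim (fun j : Fin N => j < k) (fun j : Fin N => j < k) v) := by
  classical
  obtain ⟨lam, ⟨n₀, q₀, e₀, b₀, h⟩, -⟩ := SplitGrp.exists_ordered D e he hrange hmono
  let E := SplitGrp.ofSplit D
  have hR : ∀ {X : Over S} (z : Fin N → (X ⟶ Red.Ga S)),
      (List.ofFn (fun k => z k ≫ D.u (e k))).prod = E.Prod e (fun k => Red.gaFn (z k)) := fun {X} z => by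
    rw [show (fun k => z k ≫ D.u (e k)) = fun k => E.U (e k) (Red.gaFn (z k)) from
      funext fun k => SplitGrp.eq_U (D := E) (a := e k) (z k)]
    rfl
  obtain ⟨Q, hQ⟩ := h.exists_global_law
  have hmap : ∀ (B : Type u) [CommRing B] (s : Spec (CommRingCat.of B) ⟶ S) (k : Fin N) P,
      SplitGrp.IsLaw (D := E) e s P → MvPolynomial.map (SplitGrp.resHom s) (Q k) = P k := fun B _ s k P hP =>
    SplitGrp.map_resHom s fun d => hQ B s P hP k d
  have hfor : ∀ (X : Over S) (v w : Fin N → Γ(X.left, ⊤)),
      E.Prod e v * E.Prod e w = E.Prod e fun k => MvPolynomial.eval₂ X.hom.appTop.hom (Sum.elim v w) (Q k) := by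
    intro X v w
    refine SplitGrp.hom_ext_rings fun B _ s x => ?_
    obtain ⟨P, hP, -⟩ := h.exists_law s
    obtain ⟨v', hv'⟩ := SplitGrp.exists_sec s (fun l => x.left.appTop (v l))
    obtain ⟨w', hw'⟩ := SplitGrp.exists_sec s (fun l => x.left.appTop (w l))
    rw [MonObj.comp_mul, SplitGrp.comp_Prod, SplitGrp.comp_Prod, SplitGrp.comp_Prod, hv', hw']
    refine (hP B (RingHom.id B) s (by simp) v' w').trans ?_
    congr 1
    funext k
    rw [← hmap B s k P hP, MvPolynomial.eval₂_map, RingHom.id_comp,
      show x.left.appTop (MvPolynomial.eval₂ X.hom.appTop.hom (Sum.elim v w) (Q k)) =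
        MvPolynomial.eval₂ (x.left.appTop.hom.comp X.hom.appTop.hom) (x.left.appTop.hom ∘ Sum.elim v w) (Q k) from
        MvPolynomial.eval₂_comp_left x.left.appTop.hom X.hom.appTop.hom (Sum.elim v w) (Q k)]
    refine ((MvPolynomial.eval₂_comp_left (Scheme.ΓSpecIso (CommRingCat.of B)).inv.hom (SplitGrp.resHom s)
      (Sum.elim v' w') (Q k))).trans (congrArg₂ (fun f g => MvPolynomial.eval₂ f g (Q k)) ?_ ?_)
    · refine RingHom.ext fun C => (SplitGrp.sec_resHom s C).trans ?_
      show s.appTop C = x.left.appTop (X.hom.appTop C)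
      rw [← CommRingCat.comp_apply, ← Scheme.Hom.comp_appTop, Over.w x]
      rfl
    · funext i
      cases i with
      | inl j => exact (congrFun hv' j).symm
      | inr j => exact (congrFun hw' j).symm
  refine ⟨Q, ⟨fun X x y z => ?_, fun k v hv => ?_⟩, fun Q' hQ' => ?_⟩
  · rw [hR, hR, hR, hfor]
    exact ⟨fun hz => congrFun (h.Prod_inj hz), fun hz => congrArg (E.Prod e) (funext hz)⟩
  · obtain ⟨d, hd, hvd⟩ := (MvPolynomial.mem_vars v).1 hv
    have hd' := MvPolynomial.mem_support_iff.1 hd
    by_contra hnot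
    apply hd'
    refine SplitGrp.eq_of_forall_sec fun B _ s => ?_
    obtain ⟨P, hP, hwt⟩ := h.exists_law s
    have hc : s.appTop (MvPolynomial.coeff d (Q k - MvPolynomial.X (Sum.inl k) - MvPolynomial.X (Sum.inr k))) =
        SplitGrp.sec s (MvPolynomial.coeff d (P k - MvPolynomial.X (Sum.inl k) - MvPolynomial.X (Sum.inr k))) := by
      rw [← SplitGrp.sec_resHom, ← MvPolynomial.coeff_map, map_sub, map_sub, MvPolynomial.map_X, MvPolynomial.map_X,
        hmap B s k P hP]
    rw [hc, map_zero]
    refine Eq.trans (congrArg _ ?_) (map_zero (Scheme.ΓSpecIso (CommRingCat.of B)).inv.hom)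
    rw [MvPolynomial.coeff_sub, MvPolynomial.coeff_sub, MvPolynomial.coeff_X', MvPolynomial.coeff_X']
    have h0 : k ≤ Sum.elim id id v := by
      rcases v with j | j <;> exact not_lt.1 hnot
    by_cases hPd : MvPolynomial.coeff d (P k) = 0
    · by_cases hw : Finsupp.single (Sum.inl k) 1 = d ∨ Finsupp.single (Sum.inr k) 1 = d
      · haveI : Subsingleton B := subsingleton_of_zero_eq_one (hPd.symm.trans (by
          rcases hw with hw | hw <;> rw [← hw]
          · exact hP.linear_coeff h (Sum.inl k)
          · exact hP.linear_coeff h (Sum.inr k)))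
        exact Subsingleton.elim _ _
      · push_neg at hw
        rw [hPd, if_neg hw.1, if_neg hw.2, sub_zero, sub_zero]
    · obtain ⟨hd0, hw⟩ := hwt k d hPd
      have hwd : D.P.root (e (Sum.elim id id v)) ≤ D.P.root (e k) := by
        rw [show D.P.root (e k) = _ from hw]
        exact (SplitGrp.le_monWt _ (fun i => (hrange _).1 ⟨_, rfl⟩) d (Finsupp.mem_support_iff.1 hvd)).1
      have hkv : Sum.elim id id v = k := le_antisymm (hmono.le_iff_le.1 hwd) h0
      have hds : d = Finsupp.single v 1 := (SplitGrp.le_monWt (fun i => D.P.root (e (Sum.elim id id i)))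
        (fun i => (hrange _).1 ⟨_, rfl⟩) d (Finsupp.mem_support_iff.1 hvd)).2 (by rw [hkv]; exact hw.symm)
      subst hds
      have hone := hP.linear_coeff h v
      rw [hkv] at hone
      rcases v with j | j <;> simp only [Sum.elim_inl, Sum.elim_inr, id_eq] at hkv <;> subst hkv <;>
        rw [hone] <;> simp [Finsupp.single_left_inj]
  · funext k
    refine MvPolynomial.ext _ _ fun d => SplitGrp.eq_of_forall_sec fun B _ s => ?_
    obtain ⟨P, hP, -⟩ := h.exists_law s
    rw [hQ B s P hP k d]
    have hlaw : SplitGrp.IsLaw (D := E) e s fun l => MvPolynomial.map (SplitGrp.resHom s) (Q' l) := by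
      intro B' _ φ s' hs' x y
      have h1 := (hQ'.1 (SplitGrp.pX s') (fun l => GrpSchLib.GaPts.ptOfFn (SplitGrp.sec s' (x l)))
        (fun l => GrpSchLib.GaPts.ptOfFn (SplitGrp.sec s' (y l)))
        (fun l => GrpSchLib.GaPts.ptOfFn (MvPolynomial.eval₂ (SplitGrp.pX s').hom.appTop.hom
          (Sum.elim (fun l => SplitGrp.sec s' (x l)) (fun l => SplitGrp.sec s' (y l))) (Q' l)))).2
        fun l => by simp only [GrpSchLib.GaPts.gaFn_ptOfFn]
      rw [hR, hR, hR] at h1
      simp only [GrpSchLib.GaPts.gaFn_ptOfFn] at h1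
      refine h1.symm.trans (congrArg (E.Prod e) (funext fun l => ?_))
      rw [MvPolynomial.eval₂_map]
      refine Eq.symm ((MvPolynomial.eval₂_comp_left (Scheme.ΓSpecIso (CommRingCat.of B')).inv.hom
        (φ.comp (SplitGrp.resHom s)) (Sum.elim x y) (Q' l)).trans
        (congrArg₂ (fun f g => MvPolynomial.eval₂ f g (Q' l)) ?_ ?_))
      · refine RingHom.ext fun C => ?_
        show SplitGrp.sec s' (φ (SplitGrp.resHom s C)) = s'.appTop C
        rw [← SplitGrp.appTop_mor φ hs', SplitGrp.sec_resHom, ← CommRingCat.comp_apply, ← Scheme.Hom.comp_appTop]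
        exact congrArg (fun f => (Scheme.Hom.appTop f) C) hs'
      · funext i
        cases i <;> rfl
    rw [← congrFun (hlaw.unique h hP) k, MvPolynomial.coeff_map, SplitGrp.sec_resHom]

end Groth.Agent.S6102
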