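import Groth.Statements.S6108
import Groth.Agent.SplitGrp.Ordered
import Groth.Agent.SplitGrp.UnipProps
import Groth.Agent.SplitGrp.ClosedPos
import Groth.Agent.Deform.OrdMult.Abstract


set_option autoImplicit false
open CategoryTheory MonoidalCategory CartesianMonoidalCategory MonObj GrpObj AlgebraicGeometry
universe u
open RedSub

namespace Groth.Agent.S6108
open Groth.Agent
attribute [local instance] CategoryTheory.Hom.monoid CategoryTheory.Hom.group

/-- Let G be a split reductive S-group (splitting D with root homomorphisms u_a, lattice M), fix a total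
order on M compatible with addition, let a_1 < ⋯ < a_N be the positive roots enumerated increasingly
by e, and let f_1, …, f_N : G_a ⟶ H be homomorphisms into an S-group scheme H. Let F be the map
u_{a_1}(x_1) ⋯ u_{a_N}(x_N) ↦ f_1(x_1) ⋯ f_N(x_N) on points of U = U_{a_1} ⋯ U_{a_N}. Then F is
multiplicative if and only if, for all i < j and all points a, c of G_a, F applied to the
coordinates of u_{a_j}(c) u_{a_i}(a) u_{a_j}(c)⁻¹ equals f_j(c) f_i(a) f_j(c)⁻¹. (The published
statement allows H to be any group functor over S; this row takes H to be a group scheme over S.) -/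
theorem result {S : Scheme.{u}} {G H : Over S} [GrpObj G] [GrpObj H]
    (D : Red.SplitRed G) [LinearOrder D.M] [IsOrderedAddMonoid D.M] {N : ℕ} (e : Fin N → D.idx)
    (he : Function.Injective e) (hrange : ∀ a : D.idx, a ∈ Set.range e ↔ 0 < D.P.root a)
    (hmono : StrictMono (fun k => D.P.root (e k))) (f : Fin N → (Red.Ga S ⟶ H)) (hf : ∀ k, IsMonHom (f k)) :
    (∀ (X : Over S) (x y z : Fin N → (X ⟶ Red.Ga S)),
      (List.ofFn (fun k => z k ≫ D.u (e k))).prod =
          (List.ofFn (fun k => x k ≫ D.u (e k))).prod * (List.ofFn (fun k => y k ≫ D.u (e k))).prod →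
        (List.ofFn (fun k => z k ≫ f k)).prod =
          (List.ofFn (fun k => x k ≫ f k)).prod * (List.ofFn (fun k => y k ≫ f k)).prod) ↔
    (∀ (X : Over S) (i j : Fin N), i < j → ∀ (a c : X ⟶ Red.Ga S) (z : Fin N → (X ⟶ Red.Ga S)),
      (List.ofFn (fun k => z k ≫ D.u (e k))).prod = (c ≫ D.u (e j)) * (a ≫ D.u (e i)) * (c ≫ D.u (e j))⁻¹ →
        (List.ofFn (fun k => z k ≫ f k)).prod = (c ≫ f j) * (a ≫ f i) * (c ≫ f j)⁻¹) := by
  classical
  haveI := hf
  obtain ⟨lam, ⟨n, q, e₀, b, hU⟩, -⟩ := SplitGrp.exists_ordered D e he hrange hmono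
  let D' : SplitGrp.Sys G := SplitGrp.ofSplit D
  letI : LinearOrder (SplitGrp.ofSplit D).M := inferInstanceAs (LinearOrder D.M)
  haveI : IsOrderedAddMonoid (SplitGrp.ofSplit D).M := inferInstanceAs (IsOrderedAddMonoid D.M)
  have hu : ∀ {X : Over S} (x : Fin N → (X ⟶ Red.Ga S)),
      (List.ofFn (fun k => x k ≫ D.u (e k))).prod = D'.Prod e (fun k => Red.gaFn (x k)) := fun x =>
    congrArg List.prod (congrArg List.ofFn (funext fun k => SplitGrp.eq_U (D := D') (a := e k) (x k)))
  have hpt : ∀ {X : Over S} (x : X ⟶ Red.Ga S), GrpSchLib.GaPts.ptOfFn (Red.gaFn x) = x := fun x =>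
    GrpSchLib.GaPts.gaFn_injective (GrpSchLib.GaPts.gaFn_ptOfFn (Red.gaFn x))
  have hfv : ∀ {X : Over S} (x : Fin N → (X ⟶ Red.Ga S)),
      (List.ofFn (fun k => x k ≫ f k)).prod =
        (List.ofFn (fun k => GrpSchLib.GaPts.ptOfFn (Red.gaFn (x k)) ≫ f k)).prod := fun x => by
    simp only [hpt]
  constructor
  · intro hF X i j _ a c z hz
    obtain ⟨w, hw⟩ := hU.exists_mul (X := X) (Pi.single j (Red.gaFn c)) (Pi.single i (Red.gaFn a))
    let wp : Fin N → (X ⟶ Red.Ga S) := fun k => GrpSchLib.GaPts.ptOfFn (w k)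
    have hwp : (fun k => Red.gaFn (wp k)) = w := funext fun k => GrpSchLib.GaPts.gaFn_ptOfFn _
    let sj : ∀ (l : Fin N) (x : X ⟶ Red.Ga S), Fin N → (X ⟶ Red.Ga S) := fun l x => Pi.mulSingle l x
    have hs : ∀ l x, (fun k => Red.gaFn (sj l x k)) = Pi.single l (Red.gaFn x) := fun l x => funext fun k => by
      by_cases h : k = l
      · subst h; simp [sj]
      · simp [sj, h, GrpSchLib.GaPts.gaFn_one]
    have hsU : ∀ l x, (List.ofFn (fun k => sj l x k ≫ D.u (e k))).prod = x ≫ D.u (e l) := fun l x => by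
      rw [hu, hs]; exact (SplitGrp.Prod_single (D := D') _ l _).trans (SplitGrp.eq_U (D := D') x).symm
    have hsF : ∀ l x, (List.ofFn (fun k => sj l x k ≫ f k)).prod = x ≫ f l := fun l x => by
      rw [Deform.OrdMult.prod_eq_mul_update (fun k => sj l x k ≫ f k) l
        (fun k hk => by simp [sj, hk.ne, MonObj.one_comp])]
      refine (congrArg₂ (· * ·) (show sj l x l ≫ f l = x ≫ f l by simp [sj]) ?_).trans (_root_.mul_one _)
      refine List.prod_eq_one fun y hy => ?_
      obtain ⟨k, rfl⟩ := List.mem_ofFn.1 hy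
      by_cases h : k = l
      · subst h; simp
      · simp [sj, h, MonObj.one_comp]
    have e1 : (List.ofFn (fun k => wp k ≫ D.u (e k))).prod = (c ≫ D.u (e j)) * (a ≫ D.u (e i)) := by
      rw [hu, hwp, ← hsU j c, ← hsU i a, hu, hu, hs, hs]; exact hw.symm
    have e2 := hF X (sj j c) (sj i a) wp (by rw [e1, hsU, hsU])
    have e3 := hF X z (sj j c) wp (by rw [e1, hsU, hz, inv_mul_cancel_right])
    rw [hsF] at e2 e3
    rw [hsF] at e2
    rw [← e2, e3, mul_inv_cancel_right]
  · intro hC X x y z hxy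
    let gam : Fin N → Γ(X.left, ⊤) → (X ⟶ G) × (X ⟶ H) := fun k v =>
      (D'.U (e k) v, GrpSchLib.GaPts.ptOfFn v ≫ f k)
    have hptadd : ∀ v w : Γ(X.left, ⊤), (GrpSchLib.GaPts.ptOfFn (v + w) : X ⟶ Red.Ga S) =
        GrpSchLib.GaPts.ptOfFn v * GrpSchLib.GaPts.ptOfFn w := fun v w => GrpSchLib.GaPts.gaFn_injective (by
      show Red.gaFn (GrpSchLib.GaPts.ptOfFn (v + w) : X ⟶ Red.Ga S) = Red.gaFn _
      simp only [GrpSchLib.GaPts.gaFn_mul, GrpSchLib.GaPts.gaFn_ptOfFn])
    have hadd : ∀ k v w, gam k (v + w) = gam k v * gam k w := fun k v w => Prod.ext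
      (SplitGrp.U_add (D := D') v w) (by
        show GrpSchLib.GaPts.ptOfFn (v + w) ≫ f k = _
        rw [hptadd, MonObj.mul_comp]; rfl)
    have hprod : ∀ v : Fin N → Γ(X.left, ⊤), (List.ofFn fun k => gam k (v k)).prod =
        (D'.Prod e v, (List.ofFn fun k => GrpSchLib.GaPts.ptOfFn (v k) ≫ f k).prod) := fun v => Prod.ext
      ((map_list_prod (MonoidHom.fst (X ⟶ G) (X ⟶ H)) _).trans (by rw [List.map_ofFn]; rfl))
      ((map_list_prod (MonoidHom.snd (X ⟶ G) (X ⟶ H)) _).trans (by rw [List.map_ofFn]; rfl))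
    obtain ⟨w, hw⟩ := Deform.OrdMult.exists_prod_mul (gam := gam) hadd (fun i j hij a c => by
      let σ : Fin 1 → Fin N := fun _ => i
      obtain ⟨zc, hzc⟩ := hU.exists_word (X := X) (Fin.append (Fin.append (id : Fin N → Fin N) σ) Fin.rev)
        (Fin.append (Fin.append (Pi.single j c) (fun _ => a)) (fun l => -(Pi.single j c : Fin N → Γ(X.left, ⊤)) (Fin.rev l)))
      rw [SplitGrp.Prod_conj_word (D := D') (a := e) σ] at hzc
      obtain ⟨h0, hi⟩ := hU.conj_upper (fun l => (hrange _).1 ⟨l, rfl⟩) hmono σ (fun _ => le_rfl)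
        (fun k _ => Fin.ext (by omega)) _ _ zc hzc
      have hone : D'.Prod (fun k => e (σ k)) (fun _ => a) = D'.U (e i) a := (SplitGrp.Prod_succ _ _).trans (_root_.mul_one _)
      rw [SplitGrp.Prod_single, hone] at hzc
      have hpu : ∀ (k : Fin N) (v : Γ(X.left, ⊤)), GrpSchLib.GaPts.ptOfFn v ≫ D.u (e k) = D'.U (e k) v := fun _ _ => rfl
      have h3 := hC X i j hij (GrpSchLib.GaPts.ptOfFn a) (GrpSchLib.GaPts.ptOfFn c)
        (fun k => GrpSchLib.GaPts.ptOfFn (zc k)) hzc.symm
      exact ⟨zc, h0, hi, by rw [hprod]; exact Prod.ext hzc h3.symm⟩)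
      (fun k => Red.gaFn (x k)) (fun k => Red.gaFn (y k))
    rw [hprod, hprod, hprod, Prod.mk_mul_mk, Prod.mk.injEq] at hw
    rw [hu, hu, hu, hw.1] at hxy
    have e4 := hU.Prod_inj hxy
    rw [hfv x, hfv y, hfv z, hw.2]
    exact congrArg List.prod (congrArg List.ofFn (funext fun k => by rw [show Red.gaFn (z k) = w k from congrFun e4 k]))

end Groth.Agent.S6108
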