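import Groth.Statements.S6192
import Groth.Agent.PushAmp.OverBaseBound
import Groth.Agent.KFlatLib.Scheme.RpushUnbounded

set_option autoImplicit false
universe u
open CategoryTheory CategoryTheory.Limits AlgebraicGeometry
attribute [local instance] HasDerivedCategory.standard
open KSix

namespace Groth.Agent.S6192

/-- Let S be a quasi-compact scheme, p : X ⟶ S and q : Y ⟶ S with q quasi-compact (Y quasi-compact over
S), f : X ⟶ Y a quasi-compact and quasi-separated morphism with f ≫ q = p (so X too is quasi-compact
over S), and N a natural number such that R^i f_* M = 0 for all i > N and all quasi-coherent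
O_X-modules M. If F is a cochain complex of O_X-modules whose image in D(O_X) has bounded
quasi-coherent cohomology and which has tor amplitude in [a, b] relative to p (stalkwise flat models
placed in [a, b] over the local rings of S), then Rf_* F (the derived direct image being assumed to
exist) has tor amplitude in [a, b + N] relative to q: every cochain complex representing it has
stalkwise flat models placed in [a, b + N] over the local rings of S. -/
theorem result {X Y S : Scheme.{u}} (p : X ⟶ S) (q : Y ⟶ S)
    (f : X ⟶ Y) (w : f ≫ q = p) [QuasiCompact f] [QuasiSeparated f] [QuasiCompact q] [CompactSpace S]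
    [DCoh.HasRpush f] (N : ℕ)
    (hN : ∀ M : X.Modules, Coh.IsQCoh M → ∀ i : ℤ, (N : ℤ) < i → IsZero (DCoh.HD ((DCoh.Rpush f).obj (DCoh.inD X M)) i))
    (F : CochainComplex X.Modules ℤ) (hqc : DCoh.IsQCohD (DCoh.toD X F)) (c d : ℤ)
    [(DCoh.toD X F).IsGE c] [(DCoh.toD X F).IsLE d] (a b : ℤ) (hF : DerSch.HasTorAmplitude p a b F) :
    DerSch.HasTorAmplitudeD q a (b + N) ((DCoh.Rpush f).obj (DCoh.toD X F)) := by
  intro F' ⟨e⟩ y
  subst w
  open Groth.Agent.PushAmp Groth.Agent.KFlatLib in
  haveI : HasInjectiveResolutions X.Modules := hasInjectiveResolutions_modules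
  obtain ⟨_, ⟨(V : S.Opens), hV, rfl⟩, hyV, -⟩ :=
    S.isBasis_affineOpens.exists_subset_of_mem_open (Set.mem_univ (q.base y)) isOpen_univ
  obtain ⟨b', hb'⟩ := Groth.Agent.PushAmp.exists_torAmplitudeAt_rpush_over q f F hqc a b hV
    (fun x _ => hF x) F' e
  refine Groth.Agent.PushAmp.hasTorAmplitudeAt_shrink q (hb' y hyV) fun i hi => ?_
  open Groth.Agent.KFlatLib in
  have hv : RpushVanish f ⊤ (N + 1) := fun M hM p hp => by
    obtain ⟨e⟩ := nonempty_hd_rpush_single f M p
    exact Functor.map_isZero _ ((hN M hM p (by omega)).of_iso e.symm)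
  haveI : (DCoh.toD X F).IsLE b := (DerivedCategory.isLE_iff _ _).2 fun j hj =>
    ((HomologicalComplex.exactAt_iff_isZero_homology _ j).1
      (Groth.Agent.PushAmp.exactAt_of_hasTorAmplitude _ hF j (Or.inr hj))).of_iso
      ((DerivedCategory.homologyFunctorFactors X.Modules j).app _)
  open Groth.Agent.KFlatLib in
  have hz : IsZero (DCoh.HD ((DCoh.Rpush f).obj (DCoh.toD X F)) i) :=
    isZero_of_isZero_restrict _ fun _ => ⟨⊤, trivial,
      isZero_restrict_hd_rpush f hqc b ⊤ (N + 1) hv i (by omega)⟩
  exact (HomologicalComplex.exactAt_iff_isZero_homology _ i).2 (hz.of_iso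
    (((DerivedCategory.homologyFunctorFactors Y.Modules i).app F').symm ≪≫
      (DerivedCategory.homologyFunctor Y.Modules i).mapIso e))

end Groth.Agent.S6192
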