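import Groth.Statements.S6198
import Groth.Agent.PushAmp.OverBaseBound
import Groth.Agent.KFlatLib.Scheme.RpushUnbounded
import Groth.Agent.H9Misc.DRingTorDim

set_option autoImplicit false
universe u
open CategoryTheory CategoryTheory.Limits AlgebraicGeometry
attribute [local instance] HasDerivedCategory.standard
open KSix

namespace Groth.Agent.S6198

/-- Let S be a scheme, p : X ⟶ S and q : Y ⟶ S with q quasi-compact (Y quasi-compact over S), and f : X
⟶ Y a quasi-compact and quasi-separated morphism with f ≫ q = p (so X too is quasi-compact over S),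
the derived direct image being assumed to exist. If F is a cochain complex of O_X-modules whose
image in D(O_X) has bounded quasi-coherent cohomology and which is locally of finite tor amplitude
relative to p (stalkwise form), then Rf_* F is locally of finite tor amplitude relative to q. -/
theorem result {X Y S : Scheme.{u}} (p : X ⟶ S) (q : Y ⟶ S) (f : X ⟶ Y)
    (w : f ≫ q = p) [QuasiCompact f] [QuasiSeparated f] [QuasiCompact q] [DCoh.HasRpush f]
    (F : CochainComplex X.Modules ℤ) (hqc : DCoh.IsQCohD (DCoh.toD X F)) (c d : ℤ)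
    [(DCoh.toD X F).IsGE c] [(DCoh.toD X F).IsLE d] (hF : DerSch.LocFiniteTorAmplitude p F) :
    DerSch.LocFiniteTorAmplitudeD q ((DCoh.Rpush f).obj (DCoh.toD X F)) := by
  intro F' ⟨e⟩ y
  subst w
  obtain ⟨_, ⟨(V : S.Opens), hV, rfl⟩, hyV, -⟩ :=
    S.isBasis_affineOpens.exists_subset_of_mem_open (Set.mem_univ (q.base y)) isOpen_univ
  choose W a₀ b₀ hxW hW using hF
  have hc : IsCompact ((f ⁻¹ᵁ (q ⁻¹ᵁ V) : X.Opens) : Set X) :=
    f.isCompact_preimage (q.isCompact_preimage hV.isCompact)
  obtain ⟨t, ht⟩ := hc.elim_finite_subcover (fun x => (W x : Set X)) (fun x => (W x).2)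
    (fun x _ => Set.mem_iUnion.2 ⟨x, hxW x⟩)
  obtain ⟨A, hA⟩ := (Finset.finite_toSet (t.image a₀)).bddBelow
  obtain ⟨B, hB⟩ := (Finset.finite_toSet (t.image b₀)).bddAbove
  obtain ⟨b', hb'⟩ := Groth.Agent.PushAmp.exists_torAmplitudeAt_rpush_over q f F hqc A B hV
    (fun x hx => by
      obtain ⟨i, hit, hxi⟩ := Set.mem_iUnion₂.1 (ht hx)
      exact Groth.Agent.H9Misc.DRingTor.mono (hA (Finset.mem_coe.2 (Finset.mem_image_of_mem _ hit)))
        (hB (Finset.mem_coe.2 (Finset.mem_image_of_mem _ hit))) (hW i x hxi)) F' e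
  exact ⟨q ⁻¹ᵁ V, A, b', hyV, fun y' hy' => hb' y' hy'⟩

end Groth.Agent.S6198
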