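import Groth.Statements.S6197
import Groth.Agent.PushAmp.SmoothDrop
import Groth.Agent.PushAmp.ClosedStalk

set_option autoImplicit false
universe u
open CategoryTheory CategoryTheory.Limits AlgebraicGeometry
attribute [local instance] HasDerivedCategory.standard
open KSix

namespace Groth.Agent.S6197

/-- Let i : X ⟶ X' be a closed immersion, f' : X' ⟶ Y smooth, f = i ≫ f', and F a cochain complex of
O_X-modules. Then F is locally of finite tor amplitude relative to f (stalkwise form) if and only if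
the termwise direct image i_* F is locally of finite tor dimension in the absolute sense on X'. -/
theorem result {X X' Y : Scheme.{u}} (i : X ⟶ X')
    [IsClosedImmersion i] (f' : X' ⟶ Y) [Smooth f'] (F : CochainComplex X.Modules ℤ) :
    DerSch.LocFiniteTorAmplitude (i ≫ f') F ↔
      DCoh.LocHasFiniteTorDim (DCoh.toD X' (((Scheme.Modules.pushforward i).mapHomologicalComplex (ComplexShape.up ℤ)).obj F)) := by
  refine ⟨fun h y => ?_, fun h x => ?_⟩
  · obtain ⟨V, a, b, hyV, hV⟩ : ∃ (V : X'.Opens) (a b : ℤ), y ∈ V ∧ ∀ z ∈ V,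
        DerSch.HasTorAmplitudeAt f' a b ((DerSch.pushCx i).obj F) z := by
      by_cases hy : y ∈ Set.range i.base
      · obtain ⟨x, rfl⟩ := hy
        obtain ⟨V₀, a, b, hx, hV₀⟩ := h x
        obtain ⟨t, ht, hte⟩ := i.isClosedEmbedding.isInducing.isOpen_iff.1 V₀.isOpen
        refine ⟨⟨t, ht⟩, a, b, by rw [← SetLike.mem_coe, ← hte] at hx; exact hx, fun z hz => ?_⟩
        by_cases hz' : z ∈ Set.range i.base
        · obtain ⟨x', rfl⟩ := hz'
          refine (Groth.Agent.PushAmp.hasTorAmplitudeAt_push_iff i f' F x' a b).2 (hV₀ x' ?_)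
          rw [← SetLike.mem_coe, ← hte]
          exact hz
        · exact Groth.Agent.H9Misc.DRingTor.of_isZero (Functor.map_isZero _
            (Groth.Agent.PushAmp.isZero_stalkCx_push_compl i f' F z hz'))
      · exact ⟨⟨(Set.range i.base)ᶜ, i.isClosedEmbedding.isClosed_range.isOpen_compl⟩, 0, 0, hy,
          fun z hz => Groth.Agent.H9Misc.DRingTor.of_isZero (Functor.map_isZero _
            (Groth.Agent.PushAmp.isZero_stalkCx_push_compl i f' F z hz))⟩
    obtain ⟨n, W, hyW, hs⟩ := Groth.Agent.PushAmp.exists_smoothOfRelativeDimension_nhd f' y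
    refine ⟨V ⊓ W, a - n, b, ⟨hyV, hyW⟩, fun F' ⟨e⟩ => ?_⟩
    exact Groth.Agent.PushAmp.flatAmp_of_torAmp _
      (Groth.Agent.PushAmp.torAmp_restrict_id (V ⊓ W) F' fun z hz =>
        Groth.Agent.PushAmp.torAmpAt_id_of_smooth_nhd f' n W F' z hz.2
          (Groth.Agent.PushAmp.hasTorAmplitudeAt_of_iso f' e.symm (hV z hz.1)))
  · obtain ⟨V, a, b, hxV, hV⟩ := h (i.base x)
    refine ⟨i ⁻¹ᵁ V, a, b, hxV, fun x' hx' => ?_⟩
    exact (Groth.Agent.PushAmp.hasTorAmplitudeAt_push_iff i f' F x' a b).1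
      ((Groth.Agent.PushAmp.hasTorAmplitudeAt_restrict_iff V.ι f' _ (⟨i.base x', hx'⟩ : (V : Scheme.{u})) a b).1
        (Groth.Agent.PushAmp.torAmp_of_flatAmp (V.ι ≫ f') _
          (hV _ ⟨Iso.refl _⟩) (⟨i.base x', hx'⟩ : (V : Scheme.{u}))))

end Groth.Agent.S6197
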