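import Groth.Statements.S6204
import Groth.Agent.PushAmp.ChartAll

set_option autoImplicit false
universe u
open CategoryTheory CategoryTheory.Limits AlgebraicGeometry
attribute [local instance] HasDerivedCategory.standard
open KSix

namespace Groth.Agent.S6204

open CategoryTheory.Pretriangulated in
/-- Let f : X ⟶ Y be locally of finite type, n an integer, and E ⟶ F ⟶ G ⟶ E⟦1⟧ a distinguished triangle
of D(O_X); all pseudo-coherence is relative to f, in chart form. If E is (n+1)-pseudo-coherent and F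
is n-pseudo-coherent then G is n-pseudo-coherent; if E and G are n-pseudo-coherent then so is F; if
F is n-pseudo-coherent and G is (n-1)-pseudo-coherent then E is n-pseudo-coherent. -/
theorem result {X Y : Scheme.{u}} (f : X ⟶ Y) [LocallyOfFiniteType f] (n : ℤ)
    (T : Triangle (DCoh.D X)) (hT : T ∈ distinguishedTriangles) :
    (DerSch.IsPseudoCoherentRel f (n + 1) T.obj₁ → DerSch.IsPseudoCoherentRel f n T.obj₂ →
        DerSch.IsPseudoCoherentRel f n T.obj₃) ∧
      (DerSch.IsPseudoCoherentRel f n T.obj₁ → DerSch.IsPseudoCoherentRel f n T.obj₃ →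
        DerSch.IsPseudoCoherentRel f n T.obj₂) ∧
      (DerSch.IsPseudoCoherentRel f n T.obj₂ → DerSch.IsPseudoCoherentRel f (n - 1) T.obj₃ →
        DerSch.IsPseudoCoherentRel f n T.obj₁) := by
  open Groth.Agent.PushAmp Groth.Agent.KFlatLib in
  have key : ∀ {V : Y.Opens}, IsAffineOpen V → ∀ {U : X.Opens}, IsAffineOpen U → ∀ (_ : U ≤ f ⁻¹ᵁ V) {k : ℕ}
      (φ : MvPolynomial (Fin k) Γ(Y, V) →+* Γ(X, U)), Function.Surjective φ →
      (CPC (n + 1) T.obj₁ U φ → CPC n T.obj₂ U φ → CPC n T.obj₃ U φ) ∧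
      (CPC n T.obj₁ U φ → CPC n T.obj₃ U φ → CPC n T.obj₂ U φ) ∧
      (CPC n T.obj₂ U φ → CPC (n - 1) T.obj₃ U φ → CPC n T.obj₁ U φ) := by
    intro V hV U hU _ k φ hφ
    haveI := isClosedImmersion_imm hU φ hφ
    let F := rho U.ι ⋙ pushD (imm U φ)
    have hT' := F.map_distinguished T hT
    obtain ⟨h₁, h₂, -⟩ := locPC_two_of_three n _ hT'
    obtain ⟨-, -, h₃⟩ := locPC_two_of_three (n - 1) _ hT'
    simp only [sub_add_cancel] at h₃
    simp only [cpc_iff]
    exact ⟨h₁, h₂, h₃⟩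
  refine ⟨fun a b => ?_, fun a b => ?_, fun a b => ?_⟩
  · exact Groth.Agent.PushAmp.relPC_of_cpc f fun hV _ hU hle _ φ hφ => (key hV hU hle φ hφ.1).1
      (Groth.Agent.PushAmp.relPC_cpc f a hV hU hle φ hφ) (Groth.Agent.PushAmp.relPC_cpc f b hV hU hle φ hφ)
  · exact Groth.Agent.PushAmp.relPC_of_cpc f fun hV _ hU hle _ φ hφ => (key hV hU hle φ hφ.1).2.1
      (Groth.Agent.PushAmp.relPC_cpc f a hV hU hle φ hφ) (Groth.Agent.PushAmp.relPC_cpc f b hV hU hle φ hφ)
  · exact Groth.Agent.PushAmp.relPC_of_cpc f fun hV _ hU hle _ φ hφ => (key hV hU hle φ hφ.1).2.2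
      (Groth.Agent.PushAmp.relPC_cpc f a hV hU hle φ hφ) (Groth.Agent.PushAmp.relPC_cpc f b hV hU hle φ hφ)

end Groth.Agent.S6204
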