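import Groth.Statements.S6208
import Groth.Agent.S12089

set_option autoImplicit false
universe u
open CategoryTheory CategoryTheory.Limits AlgebraicGeometry
attribute [local instance] HasDerivedCategory.standard
open KSix

namespace Groth.Agent.S6208

/-- Retired milestone (weight 0, no credit; kept so that existing proof files which import this module still build). Let f : X ⟶ Y and g : Y ⟶ Z be locally of finite type with f pseudo-coherent (O_X placed in degree 0
is n-pseudo-coherent relative to f for every integer n), r an integer, and F an object of D(O_Y)
with bounded above cohomology which is r-pseudo-coherent relative to g (chart form). Then, the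
derived pullback Lf^* being assumed to exist, Lf^* F is r-pseudo-coherent relative to f ≫ g. -/
theorem result {X Y Z : Scheme.{u}} (f : X ⟶ Y) (g : Y ⟶ Z)
    [LocallyOfFiniteType f] [LocallyOfFiniteType g] (hf : ∀ n : ℤ, DerSch.IsNPseudoCoherent f n) [DCoh.HasLpull f]
    (r b : ℤ) (F : DCoh.D Y) [F.IsLE b] (hF : DerSch.IsPseudoCoherentRel g r F) :
    DerSch.IsPseudoCoherentRel (f ≫ g) r ((DCoh.Lpull f).obj F) := by
  exact Groth.Agent.S12089.result f g hf r F hF

end Groth.Agent.S6208
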