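import Groth.Statements.S6210
import Groth.Agent.PushAmp.RelPCBaseChangeAll

set_option autoImplicit false
universe u
open CategoryTheory CategoryTheory.Limits AlgebraicGeometry
attribute [local instance] HasDerivedCategory.standard
open KSix

namespace Groth.Agent.S6210

/-- Retired milestone (weight 0, no credit; kept so that existing proof files which import this module still build). For a flat base change: let f : X ⟶ Y be locally of finite type, h : Y' ⟶ Y flat, X' = X ×_Y Y' with
projections g : X' ⟶ X and f' : X' ⟶ Y', n an integer, and E an object of D(O_X) with bounded above
cohomology which is n-pseudo-coherent relative to f (chart form). Then, the derived pullback Lg^*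
being assumed to exist, Lg^* E is n-pseudo-coherent relative to f'. (The published statement assumes
only that X and Y' are tor-independent over Y; this row takes h flat, which implies that condition.) -/
theorem result {X Y Y' : Scheme.{u}} (f : X ⟶ Y) [LocallyOfFiniteType f]
    (h : Y' ⟶ Y) [Flat h] [DCoh.HasLpull (pullback.fst f h)] (n b : ℤ) (E : DCoh.D X) [E.IsLE b]
    (hE : DerSch.IsPseudoCoherentRel f n E) :
    DerSch.IsPseudoCoherentRel (pullback.snd f h) n ((DCoh.Lpull (pullback.fst f h)).obj E) := by
  exact Groth.Agent.PushAmp.relPC_lpull_baseChange_all (IsPullback.of_hasPullback f h) hE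

end Groth.Agent.S6210
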