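import Groth.Statements.S6213
import Groth.Agent.PushAmp.RelFlatPC
import Groth.Agent.PushAmp.RelFlat

set_option autoImplicit false
universe u
open CategoryTheory CategoryTheory.Limits AlgebraicGeometry
attribute [local instance] HasDerivedCategory.standard
open KSix

namespace Groth.Agent.S6213

/-- Let f : X ⟶ Y be locally of finite type and M an O_X-module. Then M placed in degree 0 has perfect
amplitude in [0, 0] relative to f (pseudo-coherent relative to f in chart form and of stalkwise tor
amplitude in [0, 0] over the local rings of Y) if and only if M is flat over Y at every point of X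
and M placed in degree 0 is (-1)-pseudo-coherent relative to f (that is, finitely presented relative
to f). -/
theorem result {X Y : Scheme.{u}} (f : X ⟶ Y)
    [LocallyOfFiniteType f] (M : X.Modules) :
    DerSch.HasPerfAmplitudeRel f 0 0 ((HomologicalComplex.single _ (ComplexShape.up ℤ) 0).obj M) ↔
      (FlatMod.IsFlatOver f M ∧ DerSch.IsPseudoCoherentRel f (-1) (DCoh.toD X ((HomologicalComplex.single _ (ComplexShape.up ℤ) 0).obj M))) := by
  constructor
  · rintro ⟨hpc, htor⟩
    refine ⟨fun x => ?_, hpc (-1)⟩
    obtain ⟨E, hv, hflat, ⟨e⟩⟩ := htor x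
    have hv' : ∀ i : ℤ, i ≠ 0 → IsZero (E.X i) := fun i hi => hv i (Int.lt_or_gt_of_ne hi)
    let S := (HomologicalComplex.single _ (ComplexShape.up ℤ) 0).obj M
    let K := (DerSch.stalkCxOver f x).obj S
    let H := DerivedCategory.homologyFunctor (ModuleCat.{u} (Y.presheaf.stalk (f.base x))) 0
    have hd₁ : (E.sc 0).f = 0 := (hv' _ (by simp)).eq_of_src _ _
    have hd₂ : (E.sc 0).g = 0 := (hv' _ (by simp)).eq_of_tgt _ _
    let eE : E.homology 0 ≅ E.X 0 := (ShortComplex.HomologyData.ofZeros (E.sc 0) hd₁ hd₂).left.homologyIso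
    let eK : K.homology 0 ≅ (DerSch.stalkOver f x).obj M :=
      (HomologicalComplex.homologyFunctor _ _ 0).mapIso
        ((HomologicalComplex.singleMapHomologicalComplex (DerSch.stalkOver f x) (ComplexShape.up ℤ) 0).app _) ≪≫
        HomologicalComplex.singleObjHomologySelfIso (ComplexShape.up ℤ) 0 _
    let eEK : E.homology 0 ≅ K.homology 0 :=
      ((DerivedCategory.homologyFunctorFactors _ 0).app E).symm ≪≫ H.mapIso e ≪≫
        (DerivedCategory.homologyFunctorFactors _ 0).app K
    change Module.Flat (Y.presheaf.stalk (f.base x)) ((DerSch.stalkOver f x).obj M)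
    haveI : Module.Flat (Y.presheaf.stalk (f.base x)) (E.X 0) := hflat 0
    exact Module.Flat.of_linearEquiv (eE.symm ≪≫ eEK ≪≫ eK).toLinearEquiv.symm
  · rintro ⟨hfl, hfp⟩
    have hfp' := Groth.Agent.PushAmp.relPC_of_iso f (Groth.Agent.KFlatLib.singleQ 0 M).symm hfp
    refine ⟨fun m => Groth.Agent.PushAmp.relPC_of_cpc f fun hV _ hU h _ φ hφ =>
      (Groth.Agent.PushAmp.cpc_flat_single f hfl hfp' hV hU h φ hφ m).of_iso
        (Groth.Agent.KFlatLib.singleQ 0 M), ?_⟩
    refine Groth.Agent.PushAmp.hasTorAmplitude_of_flatOver f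
      (fun i hi => HomologicalComplex.isZero_single_obj_X _ _ _ _ (by omega)) fun i x => ?_
    change Module.Flat (Y.presheaf.stalk (f.base x))
      ((DerSch.stalkOver f x).obj (((HomologicalComplex.single _ (ComplexShape.up ℤ) 0).obj M).X i))
    rcases eq_or_ne i 0 with rfl | hi
    · haveI : Module.Flat (Y.presheaf.stalk (f.base x)) ((DerSch.stalkOver f x).obj M) := hfl x
      exact Module.Flat.of_linearEquiv ((DerSch.stalkOver f x).mapIso
        (HomologicalComplex.singleObjXSelf (ComplexShape.up ℤ) 0 M)).toLinearEquiv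
    · haveI := ModuleCat.subsingleton_of_isZero ((DerSch.stalkOver f x).map_isZero
        (HomologicalComplex.isZero_single_obj_X (ComplexShape.up ℤ) 0 M i hi))
      exact (inferInstance : Module.Flat (Y.presheaf.stalk (f.base x))
        ((DerSch.stalkOver f x).obj (((HomologicalComplex.single _ (ComplexShape.up ℤ) 0).obj M).X i)))

end Groth.Agent.S6213
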