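import Groth.Statements.S6218
import Groth.Agent.PushAmp.ClosedStalk
import Groth.Agent.S6201

set_option autoImplicit false
universe u
open CategoryTheory CategoryTheory.Limits AlgebraicGeometry
attribute [local instance] HasDerivedCategory.standard
open KSix

namespace Groth.Agent.S6218

/-- Let i : X ⟶ Y be a closed immersion, g : Y ⟶ S smooth, a and b integers, and F a cochain complex of
O_X-modules such that the termwise direct image i_* F has perfect amplitude in [a, b] on Y in the
absolute sense (locally isomorphic in D to a complex of finite locally free modules placed in [a,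
b]). Then F has perfect amplitude in [a, b] relative to i ≫ g (pseudo-coherent relative to it in
chart form, with stalkwise tor amplitude in [a, b] over the local rings of S). -/
theorem result {X Y S : Scheme.{u}} (i : X ⟶ Y) [IsClosedImmersion i]
    (g : Y ⟶ S) [Smooth g] (a b : ℤ) (F : CochainComplex X.Modules ℤ)
    (hF : KSix.HasPerfectAmplitudeIn a b (DCoh.toD Y (((Scheme.Modules.pushforward i).mapHomologicalComplex (ComplexShape.up ℤ)).obj F))) :
    DerSch.HasPerfAmplitudeRel (i ≫ g) a b F := by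
  open Groth.Agent.PushAmp Groth.Agent.KFlatLib in
  let K := DCoh.toD Y (((Scheme.Modules.pushforward i).mapHomologicalComplex (ComplexShape.up ℤ)).obj F)
  have hsp : Groth.Agent.KFlatLib.LocSP K := fun y => by
    obtain ⟨V, hyV, hV⟩ := hF y
    obtain ⟨E, hz, hf, ⟨e⟩⟩ := hV _ ⟨Iso.refl _⟩
    exact ⟨_, V.ι, inferInstance, ⟨⟨y, hyV⟩, rfl⟩, E, ⟨⟨a, b, hz⟩, hf⟩,
      ⟨e.symm ≪≫ ((Groth.Agent.KFlatLib.rhoQ V.ι).app _).symm⟩⟩
  refine ⟨fun m => (Groth.Agent.S6201.result i g m F).2
    ((Groth.Agent.KFlatLib.isPseudoCoherentD_iff _ _).2 (hsp.locPC m)), fun x => ?_⟩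
  obtain ⟨V, hyV, hV⟩ := hF (i.base x)
  obtain ⟨E, hz, hf, ⟨e⟩⟩ := hV _ ⟨Iso.refl _⟩
  refine (Groth.Agent.PushAmp.hasTorAmplitudeAt_push_iff i g F x a b).1 ?_
  exact (Groth.Agent.PushAmp.hasTorAmplitudeAt_restrict_iff V.ι g _
    (⟨i.base x, hyV⟩ : (V : Scheme.{u})) a b).1 (Groth.Agent.PushAmp.hasTorAmplitudeAt_of_iso (V.ι ≫ g) e.symm
      (Groth.Agent.PushAmp.hasTorAmplitude_of_flatOver (V.ι ≫ g) hz (fun k =>
        Groth.Agent.PushAmp.isFlatOver_of_isFlat (V.ι ≫ g) (Groth.Agent.KFlatLib.isFlat_of_isFinLocFree (hf k))) _))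

end Groth.Agent.S6218
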