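import Groth.Statements.S6219
import Groth.Agent.PushAmp.ClosedStalk
import Groth.Agent.PushAmp.SmoothAmp
import Groth.Agent.S6201

set_option autoImplicit false
universe u
open CategoryTheory CategoryTheory.Limits AlgebraicGeometry
attribute [local instance] HasDerivedCategory.standard
open KSix

namespace Groth.Agent.S6219

/-- Let i : X ⟶ Y be a closed immersion, g : Y ⟶ S smooth of relative dimension at most d (every point
of Y has an open neighbourhood on which g is smooth of some relative dimension n ≤ d), a and b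
integers, and F a cochain complex of O_X-modules with perfect amplitude in [a, b] relative to i ≫ g
(pseudo-coherent relative to it in chart form, with stalkwise tor amplitude in [a, b] over the local
rings of S). Then the termwise direct image i_* F has perfect amplitude in [a - d, b] on Y in the
absolute sense (locally isomorphic in D to a complex of finite locally free modules placed in [a -
d, b]). -/
theorem result {X Y S : Scheme.{u}} (i : X ⟶ Y) [IsClosedImmersion i]
    (g : Y ⟶ S) [Smooth g] (d : ℕ)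
    (hd : ∀ y : Y, ∃ (n : ℕ) (V : Y.Opens), n ≤ d ∧ y ∈ V ∧ SmoothOfRelativeDimension n (V.ι ≫ g))
    (a b : ℤ) (F : CochainComplex X.Modules ℤ) (hF : DerSch.HasPerfAmplitudeRel (i ≫ g) a b F) :
    KSix.HasPerfectAmplitudeIn (a - d) b (DCoh.toD Y (((Scheme.Modules.pushforward i).mapHomologicalComplex (ComplexShape.up ℤ)).obj F)) := by
  intro y
  obtain ⟨n, V, hn, hyV, hsm⟩ := hd y
  let G := (DerSch.pushCx i).obj F
  have hGt := Groth.Agent.PushAmp.hasTorAmplitude_push i g hF.2
  have hpc : ∀ m, Groth.Agent.KFlatLib.LocPC m (DCoh.toD Y G) := fun m =>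
    (Groth.Agent.KFlatLib.isPseudoCoherentD_iff _ _).1 ((Groth.Agent.S6201.result i g m F).1 (hF.1 m))
  obtain ⟨U, j, hj, ⟨u, hu⟩, P, hv, hf, ⟨e⟩⟩ :=
    Groth.Agent.PushAmp.locPerfAmp_of_smooth (V.ι ≫ g) n ((DCoh.restrictCx V).obj G) (a := a) (b := b)
      (fun m => ((hpc m).restrict V.ι).of_iso ((Groth.Agent.KFlatLib.rhoQ V.ι).app G))
      (fun v => (Groth.Agent.PushAmp.hasTorAmplitudeAt_restrict_iff V.ι g G v a b).2 (hGt _)) ⟨y, hyV⟩
  let k := j ≫ V.ι
  let r := Groth.Agent.KFlatLib.rangeHom k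
  refine ⟨k.opensRange, ⟨u, ?_⟩, fun F' ⟨eF⟩ => ⟨(Groth.Agent.KFlatLib.rCx r).obj P,
    fun l hl => (Scheme.Modules.restrictFunctor _).map_isZero (hv l (by omega)),
    fun l => (Groth.Agent.KFlatLib.isStrictlyPerfect_restrict r ⟨⟨a - n, b, hv⟩, hf⟩).2 l, ⟨?_⟩⟩⟩
  · show V.ι.base (j.base u) = y
    rw [hu]
    rfl
  · exact ((Groth.Agent.KFlatLib.rhoQ k.opensRange.ι).app F').symm ≪≫ (Groth.Agent.KFlatLib.rho _).mapIso eF ≪≫
      (Groth.Agent.KFlatLib.rhoComp r k _ (Groth.Agent.KFlatLib.rangeHom_fac k) _).symm ≪≫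
      (Groth.Agent.KFlatLib.rho r).mapIso ((Groth.Agent.KFlatLib.rhoComp j V.ι k rfl _).symm ≪≫
        (Groth.Agent.KFlatLib.rho j).mapIso ((Groth.Agent.KFlatLib.rhoQ V.ι).app G) ≪≫ e.symm) ≪≫
      (Groth.Agent.KFlatLib.rhoQ r).app P

end Groth.Agent.S6219
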