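import Groth.Statements.S6222
import Groth.Agent.PushAmp.RelPCPush
import Groth.Agent.KFlatLib.Scheme.RpushQCoh

set_option autoImplicit false
universe u
open CategoryTheory CategoryTheory.Limits AlgebraicGeometry
attribute [local instance] HasDerivedCategory.standard
open KSix

namespace Groth.Agent.S6222

/-- Let S be a Noetherian scheme, p : X ⟶ S and q : Y ⟶ S of finite type, f : X ⟶ Y proper with f ≫ q =
p, and E an object of D(O_X) with cohomology bounded in [a, b] which is pseudo-coherent relative to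
p (chart form, every degree). Then, Rf_* being assumed to exist, Rf_* E has bounded cohomology and
is pseudo-coherent relative to q. -/
theorem result {X Y S : Scheme.{u}} [IsNoetherian S]
    (p : X ⟶ S) (q : Y ⟶ S) [LocallyOfFiniteType p] [QuasiCompact p] [LocallyOfFiniteType q] [QuasiCompact q]
    (f : X ⟶ Y) [IsProper f] (w : f ≫ q = p) [DCoh.HasRpush f] (E : DCoh.D X) (a b : ℤ) [E.IsGE a] [E.IsLE b]
    (hE : DerSch.IsPseudoCoherentRelAll p E) :
    (∃ c : ℤ, ((DCoh.Rpush f).obj E).IsLE c) ∧ ((DCoh.Rpush f).obj E).IsGE a ∧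
      DerSch.IsPseudoCoherentRelAll q ((DCoh.Rpush f).obj E) := by
  haveI : CompactSpace Y := QuasiCompact.compactSpace_of_compactSpace q
  have h := Groth.Agent.PushAmp.relPC_rpush p q f E a hE
  refine ⟨?_, Groth.Agent.KFlatLib.isGE_rpush f E a, h⟩
  obtain ⟨c, hc⟩ := Groth.Agent.PushAmp.exists_bound_of_relPC q (h 0) ⊤ (by simpa using isCompact_univ)
  exact ⟨c, (DerivedCategory.isLE_iff _ _).2 fun i hi =>
    Groth.Agent.KFlatLib.isZero_of_isZero_restrict _ fun _ => ⟨⊤, trivial, hc i hi⟩⟩

end Groth.Agent.S6222
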