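import Groth.Statements.S6223
import Groth.Agent.PushAmp.RelPCPush
import Groth.Agent.PushAmp.OverBaseLoc
import Groth.Agent.S6198

set_option autoImplicit false
universe u
open CategoryTheory CategoryTheory.Limits AlgebraicGeometry
attribute [local instance] HasDerivedCategory.standard
open KSix

namespace Groth.Agent.S6223

/-- Case of a locally Noetherian base: let S be locally Noetherian, p : X ⟶ S and q : Y ⟶ S locally of
finite type, f : X ⟶ Y proper with f ≫ q = p, and F a cochain complex of O_X-modules whose class in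
D(O_X) has bounded cohomology and which is perfect relative to p (pseudo-coherent relative to p in
chart form, and locally on X of finite stalkwise tor amplitude over the local rings of S). Then,
Rf_* being assumed to exist, Rf_* F is perfect relative to q: every cochain complex representing it
is. -/
theorem result {X Y S : Scheme.{u}} [IsLocallyNoetherian S]
    (p : X ⟶ S) (q : Y ⟶ S) [LocallyOfFiniteType p] [LocallyOfFiniteType q] (f : X ⟶ Y) [IsProper f] (w : f ≫ q = p)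
    [DCoh.HasRpush f] (F : CochainComplex X.Modules ℤ) (a b : ℤ) [(DCoh.toD X F).IsGE a] [(DCoh.toD X F).IsLE b]
    (hF : DerSch.IsPerfectRel p F) :
    ∀ F' : CochainComplex Y.Modules ℤ, Nonempty (DCoh.toD Y F' ≅ (DCoh.Rpush f).obj (DCoh.toD X F)) →
      DerSch.IsPerfectRel q F' := by
  intro F' hF'
  obtain ⟨eF⟩ := hF'
  refine ⟨fun m => ?_, fun y => ?_⟩
  · obtain ⟨hl, 𝒱, h𝒱, hV⟩ := Groth.Agent.PushAmp.relPC_rpush p q f (DCoh.toD X F) a hF.1 m
    refine ⟨hl, 𝒱, h𝒱, fun V hV' => ?_⟩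
    obtain ⟨𝒰, h𝒰, hU⟩ := hV V hV'
    refine ⟨𝒰, h𝒰, fun U hU' h => ?_⟩
    obtain ⟨n, φ, hφ, hG⟩ := hU U hU' h
    exact ⟨n, φ, hφ, fun G ⟨eG⟩ => hG G ⟨eG ≪≫ eF⟩⟩
  subst w
  open Groth.Agent.KFlatLib Groth.Agent.PushAmp TopologicalSpace in
  obtain ⟨_, ⟨(U : Y.Opens), hU, rfl⟩, hyU, -⟩ :=
    Y.isBasis_affineOpens.exists_subset_of_mem_open (Set.mem_univ y) isOpen_univ
  open Groth.Agent.KFlatLib Groth.Agent.PushAmp in
  haveI : CompactSpace (U : Scheme.{u}) := isCompact_iff_compactSpace.1 hU.isCompact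
  haveI : QuasiCompact (U.ι ≫ q) := inferInstance
  haveI := Groth.Agent.KFlatLib.hasRpush_scheme (f ∣_ U)
  let W := f ⁻¹ᵁ U
  open Groth.Agent.KFlatLib in
  let eE : (rho W.ι).obj (DCoh.toD X F) ≅ DCoh.toD _ ((rCx W.ι).obj F) := (rhoQ W.ι).app F
  obtain ⟨e⟩ := Groth.Agent.KFlatLib.nonempty_rpush_restrictD_iso f U
  open Groth.Agent.KFlatLib in
  let eU : DCoh.toD _ ((rCx U.ι).obj F') ≅
      (DCoh.Rpush (f ∣_ U)).obj (DCoh.toD _ ((rCx W.ι).obj F)) :=
    ((rhoQ U.ι).app F').symm ≪≫ (rho U.ι).mapIso eF ≪≫ e.app _ ≪≫ (DCoh.Rpush (f ∣_ U)).mapIso eE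
  open Groth.Agent.KFlatLib in
  haveI : (DCoh.toD _ ((rCx W.ι).obj F)).IsGE a := (DerivedCategory.isGE_iff _ _).2 fun i hi =>
    ((Scheme.Modules.restrictFunctor W.ι).map_isZero (DerivedCategory.isZero_of_isGE (DCoh.toD X F) a i hi)).of_iso
      (((DerivedCategory.homologyFunctor _ i).mapIso eE).symm ≪≫ restrictHDIso W.ι _ i)
  open Groth.Agent.KFlatLib in
  haveI : (DCoh.toD _ ((rCx W.ι).obj F)).IsLE b := (DerivedCategory.isLE_iff _ _).2 fun i hi =>
    ((Scheme.Modules.restrictFunctor W.ι).map_isZero (DerivedCategory.isZero_of_isLE (DCoh.toD X F) b i hi)).of_iso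
      (((DerivedCategory.homologyFunctor _ i).mapIso eE).symm ≪≫ restrictHDIso W.ι _ i)
  open Groth.Agent.KFlatLib Groth.Agent.PushAmp in
  have hloc := Groth.Agent.S6198.result (W.ι ≫ f ≫ q) (U.ι ≫ q) (f ∣_ U) (morphismRestrict_ι_assoc f U q)
    ((rCx W.ι).obj F) (isQCohD_of_iso eE (isQCohD_rho _ (isQCohD_of_relPC _ hF.1))) a b (fun x => by
      obtain ⟨V, c, d, hxV, hV⟩ := hF.2 (W.ι.base x)
      exact ⟨W.ι ⁻¹ᵁ V, c, d, hxV, fun x' hx' =>
        (hasTorAmplitudeAt_restrict_iff W.ι (f ≫ q) F x' c d).2 (hV _ hx')⟩) _ ⟨eU⟩ (⟨y, hyU⟩ : U)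
  obtain ⟨V, c, d, hyV, hV⟩ := hloc
  refine ⟨U.ι ''ᵁ V, c, d, ⟨_, hyV, rfl⟩, ?_⟩
  rintro _ ⟨z, hz, rfl⟩
  exact (Groth.Agent.PushAmp.hasTorAmplitudeAt_restrict_iff U.ι q F' z c d).1 (hV z hz)

end Groth.Agent.S6223
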