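import Groth.Statements.S6227
import Groth.Agent.PushAmp.ChartBC
import Mathlib

set_option autoImplicit false
universe u
open CategoryTheory CategoryTheory.Limits AlgebraicGeometry
attribute [local instance] HasDerivedCategory.standard
open KSix

namespace Groth.Agent.S6227

/-- Last clause: sufficiency: let f : X ⟶ Y be locally of finite type and h : Y' ⟶ Y flat, surjective
and quasi-compact. If the base change X ×_Y Y' ⟶ Y' of f is n-pseudo-coherent (structure sheaf
placed in degree 0 n-pseudo-coherent relative to it, chart form), then f is n-pseudo-coherent. (The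
published statement takes h faithfully flat, that is flat and surjective; this row also takes h
quasi-compact: for A an infinite product of copies of the field with two elements and I its ideal of
finitely supported sequences, the closed immersion Spec A/I ⟶ Spec A is not locally of finite
presentation, hence not (-1)-pseudo-coherent, while its base change along the flat, surjective,
non-quasi-compact disjoint union of the spectra of all local rings of A is an open and closed
immersion, so descent fails without quasi-compactness.) -/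
theorem result {X Y Y' : Scheme.{u}} (f : X ⟶ Y) [LocallyOfFiniteType f] (n : ℤ)
    (h : Y' ⟶ Y) [Flat h] [Surjective h] [QuasiCompact h] (hf' : DerSch.IsNPseudoCoherent (pullback.snd f h) n) :
    DerSch.IsNPseudoCoherent f n := by
  refine Groth.Agent.PushAmp.relPC_of_local f fun z => ?_
  obtain ⟨V, hV, hzV, -⟩ :=
    exists_isAffineOpen_mem_and_subset (x := f.base z) (U := (⊤ : Y.Opens)) trivial
  obtain ⟨U, hU, hzU, hUV⟩ := exists_isAffineOpen_mem_and_subset (x := z) (U := f ⁻¹ᵁ V) hzV
  haveI : CompactSpace (h ⁻¹ᵁ V : Y'.Opens) :=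
    isCompact_iff_compactSpace.mp (h.isCompact_preimage hV.isCompact)
  obtain ⟨T, p, hsurj, hp, hT⟩ :=
    ((h ⁻¹ᵁ V : Y'.Opens) : Scheme.{u}).exists_hom_isAffine_of_isZariskiLocalAtSource @IsLocalIso
  haveI := hsurj
  haveI := hp
  haveI : Flat p := IsLocalIso.le_of_isZariskiLocalAtSource @Flat _ _ p hp
  let p' : T ⟶ Y' := p ≫ (h ⁻¹ᵁ V).ι
  let q : T ⟶ Y := p' ≫ h
  haveI : Flat q := inferInstance
  have hq : (⊤ : T.Opens) ≤ q ⁻¹ᵁ V := fun t _ => (p.base t).2
  obtain ⟨k, φ, hφ⟩ := Groth.Agent.PushAmp.exists_chart f hV hU hUV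
  have H := (IsPullback.of_hasPullback (pullback.snd f h) p').paste_horiz (IsPullback.of_hasPullback f h)
  have hT' := Groth.Agent.PushAmp.nPC_baseChange (IsPullback.of_hasPullback (pullback.snd f h) p') hf'
  have hWT : IsAffineOpen (⊤ : T.Opens) := isAffineOpen_top T
  obtain ⟨hUY, ψ', hc', -, h4⟩ :=
    Groth.Agent.PushAmp.exists_chart_baseChange H n hV hU hUV hWT hq φ hφ
  haveI : IsAffine V.toScheme := hV
  haveI : IsAffine (⊤ : T.Opens).toScheme := hWT
  have hsj : Surjective (q.resLE V ⊤ hq) := by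
    refine ⟨fun v => ?_⟩
    obtain ⟨y, hy⟩ := h.surjective v.1
    have hy' : y ∈ h ⁻¹ᵁ V := show h y ∈ V from hy ▸ v.2
    obtain ⟨t, ht⟩ := p.surjective ⟨y, hy'⟩
    refine ⟨⟨t, trivial⟩, (Scheme.Opens.ι V).isOpenEmbedding.injective ?_⟩
    show ((q.resLE V ⊤ hq) ≫ V.ι) ⟨t, trivial⟩ = v.1
    rw [Scheme.Hom.resLE_comp_ι, ← hy]
    show h ((h ⁻¹ᵁ V).ι (p t)) = h y
    rw [ht]
    rfl
  have hfl : Flat (q.resLE V ⊤ hq) := by
    dsimp only [Scheme.Hom.resLE]
    infer_instance
  have hff : (q.appLE V ⊤ hq).hom.FaithfullyFlat := by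
    haveI : (RingHom.toMorphismProperty RingHom.FaithfullyFlat).RespectsIso :=
      RingHom.toMorphismProperty_respectsIso_iff.1 RingHom.FaithfullyFlat.respectsIso
    exact (MorphismProperty.arrow_mk_iso_iff (RingHom.toMorphismProperty RingHom.FaithfullyFlat)
      (AlgebraicGeometry.arrowResLEAppIso q V ⊤ hq)).1
      ((Flat.flat_and_surjective_iff_faithfullyFlat_of_isAffine _).1 ⟨hfl, hsj⟩)
  have hψ := Groth.Agent.PushAmp.relPC_cpc _ hT' hWT hUY inf_le_right ψ' hc'
  exact ⟨⟨V, hV⟩, ⟨U, hU⟩, hUV, hzU, k, φ, hφ.1, hφ.2, (Groth.Agent.PushAmp.chartPC_iff_cpc _ _ _ _ _).1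
    ((Groth.Agent.PushAmp.chartPC_unit_iff hU φ hφ.1).2 (h4 hff
      ((Groth.Agent.PushAmp.chartPC_unit_iff hUY ψ' hc'.1).1
        ((Groth.Agent.PushAmp.chartPC_iff_cpc _ _ _ _ _).2 hψ))))⟩

end Groth.Agent.S6227
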