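import Groth.Statements.S6237
import Groth.Agent.S7175
import Groth.Agent.PerfMor.Scheme
import Groth.Agent.KRegLib.Perfect
import Groth.Agent.Synt29.KoszulSyntomic
-- import your own Groth.Agent.* helpers here

set_option autoImplicit false
universe u
open CategoryTheory CategoryTheory.Limits AlgebraicGeometry
attribute [local instance] HasDerivedCategory.standard
open KSix

namespace Groth.Agent.S6237

theorem isLCI_of_surjective_seq {A B : Type u} [CommRing A] [CommRing B] [Algebra A B]
    (hs : Function.Surjective (algebraMap A B)) (rs : List A) (hreg : LCI.IsKoszulRegularSeq A rs)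
    (hker : RingHom.ker (algebraMap A B) = Ideal.ofList rs) : LCI.IsLCI A B := by
  let P := MvPolynomial (Fin 0) A
  let φ : P →ₐ[A] B := MvPolynomial.aeval Fin.elim0
  let e : A ≃ₐ[A] P := (MvPolynomial.isEmptyAlgEquiv A (Fin 0)).symm
  have hφe : ∀ a, φ (e a) = algebraMap A B a := fun a => ((φ.comp e.toAlgHom).commutes a)
  have hφ : Function.Surjective φ := fun b => by
    obtain ⟨a, rfl⟩ := hs b
    exact ⟨e a, hφe a⟩
  refine ⟨⟨Algebra.FiniteType.of_surjective (Algebra.ofId A B) hs |>.out⟩, 0, φ, hφ, fun 𝔭 _ => ?_⟩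
  refine ⟨1, fun h => 𝔭.isPrime.ne_top ((Ideal.eq_top_iff_one _).2 h), ?_⟩
  let e2 : P ≃ₐ[P] Localization.Away (1 : P) := IsLocalization.atOne P (Localization.Away (1 : P))
  let E : A ≃+* Localization.Away (1 : P) := e.toRingEquiv.trans e2.toRingEquiv
  refine ⟨rs.map E, Groth.Agent.Synt29.isKoszulRegularSeq_map_equiv E rs hreg, ?_⟩
  have hk : RingHom.ker φ.toRingHom = (Ideal.ofList rs).map (e.toRingEquiv : A →+* P) := by
    rw [← hker]
    refine le_antisymm (fun x hx => ?_) (Ideal.map_le_iff_le_comap.2 fun a ha => ?_)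
    · obtain ⟨a, rfl⟩ := e.surjective x
      refine Ideal.mem_map_of_mem _ ?_
      exact RingHom.mem_ker.2 ((hφe a).symm.trans (RingHom.mem_ker.1 hx))
    · exact RingHom.mem_ker.2 ((hφe a).trans (RingHom.mem_ker.1 ha))
  rw [hk, Ideal.map_map]
  have hE : (algebraMap P (Localization.Away (1 : P))).comp (e.toRingEquiv : A →+* P) = (E : A →+* Localization.Away (1 : P)) := by
    ext a
    exact (e2.commutes (e a)).symm
  rw [hE, Ideal.ofList, Ideal.map_span]
  congr 1
  ext x
  simp

/-- Let i : Z ⟶ X be a closed immersion which is Koszul-regular (around every point the ideal of Z in an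
affine open of X is generated by a finite sequence whose Koszul complex is acyclic in positive
degrees). Then i_*O_Z placed in degree 0 is a perfect object of D(O_X); in particular it is
pseudo-coherent. -/
theorem result {Z X : Scheme.{u}} (i : Z ⟶ X)
    [IsClosedImmersion i] (hi : RegImm.IsRegularImmersion RegImm.Kind.koszul i) :
    DCoh.IsPerfect (DCoh.inD X ((Scheme.Modules.pushforward i).obj (Coh.structureModule Z))) := by
  refine Groth.Agent.S7175.result i ?_
  refine (Groth.Agent.PerfMor.perfMor_iff_exists i).2 fun z => ?_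
  obtain ⟨U, hzU, -, rs, hrs, hker⟩ := hi.2 z
  refine ⟨U, ⟨i ⁻¹ᵁ U.1, U.2.preimage i⟩, hzU, le_rfl, ?_⟩
  letI := (i.app U.1).hom.toAlgebra
  have h : LCI.IsLCI Γ(X, U.1) Γ(Z, i ⁻¹ᵁ U.1) :=
    isLCI_of_surjective_seq (i.app_surjective U.1 U.2) rs hrs hker
  have h' := Groth.Agent.PerfMor.isPerfectHom_iff.1 (Groth.Agent.KRegLib.isPerfectHom_of_isLCI h)
  rw [Scheme.Hom.appLE_eq_app]
  exact h'


end Groth.Agent.S6237
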