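import Groth.Statements.S6239

-- import your own Groth.Agent.* helpers here

set_option autoImplicit false
universe u
open CategoryTheory CategoryTheory.Limits AlgebraicGeometry
attribute [local instance] HasDerivedCategory.standard
open KSix

namespace Groth.Agent.S6239

/-- Let f : X ⟶ Y be a morphism with X quasi-compact and F a cochain complex of O_X-modules which is
perfect relative to f (pseudo-coherent relative to f in chart form, and locally on X of finite
stalkwise tor amplitude over the local rings of Y). Then F has finite perfect amplitude relative to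
f: one interval [a, b] works at every point of X. -/
theorem result {X Y : Scheme.{u}} [CompactSpace X] (f : X ⟶ Y)
    (F : CochainComplex X.Modules ℤ) (hF : DerSch.IsPerfectRel f F) :
    DerSch.HasFinitePerfAmplitudeRel f F := by
  obtain ⟨h1, h2⟩ := hF
  choose V a b hx h using h2
  obtain ⟨t, ht⟩ := isCompact_univ.elim_finite_subcover (fun x : X => (V x : Set X))
    (fun x => (V x).2) (fun x _ => Set.mem_iUnion.2 ⟨x, hx x⟩)
  refine ⟨-(((∑ x ∈ t, (a x).natAbs : ℕ) : ℤ)), ((∑ x ∈ t, (b x).natAbs : ℕ) : ℤ), h1, fun y => ?_⟩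
  obtain ⟨x, hxt, hy⟩ := Set.mem_iUnion₂.1 (ht (Set.mem_univ y))
  have ha : (a x).natAbs ≤ ∑ x ∈ t, (a x).natAbs :=
    Finset.single_le_sum (f := fun x => (a x).natAbs) (fun _ _ => Nat.zero_le _) hxt
  have hb : (b x).natAbs ≤ ∑ x ∈ t, (b x).natAbs :=
    Finset.single_le_sum (f := fun x => (b x).natAbs) (fun _ _ => Nat.zero_le _) hxt
  obtain ⟨E, hE, hflat, e⟩ := h x y hy
  exact ⟨E, fun i hi => hE i (by omega), hflat, e⟩


end Groth.Agent.S6239
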