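import Groth.Statements.S6241
import Groth.Agent.PushAmp.TorAt
import Groth.Agent.KFlatLib.Scheme.CoEvalPerfect
import Groth.Agent.PushAmp.Stalk

set_option autoImplicit false
universe u
open CategoryTheory CategoryTheory.Limits AlgebraicGeometry
attribute [local instance] HasDerivedCategory.standard
open KSix

namespace Groth.Agent.S6241

/-- Let f : X ⟶ Y be a morphism of schemes and F a cochain complex of O_X-modules with bounded above
cohomology and tor amplitude in [m, n] relative to f in the stalkwise sense (at every point x of X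
the complex of stalks F_x is isomorphic, in the derived category of the local ring of Y at f x, to a
complex of flat modules placed in [m, n]). Then for every open V of Y and every O_V-module M, the
derived pullback along the restriction f⁻¹(V) ⟶ V of f and the derived tensor product with the
restriction of F to f⁻¹(V) being assumed to exist, the cohomology sheaves of L(f|)^* M ⊗^L (F
restricted to f⁻¹(V)) vanish outside [m, n]. (The published statement is for a morphism of ringed
topoi whose source has enough points, with V an object of the target topos; this row is the case of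
schemes, V an open subscheme, and the derived tensor product taken with the restriction of F as the
fixed right-hand factor.) -/
theorem result {X Y : Scheme.{u}} (f : X ⟶ Y)
    (F : CochainComplex X.Modules ℤ) (e : ℤ) [(DCoh.toD X F).IsLE e] (m n : ℤ)
    (hF : DerSch.HasTorAmplitude f m n F) (V : Y.Opens) (M : (V : Scheme.{u}).Modules)
    [DCoh.HasLpull (f ∣_ V)] [DCoh.HasLTensorCx ((DCoh.restrictCx (f ⁻¹ᵁ V)).obj F)]
    (i : ℤ) (hi : i < m ∨ n < i) :
    IsZero (DCoh.HD ((DCoh.LTensorCx ((DCoh.restrictCx (f ⁻¹ᵁ V)).obj F)).obj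
      ((DCoh.Lpull (f ∣_ V)).obj (DCoh.inD (V : Scheme.{u}) M))) i) := by
  open Groth.Agent.KFlatLib Groth.Agent.PushAmp in
  have hV : DerSch.HasTorAmplitude (f ∣_ V) m n ((DCoh.restrictCx (f ⁻¹ᵁ V)).obj F) := fun x => by
    refine (hasTorAmplitudeAt_comp_iff (f ∣_ V) V.ι _ x m n).1 ?_
    rw [morphismRestrict_ι]
    exact (hasTorAmplitudeAt_restrict_iff (f ⁻¹ᵁ V).ι f F x m n).2 (hF _)
  let K₀ := (HomologicalComplex.single (V : Scheme.{u}).Modules (ComplexShape.up ℤ) 0).obj M
  haveI : CochainComplex.IsLE K₀ 0 := inferInstance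
  open Groth.Agent.KFlatLib in
  obtain ⟨P, ψ, hψ, hPle, hP⟩ := exists_flat_rep K₀ 0
  haveI := hψ
  open Groth.Agent.KFlatLib in
  haveI := isIso_Q_map ψ hψ
  open Groth.Agent.KFlatLib in
  let eP : DCoh.toD _ ((pullCx (f ∣_ V)).obj P) ≅ (DCoh.Lpull (f ∣_ V)).obj (DCoh.inD (V : Scheme.{u}) M) :=
    (lpullIso (f ∣_ V) hP).symm ≪≫ (DCoh.Lpull (f ∣_ V)).mapIso
      (asIso (DerivedCategory.Q.map ψ) ≪≫ ((DerivedCategory.singleFunctorIsoCompQ _ 0).app M).symm)
  open Groth.Agent.KFlatLib in
  haveI := isIso_LTensorCx_counit ((DCoh.restrictCx (f ⁻¹ᵁ V)).obj F) (isKFlat_pullback (f ∣_ V) hP)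
  open Groth.Agent.KFlatLib Groth.Agent.PushAmp in
  exact (isZero_homology_tensor_pull (f ∣_ V) hV hP M ψ i hi).of_iso
    ((DerivedCategory.homologyFunctor _ i).mapIso
      ((DCoh.LTensorCx ((DCoh.restrictCx (f ⁻¹ᵁ V)).obj F)).mapIso eP.symm ≪≫
        asIso (((DCoh.tensorCxQ ((DCoh.restrictCx (f ⁻¹ᵁ V)).obj F)).totalLeftDerivedCounit DerivedCategory.Q
          (qisX _)).app ((pullCx (f ∣_ V)).obj P)) ≪≫
        DerivedCategory.Q.mapIso (braidCx ((pullCx (f ∣_ V)).obj P) ((DCoh.restrictCx (f ⁻¹ᵁ V)).obj F))) ≪≫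
      (DerivedCategory.homologyFunctorFactors _ i).app _)

end Groth.Agent.S6241
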