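import Groth.Statements.S6334
import Mathlib.FieldTheory.PurelyInseparable.Basic
import Mathlib.FieldTheory.KummerPolynomial
import Mathlib.Data.Fin.Tuple.Basic

set_option autoImplicit false
universe u
open Fields

namespace Groth.Agent.S6334

open IntermediateField in
private theorem step {F E : Type u} [Field F] [Field E] [Algebra F E] (p : ℕ) (hp : p.Prime)
    [ExpChar F p] [IsPurelyInseparable F E] (K : IntermediateField F E) (hK : K ≠ ⊤) :
    ∃ x : E, x ^ p ∈ K ∧ x ∉ K := by
  classical
  obtain ⟨y, hy⟩ : ∃ y, y ∉ K := by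
    by_contra h
    push Not at h
    exact hK (eq_top_iff.2 fun x _ => h x)
  have hex : ∃ m, y ^ p ^ m ∈ K := by
    obtain ⟨m, r, hr⟩ := IsPurelyInseparable.pow_mem F p y
    exact ⟨m, hr ▸ K.algebraMap_mem r⟩
  have hm0 : Nat.find hex ≠ 0 := fun h => hy (by simpa [h] using Nat.find_spec hex)
  obtain ⟨k, hk⟩ := Nat.exists_eq_succ_of_ne_zero hm0
  refine ⟨y ^ p ^ k, ?_, fun h => absurd (Nat.find_min' hex h) (by omega)⟩
  rw [← pow_mul, ← pow_succ]
  exact (by simpa [hk] using Nat.find_spec hex)

open IntermediateField in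
private theorem main {F E : Type u} [Field F] [Field E] [Algebra F E] (p : ℕ) (hp : p.Prime)
    [ExpChar F p] [FiniteDimensional F E] [IsPurelyInseparable F E] :
    ∀ (d : ℕ) (K : IntermediateField F E), Module.finrank K E = d →
      ∃ (n : ℕ) (a : Fin n → E), K ⊔ adjoin F (Set.range a) = ⊤ ∧
      (∀ i : Fin n, a i ^ p ∈ K ⊔ adjoin F (a '' {j | j < i}) ∧
        a i ∉ K ⊔ adjoin F (a '' {j | j < i})) ∧
      Module.finrank K E = p ^ n := by
  intro d
  induction d using Nat.strong_induction_on with
  | _ d ih => ?_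
  intro K hd
  by_cases hK : K = ⊤
  · subst hK
    refine ⟨0, Fin.elim0, top_sup_eq _, fun i => i.elim0, ?_⟩
    rw [pow_zero, IntermediateField.finrank_top]
  obtain ⟨x, hxp, hx⟩ := step p hp K hK
  have hirr : Irreducible (Polynomial.X ^ p - Polynomial.C (⟨x ^ p, hxp⟩ : K)) := by
    refine X_pow_sub_C_irreducible_of_prime hp fun b hb => ?_
    have hbx : (b : E) ^ p = x ^ p := congrArg Subtype.val hb
    haveI : ExpChar E p := expChar_of_injective_ringHom (algebraMap F E).injective p
    exact hx (frobenius_inj E p hbx ▸ b.2)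
  have hdeg : Module.finrank K K⟮x⟯ = p := by
    rw [adjoin.finrank (IsIntegral.of_finite K x),
      ← minpoly.eq_of_irreducible_of_monic hirr (x := x) ?_ (Polynomial.monic_X_pow_sub_C _ hp.ne_zero),
      Polynomial.natDegree_X_pow_sub_C]
    show _ = (0 : E)
    simp
  let K' : IntermediateField F E := restrictScalars F K⟮x⟯
  have hK' : K' = K ⊔ adjoin F {x} := restrictScalars_adjoin_eq_sup F K {x}
  have hmul : p * Module.finrank K' E = Module.finrank K E := by
    rw [← hdeg]; exact Module.finrank_mul_finrank K K⟮x⟯ E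
  have hpos : 0 < Module.finrank K' E := Module.finrank_pos
  obtain ⟨n, a, htop, ha, hn⟩ := ih (Module.finrank K' E)
    (by rw [← hd, ← hmul]; exact lt_mul_left hpos hp.one_lt) K' rfl
  refine ⟨n + 1, Fin.cons x a, ?_, ?_, ?_⟩
  · rw [Fin.range_cons, Set.insert_eq, adjoin_union, ← sup_assoc, ← hK', htop]
  · intro i
    refine Fin.cases ?_ (fun i => ?_) i
    · have h0 : (Fin.cons x a : Fin (n + 1) → E) '' {j | j < 0} = ∅ := by simp
      rw [h0, adjoin_empty, sup_bot_eq, Fin.cons_zero]
      exact ⟨hxp, hx⟩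
    · have h1 : (Fin.cons x a : Fin (n + 1) → E) '' {j | j < i.succ} =
          {x} ∪ a '' {j | j < i} := by
        ext y
        simp only [Set.mem_image, Set.mem_setOf_eq, Set.mem_union, Set.mem_singleton_iff]
        constructor
        · rintro ⟨j, hj, rfl⟩
          induction j using Fin.cases with
          | zero => exact Or.inl (Fin.cons_zero _ _)
          | succ j => exact Or.inr ⟨j, Fin.succ_lt_succ_iff.1 hj, by simp⟩
        · rintro (rfl | ⟨j, hj, rfl⟩)
          · exact ⟨0, Fin.succ_pos _, Fin.cons_zero _ _⟩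
          · exact ⟨j.succ, Fin.succ_lt_succ_iff.2 hj, Fin.cons_succ _ _ _⟩
      rw [h1, adjoin_union, ← sup_assoc, ← hK', Fin.cons_succ]
      exact ha i
  · rw [pow_succ', ← hn, hmul]

open IntermediateField in
/-- Let E/F be a finite purely inseparable extension of fields of characteristic p > 0. Then there are
elements a_1, ..., a_n of E generating E over F such that for each i the p-th power of a_i lies in
F(a_1, ..., a_{i-1}) while a_i itself does not (so each step adjoins a p-th root and has degree p);
in particular [E : F] = p ^ n. -/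
theorem result {F E : Type u} [Field F] [Field E] [Algebra F E] (p : ℕ)
    [Fact p.Prime] [CharP F p] [FiniteDimensional F E] [IsPurelyInseparable F E] :
    ∃ (n : ℕ) (a : Fin n → E), adjoin F (Set.range a) = ⊤ ∧
      (∀ i : Fin n, a i ^ p ∈ adjoin F (a '' {j | j < i}) ∧ a i ∉ adjoin F (a '' {j | j < i})) ∧
      Module.finrank F E = p ^ n := by
  obtain ⟨n, a, h1, h2, h3⟩ := main p (Fact.out : p.Prime) _ (⊥ : IntermediateField F E) rfl
  simp only [bot_sup_eq] at h1 h2
  exact ⟨n, a, h1, h2, by rw [← h3, IntermediateField.finrank_bot']⟩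

end Groth.Agent.S6334
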