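import Groth.Statements.S6363
import Mathlib

set_option autoImplicit false
universe u
open scoped TensorProduct
open Fields

namespace Groth.Agent.S6363

/-- For a finite field extension L/K and a normal closure M of L/K, some K-algebra homomorphism from the
n-fold tensor power L ⊗_K ⋯ ⊗_K L to M is surjective, where n = [L : K]_s is the separable degree
(so n ≤ [L : K]). -/
theorem result {K L M : Type u} [Field K] [Field L] [Field M]
    [Algebra K L] [Algebra K M] [Algebra L M] [IsScalarTower K L M] [FiniteDimensional K L]
    [IsNormalClosure K L M] :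
    ∃ f : (⨂[K] _ : Fin (Field.finSepDegree K L), L) →ₐ[K] M, Function.Surjective f := by
  classical
  haveI : Normal K M := IsNormalClosure.normal (F := K) (K := L) (L := M)
  obtain ⟨hspl, htop⟩ := (Algebra.IsAlgebraic.isNormalClosure_iff (F := K) (K := L) (L := M)).mp ‹_›
  have hcard : Nat.card (L →ₐ[K] M) = Field.finSepDegree K L := by
    rw [Field.finSepDegree_eq_of_isAlgClosed K L (AlgebraicClosure M)]
    refine Nat.card_congr (Equiv.ofBijective (fun σ => (IsScalarTower.toAlgHom K M (AlgebraicClosure M)).comp σ) ⟨?_, ?_⟩)
    · intro σ τ h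
      ext x
      exact (algebraMap M (AlgebraicClosure M)).injective (AlgHom.congr_fun h x)
    · intro τ
      have hr : ∀ x : L, τ x ∈ (IsScalarTower.toAlgHom K M (AlgebraicClosure M)).range := by
        intro x
        have hroot : τ x ∈ (((minpoly K x).map (algebraMap K M)).map (algebraMap M (AlgebraicClosure M))).roots := by
          rw [Polynomial.map_map, ← IsScalarTower.algebraMap_eq]
          refine Polynomial.mem_aroots.mpr ⟨minpoly.ne_zero (Algebra.IsIntegral.isIntegral x), ?_⟩
          rw [Polynomial.aeval_algHom_apply, minpoly.aeval, map_zero]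
        rw [(hspl x).roots_map, Multiset.mem_map] at hroot
        obtain ⟨y, -, hy⟩ := hroot
        exact ⟨y, hy⟩
      refine ⟨((AlgEquiv.ofInjectiveField (IsScalarTower.toAlgHom K M (AlgebraicClosure M))).symm.toAlgHom).comp
        (τ.codRestrict _ hr), ?_⟩
      ext x
      exact congrArg Subtype.val ((AlgEquiv.ofInjectiveField (IsScalarTower.toAlgHom K M (AlgebraicClosure M))).apply_symm_apply ⟨τ x, hr x⟩)
  haveI : Finite (L →ₐ[K] M) := Finite.of_fintype _
  let e : (L →ₐ[K] M) ≃ Fin (Field.finSepDegree K L) := (Finite.equivFinOfCardEq hcard)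
  let f0 : MultilinearMap K (fun _ : Fin (Field.finSepDegree K L) => L) M :=
    (MultilinearMap.mkPiAlgebra K (Fin (Field.finSepDegree K L)) M).compLinearMap fun i => (e.symm i).toLinearMap
  let f := PiTensorProduct.liftAlgHom f0 (by simp [f0]) (fun x y => by simp [f0, Finset.prod_mul_distrib])
  refine ⟨f, ?_⟩
  let S : IntermediateField K M := f.range.toIntermediateField' (Subalgebra.isField_of_algebraic f.range)
  intro m
  have hS : (⊤ : IntermediateField K M) ≤ S := by
    rw [← htop, normalClosure_def]
    refine iSup_le fun σ => ?_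
    rintro _ ⟨x, rfl⟩
    refine ⟨PiTensorProduct.tprod K (Function.update (fun _ => (1 : L)) (e σ) x), ?_⟩
    show f (PiTensorProduct.tprod K _) = σ x
    simp only [f, PiTensorProduct.liftAlgHom, AlgHom.ofLinearMap_apply, PiTensorProduct.lift.tprod, f0,
      MultilinearMap.compLinearMap_apply, MultilinearMap.mkPiAlgebra_apply, AlgHom.toLinearMap_apply]
    rw [Finset.prod_eq_single (e σ)]
    · rw [Function.update_self, Equiv.symm_apply_apply]
    · intro i _ hi
      rw [Function.update_of_ne hi, map_one]
    · exact fun h => absurd (Finset.mem_univ _) h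
  exact hS (IntermediateField.mem_top (x := m))

end Groth.Agent.S6363
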