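import Groth.Statements.S6377
import Groth.Agent.TorDevissage.Koszulish
-- import your own Groth.Agent.* helpers here

set_option autoImplicit false
universe u
open CategoryTheory
open scoped TensorProduct
open CAlg

namespace Groth.Agent.S6377

/-- Let A be a ring, M an A-module and I = (f_1, ..., f_r) an ideal generated by r ≥ 1 elements. If (1)
M_{f_i} is flat over A_{f_i} for each i, (2) M/IM is flat over A/I, and (3) Tor_i^A(M, A/I) = 0 for
i = 1, ..., r + 1, then M is flat over A. (The published statement adds the same with 'faithfully
flat', whose proof it omits; that variant is not included.) -/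
theorem result (A : Type u) [CommRing A] (M : Type u) [AddCommGroup M]
    [Module A M] {r : ℕ} (hr : 1 ≤ r) (f : Fin r → A)
    (h1 : ∀ i, Module.Flat (Localization.Away (f i)) (LocalizedModule (Submonoid.powers (f i)) M))
    (h2 : Module.Flat (A ⧸ Ideal.span (Set.range f)) ((A ⧸ Ideal.span (Set.range f)) ⊗[A] M))
    (h3 : ∀ i : ℕ, 1 ≤ i → i ≤ r + 1 →
      Limits.IsZero (((CategoryTheory.Tor (ModuleCat.{u} A) i).obj (ModuleCat.of A M)).obj (ModuleCat.of A (A ⧸ Ideal.span (Set.range f))))) :
    Module.Flat A M := by
  let P : ProjectiveResolution (ModuleCat.of A M) := ProjectiveResolution.of _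
  haveI : ∀ n, Module.Projective A (P.complex.X n) := fun n => (IsProjective.iff_projective _).2 (P.projective n)
  let R : Groth.Agent.TorDevissage.Res A M :=
    { P := fun n => P.complex.X n
      d := fun n => (P.complex.d (n + 1) n).hom
      ε := (P.π.f 0).hom
      ε_surjective := (ModuleCat.epi_iff_surjective (P.π.f 0)).1 inferInstance
      exact₀ := (ShortComplex.ShortExact.moduleCat_exact_iff_function_exact _).1 P.exact₀
      exact := fun n => (ShortComplex.ShortExact.moduleCat_exact_iff_function_exact _).1 (P.exact_succ n) }
  haveI := h2
  refine Groth.Agent.TorDevissage.flat_of_family R f (fun i => ?_) (fun l hl => ?_)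
  · haveI := h1 i
    exact Module.Flat.of_linearEquiv
      (IsLocalizedModule.isBaseChange (Submonoid.powers (f i)) (Localization.Away (f i))
        (LocalizedModule.mkLinearMap (Submonoid.powers (f i)) M)).equiv
  · have := h3 (l + 1) (by omega) (by omega)
    rw [Iso.isZero_iff (Groth.Agent.H9Misc.TorBalance.torIso' P _ (l + 1)),
      ← HomologicalComplex.exactAt_iff_isZero_homology,
      HomologicalComplex.exactAt_iff' _ (l + 2) (l + 1) l (by simp) (by simp),
      ShortComplex.ShortExact.moduleCat_exact_iff_function_exact] at this
    exact this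

end Groth.Agent.S6377
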