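import Groth.Statements.S6387
import Groth.Agent.S0393
import Groth.Agent.FlatCxLib.Cls
import Mathlib.LinearAlgebra.TensorProduct.Quotient

set_option autoImplicit false
universe u
open CategoryTheory
open CAlg

namespace Groth.Agent.S6387

open TensorProduct in
/-- One descending step. -/
lemma step {R S : Type u} [CommRing R] [CommRing S] [IsLocalRing R] [IsLocalRing S] [IsNoetherianRing S]
    [Algebra R S] [IsLocalHom (algebraMap R S)] {X Y Z : Type u} [AddCommGroup X] [AddCommGroup Y]
    [AddCommGroup Z] [Module S X] [Module S Y] [Module S Z] [Module.Finite S Y]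
    [Module R Y] [IsScalarTower R S Y] [Module R Z] [IsScalarTower R S Z] [Module.Flat R Z]
    (f : X →ₗ[S] Y) (g : Y →ₗ[S] Z) (hfg : g ∘ₗ f = 0)
    (hex : Function.Exact (f.lTensor (S ⧸ (IsLocalRing.maximalIdeal R).map (algebraMap R S)))
      (g.lTensor (S ⧸ (IsLocalRing.maximalIdeal R).map (algebraMap R S)))) :
    Function.Exact f g ∧ Module.Flat R (Z ⧸ LinearMap.range g) := by
  let k := R ⧸ IsLocalRing.maximalIdeal R
  let I := (IsLocalRing.maximalIdeal R).map (algebraMap R S)
  let N := Y ⧸ LinearMap.range f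
  let u : N →ₗ[R] Z :=
    ((LinearMap.range f).liftQ g (LinearMap.range_le_ker_iff.2 hfg)).restrictScalars R
  have hu : Function.Injective (u.lTensor k) := by
    refine (injective_iff_map_eq_zero _).2 fun x hx => ?_
    obtain ⟨b, rfl⟩ : ∃ b : Y, (1 : k) ⊗ₜ[R] (Submodule.Quotient.mk b : N) = x := by
      obtain ⟨n, hn⟩ := Submodule.Quotient.mk_surjective _
        (TensorProduct.quotTensorEquivQuotSMul N (IsLocalRing.maximalIdeal R) x)
      obtain ⟨b, rfl⟩ := Submodule.Quotient.mk_surjective _ n
      exact ⟨b, (TensorProduct.quotTensorEquivQuotSMul N (IsLocalRing.maximalIdeal R)).injective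
        ((TensorProduct.quotTensorEquivQuotSMul_mk_one_tmul _ _).trans hn)⟩
    have hz : g b ∈ IsLocalRing.maximalIdeal R • (⊤ : Submodule R Z) := by
      have := congrArg (TensorProduct.quotTensorEquivQuotSMul Z (IsLocalRing.maximalIdeal R)) hx
      rw [map_zero] at this
      refine (Submodule.Quotient.mk_eq_zero _).1 ?_
      rw [← TensorProduct.quotTensorEquivQuotSMul_mk_one_tmul]
      exact this
    have hz' : (1 : S ⧸ I) ⊗ₜ[S] g b = 0 := by
      rw [← (TensorProduct.quotTensorEquivQuotSMul Z I).map_eq_zero_iff,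
        TensorProduct.quotTensorEquivQuotSMul_mk_one_tmul,
        Submodule.Quotient.mk_eq_zero]
      rwa [← Submodule.restrictScalars_mem R, Submodule.restrictScalars_map_smul_eq,
        Submodule.restrictScalars_top]
    obtain ⟨w, hw⟩ := (hex ((1 : S ⧸ I) ⊗ₜ b)).1 hz'
    obtain ⟨a, rfl⟩ : ∃ a : X, (1 : S ⧸ I) ⊗ₜ[S] a = w := by
      obtain ⟨a, ha⟩ := Submodule.Quotient.mk_surjective _ (TensorProduct.quotTensorEquivQuotSMul X I w)
      refine ⟨a, (TensorProduct.quotTensorEquivQuotSMul X I).injective ?_⟩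
      rw [TensorProduct.quotTensorEquivQuotSMul_mk_one_tmul, ha]
    have hb : b - f a ∈ IsLocalRing.maximalIdeal R • (⊤ : Submodule R Y) := by
      have h0 : (1 : S ⧸ I) ⊗ₜ[S] (b - f a) = 0 := by
        rw [TensorProduct.tmul_sub, sub_eq_zero]
        exact hw.symm
      rw [← (TensorProduct.quotTensorEquivQuotSMul Y I).map_eq_zero_iff,
        TensorProduct.quotTensorEquivQuotSMul_mk_one_tmul,
        Submodule.Quotient.mk_eq_zero] at h0
      rwa [← Submodule.restrictScalars_mem R, Submodule.restrictScalars_map_smul_eq,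
        Submodule.restrictScalars_top] at h0
    have : (Submodule.Quotient.mk b : N) ∈ IsLocalRing.maximalIdeal R • (⊤ : Submodule R N) := by
      have h := Submodule.smul_top_le_comap_smul_top (IsLocalRing.maximalIdeal R)
        ((LinearMap.range f).mkQ.restrictScalars R) hb
      have e : (LinearMap.range f).mkQ (b - f a) = Submodule.Quotient.mk b := by
        simp
      exact e ▸ h
    refine (TensorProduct.quotTensorEquivQuotSMul N (IsLocalRing.maximalIdeal R)).injective ?_
    rw [map_zero]
    exact (TensorProduct.quotTensorEquivQuotSMul_mk_one_tmul _ _).trans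
      ((Submodule.Quotient.mk_eq_zero _).2 this)
  obtain ⟨hinj, hflat⟩ := Groth.Agent.S0393.result (S := S) u hu
  refine ⟨fun y => ⟨fun hy => ?_, ?_⟩, ?_⟩
  · have : (Submodule.Quotient.mk y : N) = 0 := hinj (by rw [map_zero]; exact hy)
    exact LinearMap.mem_range.1 ((Submodule.Quotient.mk_eq_zero _).1 this)
  · rintro ⟨a, rfl⟩
    exact LinearMap.congr_fun hfg a
  · have e : LinearMap.range u = (LinearMap.range g).restrictScalars R := by
      ext z
      exact ⟨fun ⟨n, hn⟩ => by
          obtain ⟨b, rfl⟩ := Submodule.Quotient.mk_surjective _ n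
          exact ⟨b, hn⟩, fun ⟨b, hb⟩ => ⟨Submodule.Quotient.mk b, hb⟩⟩
    exact Module.Flat.of_linearEquiv ((Submodule.quotEquivOfEq _ _ e).trans
      (Submodule.Quotient.restrictScalarsEquiv R (LinearMap.range g))).symm

/-- Let R and S be Noetherian local rings, R → S a local ring map, and m the maximal ideal of R. Take a
bounded complex F_e → … → F_1 → F_0 of finitely generated S-modules, zero to the left of F_e (a
chain complex C with C_j = 0 for j > e) such that every F_j is flat over R and the complex 0 →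
F_e/mF_e → … → F_0/mF_0 (C tensored over S with S/mS) is exact at F_e, …, F_1. Then 0 → F_e → … →
F_0 is exact at F_e, …, F_1 and the cokernel of F_1 → F_0 (the homology of C in degree 0) is flat
over R. -/
theorem result {R S : Type u} [CommRing R] [CommRing S]
    [IsLocalRing R] [IsLocalRing S] [IsNoetherianRing R] [IsNoetherianRing S] [Algebra R S]
    [IsLocalHom (algebraMap R S)] (C : ChainComplex (ModuleCat.{u} S) ℕ) (e : ℕ)
    (hzero : ∀ j, e < j → Limits.IsZero (C.X j)) (hfin : ∀ j, Module.Finite S (C.X j))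
    (hflat : ∀ j, Module.Flat R ((ModuleCat.restrictScalars (algebraMap R S)).obj (C.X j)))
    (hex : ∀ j, 1 ≤ j → j ≤ e →
      (((MonoidalCategory.tensorLeft
          (ModuleCat.of S (S ⧸ (IsLocalRing.maximalIdeal R).map (algebraMap R S)))).mapHomologicalComplex
          (ComplexShape.down ℕ)).obj C).ExactAt j) :
    (∀ j, 1 ≤ j → j ≤ e → C.ExactAt j) ∧
      Module.Flat R ((ModuleCat.restrictScalars (algebraMap R S)).obj (C.homology 0)) := by
  let : ∀ j, Module R (C.X j) := fun j => Module.compHom (C.X j) (algebraMap R S)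
  have : ∀ j, IsScalarTower R S (C.X j) := fun j => IsScalarTower.of_algebraMap_smul fun _ _ => rfl
  have hflat' : ∀ j, Module.Flat R (C.X j) := hflat
  have hstep : ∀ j, 1 ≤ j → j ≤ e → Function.Exact (C.d (j + 1) j).hom (C.d j (j - 1)).hom ∧
      Module.Flat R (C.X (j - 1) ⧸ LinearMap.range (C.d j (j - 1)).hom) := by
    intro j h1 h2
    have := hfin j
    have := hflat' (j - 1)
    refine step _ _ (ModuleCat.hom_ext_iff.1 (C.d_comp_d (j + 1) j (j - 1))) ?_
    have h := (HomologicalComplex.exactAt_iff' _ (j + 1) j (j - 1) (ChainComplex.prev ℕ j)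
      ((ComplexShape.down ℕ).next_eq' (by simp; lia))).1 (hex j h1 h2)
    exact (ShortComplex.ShortExact.moduleCat_exact_iff_function_exact _).1 h
  refine ⟨fun j h1 h2 => ?_, ?_⟩
  · rw [HomologicalComplex.exactAt_iff' C (j + 1) j (j - 1) (ChainComplex.prev ℕ j)
      ((ComplexShape.down ℕ).next_eq' (by simp; lia)),
      ShortComplex.ShortExact.moduleCat_exact_iff_function_exact]
    exact (hstep j h1 h2).1
  · have hW : Module.Flat R (C.X 0 ⧸ LinearMap.range (C.d 1 0).hom) := by
      rcases Nat.eq_zero_or_pos e with rfl | he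
      · have : C.d 1 0 = 0 := (hzero 1 Nat.one_pos).eq_of_src _ _
        rw [this, ModuleCat.hom_zero, LinearMap.range_zero]
        exact Module.Flat.of_linearEquiv
          ((Submodule.quotEquivOfEqBot _ rfl).restrictScalars R : (C.X 0 ⧸ (⊥ : Submodule S (C.X 0))) ≃ₗ[R] C.X 0)
      · exact (hstep 1 le_rfl he).2
    let cls := Groth.Agent.FlatCxLib.clsHom C 0 0 (show (ComplexShape.down ℕ).next 0 = 0 by simp)
    let f : C.X 0 →ₗ[S] C.homology 0 := cls.hom ∘ₗ
      (LinearMap.id : C.X 0 →ₗ[S] C.X 0).codRestrict (LinearMap.ker (C.d 0 0).hom) (fun x => by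
        rw [LinearMap.mem_ker, show C.d 0 0 = 0 from C.shape _ _ (by simp)]; rfl)
    have hf : Function.Surjective f := fun h => by
      obtain ⟨x, hx, rfl⟩ := Groth.Agent.FlatCxLib.cls_surjective (show (ComplexShape.down ℕ).next 0 = 0 by simp) h
      exact ⟨x, rfl⟩
    have hker : LinearMap.ker f = LinearMap.range (C.d 1 0).hom := Submodule.ext fun x =>
      (Groth.Agent.FlatCxLib.cls_eq_zero_iff (ChainComplex.prev ℕ 0) (by simp) x _).trans
        LinearMap.mem_range.symm
    let e₁ := ((Submodule.quotEquivOfEq _ _ hker.symm).trans (f.quotKerEquivOfSurjective hf))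
    let e₂ : (C.X 0 ⧸ LinearMap.range (C.d 1 0).hom) ≃ₗ[R]
        (ModuleCat.restrictScalars (algebraMap R S)).obj (C.homology 0) :=
      { e₁.toAddEquiv with
        map_smul' := fun r x => by
          show e₁ (r • x) = algebraMap R S r • e₁ x
          rw [← algebraMap_smul S r x, map_smul] }
    exact Module.Flat.of_linearEquiv e₂.symm

end Groth.Agent.S6387
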