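import Groth.Statements.S6434
import Mathlib

set_option autoImplicit false
open CategoryTheory
universe v u v' u'
open CatLoc

namespace Groth.Agent.S6434

/-- The localization functor at a left multiplicative system commutes with finite colimits. -/
theorem result {C : Type u} [Category.{v} C] {D : Type u'} [Category.{v'} D] (W : MorphismProperty C) (L : C ⥤ D) [L.IsLocalization W] [W.HasLeftCalculusOfFractions] :
    Limits.PreservesFiniteColimits L := by
  haveI := Localization.essSurj L W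
  have denom : ∀ {Y : C} {ι : Type} [Finite ι] (X : ι → C) (t : ∀ i, L.obj (X i) ⟶ L.obj Y),
      ∃ (Y' : C) (s : Y ⟶ Y') (_ : W s) (f : ∀ i, X i ⟶ Y'), ∀ i, t i ≫ L.map s = L.map (f i) := by
    intro Y ι _ X t
    classical
    haveI := Fintype.ofFinite ι
    suffices H : ∀ S : Finset ι, ∃ (Y' : C) (s : Y ⟶ Y') (_ : W s), ∀ i ∈ S, ∃ f : X i ⟶ Y', t i ≫ L.map s = L.map f by
      obtain ⟨Y', s, hs, h⟩ := H Finset.univ
      choose f hf using fun i => h i (Finset.mem_univ i)
      exact ⟨Y', s, hs, f, hf⟩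
    intro S
    induction S using Finset.induction_on with
    | empty => exact ⟨Y, 𝟙 Y, W.id_mem Y, by simp⟩
    | insert a S ha ih =>
      obtain ⟨Y', s, hs, h⟩ := ih
      obtain ⟨φ, hφ⟩ := Localization.exists_leftFraction L W (t a ≫ L.map s)
      refine ⟨φ.Y', s ≫ φ.s, W.comp_mem _ _ hs φ.hs, fun i hi => ?_⟩
      rcases Finset.mem_insert.1 hi with rfl | hi
      · exact ⟨φ.f, by rw [L.map_comp, ← Category.assoc, hφ, MorphismProperty.LeftFraction.map_comp_map_s]⟩
      · obtain ⟨f, hf⟩ := h i hi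
        exact ⟨f ≫ φ.s, by rw [L.map_comp, ← Category.assoc, hf, L.map_comp]⟩
  have eqs : ∀ {Y : C} {ι : Type} [Finite ι] (X : ι → C) (f g : ∀ i, X i ⟶ Y),
      (∀ i, L.map (f i) = L.map (g i)) → ∃ (Y' : C) (s : Y ⟶ Y') (_ : W s), ∀ i, f i ≫ s = g i ≫ s := by
    intro Y ι _ X f g hfg
    classical
    haveI := Fintype.ofFinite ι
    suffices H : ∀ S : Finset ι, ∃ (Y' : C) (s : Y ⟶ Y') (_ : W s), ∀ i ∈ S, f i ≫ s = g i ≫ s by
      obtain ⟨Y', s, hs, h⟩ := H Finset.univ
      exact ⟨Y', s, hs, fun i => h i (Finset.mem_univ i)⟩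
    intro S
    induction S using Finset.induction_on with
    | empty => exact ⟨Y, 𝟙 Y, W.id_mem Y, by simp⟩
    | insert a S ha ih =>
      obtain ⟨Y', s, hs, h⟩ := ih
      obtain ⟨Z, s', hs', he⟩ := (MorphismProperty.map_eq_iff_postcomp L W (f a ≫ s) (g a ≫ s)).1
        (by rw [L.map_comp, L.map_comp, hfg a])
      refine ⟨Z, s ≫ s', W.comp_mem _ _ hs hs', fun i hi => ?_⟩
      rcases Finset.mem_insert.1 hi with rfl | hi
      · simpa only [Category.assoc] using he
      · simp only [← Category.assoc, h i hi]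
  refine ⟨fun J _ _ => ⟨fun {K} => ⟨fun {c} hc => ⟨Limits.IsColimit.ofExistsUnique fun t => ?_⟩⟩⟩⟩
  let e : L.obj (L.objPreimage t.pt) ≅ t.pt := L.objObjPreimageIso t.pt
  have inv : ∀ {Y Y' : C} (s : Y ⟶ Y'), W s → IsIso (L.map s) := fun s hs => Localization.inverts L W s hs
  obtain ⟨Y, s, hs, f, hf⟩ := denom (fun j : J => K.obj j) (fun j => t.ι.app j ≫ e.inv)
  have hcomm : ∀ φ : (Σ (a : J) (b : J), a ⟶ b), L.map (K.map φ.2.2 ≫ f φ.2.1) = L.map (f φ.1) := fun ⟨a, b, g⟩ => by
    rw [L.map_comp, ← hf, ← hf, ← Category.assoc, ← Category.assoc]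
    congr 2
    exact t.w g
  obtain ⟨Z, s', hs', he⟩ := eqs (fun φ : (Σ (a : J) (b : J), a ⟶ b) => K.obj φ.1)
    (fun φ => K.map φ.2.2 ≫ f φ.2.1) (fun φ => f φ.1) hcomm
  haveI := inv s hs
  haveI := inv s' hs'
  let u : c.pt ⟶ Z := hc.desc ⟨Z, { app := fun j => f j ≫ s'
                                    naturality := fun a b g => by
                                      simp only [Functor.const_obj_obj, Functor.const_obj_map, Category.comp_id]
                                      rw [← Category.assoc]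
                                      exact he ⟨a, b, g⟩ }⟩
  refine ⟨L.map u ≫ CategoryTheory.inv (L.map s') ≫ CategoryTheory.inv (L.map s) ≫ e.hom, fun j => ?_, fun m hm => ?_⟩
  · change L.map (c.ι.app j) ≫ _ = _
    rw [← L.map_comp_assoc, hc.fac, L.map_comp, Category.assoc, IsIso.hom_inv_id_assoc, ← hf]
    simp
  · obtain ⟨Y₁, s₁, hs₁, g, hg⟩ := denom (fun _ : Fin 2 => c.pt)
      (fun k => if k = 0 then m ≫ e.inv ≫ L.map s ≫ L.map s' else L.map u)
    have h0 := hg 0
    have h1 := hg 1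
    simp only [if_pos rfl, ↓reduceIte, if_neg (show (1 : Fin 2) ≠ 0 by decide)] at h0 h1
    haveI := inv s₁ hs₁
    obtain ⟨Y₂, s₂, hs₂, hj⟩ := eqs (fun j : J => K.obj j) (fun j => c.ι.app j ≫ g 0) (fun j => c.ι.app j ≫ g 1)
      (fun j => by
        rw [L.map_comp, L.map_comp, ← h0, ← h1, ← L.map_comp_assoc, hc.fac, L.map_comp]
        simp only [Category.assoc]
        rw [← Category.assoc (L.map (c.ι.app j)) m, show L.map (c.ι.app j) ≫ m = t.ι.app j from hm j, ← hf]
        simp only [Category.assoc])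
    haveI := inv s₂ hs₂
    have hg01 : g 0 ≫ s₂ = g 1 ≫ s₂ := hc.hom_ext fun j => by simpa only [Category.assoc] using hj j
    have : L.map (g 0) = L.map (g 1) := by
      rw [← cancel_mono (L.map s₂), ← L.map_comp, ← L.map_comp, hg01]
    rw [← h0, ← h1, cancel_mono] at this
    rw [← this]
    simp

end Groth.Agent.S6434
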