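import Groth.Statements.S6471
import Groth.Agent.H9Diag.Pullback

set_option linter.style.haveILetI false
set_option backward.isDefEq.respectTransparency false
-- import your own Groth.Agent.* helpers here

set_option autoImplicit false
universe u
open CategoryTheory CategoryTheory.Limits AlgebraicGeometry
attribute [local instance] HasDerivedCategory.standard
open IntMult

namespace Groth.Agent.S6471

/-- For a flat morphism f : X → Y between nonsingular varieties, with e = dim X − dim Y (every fibre
component has dimension e), and coherent O_Y-modules F, G whose supports have dimension at most r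
and s and meet in dimension at most r + s − dim Y, the cycles of the pulled-back modules,
[f^*F]_{r+e} and [f^*G]_{s+e}, meet properly, and pulling back the product [F]_r · [G]_s along f
gives their product: f^*([F]_r · [G]_s) = [f^*F]_{r+e} · [f^*G]_{s+e}, coefficientwise (f^* on
cycles is Cyc.pullFun with relative dimension e, f^* on modules is Mathlib's
Scheme.Modules.pullback). Here X is a nonsingular variety over the algebraically closed field K
(smooth, separated, quasi-compact, integral) with dimension function δ (transcendence degree over K,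
recorded by Cyc.DeltaCompat to Spec K with value 0, together with Cyc.IsSetup) and n = dim X = δ of
the generic point; cycles are coefficient functions X → ℤ, proper intersection is
IntMult.IntersectProperly and α · β is the Tor-formula intersection product on coefficient functions
(IntMult.interProd). The same holds for Y with δY and m = dim Y. -/
theorem result (K : Type u) [Field K] [IsAlgClosed K] (X Y : Scheme.{u}) (f : X ⟶ Y) (gX : X ⟶ Spec (CommRingCat.of K)) (gY : Y ⟶ Spec (CommRingCat.of K)) (hf : f ≫ gY = gX) [Smooth gX] [IsSeparated gX] [QuasiCompact gX] [IsIntegral X] [Smooth gY] [IsSeparated gY] [QuasiCompact gY] [IsIntegral Y] [Flat f] (δX : X → ℤ) (δY : Y → ℤ) (hX : Cyc.IsSetup X δX) (hY : Cyc.IsSetup Y δY) (hδX : Cyc.DeltaCompat gX δX (fun _ => 0)) (hδY : Cyc.DeltaCompat gY δY (fun _ => 0)) (hδ : Cyc.DeltaCompat f δX δY) (n m : ℤ) (hn : δX (genericPoint X) = n) (hm : δY (genericPoint Y) = m) (e : ℕ) (he : (e : ℤ) = n - m) (hrel : Cyc.HasRelDim f e) (F G : Y.Modules) (hF : Coh.IsCoh F) (hG : Coh.IsCoh G) (r s : ℤ) (hr : ∀ y : Y, Nontrivial (F.presheaf.stalk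 y) → δY y ≤ r) (hs : ∀ y : Y, Nontrivial (G.presheaf.stalk y) → δY y ≤ s) (hrs : ∀ y : Y, Nontrivial (F.presheaf.stalk y) → Nontrivial (G.presheaf.stalk y) → δY y ≤ r + s - m) : IntMult.IntersectProperly δX n (Cyc.sheafFun δX (r + e) ((Scheme.Modules.pullback f).obj F)) (Cyc.sheafFun δX (s + e) ((Scheme.Modules.pullback f).obj G)) ∧ Cyc.pullFun f δX δY e (IntMult.interProd δY m (Cyc.sheafFun δY r F) (Cyc.sheafFun δY s G)) = IntMult.interProd δX n (Cyc.sheafFun δX (r + e) ((Scheme.Modules.pullback f).obj F)) (Cyc.sheafFun δX (s + e) ((Scheme.Modules.pullback f).obj G)) := by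
  haveI : LocallyOfFiniteType f := by
    haveI : LocallyOfFiniteType (f ≫ gY) := by rw [hf]; infer_instance
    exact locallyOfFiniteType_of_comp f gY
  haveI : IsLocallyNoetherian X := LocallyOfFiniteType.isLocallyNoetherian gX
  have hle := Groth.Agent.H23.FlatShift.le_of_hasRelDim f hrel hδ
  let F' := (Scheme.Modules.pullback f).obj F
  let G' := (Scheme.Modules.pullback f).obj G
  have hF' : Coh.IsCoh F' := Groth.Agent.ZClosLib.isCoh_pullback f hF
  have hG' : Coh.IsCoh G' := Groth.Agent.ZClosLib.isCoh_pullback f hG
  have hr' : ∀ x : X, Nontrivial (F'.presheaf.stalk x) → δX x ≤ r + e := fun x hx => by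
    have := hr _ (Groth.Agent.H23.FlatShift.nontrivial_of_pullback f F x hx)
    have := hle x
    omega
  have hs' : ∀ x : X, Nontrivial (G'.presheaf.stalk x) → δX x ≤ s + e := fun x hx => by
    have := hs _ (Groth.Agent.H23.FlatShift.nontrivial_of_pullback f G x hx)
    have := hle x
    omega
  have hrs' : ∀ x : X, Nontrivial (F'.presheaf.stalk x) → Nontrivial (G'.presheaf.stalk x) →
      δX x ≤ (r + e) + (s + e) - n := fun x hx hx' => by
    have := hrs _ (Groth.Agent.H23.FlatShift.nontrivial_of_pullback f F x hx)
      (Groth.Agent.H23.FlatShift.nontrivial_of_pullback f G x hx')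
    have := hle x
    omega
  refine ⟨Groth.Agent.H9Diag.intersectProperly_sheafFun F' G' hF' hG' _ _ hrs', funext fun x => ?_⟩
  simp only [Cyc.pullFun]
  rw [Groth.Agent.H9Diag.interProd_sheafFun gY hδY hm F G hF hG r s hr hs hrs (f x),
    Groth.Agent.H9Diag.interProd_sheafFun gX hδX hn F' G' hF' hG' _ _ hr' hs' hrs' x]
  have hbound := hle x
  by_cases hx : δX x = r + e + (s + e) - n
  · rw [if_pos hx, Groth.Agent.H9Diag.chi_stalk_pullback f F G x]
    by_cases hy : δY (f x) = r + s - m
    · rw [if_pos (by omega), if_pos hy]
    · have hlt : r + s - m < δY (f x) := by omega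
      have hz : IntMult.chi (Y.presheaf.stalk (f x)) (F.presheaf.stalk (f x)) (G.presheaf.stalk (f x)) = 0 := by
        by_cases hF0 : Nontrivial (F.presheaf.stalk (f x))
        · have hG0 : ¬ Nontrivial (G.presheaf.stalk (f x)) := fun hG0 => absurd (hrs _ hF0 hG0) (by omega)
          rw [not_nontrivial_iff_subsingleton] at hG0
          rw [Groth.Agent.H9Samuel.chi_comm]
          refine finsum_eq_zero_of_forall_eq_zero fun i => ?_
          rw [Module.length_eq_zero_iff.2 (Groth.Agent.H9Diag.interProd_sheafFun.subsingleton_tor_of_subsingleton i)]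
          simp
        · rw [not_nontrivial_iff_subsingleton] at hF0
          refine finsum_eq_zero_of_forall_eq_zero fun i => ?_
          rw [Module.length_eq_zero_iff.2 (Groth.Agent.H9Diag.interProd_sheafFun.subsingleton_tor_of_subsingleton i)]
          simp
      rw [hz, zero_mul]
      split_ifs <;> simp
  · rw [if_neg hx]
    by_cases h1 : δX x = δY (f x) + e
    · rw [if_pos h1, if_neg (by omega), zero_mul]
    · rw [if_neg h1]

end Groth.Agent.S6471
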