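import Groth.Statements.S6451
import Groth.Agent.H9Diag.Bilin
import Groth.Agent.S6471

set_option linter.style.haveILetI false
set_option backward.isDefEq.respectTransparency false

set_option autoImplicit false
universe u
open CategoryTheory CategoryTheory.Limits AlgebraicGeometry
attribute [local instance] HasDerivedCategory.standard
open IntMult

namespace Groth.Agent.S6451

/-- For a flat morphism f : X → Y between nonsingular varieties, with e = dim X − dim Y (every fibre
component has dimension e), and for cycles α ∈ Z_r(Y) and β ∈ Z_s(Y) meeting properly, the flat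
pullbacks f^*α and f^*β again meet properly and pulling back commutes with the product: f^*(α · β) =
f^*α · f^*β, coefficientwise (flat pullback is Cyc.pullFun with relative dimension e). Here X is a
nonsingular variety over the algebraically closed field K (smooth, separated, quasi-compact,
integral) with dimension function δ (transcendence degree over K, recorded by Cyc.DeltaCompat to
Spec K with value 0, together with Cyc.IsSetup) and n = dim X = δ of the generic point; cycles are
Mathlib AlgebraicCycles with Cyc.Zk membership, proper intersection is IntMult.IntersectProperly and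
α · β is the Tor-formula intersection product on coefficient functions (IntMult.interProd). The same
holds for Y with δY and m = dim Y. -/
theorem result (K : Type u) [Field K] [IsAlgClosed K] (X Y : Scheme.{u}) (f : X ⟶ Y) (gX : X ⟶ Spec (CommRingCat.of K)) (gY : Y ⟶ Spec (CommRingCat.of K)) (hf : f ≫ gY = gX) [Smooth gX] [IsSeparated gX] [QuasiCompact gX] [IsIntegral X] [Smooth gY] [IsSeparated gY] [QuasiCompact gY] [IsIntegral Y] [Flat f] (δX : X → ℤ) (δY : Y → ℤ) (hX : Cyc.IsSetup X δX) (hY : Cyc.IsSetup Y δY) (hδX : Cyc.DeltaCompat gX δX (fun _ => 0)) (hδY : Cyc.DeltaCompat gY δY (fun _ => 0)) (hδ : Cyc.DeltaCompat f δX δY) (n m : ℤ) (hn : δX (genericPoint X) = n) (hm : δY (genericPoint Y) = m) (e : ℕ) (he : (e : ℤ) = n - m) (hrel : Cyc.HasRelDim f e) (r s : ℤ) (α β : AlgebraicCycle Y ℤ) (hα : α ∈ Cyc.Zk Y δY r) (hβ : β ∈ Cyc.Zk Y δY s) (hprop : IntMult.IntersectProperly δY m ⇑α ⇑β) : IntMult.IntersectProperly δX n (Cyc.pullFun f δX δY e ⇑α) (Cyc.pullFun f δX δY e ⇑β) ∧ Cyc.pullFun f δX δY e (IntMult.interProd δY m ⇑α ⇑β)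 = IntMult.interProd δX n (Cyc.pullFun f δX δY e ⇑α) (Cyc.pullFun f δX δY e ⇑β) := by
  haveI : LocallyOfFiniteType f := by
    haveI : LocallyOfFiniteType (f ≫ gY) := by rw [hf]; infer_instance
    exact locallyOfFiniteType_of_comp f gY
  haveI : IsLocallyNoetherian X := LocallyOfFiniteType.isLocallyNoetherian gX
  haveI : IsLocallyNoetherian Y := LocallyOfFiniteType.isLocallyNoetherian gY
  have hle := Groth.Agent.H23.FlatShift.le_of_hasRelDim f hrel hδ
  refine ⟨fun ξ η ζ hξ hη hξζ hηζ => ?_, ?_⟩
  · have hsup : ∀ (a : Y → ℤ) (x : X), Cyc.pullFun f δX δY e a x ≠ 0 → δX x = δY (f x) + e ∧ a (f x) ≠ 0 := by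
      intro a x hx
      rw [Cyc.pullFun] at hx
      split_ifs at hx with h
      · exact ⟨h, fun h0 => hx (by rw [h0, zero_mul])⟩
      · exact absurd rfl hx
    obtain ⟨h1, h1'⟩ := hsup _ ξ hξ
    obtain ⟨h2, h2'⟩ := hsup _ η hη
    have := hprop (f ξ) (f η) (f ζ) h1' h2' (hξζ.map f.continuous) (hηζ.map f.continuous)
    have := hle ζ
    omega
  · obtain ⟨F, G, hαF, hβG, h⟩ := Groth.Agent.H9Diag.exists_sheaves hY.2.2 α β hα hβ hprop
    let F' := fun i => (Scheme.Modules.pullback f).obj (F i)
    let G' := fun i => (Scheme.Modules.pullback f).obj (G i)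
    have pF := fun i => Groth.Agent.H23.FlatShift.sheafFun_pullback f δX δY hle r (F i) (h i true).2.2.1
    have pG := fun j => Groth.Agent.H23.FlatShift.sheafFun_pullback f δX δY hle s (G j) (h true j).2.2.2.1
    have gF := fun i => Groth.Agent.H9Diag.finGen_sheafFun hY.2.2 (h i true).1 (h i true).2.2.1
    have gG := fun j => Groth.Agent.H9Diag.finGen_sheafFun hY.2.2 (h true j).2.1 (h true j).2.2.2.1
    have gF' := fun i => Groth.Agent.H9Diag.finGen_sheafFun hX.2.2
      (Groth.Agent.ZClosLib.isCoh_pullback f (h i true).1) (pF i).1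
    have gG' := fun j => Groth.Agent.H9Diag.finGen_sheafFun hX.2.2
      (Groth.Agent.ZClosLib.isCoh_pullback f (h true j).2.1) (pG j).1
    have key : ∀ i j, Cyc.pullFun f δX δY e
        (IntMult.interProd δY m (Cyc.sheafFun δY r (F i)) (Cyc.sheafFun δY s (G j))) =
        IntMult.interProd δX n (Cyc.sheafFun δX (r + e) (F' i)) (Cyc.sheafFun δX (s + e) (G' j)) := fun i j =>
      (Groth.Agent.S6471.result K X Y f gX gY hf δX δY hX hY hδX hδY hδ n m hn hm e he hrel (F i) (G j) (h i j).1
        (h i j).2.1 r s (h i j).2.2.1 (h i j).2.2.2.1 (h i j).2.2.2.2).2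
    rw [hαF, hβG, Groth.Agent.H9Diag.interProd_sub_sub (gF true) (gF false) (gG true) (gG false)
      ((gG true).sub (gG false))]
    simp only [Groth.Agent.H9Diag.pullFun_sub, key]
    rw [(pF true).2, (pF false).2, (pG true).2, (pG false).2,
      Groth.Agent.H9Diag.interProd_sub_sub (gF' true) (gF' false) (gG' true) (gG' false) ((gG' true).sub (gG' false))]

end Groth.Agent.S6451
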