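import Groth.Statements.S6453
import Groth.Agent.H9Mult.Cases

set_option autoImplicit false
set_option linter.style.haveILetI false
set_option backward.isDefEq.respectTransparency false
set_option backward.isDefEq.respectTransparency.types false
universe u
open CategoryTheory AlgebraicGeometry
attribute [local instance] HasDerivedCategory.standard
open IntMult

namespace Groth.Agent.S6453

/-- Suppose the ideal of V in O_{X,ξ} is generated by a single nonzerodivisor g (c = 1: V is an
effective Cartier divisor at ξ). Then e(X, V·W, Z) = length_{O_{X,ξ}}(O_{W,ξ}/g O_{W,ξ}), i.e. the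
length of O_{X,ξ}/(I_{W,ξ} + (g)). Here X is a nonsingular variety over an algebraically closed
field K (smooth, separated, quasi-compact, integral), V and W are closed subvarieties given by
quasi-coherent ideal sheaves with integral subschemes, of dimensions r and s with dim X = n,
intersecting properly, and ξ is the generic point of an irreducible component Z of V ∩ W (a point of
V ∩ W maximal under specialization); e(X, V·W, Z) = IntMult.mult is the alternating sum of lengths
of Tor over O_{X,ξ}, and O_{W,ξ} = O_{X,ξ}/I_{W,ξ}. -/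
theorem result (K : Type u) [Field K] [IsAlgClosed K] (X : Scheme.{u}) (f : X ⟶ Spec (CommRingCat.of K)) [Smooth f] [IsSeparated f] [QuasiCompact f] [IsIntegral X] (IV IW : X.IdealSheafData) [IsIntegral IV.subscheme] [IsIntegral IW.subscheme] (n r s : ℕ) (hn : topologicalKrullDim X = n) (hr : topologicalKrullDim IV.support = r) (hs : topologicalKrullDim IW.support = s) (hprop : IntMult.ProperInt (IV.support : Set X) (IW.support : Set X) n r s) (ξ : X) (hξV : ξ ∈ IV.support) (hξW : ξ ∈ IW.support) (hmax : ∀ ξ' : X, ξ' ∈ IV.support → ξ' ∈ IW.support → ξ' ⤳ ξ → ξ' = ξ) (g : ↑(X.presheaf.stalk ξ)) (hg : IntMult.stalkIdeal IV ξ = Ideal.span {g}) (hreg : IsSMulRegular (↑(X.presheaf.stalk ξ)) g) : (IntMult.mult IV IW ξ : ℤ) = (Module.length (X.presheaf.stalk ξ) (↑(X.presheaf.stalk ξ) ⧸ (IntMult.stalkIdeal IW ξ ⊔ Ideal.span {g}))).toNat := by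
  haveI : IsLocallyNoetherian X := LocallyOfFiniteType.isLocallyNoetherian f
  obtain ⟨hR, D, a, b, hD, ha, hb, hle⟩ := H9Mult.local_data f IV IW n r s hn hr hs hprop ξ hξV hξW
  haveI := hR
  obtain ⟨e, he⟩ := H9Mult.exists_pow_le IV IW ξ hmax
  obtain ⟨w, rfl⟩ : ξ ∈ Set.range IW.subschemeι := by rw [IW.range_subschemeι]; exact hξW
  obtain ⟨φ⟩ := H9Mult.stalk_quot_equiv IW w
  haveI : IsDomain (X.presheaf.stalk (IW.subschemeι w) ⧸ IntMult.stalkIdeal IW (IW.subschemeι w)) :=
    φ.toMulEquiv.isDomain _
  haveI : (IntMult.stalkIdeal IW (IW.subschemeι w)).IsPrime := Ideal.Quotient.isDomain_iff_prime _ |>.1 inferInstance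
  have hne : Ideal.span {g} ≠ ⊤ := by
    rw [← hg]
    intro htop
    rw [htop] at ha
    exact WithBot.natCast_ne_bot a (ha.symm.trans ringKrullDim_eq_bot_of_subsingleton)
  have h := H9Mult.chi_cartier g hreg (IntMult.stalkIdeal IW (IW.subschemeι w))
    (by rw [← hg, hD, ha, hb]; exact_mod_cast hle) hne ⟨e, by rw [← hg, sup_comm]; exact he⟩
  rw [← h, IntMult.mult, hg]

end Groth.Agent.S6453
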