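import Groth.Statements.S6461
import Groth.Agent.CycLib.Basic
import Groth.Agent.CAlgOdd.CMCatenary
import Groth.Agent.S6460

set_option backward.isDefEq.respectTransparency false
set_option backward.isDefEq.respectTransparency.types false


set_option autoImplicit false
universe u
open CategoryTheory AlgebraicGeometry
open Cyc

namespace Groth.Agent.S6461

/-- If all local rings of X are Cohen–Macaulay then every x ∈ X has an open neighbourhood U and an
integer n with δ(ξ) = n for every generic point ξ of an irreducible component of U (every point of U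
maximal under specialization). Here a pair (X, δ) with Cyc.IsSetup plays the role of a scheme
locally of finite type over the base (S, δ) (X locally Noetherian with universally catenary local
rings, δ a dimension function). -/
theorem result (X : Scheme.{u}) (δ : X → ℤ) (hX : Cyc.IsSetup X δ) (hCM : ∀ x : X, LocCoh.IsCohenMacaulayLocalRing ↑(X.presheaf.stalk x)) (x : X) : ∃ (U : X.Opens) (n : ℤ), x ∈ U ∧ ∀ ξ : X, ξ ∈ U → (∀ ξ' : X, ξ' ⤳ ξ → ξ' = ξ) → δ ξ = n := by
  haveI := hX.1
  have key : ∀ y ξ : X, (∀ ξ' : X, ξ' ⤳ ξ → ξ' = ξ) → ξ ⤳ y →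
      ((DimFormula.cd ξ y : ℕ∞) : WithBot ℕ∞) = ringKrullDim (X.presheaf.stalk y) := by
    intro y ξ hξ h
    haveI := hCM y
    let P := CDiv6.primeOf h
    have hsupp : Module.support (X.presheaf.stalk y) (X.presheaf.stalk y) = Set.univ :=
      by simp [Module.support_of_algebra, RingHom.ker_coe_equiv, (RingHom.injective_iff_ker_eq_bot (RingHom.id (X.presheaf.stalk y))).mp Function.injective_id]
    have h1 := Groth.Agent.CAlgOdd.CMCatenary.height_add_coheight (X.presheaf.stalk y)
      (LocCoh.IsCohenMacaulayLocalRing.supportDim_eq_depth) hsupp P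
    rw [VarDim.coheight_eq_ringKrullDim_quotient, DimFormula.ringKrullDim_stalk_quotient,
      CDiv6.fromSpecStalk_primeOf, CDiv6.height_primeOf] at h1
    have h0 : Order.coheight ξ = 0 := Order.coheight_eq_zero.mpr fun z hz => (hξ z hz).le
    rw [h0] at h1
    simpa using h1
  have h3 : ∀ y : X, ∃ n : ℤ, ∀ ξ : X, (∀ ξ' : X, ξ' ⤳ ξ → ξ' = ξ) → ξ ⤳ y → δ ξ = n := by
    intro y
    by_cases hex : ∃ ξ : X, (∀ ξ' : X, ξ' ⤳ ξ → ξ' = ξ) ∧ ξ ⤳ y
    · obtain ⟨ξ₀, h₀, h₀'⟩ := hex
      refine ⟨δ ξ₀, fun ξ hξ h => ?_⟩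
      have e : DimFormula.cd ξ y = DimFormula.cd ξ₀ y := by
        exact_mod_cast (key y ξ hξ h).trans (key y ξ₀ h₀ h₀').symm
      have e1 := CycLib.cd_eq hX.2.2 h
      have e2 := CycLib.cd_eq hX.2.2 h₀'
      rw [e] at e1
      omega
    · exact ⟨0, fun ξ hξ h => absurd ⟨ξ, hξ, h⟩ hex⟩
  obtain ⟨c, hc, hc'⟩ := Groth.Agent.S6460.result X δ hX h3
  exact ⟨⟨c ⁻¹' {c x}, hc.isOpen_fiber _⟩, c x, rfl, fun ξ hξ hmax => (hc' ξ hmax).trans hξ⟩
end Groth.Agent.S6461
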