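import Groth.Statements.S6463
import Groth.Agent.FppfPic.ExtendRegular
import Groth.Agent.H23.GeomConn
-- import your own Groth.Agent.* helpers here

set_option autoImplicit false
universe u
open CategoryTheory CategoryTheory.Limits AlgebraicGeometry
open PicF

set_option backward.isDefEq.respectTransparency false
set_option backward.isDefEq.respectTransparency.types false
set_option synthInstance.maxHeartbeats 400000
set_option maxHeartbeats 1000000
set_option linter.style.haveILetI false
attribute [-instance] CategoryTheory.catToReflQuiver

namespace Groth.Agent.S6463

/-- For a field k and a smooth projective curve X over k that has a k-rational point σ, the conditions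
under which the Picard functor is computed through the section are met: f : X → Spec k is flat,
proper and of finite presentation with a section, and O_T → f_{T,*} O_{X_T} is an isomorphism for
every scheme T over k. Only the last assertion is stated (the others are part of the hypotheses or
immediate): for every t : T → Spec k, the sheaf map of the base change X ×_k T → T is an
isomorphism. Proper replaces projective (they agree for curves over a field). -/
theorem result (k : Type u) [Field k] (X : Scheme.{u}) (f : X ⟶ Spec (CommRingCat.of k)) (hX : Curve.IsSmoothProperCurve k X f) (σ : Spec (CommRingCat.of k) ⟶ X) (hσ : σ ≫ f = 𝟙 (Spec (CommRingCat.of k))) (T : Scheme.{u}) (t : T ⟶ Spec (CommRingCat.of k)) : IsIso (pullback.snd f t).c := by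
  obtain ⟨_, hsm, hint, -⟩ := hX
  haveI := hsm
  haveI := hint
  haveI := Groth.Agent.H23.GeomConn.of_point k f σ hσ
  haveI : ∀ U, IsIso ((pullback.snd f t).app U) :=
    Groth.Agent.FppfPic.bijective_app_of_connected f σ hσ (Over.mk t)
  haveI : ∀ U, IsIso ((pullback.snd f t).c.app U) := fun U => this U.unop
  exact NatIso.isIso_of_isIso_app _


end Groth.Agent.S6463
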