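import Groth.Statements.S6467
import Groth.Agent.H9ChowK.Classes
-- import your own Groth.Agent.* helpers here

set_option autoImplicit false
universe u
open CategoryTheory AlgebraicGeometry
open Cyc

namespace Groth.Agent.S6467

/-- Let F be a coherent O_X-module with dim_δ Supp(F) ≤ k + 1 and φ, ψ : F → F with φ ∘ ψ = 0 = ψ ∘ φ (a
2-periodic complex) whose cohomology sheaves H^0 = ker ψ / im φ and H^1 = ker φ / im ψ (for the
complex … → F →^φ F →^ψ F →^φ F → …) are supported in δ-dimension ≤ k. Then [H^0]_k ∼_rat [H^1]_k as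
k-cycles on X (for any cycles with these coefficient functions, Cyc.sheafFun). Support conditions
are phrased through nontrivial stalks. Here a pair (X, δ) with Cyc.IsSetup plays the role of a
scheme locally of finite type over the base (S, δ) (X locally Noetherian with universally catenary
local rings, δ a dimension function). -/
theorem result (X : Scheme.{u}) (δ : X → ℤ) (hX : Cyc.IsSetup X δ) (k : ℤ) (F : X.Modules) (hF : Coh.IsCoh F) (hdim : ∀ x : X, Nontrivial (F.presheaf.stalk x) → δ x ≤ k + 1) (φ ψ : F ⟶ F) (hφψ : φ ≫ ψ = 0) (hψφ : ψ ≫ φ = 0) (h0 : ∀ x : X, Nontrivial ((ShortComplex.mk φ ψ hφψ).homology.presheaf.stalk x) → δ x ≤ k) (h1 : ∀ x : X, Nontrivial ((ShortComplex.mk ψ φ hψφ).homology.presheaf.stalk x) → δ x ≤ k) (γ₀ γ₁ : AlgebraicCycle X ℤ) (hγ₀ : ⇑γ₀ = Cyc.sheafFun δ k (ShortComplex.mk φ ψ hφψ).homology) (hγ₁ : ⇑γ₁ = Cyc.sheafFun δ k (ShortComplex.mk ψ φ hψφ).homology) : Cyc.RatEquiv δ k γ₀ γ₁ := by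
  haveI := hX.1
  have hd := hX.2.2
  have hFk : Cyc.CohLe δ (k + 1) F := ⟨hF, hdim⟩
  obtain ⟨hH0, e0⟩ := H9ChowK.cls_homology (S := ShortComplex.mk φ ψ hφψ) hFk hFk hF
  obtain ⟨hH1, e1⟩ := H9ChowK.cls_homology (S := ShortComplex.mk ψ φ hψφ) hFk hFk hF
  have he : H9ChowK.cls δ (k + 1) (ShortComplex.mk φ ψ hφψ).homology =
      H9ChowK.cls δ (k + 1) (ShortComplex.mk ψ φ hψφ).homology :=
    add_left_cancel (e0.symm.trans ((add_comm _ _).trans e1))
  have hm := H9ChowK.sheafFun_sub_mem hd ⟨hH0.1, h0⟩ ⟨hH1.1, h1⟩ (H9ChowK.toK0_eq_of_cls (b := k - 1) he)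
  refine H23.RatOn.ratEquiv (T := Set.univ) (H23.RatOn.congr hm fun x => ?_)
  rw [hγ₀, hγ₁, Pi.sub_apply]

end Groth.Agent.S6467
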