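import Groth.Statements.S6475
import Groth.Agent.H9PB.IntDeg
import Groth.Agent.H23.ClosedPushLen


set_option autoImplicit false
universe u
open CategoryTheory AlgebraicGeometry
open Cyc

namespace Groth.Agent.S6475

set_option backward.isDefEq.respectTransparency false
set_option backward.isDefEq.respectTransparency.types false
set_option linter.style.haveILetI false
open Groth.Agent Groth.Agent.H9PB Groth.Agent.H23.PicMul CategoryTheory.Limits
open scoped ZeroObject

/-- Let X be proper over a field k, Z ⊂ X a closed subscheme of dimension d and L_1, …, L_d invertible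
O_X-modules. Then the intersection number (L_1 ⋯ L_d · Z) equals deg(c_1(L_1) ∩ … ∩ c_1(L_d) ∩
[Z]_d). The left side is FGA.intNum (alternating sum of Euler characteristics of (⊗_{i∈I} M_i) ⊗ O_Z
with M_i inverse to L_i, which is the number defined through the numerical polynomial); the right
side iterates Cyc.c1CapFun with any nonzero rational sections starting from [Z]_d and takes
ChowOps.deg of the resulting 0-cycle. Dimension function: transcendence degree over k. The caps are
applied starting with L_1 (innermost), the reverse of the displayed order; the degree does not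
depend on the order. (The published statement also gives deg_L(Z) = deg(c_1(L)^d ∩ [Z]_d) for an
ample L, the case L_1 = … = L_d = L; this row does not restate it.) -/
theorem result (k : Type u) [Field k] (X : Scheme.{u}) [X.Over (Spec (CommRingCat.of k))] [IsProper (X ↘ Spec (CommRingCat.of k))] (δ : X → ℤ) (hX : Cyc.IsSetup X δ) (hδ : Cyc.DeltaCompat (X ↘ Spec (CommRingCat.of k)) δ (fun _ => 0)) (Z : Scheme.{u}) (ι : Z ⟶ X) [IsClosedImmersion ι] (d : ℕ) (hd : topologicalKrullDim Z = d) (L M : Fin d → X.Modules) (hL : ∀ i, PicF.IsInvertible (L i)) (hM : ∀ i, Nonempty (CohB1.tensorMod (M i) (L i) ≅ Coh.structureModule X)) (s : (i : Fin d) → (ξ : X) → Cyc.secFibre (L i) ξ) (hs : ∀ i ξ, s i ξ ≠ 0) (γ : ℕ → X → ℤ) (hγ0 : γ 0 = Cyc.subschemeFun δ d ι) (hγs : ∀ (i : ℕ) (h : i < d), γ (i + 1) = Cyc.c1CapFun δ (L ⟨i, h⟩) (γ i) (s ⟨i, h⟩)) (α : AlgebraicCycle X ℤ) (hα : ⇑α = γ d) : FGA.intNum k X d M ((Coh.push ι).obj (Coh.structureModule Z)) = ChowOps.deg (X ↘ Spec (CommRingCat.of k)) δ α := by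
  classical
  haveI := CurveCohLib.isNoetherian_of_proper (k := k) (X := X)
  haveI : IsLocallyNoetherian Z := LocallyOfFiniteType.isLocallyNoetherian ι
  have hd' : Cyc.IsDimFun X δ := hX.2.2
  haveI := FibDim.subsingleton_spec_field k
  have hdimZ : ∀ z : Z, δ (ι z) ≤ (d : ℤ) := fun z => by
    have h1 : topologicalKrullDim ↥(closure ({ι z} : Set X)) ≤ (d : WithBot ℕ∞) := by
      refine le_trans ?_ hd.le
      rw [AmpleDev.dim_eq_one_of_closedImmersion ι rfl]
      exact Groth.Agent.H23.TopDim.dim_le_dim_of_subset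
        (closure_minimal (by simp) ι.isClosedEmbedding.isClosed_range)
    rw [FibDim.topologicalKrullDim_closure (X ↘ Spec (CommRingCat.of k))] at h1
    rw [IntDeg.delta_eq_rd k hδ]
    exact_mod_cast h1
  set F := (Coh.push ι).obj (Coh.structureModule Z)
  have hFc : Coh.IsCoh F := QCoh.isCoh_push ι QCoh.isCoh_structureModule'
  have hF : Cyc.CohLe δ (d : ℤ) F := ⟨hFc, fun x hx => by
    obtain ⟨z, rfl⟩ := QCoh.support_push_subset ι QCoh.isQCoh_structureModule (not_subsingleton_iff_nontrivial.2 hx)
    exact hdimZ z⟩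
  have hsub : Cyc.subschemeFun δ d ι = Cyc.sheafFun δ d F := by
    funext x
    simp only [Cyc.subschemeFun, Cyc.sheafFun]
    split_ifs with hx
    swap
    · rfl
    by_cases hr : x ∈ Set.range ι
    · obtain ⟨z, rfl⟩ := hr
      have hset : {w : Z | ι w = ι z} = {z} :=
        Set.ext fun w => ⟨fun h => ι.isEmbedding.injective h, fun h => congrArg ι h⟩
      rw [hset, finsum_mem_singleton, Groth.Agent.H23.ClosedPushLen.length_stalk,
        Groth.Agent.H23.ClosedPushLen.length_structureModule]
    · haveI := Groth.Agent.H23.ClosedPushLen.subsingleton_stalk ι (Coh.structureModule Z) hr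
      rw [Module.length_eq_zero, finsum_mem_eq_zero_of_forall_eq_zero (s := {z : Z | ι z = x})
        fun z hz => absurd ⟨z, hz⟩ hr]
      rfl
  have hLM : ∀ i, PicF.cl (M i) * PicF.cl (L i) = 1 := fun i => by
    rw [← H23.PicMul.cl_tensor, H23.PicMul.cl_eq_iff.2 (hM i), H23.PicMul.one_def]
  have hMi : ∀ i, PicF.IsInvertible (M i) := fun i => by
    refine FMBase.isInvertible_of_tensor (hL i) (H23.PicMul.cl_eq_iff.1 ?_).some
    rw [H23.PicMul.cl_tensor, mul_comm, hLM i, H23.PicMul.one_def]
  obtain ⟨α0, hα0k, eα0⟩ := H9ChowK.exists_sheafCycle hd' hF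
  have hz := H9ChowK.cohLe_zero (δ := δ) (n := (d : ℤ))
  have h1 := IntDeg.psi_eq k hδ hMi hα0k hF hz (by
    rw [eα0]
    funext x
    have hlen : Module.length (X.presheaf.stalk x) ((0 : X.Modules).presheaf.stalk x) = 0 := by
      haveI : Subsingleton ((0 : X.Modules).presheaf.stalk x) := not_not.1 fun h =>
        (QCoh.support_eq_empty_of_isZero (isZero_zero _) hz.1.1).le h
      exact Module.length_eq_zero
    simp [Cyc.sheafFun, hlen])
  have h0 : Big.alt k M (0 : X.Modules) = 0 := Finset.sum_eq_zero fun g _ => by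
    rw [Snapper.χs_eq_zero k hMi hz.1 (QCoh.support_eq_empty_of_isZero (isZero_zero _) hz.1.1), mul_zero]
  have h2 := IntDeg.chain k hδ d L M hL hMi hLM s hs γ hγs α0 α (by rw [eα0, hγ0, hsub]) hα0k hα
  rw [h0, sub_zero, h2] at h1
  have h3 := IntDeg.intNum_eq_alt_of_cohLe k hδ hMi hF
  exact_mod_cast h3.trans h1.symm

end Groth.Agent.S6475
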