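import Groth.Statements.S6494
import Groth.Agent.H9Diag.P1Pull
import Groth.Agent.S6450
import Groth.Agent.S1950

set_option linter.style.haveILetI false
set_option backward.isDefEq.respectTransparency false
set_option maxHeartbeats 1000000
-- import your own Groth.Agent.* helpers here

set_option autoImplicit false
universe u
open CategoryTheory CategoryTheory.Limits AlgebraicGeometry
attribute [local instance] HasDerivedCategory.standard
open IntMult

namespace Groth.Agent.S6494

/-- Let X → P be a closed immersion of nonsingular varieties and C' ⊂ P × P^1 a closed subvariety of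
dimension r + 1 with (1) the fibre C = C'_0 of dimension r (C' → P^1 dominant), (2) C' and X × P^1
intersecting properly, (3) [C]_r and X intersecting properly. Then, with α = [C]_r · X and β = C' ·
(X × P^1), one has α = pr_{X,*}(β · (X × 0)). Stated on P × P^1: α = pr_*((C' · (X × P^1)) · (P ×
0)) as cycles on P. (The published statement takes the product of β with X × 0 on X × P^1 and pushes
it forward along X × P^1 → X; this row takes the product of C′ · (X × P^1) with P × 0 on P × P^1 and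
pushes it forward along P × P^1 → P, which is the same cycle on P.) Encoding: P × P^1 =
CohB1.ProjSpaceOver 1 P with projection pr and zero section P1.sect P 0; dimension functions δP, δ'
(transcendence degree); C'_0 is the pullback of C' along the zero section and [C]_r its r-cycle
(Cyc.subschemeFun); X × P^1 and P × 0 enter as the prime cycles of their generic points; products
are IntMult.interProd on P (dim N_P) and on P × P^1 (dim N_P + 1). Here P and X are nonsingular
varieties over the algebraically closed field K (smooth, separated, quasi-compact, integral), δP is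
the dimension function on P (transcendence degree over K, recorded by Cyc.DeltaCompat to Spec K with
value 0, together with Cyc.IsSetup), N_P = δP of the generic point of P and n = δP of the generic
point of X; proper intersection is IntMult.IntersectProperly / IntMult.ProperInt and products are
IntMult.interProd. -/
theorem result (K : Type u) [Field K] [IsAlgClosed K] (P : Scheme.{u}) (fP : P ⟶ Spec (CommRingCat.of K)) [Smooth fP] [IsSeparated fP] [QuasiCompact fP] [IsIntegral P] (δP : P → ℤ) (hP : Cyc.IsSetup P δP) (hδP : Cyc.DeltaCompat fP δP (fun _ => 0)) (NP : ℕ) (hNP : δP (genericPoint P) = NP) (δ' : ↥(CohB1.ProjSpaceOver 1 P) → ℤ) (hP' : Cyc.IsSetup (CohB1.ProjSpaceOver 1 P) δ') (hδ' : Cyc.DeltaCompat (CohB1.ProjSpaceOver.toBase 1 P) δ' δP) [QuasiCompact (CohB1.ProjSpaceOver.toBase 1 P)] (X : Scheme.{u}) (fX : X ⟶ Spec (CommRingCat.of K)) [Smooth fX] [IsSeparated fX] [QuasiCompact fX] [IsIntegral X] (ι : X ⟶ P) [IsClosedImmersion ι] (hι : ι ≫ fP = fX) (n : ℕ) (hn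 : δP (ι (genericPoint X)) = n) (ζX : ↥(CohB1.ProjSpaceOver 1 P)) (hζ1 : CohB1.ProjSpaceOver.toBase 1 P ζX = ι (genericPoint X)) (hζ2 : δ' ζX = n + 1) (C' : Scheme.{u}) [IsIntegral C'] (ι' : C' ⟶ CohB1.ProjSpaceOver 1 P) [IsClosedImmersion ι'] (r : ℕ) (hr : δ' (ι' (genericPoint C')) = r + 1) (hC0 : ∀ w : ↥(pullback ι' (P1.sect P 0)), δP (pullback.snd ι' (P1.sect P 0) w) ≤ r) (hC0ne : Nonempty ↥(pullback ι' (P1.sect P 0))) (h2 : IntMult.ProperInt (closure {ι' (genericPoint C')}) (⇑(CohB1.ProjSpaceOver.toBase 1 P) ⁻¹' Set.range ⇑ι) (NP + 1) (r + 1) (n + 1)) (h3 : IntMult.IntersectProperly δP NP (Cyc.subschemeFun δP r (pullback.snd ι' (P1.sect P 0))) (Set.indicator {ι (genericPoint X)} 1)) (B : AlgebraicCycle (CohB1.ProjSpaceOver 1 P) ℤ) (hB : ⇑B = IntMult.interProd δ' (NP + 1) (IntMult.interProd δ' (NP + 1) (Set.indicator {ι' (genericPoint C')} 1) (Set.indicator {ζX} 1)) (Set.indicator {P1.sect P 0 (genericPoint P)} 1)) : ⇑(AlgebraicCycle.map (CohB1.ProjSpaceOver.toBase 1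 P) δ' δP B) = IntMult.interProd δP NP (Cyc.subschemeFun δP r (pullback.snd ι' (P1.sect P 0))) (Set.indicator {ι (genericPoint X)} 1) := by
  classical
  haveI := hP'.1
  haveI := hP.1
  haveI : CompactSpace P := QuasiCompact.compactSpace_of_compactSpace fP
  haveI : CompactSpace ↥(CohB1.ProjSpaceOver 1 P) :=
    QuasiCompact.compactSpace_of_compactSpace (CohB1.ProjSpaceOver.toBase 1 P)
  haveI := H9Diag.P1Geom.isIntegral_line fP
  haveI := H9Diag.P1Geom.smooth_toBase P
  haveI := H9Diag.P1Geom.isProper_toBase P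
  let π := CohB1.ProjSpaceOver.toBase 1 P
  let σ : P → ↥(CohB1.ProjSpaceOver 1 P) := fun x => P1.sect P 0 x
  have hπσ : ∀ x, π (σ x) = x := fun x => by
    show π (P1.sect P 0 x) = x
    rw [← Scheme.Hom.comp_apply, H23.P1Sect.sect_toBase]; rfl
  set C := ι' (genericPoint C') with hCdef
  set S := P1.sect P 0 (genericPoint P) with hSdef
  set η := ι (genericPoint X) with hηdef
  have hδ'' : Cyc.DeltaCompat (π ≫ fP) δ' (fun _ => 0) := H9Diag.P1Cap.deltaCompat_point fP hδP hδ'
  have hgen : δ' (genericPoint ↥(CohB1.ProjSpaceOver 1 P)) = (NP : ℤ) + 1 := by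
    rw [H9Diag.P1Geom.delta_generic fP hP hδ', hNP]
  have hσd : ∀ x, δ' (σ x) = δP x := fun x => H23.P1Fam.delta_sect hδ' 0 x
  have hS : δ' S = NP := (hσd _).trans hNP
  have hSσ : ∀ x, S ⤳ σ x := fun x => ((genericPoint_spec P).specializes (Set.mem_univ x)).map (P1.sect P 0).continuous
  have hrangeS : ∀ z, S ⤳ z → ∃ x, σ x = z := fun z h =>
    h.mem_closed (P1.sect P 0).isClosedEmbedding.isClosed_range ⟨_, rfl⟩
  have hpb : ∀ x, C ⤳ σ x → δP x ≤ r := by
    intro x hx
    obtain ⟨w, hw⟩ := hx.mem_closed ι'.isClosedEmbedding.isClosed_range ⟨_, rfl⟩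
    obtain ⟨z, -, hz⟩ := Scheme.Pullback.exists_preimage_pullback (f := ι') (g := P1.sect P 0) w x hw
    exact hz ▸ hC0 z
  have hCnot : C ∉ Set.range (P1.sect P 0) := by
    rintro ⟨x, hx⟩
    have h1 := hpb x (by rw [← hx])
    have h2 := hσd x
    rw [show σ x = C from hx, hr] at h2
    omega
  have hη : ∀ z, ζX ⤳ z → η ⤳ π z := fun z h => hζ1 ▸ h.map π.continuous
  have hne : ∀ y : ↥(CohB1.ProjSpaceOver 1 P),
      Set.indicator {y} (1 : ↥(CohB1.ProjSpaceOver 1 P) → ℤ) y ≠ 0 := fun y => by simp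
  have hmem : ∀ (y z : ↥(CohB1.ProjSpaceOver 1 P)),
      Set.indicator {y} (1 : ↥(CohB1.ProjSpaceOver 1 P) → ℤ) z ≠ 0 → z = y := fun y z h =>
    Set.mem_singleton_iff.1 (Set.mem_of_indicator_ne_zero h)
  have hXrange : ∀ x, η ⤳ x → δP x ≤ n := fun x h => hn ▸ CycLib.delta_le hP.2.2 h
  have hfibS : ∀ x, δP x = r → H9Diag.P1Cap.fibFun δP r C 0 x =
      Cyc.subschemeFun δP r (pullback.snd ι' (P1.sect P 0)) x := fun x _ => by
    rw [H9Diag.P1Pull.subschemeFun_sect]
  have htriple : ∀ x, C ⤳ σ x → η ⤳ x → δP x ≤ (r : ℤ) + n - NP := by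
    intro x hx hx'
    obtain ⟨ξ, hξ, hξx, -, hne'⟩ := H9Diag.P1Pull.exists_fib fP hP hδP hδ' (k := (r : ℤ)) hr 0 hCnot hx
    rw [hfibS ξ hξ] at hne'
    have := h3 ξ η x hne' (by simp) hξx hx'
    rw [hξ, hn] at this
    exact this
  have hCZ : ∀ z, C ⤳ z → ζX ⤳ z → δ' z ≤ (r : ℤ) + 1 + (n + 1) - (NP + 1) := by
    intro z h1 h1'
    set V := closure {C} ∩ ⇑π ⁻¹' Set.range ⇑ι with hV
    have hzV : z ∈ V := ⟨specializes_iff_mem_closure.1 h1,
      (hη z h1').mem_closed ι.isClosedEmbedding.isClosed_range ⟨_, rfl⟩⟩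
    have hVc : IsClosed V := isClosed_closure.inter (ι.isClosedEmbedding.isClosed_range.preimage π.continuous)
    obtain ⟨hle, hdim⟩ := h2 ⟨z, hzV⟩
    have hsub : closure {z} ⊆ V := closure_minimal (Set.singleton_subset_iff.2 hzV) hVc
    have h4 := (Topology.IsEmbedding.inclusion hsub).isInducing.topologicalKrullDim_le.trans hdim
    rw [FibDim.topologicalKrullDim_closure (π ≫ fP)] at h4
    have h5 : FibDim.rd (π ≫ fP) z ≤ r + 1 + (n + 1) - (NP + 1) :=
      Nat.cast_le.1 (WithBot.coe_le_coe.1 h4)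
    rw [CycLib.deltaCompat_eq (π ≫ fP) hδ'' z]
    omega
  have hSC : IntMult.IntersectProperly δ' (NP + 1) (Set.indicator {S} 1) (Set.indicator {C} 1) := by
    intro a b z ha hb haz hbz
    obtain rfl := hmem _ _ ha
    obtain rfl := hmem _ _ hb
    obtain ⟨x, rfl⟩ := hrangeS z haz
    have := hpb x hbz
    rw [hσd, hS, hr]
    omega
  have hCZ' : IntMult.IntersectProperly δ' (NP + 1) (Set.indicator {C} 1) (Set.indicator {ζX} 1) := by
    intro a b z ha hb haz hbz
    obtain rfl := hmem _ _ ha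
    obtain rfl := hmem _ _ hb
    rw [hr, hζ2]
    exact hCZ z haz hbz
  have hSZ : IntMult.IntersectProperly δ' (NP + 1) (Set.indicator {S} 1) (Set.indicator {ζX} 1) := by
    intro a b z ha hb haz hbz
    obtain rfl := hmem _ _ ha
    obtain rfl := hmem _ _ hb
    obtain ⟨x, rfl⟩ := hrangeS z haz
    have h := hη _ hbz
    rw [hπσ] at h
    have := hXrange x h
    rw [hσd, hS, hζ2]
    omega
  have hassoc := S6450.result K (CohB1.ProjSpaceOver 1 P) (π ≫ fP) δ' hP' hδ'' ((NP : ℤ) + 1) hgen S C ζX hSC hCZ' hSZ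
    (by
      intro z haz hbz hcz
      obtain ⟨x, rfl⟩ := hrangeS z haz
      have h := hη _ hcz
      rw [hπσ] at h
      have := htriple x hbz h
      rw [hσd, hS, hr, hζ2]
      omega)
  set G := IntMult.interProd δ' (NP + 1) (Set.indicator {S} 1) (Set.indicator {C} 1) with hG
  have hGσ : ∀ x, G (σ x) = Cyc.subschemeFun δP r (pullback.snd ι' (P1.sect P 0)) x := by
    intro x
    rw [hG, H9Assoc.interProd_comm, H9Diag.P1Pull.subschemeFun_sect]
    have e : Set.indicator {C} (1 : ↥(CohB1.ProjSpaceOver 1 P) → ℤ) = fun z => if z = C then 1 else 0 := by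
      funext z; simp [Set.indicator_apply]
    rw [e]
    exact H9Diag.P1Cap.interProd_sect fP hP hδP hNP hδ' hr 0 hCnot x
  have hGsupp : ∀ z, G z ≠ 0 → ∃ x, σ x = z ∧ C ⤳ z ∧ δP x = r := by
    intro z hz
    obtain ⟨h1, h1', h1''⟩ := (H9Assoc.interProd_points δ' _ S C z).1 hz
    obtain ⟨x, rfl⟩ := hrangeS z h1
    refine ⟨x, rfl, h1', ?_⟩
    rw [hσd, hS, hr] at h1''
    omega
  haveI : AlgebraicGeometry.IsNoetherian P := {}
  have hGfin : (Function.support G).Finite := by
    have hcl : IsClosed {x : P | C ⤳ σ x} := by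
      have e : {x : P | C ⤳ σ x} = P1.sect P 0 ⁻¹' closure {C} := by
        ext x; exact specializes_iff_mem_closure
      rw [e]; exact isClosed_closure.preimage (P1.sect P 0).continuous
    refine ((H9Diag.finite_top_points hP.2.2 hcl (l := (r : ℤ)) hpb).image σ).subset fun z hz => ?_
    obtain ⟨x, rfl, h1, h1'⟩ := hGsupp z hz
    exact ⟨x, ⟨h1, h1'⟩, rfl⟩
  let α : AlgebraicCycle (CohB1.ProjSpaceOver 1 P) ℤ :=
    ⟨G, Set.subset_univ _, fun z _ => ⟨Set.univ, Filter.univ_mem, hGfin.subset Set.inter_subset_right⟩⟩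
  let β : AlgebraicCycle P ℤ := ⟨Set.indicator {η} 1, Set.subset_univ _, fun z _ => ⟨Set.univ, Filter.univ_mem,
    (Set.finite_singleton η).subset fun y hy => Set.mem_of_indicator_ne_zero hy.2⟩⟩
  have hpull : Cyc.pullFun π δ' δP 1 ⇑β = Set.indicator {ζX} 1 :=
    H9Diag.P1Pull.pullFun_point hP hδ' hζ1 (by rw [hζ2, hn])
  have hproper : IntMult.IntersectProperly δ' (NP + 1) ⇑α (Cyc.pullFun π δ' δP 1 ⇑β) := by
    rw [hpull]
    intro a b z ha hb haz hbz
    obtain rfl := hmem _ _ hb
    obtain ⟨x, rfl, -, hxr⟩ := hGsupp a ha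
    obtain ⟨y, rfl⟩ := hrangeS z ((hSσ x).trans haz)
    have h := hη _ hbz
    rw [hπσ] at h
    have hxy : x ⤳ y := (P1.sect P 0).isEmbedding.isInducing.specializes_iff.1 haz
    have hGx : Cyc.subschemeFun δP r (pullback.snd ι' (P1.sect P 0)) x ≠ 0 := hGσ x ▸ ha
    have := h3 x η y hGx (by simp [η]) hxy h
    rw [hσd, hσd, hζ2]
    rw [hn] at this
    omega
  have hB' : ⇑B = IntMult.interProd δ' (NP + 1) ⇑α (Cyc.pullFun π δ' δP 1 ⇑β) := by
    rw [hpull, hB, H9Assoc.interProd_comm δ' _ (IntMult.interProd δ' (NP + 1) (Set.indicator {C} 1) _)]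
    exact hassoc
  have hproj := S1950.result K (CohB1.ProjSpaceOver 1 P) P π (π ≫ fP) fP rfl δ' δP hP' hP hδ'' hδP hδ'
    ((NP : ℤ) + 1) NP hgen hNP 1 (by simp) (H9Diag.P1Geom.hasRelDim_toBase P) r n α β
    (fun z hz => by
      by_contra h0
      obtain ⟨x, rfl, -, hx⟩ := hGsupp z h0
      exact hz (by rw [hσd, hx]))
    (fun y hy => by
      refine Set.indicator_of_notMem (fun hm => hy ?_) _
      rw [Set.mem_singleton_iff.1 hm, hn])
    hproper B hB'
  rw [← hproj.2]
  refine congrArg (fun a => IntMult.interProd δP NP a (Set.indicator {η} 1)) (funext fun x => ?_)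
  rw [CycLib.map_apply', finsum_mem_eq_sum_of_inter_support_eq _ (t := {σ x}) ?_, Finset.sum_singleton]
  · show G (σ x) * _ = _
    rw [hGσ, H23.P1Fam.mapCoeff_sect hδ', Nat.cast_one, mul_one]
  · ext p
    simp only [Set.mem_inter_iff, Set.mem_preimage, Set.mem_singleton_iff, Function.mem_support, Finset.coe_singleton]
    constructor
    · rintro ⟨hpx, hne0⟩
      refine ⟨?_, hne0⟩
      obtain ⟨y, rfl, -, -⟩ := hGsupp p (left_ne_zero_of_mul hne0)
      exact congrArg σ ((hπσ y).symm.trans hpx)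
    · rintro ⟨rfl, hne0⟩
      exact ⟨hπσ x, hne0⟩

end Groth.Agent.S6494
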