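import Groth.Statements.S6495
import Groth.Agent.H9Cyc.LimCyc

set_option linter.style.haveILetI false
set_option backward.isDefEq.respectTransparency false
set_option backward.isDefEq.respectTransparency.types false
open CategoryTheory.Limits


set_option autoImplicit false
universe u
open CategoryTheory AlgebraicGeometry
open Cyc

namespace Groth.Agent.S6495

/-- Surjectivity of colim Z_k(X_i) → Z_k(X'): every k-cycle α' on the limit X' is g_i^*α for some i and
some k-cycle α on X_i, where g_i : X' → X_i is the projection and g_i^* the shift-0 base-change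
pullback on coefficient functions. Setting: a directed inverse system (X_i) of quasi-compact schemes
with affine flat transition morphisms and limit X' (a limit cone), each X_i and X' carrying a
dimension function with Cyc.IsSetup, and every transition map and every projection X' → X_i shifting
the dimension functions by c = 0 at generic points of fibres, so that the base-change pullbacks g^*
are Cyc.pullFun with shift 0. (The published statement takes X_i and X′ to be the base changes of
one quasi-compact scheme of finite type over a base S along S_i → S and lim S_i → S; this row allows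
any such inverse system.) -/
theorem result (I : Type u) [Preorder I] [IsDirected I (fun a b => a ≤ b)] [Nonempty I] (D : Iᵒᵖ ⥤ Scheme.{u}) (c : Limits.Cone D) (hc : Limits.IsLimit c) (haff : ∀ (i j : Iᵒᵖ) (f : i ⟶ j), IsAffineHom (D.map f)) (hflat : ∀ (i j : Iᵒᵖ) (f : i ⟶ j), Flat (D.map f)) (hqc : ∀ i, CompactSpace ↥(D.obj i)) (δ : (i : Iᵒᵖ) → ↥(D.obj i) → ℤ) (δ' : ↥c.pt → ℤ) (hset : ∀ i, Cyc.IsSetup (D.obj i) (δ i)) (hset' : Cyc.IsSetup c.pt δ') (hshift : ∀ (i j : Iᵒᵖ) (f : i ⟶ j) (x : ↥(D.obj i)), (∀ y, D.map f y = D.map f x → y ⤳ x → y = x) → δ i x = δ j (D.map f x)) (hflat' : ∀ i, Flat (c.π.app i)) (hshift' : ∀ (i : Iᵒᵖ) (x : ↥c.pt), (∀ y, c.π.app i y = c.π.app i x → y ⤳ x → y = x) → δ' x = δ i (c.π.app i x)) (k : ℤ) (α' : AlgebraicCycle c.pt ℤ) (hα' : α' ∈ Cyc.Zk c.pt δ' k) : ∃ (i : Iᵒᵖ) (α : AlgebraicCycle (D.obj i) ℤ), α ∈ Cyc.Zk (D.obj i) (δ i) k ∧ Cyc.pullFun (c.π.app i) δ' (δ i) 0 ⇑α = ⇑α' := by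
  classical
  haveI : ∀ {i j : Iᵒᵖ} (f : i ⟶ j), IsAffineHom (D.map f) := fun f => haff _ _ f
  haveI : ∀ i, CompactSpace (D.obj i) := hqc
  haveI : IsLocallyNoetherian c.pt := hset'.1
  haveI : CompactSpace c.pt := Scheme.compactSpace_of_isLimit D c hc
  have hfin : (Function.support ⇑α').Finite := by
    choose t ht htf using fun z : c.pt => α'.supportLocallyFiniteWithinDomain' z trivial
    obtain ⟨s, -, hs⟩ := (isCompact_univ (X := c.pt)).elim_nhds_subcover t (fun z _ => ht z)
    refine (s.finite_toSet.biUnion fun z _ => htf z).subset fun y hy => ?_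
    obtain ⟨z, hz, hyz⟩ := Set.mem_iUnion₂.mp (hs (Set.mem_univ y))
    exact Set.mem_iUnion₂.mpr ⟨z, hz, hyz, hy⟩
  let S := hfin.toFinset
  choose lev hlev using fun x : c.pt => H9Cyc.Lim.exists_level D c hc x
  obtain ⟨i, hi⟩ := IsCofiltered.inf_objs_exists (S.image lev)
  let π : c.pt ⟶ D.obj i := c.π.app i
  have hl : ∀ x ∈ S, H9Cyc.Lim.Good π x ∧ ∀ w, π w = π x → x ⤳ w := fun x hx =>
    hlev x i (hi (Finset.mem_image_of_mem _ hx)).some
  have hmin : ∀ x ∈ S, H9Cyc.Lim.MinInFibre π x := fun x hx w hw hwx =>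
    (hwx.antisymm ((hl x hx).2 w hw)).eq
  have huniq : ∀ x ∈ S, ∀ w, H9Cyc.Lim.MinInFibre π w → π w = π x → w = x := fun x hx w hw hwx =>
    (hw x hwx.symm ((hl x hx).2 w hwx)).symm
  have hk : ∀ x ∈ S, δ' x = k := fun x hx => by
    by_contra h
    exact (hfin.mem_toFinset.1 hx) (hα' x h)
  let a : D.obj i → ℤ := fun z => ∑ x ∈ S, if π x = z then α' x else 0
  have hsupp : Function.support a ⊆ π '' (S : Set c.pt) := fun z hz => by
    by_contra hc'
    exact hz (Finset.sum_eq_zero fun x hx => if_neg fun e => hc' ⟨x, hx, e⟩)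
  let α : AlgebraicCycle (D.obj i) ℤ :=
    { toFun := a
      supportWithinDomain' := Set.subset_univ _
      supportLocallyFiniteWithinDomain' := fun z _ =>
        ⟨Set.univ, Filter.univ_mem, (S.finite_toSet.image π).subset fun x hx => hsupp hx.2⟩ }
  refine ⟨i, α, fun z hz => ?_, funext fun y => ?_⟩
  · show a z = 0
    by_contra hne
    obtain ⟨x, hx, rfl⟩ := hsupp hne
    exact hz ((hshift' i x (hmin x hx)).symm.trans (hk x hx))
  · show Cyc.pullFun π δ' (δ i) 0 a y = α' y
    simp only [Cyc.pullFun, add_zero]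
    split_ifs with h
    · have hy := H9Cyc.Lim.minInFibre_of_delta π hset'.2.2 (hshift' i) h
      by_cases he : ∃ x ∈ S, π x = π y
      · obtain ⟨x, hx, hxy⟩ := he
        obtain rfl := huniq x hx y hy hxy.symm
        have hl1 := (hl y hx).1
        rw [H9Cyc.Lim.Good] at hl1
        rw [hl1, H9Cyc.Lim.length_quot_maximal]
        show a (π y) * _ = _
        rw [show a (π y) = α' y from ?_]
        · simp
        refine (Finset.sum_eq_single y (fun x hx' hne => if_neg fun e => hne ?_) (fun h' => absurd hx h')).trans (if_pos rfl)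
        exact huniq y hx x (hmin x hx') e
      · push Not at he
        rw [show a (π y) = 0 from Finset.sum_eq_zero fun x hx => if_neg (he x hx), zero_mul]
        exact (Function.notMem_support.1 fun hy' => he y (hfin.mem_toFinset.2 hy') rfl).symm
    · by_contra hne
      have hyS : y ∈ S := hfin.mem_toFinset.2 (Ne.symm hne)
      exact h (hshift' i y (hmin y hyS))
end Groth.Agent.S6495
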