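import Groth.Statements.S6500
import Groth.Agent.H9Misc.DRingTorDim
import Groth.Agent.GrpSchLib.SmoothRegular
import Groth.Agent.CurveCohLib.SubBundle
import Groth.Agent.S0563

set_option linter.style.haveILetI false
set_option backward.isDefEq.respectTransparency false
set_option backward.isDefEq.respectTransparency.types false


set_option autoImplicit false
universe u
open CategoryTheory CategoryTheory.Limits AlgebraicGeometry
attribute [local instance] HasDerivedCategory.standard
open IntMult

attribute [-instance] CategoryTheory.catToReflQuiver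

namespace Groth.Agent.S6500

/-- Let X be a nonsingular variety of dimension n and F, G coherent O_X-modules. The Tor sheaves
Tor_p^{O_X}(F, G), whose stalks are Tor_p^{O_{X,x}}(F_x, G_x), are nonzero only for p ∈ {0, …, n}:
for every point x and every p > n, Tor_p^{O_{X,x}}(F_x, G_x) = 0. (Coherence of the Tor sheaves and
the support statement are not restated.) Nonsingular variety: X → Spec K smooth, separated,
quasi-compact, X integral, K algebraically closed; n = dim X. -/
theorem result (K : Type u) [Field K] [IsAlgClosed K] (X : Scheme.{u}) (f : X ⟶ Spec (CommRingCat.of K)) [Smooth f] [IsSeparated f] [QuasiCompact f] [IsIntegral X] (n : ℕ) (hn : topologicalKrullDim X = n) (F G : X.Modules) (hF : Coh.IsCoh F) (hG : Coh.IsCoh G) (x : X) (p : ℕ) (hp : n < p) : Subsingleton (DRing.Tor ↑(X.presheaf.stalk x) p ↑(F.presheaf.stalk x) ↑(G.presheaf.stalk x)) := by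
  haveI : IsRegularLocalRing (X.presheaf.stalk x) := Groth.Agent.GrpSchLib.isRegularLocalRing_stalk_of_smooth f x
  obtain ⟨e, he⟩ : ∃ e : ℕ, ringKrullDim (X.presheaf.stalk x) = e :=
    ⟨_, ((isRegularLocalRing_iff _).mp inferInstance).symm⟩
  have hle : e ≤ n := by
    have h := Groth.Agent.CurveCohLib.ringKrullDim_stalk_le_topologicalKrullDim x
    rw [he, hn] at h
    exact_mod_cast h
  have hpd := Groth.Agent.S0563.result (X.presheaf.stalk x) e he (F.presheaf.stalk x)
  have htor : DRing.HasTorDimLE (X.presheaf.stalk x) e (F.presheaf.stalk x) :=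
    (Groth.Agent.H9Misc.DRingTor.torDimLE_iff e (ModuleCat.of (X.presheaf.stalk x) (F.presheaf.stalk x))).2
      (Groth.Agent.H9Misc.DRingTor.inD_of_projDim e _ hpd)
  exact htor (G.presheaf.stalk x) p (by omega)
end Groth.Agent.S6500
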