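import Groth.Statements.S6536
import Groth.Agent.CurveReg.Pow
import Groth.Agent.CurveEmbed.Lift
import Groth.Agent.FDescent.MaxPoint
import Groth.Agent.MeroX.DivDim

set_option linter.style.haveILetI false
set_option backward.isDefEq.respectTransparency false
set_option backward.isDefEq.respectTransparency.types false

set_option autoImplicit false
universe u
open CategoryTheory CategoryTheory.Limits AlgebraicGeometry
open Curves

namespace Groth.Agent.S6536

open Groth.Agent Groth.Agent.CurveReg Groth.Agent.InvX Groth.Agent.H23 TopologicalSpace Opposite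
open Groth.Agent.PnCoh.Finite (mapLin)
open scoped Groth.Agent.H23.PicMul

variable {X : Scheme.{u}} {L : X.Modules}

theorem app_one (s : Coh.structureModule X ⟶ L) (V : X.Opens) (r : Γ(X, V)) :
    s.app V (show Γ(Coh.structureModule X, V) from r) =
      r • AModX.res L (le_top : V ≤ ⊤) (s.app ⊤ (1 : Γ(X, ⊤))) := by
  rw [← AModX.app_res, ← Scheme.Modules.Hom.app_smul]
  refine congrArg _ ?_
  show r = r * X.presheaf.map _ 1
  rw [map_one, mul_one]

theorem injective_smul (s : Coh.structureModule X ⟶ L) [Mono s] {V : X.Opens} {b : Γ(X, V)}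
    (h : b • AModX.res L (le_top : V ≤ ⊤) (s.app ⊤ (1 : Γ(X, ⊤))) = 0) : b = 0 :=
  QCoh.app_injective s V ((app_one s V b).trans (h.trans (map_zero _).symm))

/-- A monomorphism from the structure sheaf generates at the generic points. -/
theorem mem_locus_of_generic (hL : PicF.IsInvertible L) (s : Coh.structureModule X ⟶ L) [Mono s] {x : X}
    (hx : closure ({x} : Set X) ∈ irreducibleComponents (X : Type u)) :
    x ∈ TrivBasic.locus (s.app ⊤ (1 : Γ(X, ⊤))) := by
  obtain ⟨U, hxU, f, hf⟩ := exists_frame hL x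
  obtain ⟨V, hV, hxV, hVU⟩ := exists_isAffineOpen_mem_and_subset (x := x) (U := U) hxU
  let f' : Γ(L, V) := AModX.res L hVU f
  obtain ⟨a, ha⟩ := (hf.res hVU).exists_coord le_rfl (AModX.res L (le_top : V ≤ ⊤) (s.app ⊤ (1 : Γ(X, ⊤))))
  rw [AModX.res_self] at ha
  have hnz : a ∈ nonZeroDivisors Γ(X, V) := mem_nonZeroDivisors_iff_right.2 fun b hb =>
    injective_smul s (by rw [ha, ← mul_smul, hb, zero_smul])
  have hmin := MeroX.mem_minimalPrimes_of_generic (⊥ : X.IdealSheafData) x (by simp)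
    (fun z _ h => FDescent.maximal_of_closure_mem_irreducibleComponents hx h) ⟨V, hV⟩ hxV
  rw [Scheme.IdealSheafData.ideal_bot, Pi.bot_apply, Ideal.map_bot] at hmin
  have hd := Ideal.disjoint_nonZeroDivisors_of_mem_minimalPrimes hmin
  have hu : IsUnit (X.presheaf.germ V x hxV a) := by
    by_contra h
    exact Set.disjoint_left.1 hd ((IsLocalRing.mem_maximalIdeal _).2 h) (MeroX.germ_mem_nonZeroDivisors hV hnz x hxV)
  exact ((TrivBasic.locus_eq_basicOpen (hf.res hVU) ha).ge ((X.mem_basicOpen _ x hxV).2 hu)).1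

/-- Let X be proper over the field k, of dimension one, with H^0(X, O_X) = k, and let L be an invertible
O_X-module which has a regular global section (a monomorphism O_X → L), satisfies H^1(X, L) = 0 and
is ample. Then L^{⊗6} is very ample on X over k: there is a closed immersion i : X → P^n_k over k
with i^* O(1) ≅ L^{⊗6}. -/
theorem result (k : Type u) [Field k] (X : Scheme.{u}) [X.Over (Spec (CommRingCat.of k))]
    [IsProper (X ↘ (Spec (CommRingCat.of k)))] (hdim : topologicalKrullDim X = 1)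
    (h0 : Module.finrank k (Coh.HH X (Coh.structureModule X) 0) = 1) (L : X.Modules) (hL : PicF.IsInvertible L)
    (hs : ∃ s : Coh.structureModule X ⟶ L, Mono s) (h1 : Subsingleton (Coh.HH X L 1)) (hample : CohB1.IsAmple L) :
    ∃ (n : ℕ) (i : X ⟶ CohB1.ProjSpace n k), IsClosedImmersion i ∧ i ≫ CohB1.ProjSpace.toSpec n k = X ↘ (Spec (CommRingCat.of k)) ∧
      Nonempty ((Scheme.Modules.pullback i).obj (Twist.twistProjSpace n k 1) ≅ CohB1.tensorPow L 6) := by
  haveI : CompactSpace X := QuasiCompact.compactSpace_of_compactSpace (X ↘ Spec (CommRingCat.of k))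
  haveI := CurveCohLib.isNoetherian_of_proper (k := k) (X := X)
  haveI : Nonempty X := by
    by_contra hne
    haveI : IsEmpty X := not_nonempty_iff.1 hne
    haveI : IsEmpty (TopologicalSpace.IrreducibleCloseds X) := ⟨fun C => isEmptyElim C.2.1.some⟩
    rw [topologicalKrullDim, Order.krullDim_eq_bot] at hdim
    exact absurd hdim (by decide)
  obtain ⟨s, hs⟩ := hs
  let σ : Γ(L, ⊤) := s.app ⊤ (1 : Γ(X, ⊤))
  let M := CohB1.tensorPow L 1
  have hM : PicF.IsInvertible M := isInvertible_tensorPow hL 1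
  have eM : L ≅ M := (AmpleVan.twUnit.app L).symm ≪≫ CurveTensor.commIso L (Coh.structureModule X)
  have hM1 : Subsingleton (Coh.HH X M 1) := QCoh.subsingleton_HH_of_iso eM 1 h1
  let T : Set X := (TrivBasic.locus σ : Set X)ᶜ
  have hcl : ∀ x ∈ T, IsClosed ({x} : Set X) := fun x hx =>
    (isClosed_or_generic hdim.le x).resolve_right fun h => hx (mem_locus_of_generic hL s h)
  have hfin : T.Finite := CurveCohLib.finite_of_closedPoints (TrivBasic.locus σ).2.isClosed_compl hcl
  let N : X.Modules := CohB1.tensorMod M L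
  have hN : PicF.IsInvertible N := isInvertible_tensorMod hM hL
  let ψ : M ⟶ N := AmpleVan.mulSec σ M
  haveI : Mono ψ := by
    have hinj : ∀ (V : X.Opens) (w : Γ(M, V)), ψ.app V w = 0 → w = 0 := fun V w hw => by
      refine AModX.eq_of_locally _ _ fun p hp => ?_
      obtain ⟨U, hpU, f, g, hf, hg⟩ := exists_frame₂ hM hL p
      let W : X.Opens := V ⊓ U
      refine ⟨W, inf_le_left, ⟨hp, hpU⟩, ?_⟩
      obtain ⟨b, hb⟩ := hf.exists_coord (inf_le_right : W ≤ U) (AModX.res M (inf_le_left : W ≤ V) w)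
      obtain ⟨a, ha⟩ := hg.exists_coord (inf_le_right : W ≤ U) (AModX.res L (le_top : W ≤ ⊤) σ)
      have h0 : ψ.app W (AModX.res M (inf_le_left : W ≤ V) w) = 0 := by
        rw [AModX.app_res, hw, map_zero]
      replace h0 := (AmpleVan.mulSec_app σ M W _).symm.trans h0
      rw [hb, ha, tmul_smul_left, tmul_smul_right, ← mul_smul] at h0
      have hba : b * a = 0 := (isFrame_tmul (hf.res (inf_le_right : W ≤ U)) (hg.res (inf_le_right : W ≤ U))).coord_unique
        le_rfl (by rw [AModX.res_self, h0, zero_smul])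
      have hb0 : b = 0 := injective_smul s (V := W) (b := b) (by
        rw [show AModX.res L (le_top : W ≤ ⊤) (s.app ⊤ (1 : Γ(X, ⊤))) = _ from ha, ← mul_smul, hba, zero_smul])
      rw [hb, hb0, zero_smul, map_zero]
    refine ⟨fun {Z} g h e => QCoh.hom_ext_app fun U z => sub_eq_zero.1 (hinj U _ ?_)⟩
    rw [map_sub, sub_eq_zero]
    exact congr(($e).app U z)
  have hsupp : CohB1.support (cokernel ψ) ⊆ T := fun x hx hxl => hx (subsingleton_of_forall_eq 0 fun z => by
    let F := DerSch.stalkFunctor X x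
    obtain ⟨y, rfl⟩ := (ModuleCat.epi_iff_surjective (F.map (cokernel.π ψ))).1 inferInstance z
    obtain ⟨U, hxU, n, rfl⟩ := TopCat.Presheaf.exists_germ_eq N.presheaf y
    obtain ⟨V, hxV, f, hf⟩ := exists_frame hM x
    let W : X.Opens := U ⊓ (V ⊓ TrivBasic.locus σ)
    have hW : x ∈ W := ⟨hxU, hxV, hxl⟩
    have hfr := isFrame_tmul (hf.res (inf_le_right.trans inf_le_left : W ≤ V))
      (TrivBasic.isFrame_res_of_le_locus (inf_le_right.trans inf_le_right : W ≤ TrivBasic.locus σ))
    obtain ⟨c, hc⟩ := hfr.exists_coord le_rfl (AModX.res N (inf_le_left : W ≤ U) n)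
    rw [AModX.res_self] at hc
    have h2 : F.map ψ (M.presheaf.germ W x hW (c • AModX.res M (inf_le_right.trans inf_le_left : W ≤ V) f)) =
        N.presheaf.germ U x hxU n := by
      refine (TopCat.Presheaf.stalkFunctor_map_germ_apply W x hW
        ((Scheme.Modules.toPresheaf X).map ψ) _).trans ?_
      refine Eq.trans (congrArg (N.presheaf.germ W x hW) ?_) (InvX.germ_res' (inf_le_left : W ≤ U) hW n)
      refine (AmpleVan.mulSec_app σ M W _).trans ?_
      rw [tmul_smul_left]
      exact hc.symm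
    rw [← h2, ← ConcreteCategory.comp_apply, ← F.map_comp, cokernel.condition, F.map_zero]
    rfl)
  have hS := CurveSlope.shortExact_cokernel_of_mono ψ
  have hC1 : Subsingleton (Coh.HH X (cokernel ψ) 1) :=
    CurveVanish.subsingleton_HH_of_finite hfin hcl (fun x hx => not_not.1 fun h => hx (hsupp h)) 0
  have hN1 : Subsingleton (Coh.HH X N 1) := by
    refine subsingleton_of_forall_eq 0 fun y => ?_
    obtain ⟨w, rfl⟩ := (CurveCohLib.ker_mapLin_g k hS 1).le
      (LinearMap.mem_ker.2 (hC1.elim (mapLin k (cokernel.π ψ) 1 y) 0))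
    rw [hM1.elim w 0, map_zero]
  have hsurj : Function.Surjective (mapLin k (cokernel.π ψ) 0) := fun y =>
    (CurveCohLib.ker_deltaLin k hS 0).le (LinearMap.mem_ker.2 (hM1.elim _ 0) : y ∈ _)
  have hcov : ∀ x : X, ∃ z : Γ(N, ⊤), x ∈ TrivBasic.locus z := fun x => by
    classical
    by_cases hxl : x ∈ TrivBasic.locus σ
    · refine ⟨InvX.tmul (InvX.tmul (M := Coh.structureModule X) (1 : Γ(X, ⊤)) σ : Γ(M, ⊤)) σ,
        TrivBasic.le_locus (U := TrivBasic.locus σ) ?_ hxl⟩
      show InvX.IsFrame (AModX.res (CohB1.tensorMod M L) _ (InvX.tmul _ σ))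
      rw [InvX.res_tmul]
      refine isFrame_tmul ?_ (TrivBasic.isFrame_res_of_le_locus le_rfl)
      show InvX.IsFrame (AModX.res (CohB1.tensorMod (Coh.structureModule X) L) _ (InvX.tmul (M := Coh.structureModule X) (1 : Γ(X, ⊤)) σ))
      rw [InvX.res_tmul]
      exact isFrame_tmul ((InvX.isFrame_one ⊤).res _) (TrivBasic.isFrame_res_of_le_locus le_rfl)
    obtain ⟨U, hxU, f, g, hf, hg⟩ := exists_frame₂ hM hL x
    let e : Γ(N, U) := InvX.tmul f g
    have he : IsFrame e := isFrame_tmul hf hg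
    let q := (DerSch.stalkFunctor X x).map (cokernel.π ψ)
    obtain ⟨t, ht⟩ : ∃ t : Γ(cokernel ψ, ⊤),
        (cokernel ψ).presheaf.germ ⊤ x trivial t = q (N.presheaf.germ U x hxU e) := by
      by_cases hxS : x ∈ CohB1.support (cokernel ψ)
      · obtain ⟨t, ht, -⟩ := CurveCohLib.exists_section_single
          (QCoh.isCoh_cokernel (CurveDeg.isCoh_of_isInvertible hM).1 (CurveDeg.isCoh_of_isInvertible hN) ψ)
          (fun y hy => hcl y (hsupp hy)) hxS _
        exact ⟨t, ht⟩
      · exact ⟨0, (not_not.1 hxS : Subsingleton ((cokernel ψ).presheaf.stalk x)).elim _ _⟩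
    obtain ⟨y, hy⟩ := hsurj ((Sheaf.H.equiv₀ (Coh.toAb (cokernel ψ)) isTerminalTop).symm t)
    let z : Γ(N, ⊤) := Sheaf.H.equiv₀ (Coh.toAb N) isTerminalTop y
    have hz : (cokernel.π ψ).app ⊤ z = t := by
      refine Eq.trans ?_ ((congrArg (Sheaf.H.equiv₀ (Coh.toAb (cokernel ψ)) isTerminalTop) hy).trans
        ((Sheaf.H.equiv₀ (Coh.toAb (cokernel ψ)) isTerminalTop).apply_symm_apply t))
      exact Sheaf.H.equiv₀_naturality isTerminalTop ((QCoh.toAbFunctor X).map (cokernel.π ψ)) y
    let d : Γ(N, U) := AModX.res N (le_top : U ≤ ⊤) z - e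
    have hd : q (N.presheaf.germ U x hxU d) = 0 := by
      refine (congrArg q (map_sub (N.presheaf.germ U x hxU).hom _ _)).trans ((map_sub q.hom _ _).trans (sub_eq_zero.2 ?_))
      refine Eq.trans ?_ ht
      refine (congrArg q (InvX.germ_res' (le_top : U ≤ ⊤) hxU z)).trans ?_
      refine (TopCat.Presheaf.stalkFunctor_map_germ_apply ⊤ x trivial
        ((Scheme.Modules.toPresheaf X).map (cokernel.π ψ)) z).trans ?_
      exact congrArg ((cokernel ψ).presheaf.germ ⊤ x trivial) hz
    obtain ⟨m, hm⟩ := (ShortComplex.moduleCat_exact_iff _).1 (hS.map_of_exact (DerSch.stalkFunctor X x)).exact _ hd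
    obtain ⟨V, hxV, w, rfl⟩ := TopCat.Presheaf.exists_germ_eq M.presheaf m
    obtain ⟨W, hxW, i, j, hW⟩ := N.presheaf.germ_eq x hxV hxU _ _
      ((TopCat.Presheaf.stalkFunctor_map_germ_apply V x hxV
        ((Scheme.Modules.toPresheaf X).map ψ) w).symm.trans hm)
    obtain ⟨b, hb⟩ := (hf.res j.le).exists_coord le_rfl (AModX.res M i.le w)
    obtain ⟨a, ha⟩ := (hg.res j.le).exists_coord le_rfl (AModX.res L (le_top : W ≤ ⊤) σ)
    rw [AModX.res_self] at ha hb
    have hW' : ψ.app W (AModX.res M i.le w) = AModX.res N j.le d := (AModX.app_res ψ i.le w).trans hW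
    replace hW' := (AmpleVan.mulSec_app σ M W _).symm.trans hW'
    rw [hb, ha, tmul_smul_left, tmul_smul_right, ← mul_smul, map_sub, AModX.res_res,
      eq_sub_iff_add_eq] at hW'
    have hje : AModX.res N j.le e = InvX.tmul (AModX.res M j.le f) (AModX.res L j.le g) := InvX.res_tmul j.le f g
    have hzW : AModX.res N (le_top : W ≤ ⊤) z = (b * a + 1) • AModX.res N j.le e := by
      rw [← hW', hje, add_smul, one_smul]
    refine ⟨z, ((TrivBasic.locus_eq_basicOpen (he.res j.le) hzW).ge ((X.mem_basicOpen _ x hxW).2 ?_)).1⟩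
    have hna : ¬ IsUnit (X.presheaf.germ W x hxW a) := fun h =>
      hxl ((TrivBasic.locus_eq_basicOpen (hg.res j.le) ha).ge ((X.mem_basicOpen _ x hxW).2 h)).1
    rw [map_add, map_mul, map_one, add_comm]
    by_contra hu
    refine (IsLocalRing.maximalIdeal.isMaximal (X.presheaf.stalk x)).ne_top ((Ideal.eq_top_iff_one _).2 ?_)
    have h2 := Ideal.sub_mem _ ((IsLocalRing.mem_maximalIdeal _).2 hu)
      (Ideal.mul_mem_left _ (X.presheaf.germ W x hxW b) ((IsLocalRing.mem_maximalIdeal _).2 hna))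
    rwa [add_sub_cancel_right] at h2
  choose z hz using hcov
  let A := CohB1.tensorPow L 2
  have hA : PicF.IsInvertible A := hN
  have hgg : Curv2.IsGloballyGenerated A :=
    isGloballyGenerated_of_generated (AVAmple.generatedBy_of_locus (L := A) z fun x => ⟨x, hz x⟩)
  obtain ⟨m, t, ht⟩ := exists_fin_cover hA hgg
  have eA : A ≅ CohB1.tensorPow A 1 :=
    (AmpleVan.twUnit.app A).symm ≪≫ CurveTensor.commIso A (Coh.structureModule X)
  have hA2 := h1_tensorPow k hdim.le hA t ht (QCoh.subsingleton_HH_of_iso eA 1 (show Subsingleton (Coh.HH X A 1) from hN1))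
    2 one_le_two
  obtain ⟨n, i, hi, hip, ⟨e⟩⟩ :=
    exists_embedding_pow k hdim.le hA t ht (AmpleX.isAmple_tensorPow hample two_pos) hA2
  obtain ⟨e'⟩ : Nonempty (CohB1.tensorPow A 3 ≅ CohB1.tensorPow L 6) := H23.PicMul.cl_eq_iff.1 (by
    rw [H23.PicMul.cl_tensorPow, H23.PicMul.cl_tensorPow, H23.PicMul.cl_tensorPow, ← pow_mul])
  exact ⟨n, i, hi, hip, ⟨e ≪≫ e'⟩⟩

end Groth.Agent.S6536
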