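import Groth.Statements.S6543
import Groth.Agent.CanonDual.Gor
import Groth.Agent.CanonDual.Field
import Groth.Agent.CanonDual.GGCrit
import Groth.Agent.CanonDual.CurveOne
import Groth.Agent.CanonDual.Euler
import Groth.Agent.CanonDual.Deg
import Groth.Agent.CurveEmbed.Line

set_option autoImplicit false
set_option linter.style.haveILetI false
set_option backward.isDefEq.respectTransparency false
set_option backward.isDefEq.respectTransparency.types false
universe u
open CategoryTheory CategoryTheory.Limits AlgebraicGeometry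
open Curves

namespace Groth.Agent.S6543

/-- Let X be a proper curve over the field k (proper, integral, of dimension one) with H^0(X, O_X) = k,
genus 0 and Gorenstein local rings. If X has an invertible O_X-module of odd degree, then X is
isomorphic to P^1_k over k. -/
theorem result (k : Type u) [Field k] (X : Scheme.{u}) [X.Over (Spec (CommRingCat.of k))]
    [IsIntegral X] [IsProper (X ↘ (Spec (CommRingCat.of k)))] (hdim : topologicalKrullDim X = 1)
    (h0 : Module.finrank k (Coh.HH X (Coh.structureModule X) 0) = 1) (hg : Curv2.genus k X = 0) (hgor : ∀ x : X, LocCoh.IsGorensteinLocalRing (X.presheaf.stalk x))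
    (L : X.Modules) (hL : PicF.IsInvertible L) (hodd : Odd (Curv2.deg k X L 1)) :
    ∃ e : X ≅ CohB1.ProjSpace 1 k, e.hom ≫ CohB1.ProjSpace.toSpec 1 k = X ↘ (Spec (CommRingCat.of k)) := by
  haveI := CurveCohLib.isNoetherian_of_proper (k := k) (X := X)
  have hXc := CanonDual.closedDimOne_of_h0 k hdim h0
  obtain ⟨N, ι, hι, hιk⟩ := CanonDual.exists_embedding (k := k) (X := X) hdim.le
  obtain ⟨ω, tr, -, hω⟩ := CanonDual.exists_isCoh_isRDualOver k N 1 X ι hιk hdim.le
  have hinv := CanonDual.isInvertible_dualizing hdim
    (fun x hx => ⟨hgor x, by rw [hXc x hx]; rfl⟩) hω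
  have hdω : Curv2.deg k X ω 1 = -2 := by
    unfold Curv2.deg
    rw [CanonDual.euler_dualizing hdim (CanonDual.cm_of_h0 hdim h0) hω,
      CanonDual.euler_two hdim.le QCoh.isQCoh_structureModule, h0,
      show Module.finrank k (Coh.HH X (Coh.structureModule X) 1) = 0 from hg]
    norm_num
  haveI := CurveCohLib.finite_HH (k := k) (QCoh.isCoh_structureModule' (X := X)) 1
  have h1 : Subsingleton (Coh.HH X (Coh.structureModule X) 1) := Module.finrank_zero_iff.1 (show
    Module.finrank k (Coh.HH X (Coh.structureModule X) 1) = 0 from hg)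
  obtain ⟨m, hm⟩ := hodd
  obtain ⟨ω', hω', ⟨e⟩⟩ := H23.PicInv.exists_inverse hinv
  have hdω' : Curv2.deg k X ω' 1 = 2 := by
    have h := CanonDual.deg_tensorMod (k := k) hdim.le hinv hω'
    unfold Curv2.deg at h hdω ⊢
    rw [Euler.euler_congr k e] at h
    simp only [Nat.cast_one, one_mul, sub_self] at h hdω ⊢
    omega
  rcases le_or_gt 0 m with hm0 | hm0
  · refine CurveEmbed.exists_iso_line k hdim h1
      (H23.PicMul.isInvertible_tensor hL (H23.PicMul.isInvertible_tensorPow hinv m.toNat)) ?_
    rw [CanonDual.deg_tensorMod hdim.le hL (H23.PicMul.isInvertible_tensorPow hinv _),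
      CanonDual.deg_tensorPow hdim.le hinv, hdω, Int.toNat_of_nonneg hm0]
    omega
  · refine CurveEmbed.exists_iso_line k hdim h1
      (H23.PicMul.isInvertible_tensor hL (H23.PicMul.isInvertible_tensorPow hω' (-m).toNat)) ?_
    rw [CanonDual.deg_tensorMod hdim.le hL (H23.PicMul.isInvertible_tensorPow hω' _),
      CanonDual.deg_tensorPow hdim.le hω', hdω', Int.toNat_of_nonneg (by omega)]
    omega

end Groth.Agent.S6543
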