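import Groth.Statements.S6548
import Groth.Agent.Elliptic.Torsion
import Groth.Agent.Elliptic.OverField
import Groth.Agent.Elliptic.Split
import Groth.Agent.AVTorsLib.Count
import Groth.Agent.S1550
import Groth.Agent.Lib.SmoothCurveFam

set_option autoImplicit false
set_option linter.style.haveILetI false
set_option linter.unusedSectionVars false
set_option backward.isDefEq.respectTransparency false
set_option backward.isDefEq.respectTransparency.types false
set_option maxHeartbeats 1000000
universe u
open CategoryTheory CategoryTheory.Limits AlgebraicGeometry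
open Curves

namespace Groth.Agent.S6548

open Groth.Agent
open MonoidalCategory CartesianMonoidalCategory
open scoped CategoryTheory.MonObj Groth.Agent.H23.PicMul

attribute [local instance] Curv2.resAlgebra

theorem card_tors_iso {X Y : Scheme.{u}} (φ : Y ≅ X) (n : ℕ) :
    Nat.card {c : PicF.Cl Y | ∃ M : Y.Modules, PicF.cl M = c ∧ PicF.IsInvertible M ∧
        Nonempty (CohB1.tensorPow M n ≅ Coh.structureModule Y)} =
      Nat.card {c : PicF.Cl X | ∃ M : X.Modules, PicF.cl M = c ∧ PicF.IsInvertible M ∧
        Nonempty (CohB1.tensorPow M n ≅ Coh.structureModule X)} := by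
  have key : ∀ {A B : Scheme.{u}} (g : A ⟶ B) (M : B.Modules), Nonempty (CohB1.tensorPow M n ≅ Coh.structureModule B) →
      Nonempty (CohB1.tensorPow ((Scheme.Modules.pullback g).obj M) n ≅ Coh.structureModule A) := fun g M h => by
    refine H23.PicMul.cl_eq_iff.1 ?_
    rw [H23.PicMul.cl_tensorPow]
    show PicF.pullCl g (PicF.cl M) ^ n = _
    rw [← H23.PicMul.pullCl_pow, ← H23.PicMul.cl_tensorPow, H23.PicMul.cl_eq_iff.2 h, ← H23.PicMul.one_def,
      H23.PicMul.pullCl_one]
    rfl
  refine Nat.card_congr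
    ⟨fun c => ⟨PicF.pullCl φ.inv c.1, ?_⟩, fun c => ⟨PicF.pullCl φ.hom c.1, ?_⟩, fun c => ?_, fun c => ?_⟩
  · obtain ⟨M, hM, hi, hp⟩ := c.2
    exact ⟨(Scheme.Modules.pullback φ.inv).obj M, by rw [← hM]; rfl, PicClLib.isInvertible_pullback _ hi, key _ _ hp⟩
  · obtain ⟨M, hM, hi, hp⟩ := c.2
    exact ⟨(Scheme.Modules.pullback φ.hom).obj M, by rw [← hM]; rfl, PicClLib.isInvertible_pullback _ hi, key _ _ hp⟩
  · exact Subtype.ext (by show PicF.pullCl φ.hom (PicF.pullCl φ.inv c.1) = c.1
                          rw [PicClLib.pullCl_comp, φ.hom_inv_id, PicClLib.pullCl_id])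
  · exact Subtype.ext (by show PicF.pullCl φ.inv (PicF.pullCl φ.hom c.1) = c.1
                          rw [PicClLib.pullCl_comp, φ.inv_hom_id, PicClLib.pullCl_id])


/-- Let k be a field, n a natural number invertible in k, and X a smooth proper curve over k (proper,
smooth, integral, of dimension one) with H^0(X, O_X) = k and genus 1. Then over some finite
separable field extension k′ of k the base change X_{k′} acquires a point rational over k′ (a
section of X_{k′} → Spec k′) and has exactly n^2 isomorphism classes of invertible modules M with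
M^{⊗n} ≅ O. (The published statement gives Pic(X_{k′})[n] ≅ (Z/nZ)^2; this row states the number of
classes, which is equivalent because pullback embeds Pic(X_{k′}) into the Picard group over an
algebraic closure.) -/
theorem result (k : Type u) [Field k] (X : Scheme.{u}) [X.Over (Spec (CommRingCat.of k))]
    [IsIntegral X] [IsProper (X ↘ (Spec (CommRingCat.of k)))] [Smooth (X ↘ (Spec (CommRingCat.of k)))] (hdim : topologicalKrullDim X = 1)
    (h0 : Module.finrank k (Coh.HH X (Coh.structureModule X) 0) = 1) (hg : Curv2.genus k X = 1)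
    (n : ℕ) (hn : IsUnit (n : k)) :
    ∃ (k' : Type u) (_ : Field k') (_ : Algebra k k'), FiniteDimensional k k' ∧ Algebra.IsSeparable k k' ∧
      (∃ x : Spec (CommRingCat.of k') ⟶ Curv2.bc k X k', x ≫ Curv2.bcSnd k X k' = 𝟙 _) ∧
      Nat.card {c : PicF.Cl (Curv2.bc k X k') | ∃ M : Scheme.Modules (Curv2.bc k X k'), PicF.cl M = c ∧ PicF.IsInvertible M ∧ Nonempty (CohB1.tensorPow M (n) ≅ Coh.structureModule (Curv2.bc k X k'))} = n ^ 2 := by
  classical
  haveI := SmoothCurveFam.geometricallyIntegral k X h0
  haveI := AVTorsLib.geometricallyConnected_of_geometricallyIntegral (X ↘ Spec (CommRingCat.of k))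
  have hf0 := Elliptic.isFam_overField (k := k) (X := X) hdim hg
  haveI : Nonempty X := inferInstance
  obtain ⟨x, hx, hxfin, hxsep⟩ := (S1550.result k X).nonempty
  let k1 : Type u := X.residueField x
  haveI : FiniteDimensional k k1 := hxfin
  haveI : Algebra.IsSeparable k k1 := hxsep
  let a : Spec (CommRingCat.of k1) ⟶ Spec (CommRingCat.of k) := Spec.map (CommRingCat.ofHom (algebraMap k k1))
  let f1 : Curv2.bc k X k1 ⟶ Spec (CommRingCat.of k1) := pullback.snd (X ↘ Spec (CommRingCat.of k)) a
  have hf1 : Elliptic.IsFam f1 := hf0.baseChange a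
  have hxc : X.fromSpecResidueField x ≫ (X ↘ Spec (CommRingCat.of k)) = 𝟙 _ ≫ a := by
    rw [Category.id_comp, Scheme.fromSpecResidueField, Category.assoc]
    conv_lhs => rw [S1550.eq_toSpecΓ_comp (X ↘ Spec (CommRingCat.of k))]
    rw [Scheme.fromSpecStalk_toSpecΓ_assoc, ← Spec.map_comp, ← Spec.map_comp]
    rfl
  let s : Spec (CommRingCat.of k1) ⟶ Curv2.bc k X k1 := pullback.lift (X.fromSpecResidueField x) (𝟙 _) hxc
  have hs : s ≫ f1 = 𝟙 _ := pullback.lift_snd _ _ _
  let o : 𝟙_ (Over (Spec (CommRingCat.of k1))) ⟶ Over.mk f1 := Over.homMk s hs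
  letI : GrpObj (Over.mk f1) := (Elliptic.commGrpObj hf1 o).toGrpObj
  haveI : IsCommMonObj (Over.mk f1) := by
    letI := Elliptic.commGrpObj hf1 o
    infer_instance
  haveI : IsProper (Over.mk f1).hom := hf1.proper
  haveI : GeometricallyIntegral (Over.mk f1).hom :=
    inferInstanceAs (GeometricallyIntegral (pullback.snd (X ↘ Spec (CommRingCat.of k)) a))
  have hdimA : topologicalKrullDim (Over.mk f1).left = (1 : ℕ) := by
    haveI := hf1.smooth
    haveI := hf1.proper
    haveI : Nonempty ↥(Curv2.bc k X k1) := ⟨s (IsLocalRing.closedPoint k1)⟩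
    haveI : CompactSpace ↥(Curv2.bc k X k1) := QuasiCompact.compactSpace_of_compactSpace f1
    exact ExtShX.SmoothDual.topologicalKrullDim_eq (k := k1) f1 1
  have hn1 : (n : k1) ≠ 0 := by
    have := hn.map (algebraMap k k1)
    rw [map_natCast] at this
    exact this.ne_zero
  have hn0 : n ≠ 0 := fun h => hn1 (by simp [h])
  obtain ⟨hfin, het⟩ := AVTorsLib.isFinite_etale_pow (A := Over.mk f1) n hn1
  let q : H23.TorsRed.tors (Over.mk f1) n ⟶ Spec (CommRingCat.of k1) :=
    pullback.fst (η[Over.mk f1]).left (𝟙 (Over.mk f1) ^ n : Over.mk f1 ⟶ Over.mk f1).left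
  haveI : IsFinite q := MorphismProperty.pullback_fst (P := @IsFinite) _ _ hfin
  haveI : Etale q := MorphismProperty.pullback_fst (P := @Etale) _ _ het
  have hrank : Scheme.Hom.finrank q (IsLocalRing.closedPoint k1) = n ^ 2 := by
    haveI := hfin
    haveI := het
    rw [Scheme.Hom.finrank_pullback_fst]
    have h := AVDegLib.finrank_zpow (A := Over.mk f1) hdimA (n : ℤ) (Int.natCast_ne_zero.2 hn0)
      ((η[Over.mk f1]).left (IsLocalRing.closedPoint k1))
    simpa using h
  obtain ⟨k', _, _, hfd, hsep, hcard⟩ := Elliptic.Split.exists_split_points q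
  let b : Spec (CommRingCat.of k') ⟶ Spec (CommRingCat.of k1) := Spec.map (CommRingCat.ofHom (algebraMap k1 k'))
  letI : Algebra k k' := ((algebraMap k1 k').comp (algebraMap k k1)).toAlgebra
  haveI : IsScalarTower k k1 k' := IsScalarTower.of_algebraMap_eq fun _ => rfl
  let T : Over (Spec (CommRingCat.of k1)) := Over.mk b
  haveI : Subsingleton T.left := inferInstanceAs (Subsingleton (PrimeSpectrum k'))
  haveI : Nonempty T.left := inferInstanceAs (Nonempty (PrimeSpectrum k'))
  have hba : b ≫ a = Spec.map (CommRingCat.ofHom (algebraMap k k')) := (Spec.map_comp _ _).symm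
  let φ : PicF.XT f1 T ≅ Curv2.bc k X k' :=
    pullbackLeftPullbackSndIso (X ↘ Spec (CommRingCat.of k)) a b ≪≫ pullback.congrHom rfl hba
  refine ⟨k', inferInstance, inferInstance, Module.Finite.trans k1 k', Algebra.IsSeparable.trans k k1 k',
    ⟨Elliptic.secOf (Elliptic.orig o T) ≫ φ.hom, ?_⟩, ?_⟩
  · have : φ.hom ≫ Curv2.bcSnd k X k' = pullback.snd f1 T.hom := by
      show (pullbackLeftPullbackSndIso (X ↘ Spec (CommRingCat.of k)) a b ≪≫ pullback.congrHom rfl hba).hom ≫
        pullback.snd _ _ = pullback.snd f1 b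
      simp [f1]
    rw [Category.assoc, this]
    exact Elliptic.secOf_snd _
  · rw [← card_tors_iso φ n, Elliptic.natCard_torsion_cl hf1 o (T := T) hn0,
      Nat.card_congr (H23.TorsRed.ptsEquiv (Over.mk f1) n T)]
    exact hcard.trans hrank

end Groth.Agent.S6548
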