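import Groth.Statements.S6551
import Groth.Agent.LimSm.Flat
import Groth.Agent.MorLib.DescendCI
import Groth.Agent.NodalQ.Univ

set_option linter.style.haveILetI false
set_option backward.isDefEq.respectTransparency false
set_option backward.isDefEq.respectTransparency.types false
set_option maxHeartbeats 1000000

set_option autoImplicit false
universe u
open CategoryTheory AlgebraicGeometry
open Curves

namespace Groth.Agent.S6551

/-- Let S = lim S_i be the limit of a cofiltered system of schemes with affine transition morphisms, i₀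
an index with S_{i₀} quasi-compact and quasi-separated, and f₀ : X₀ → Y₀ a morphism of quasi-compact
quasi-separated schemes over S_{i₀} which is locally of finite presentation. Write f : X → Y for the
pullback of f₀ along S → S_{i₀}. Assuming f to be at-worst-nodal, with relative dimension 1, there
exists an index i mapping to i₀ for which the pullback f_i : X_i → Y_i of f₀ to S_i is likewise
at-worst-nodal of relative dimension 1. -/
theorem result {I : Type u} [SmallCategory I] [IsCofiltered I]
    (D : I ⥤ Scheme.{u}) (c : Limits.Cone D) (hc : Limits.IsLimit c)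
    [∀ (i j : I) (f : i ⟶ j), IsAffineHom (D.map f)] (i₀ : I) [CompactSpace (D.obj i₀)]
    [QuasiSeparatedSpace (D.obj i₀)] {X₀ Y₀ : Scheme.{u}} (f₀ : X₀ ⟶ Y₀) (g₀ : Y₀ ⟶ D.obj i₀)
    [CompactSpace X₀] [QuasiSeparatedSpace X₀] [CompactSpace Y₀] [QuasiSeparatedSpace Y₀]
    {X Y : Scheme.{u}} (f : X ⟶ Y) (g : Y ⟶ c.pt) (qY : Y ⟶ Y₀) (qX : X ⟶ X₀)
    (hY : IsPullback qY g g₀ (c.π.app i₀)) (hX : IsPullback qX f f₀ qY) [LocallyOfFinitePresentation f₀]
    (hf : Curv2.IsNodalFamily f) :
    ∃ (i : I) (φ : i ⟶ i₀) (Xi Yi : Scheme.{u}) (fi : Xi ⟶ Yi) (gi : Yi ⟶ D.obj i) (pY : Yi ⟶ Y₀)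
      (pX : Xi ⟶ X₀), IsPullback pY gi g₀ (D.map φ) ∧ IsPullback pX fi f₀ pY ∧ Curv2.IsNodalFamily fi := by
  haveI hlfp : LocallyOfFinitePresentation f₀ := inferInstance
  obtain ⟨hflat, hflfp, -⟩ := id hf
  haveI := hflat
  haveI := hflfp
  haveI : ∀ {i j : I} (f : i ⟶ j), IsAffineHom (D.map f) := fun {i j} f => inferInstance
  haveI : QuasiCompact f₀ := quasiCompact_of_compactSpace f₀
  haveI : QuasiSeparated f₀ := QuasiSeparated.of_quasiSeparatedSpace f₀
  haveI : MorphismProperty.RespectsIso (@LocallyOfFinitePresentation : MorphismProperty Scheme.{u}) :=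
    MorphismProperty.IsStableUnderBaseChange.respectsIso
  haveI : MorphismProperty.RespectsIso (@Flat : MorphismProperty Scheme.{u}) :=
    MorphismProperty.IsStableUnderBaseChange.respectsIso
  open Groth.Agent.MorLib Limits in
  obtain ⟨b, φb, Xb, Yb, fb, gb, pYb, pXb, hYb, hXb, hb⟩ := Desc.descend₂ D c hc (P := @Flat)
    (Q := @LocallyOfFinitePresentation) Groth.Agent.LimSm.core_flat f₀ g₀ inferInstance f g qY qX hY hX hflat
  let n : Over i₀ := Over.mk φb
  let fn := Limits.pullback.snd f₀ (Limits.pullback.fst g₀ (D.map n.hom))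
  haveI hnflat : Flat fn := Groth.Agent.MorLib.Desc.of_factor @Flat
    (Groth.Agent.MorLib.Desc.of_two @Flat hXb (IsPullback.of_hasPullback _ _) hb)
    (a := hYb.lift (Limits.pullback.fst g₀ (D.map n.hom)) (Limits.pullback.snd g₀ (D.map n.hom))
      Limits.pullback.condition)
    (hYb.lift_fst _ _ _) (IsPullback.of_hasPullback _ _)
  haveI : LocallyOfFinitePresentation fn :=
    MorphismProperty.IsStableUnderBaseChange.of_isPullback (IsPullback.of_hasPullback _ _) hlfp
  let EY := Groth.Agent.MorLib.BC.diag D g₀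
  let cY := Groth.Agent.MorLib.BC.cone D g₀ hY
  have hX' := hX.paste_vert hY
  let EX := Groth.Agent.MorLib.BC.diag D (f₀ ≫ g₀)
  let cX := Groth.Agent.MorLib.BC.cone D (f₀ ≫ g₀) hX'
  let e : EX.obj n ⟶ Limits.pullback f₀ (Limits.pullback.fst g₀ (D.map n.hom)) :=
    Limits.pullback.lift (Limits.pullback.fst (f₀ ≫ g₀) (D.map n.hom))
      (Limits.pullback.lift (Limits.pullback.fst (f₀ ≫ g₀) (D.map n.hom) ≫ f₀)
        (Limits.pullback.snd (f₀ ≫ g₀) (D.map n.hom)) ((Category.assoc _ _ _).trans Limits.pullback.condition))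
      (Limits.pullback.lift_fst _ _ _).symm
  let rX : X ⟶ Limits.pullback f₀ (Limits.pullback.fst g₀ (D.map n.hom)) :=
    Limits.pullback.lift qX (f ≫ cY.π.app n)
      (hX.w.trans ((congrArg (f ≫ ·) (Groth.Agent.MorLib.BC.proj_fst D g₀ hY n).symm).trans
        (Category.assoc _ _ _).symm))
  have hsq : IsPullback rX f fn (cY.π.app n) := by
    refine IsPullback.of_right ?_ (Limits.pullback.lift_snd _ _ _) (IsPullback.of_hasPullback f₀ _)
    rw [Limits.pullback.lift_fst]
    exact (Groth.Agent.MorLib.BC.proj_fst D g₀ hY n).symm ▸ hX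
  have hrX : cX.π.app n ≫ e = rX := by
    have h1 : cX.π.app n ≫ Limits.pullback.fst (f₀ ≫ g₀) (D.map n.hom) = qX :=
      Groth.Agent.MorLib.BC.proj_fst D (f₀ ≫ g₀) hX' n
    have h2 := Groth.Agent.MorLib.BC.proj_snd D (f₀ ≫ g₀) hX' n
    have h3 := Groth.Agent.MorLib.BC.proj_snd D g₀ hY n
    apply Limits.pullback.hom_ext
    · rw [Category.assoc, Limits.pullback.lift_fst, Limits.pullback.lift_fst, h1]
    · rw [Category.assoc, Limits.pullback.lift_snd, Limits.pullback.lift_snd]
      apply Limits.pullback.hom_ext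
      · rw [Category.assoc, Limits.pullback.lift_fst, ← Category.assoc, h1, Category.assoc,
          show cY.π.app n ≫ Limits.pullback.fst g₀ (D.map n.hom) = qY from Groth.Agent.MorLib.BC.proj_fst D g₀ hY n]
        exact hX.w
      · rw [Category.assoc, Limits.pullback.lift_snd, Category.assoc,
          show cY.π.app n ≫ Limits.pullback.snd g₀ (D.map n.hom) = _ from h3]
        exact h2.trans (Category.assoc _ _ _)
  let U : (EX.obj n).Opens :=
    e ⁻¹ᵁ ⟨Groth.Agent.NodalQ.nodalPts fn, Groth.Agent.NodalQ.isOpen_nodalPts fn⟩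
  have hU : ∀ x : X, cX.π.app n x ∈ U := fun x => by
    show (cX.π.app n ≫ e) x ∈ Groth.Agent.NodalQ.nodalPts fn
    rw [hrX]
    exact (Groth.Agent.NodalQ.mem_nodalPts_baseChange fn hsq x).1 (((Groth.Agent.NodalQ.isNodalFamily_iff_univ f).1 hf).ge (Set.mem_univ x))
  haveI : ∀ j, CompactSpace (EX.obj j) := fun j => Groth.Agent.MorLib.BC.compactSpace_obj D (f₀ ≫ g₀) j
  haveI : ∀ {j k : Over i₀} (m : j ⟶ k), IsAffineHom (EX.map m) := fun m =>
    Groth.Agent.MorLib.BC.isAffineHom_map D (f₀ ≫ g₀) m
  obtain ⟨m, μ, hμ⟩ := exists_map_eq_top EX cX (Groth.Agent.MorLib.BC.isLimitCone D (f₀ ≫ g₀) hX' hc) U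
    (top_le_iff.1 fun x _ => hU x)
  let fi := Limits.pullback.snd fn (EY.map μ)
  haveI : LocallyOfFinitePresentation fi :=
    MorphismProperty.IsStableUnderBaseChange.of_isPullback (IsPullback.of_hasPullback _ _)
      ‹LocallyOfFinitePresentation fn›
  haveI : Flat fi :=
    MorphismProperty.IsStableUnderBaseChange.of_isPullback (IsPullback.of_hasPullback _ _) hnflat
  have hmf : EY.map μ ≫ Limits.pullback.fst g₀ (D.map n.hom) = Limits.pullback.fst g₀ (D.map m.hom) :=
    Groth.Agent.MorLib.BC.map_fst D g₀ μ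
  refine ⟨m.left, m.hom, _, EY.obj m, fi, Limits.pullback.snd g₀ (D.map m.hom),
    Limits.pullback.fst g₀ (D.map m.hom), Limits.pullback.fst fn (EY.map μ) ≫ Limits.pullback.fst _ _,
    IsPullback.of_hasPullback _ _, ?_, ?_⟩
  · have := (IsPullback.of_hasPullback fn (EY.map μ)).paste_horiz (IsPullback.of_hasPullback _ _)
    convert this using 1
    exact hmf.symm
  rw [Groth.Agent.NodalQ.isNodalFamily_iff_univ]
  refine Set.eq_univ_of_forall fun z => ?_
  rw [Groth.Agent.NodalQ.mem_nodalPts_baseChange fn (IsPullback.of_hasPullback fn (EY.map μ)) z]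
  let k : Limits.pullback fn (EY.map μ) ⟶ EX.obj m :=
    Limits.pullback.lift (Limits.pullback.fst fn (EY.map μ) ≫ Limits.pullback.fst _ _)
      (Limits.pullback.snd fn (EY.map μ) ≫ Limits.pullback.snd g₀ (D.map m.hom)) (by
      rw [Category.assoc, Limits.pullback.condition_assoc, ← Category.assoc, Limits.pullback.condition,
        Category.assoc, Category.assoc, ← Category.assoc (EY.map μ), hmf, Limits.pullback.condition])
  have hk : k ≫ EX.map μ ≫ e = Limits.pullback.fst fn (EY.map μ) := by
    have h1 : EX.map μ ≫ Limits.pullback.fst (f₀ ≫ g₀) (D.map n.hom) = Limits.pullback.fst (f₀ ≫ g₀) (D.map m.hom) :=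
      Groth.Agent.MorLib.BC.map_fst D (f₀ ≫ g₀) μ
    have h2 := Groth.Agent.MorLib.BC.map_snd D (f₀ ≫ g₀) μ
    have h3 := Groth.Agent.MorLib.BC.map_snd D g₀ μ
    apply Limits.pullback.hom_ext
    · rw [Category.assoc, Category.assoc, Limits.pullback.lift_fst, h1, Limits.pullback.lift_fst]
    · rw [Category.assoc, Category.assoc, Limits.pullback.lift_snd]
      refine Eq.trans ?_ (Limits.pullback.condition (f := fn) (g := EY.map μ)).symm
      apply Limits.pullback.hom_ext
      · rw [Category.assoc, Category.assoc, Limits.pullback.lift_fst, ← Category.assoc (EX.map μ), h1,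
          ← Category.assoc k, Limits.pullback.lift_fst, Category.assoc, Limits.pullback.condition,
          Limits.pullback.condition_assoc, Category.assoc]
      · rw [Category.assoc, Category.assoc, Limits.pullback.lift_snd]
        erw [h2]
        rw [← Category.assoc, Limits.pullback.lift_snd, Category.assoc]
        exact ((congrArg (Limits.pullback.snd fn (EY.map μ) ≫ ·) h3.symm).trans (Category.assoc _ _ _).symm)
  have := hμ.ge (show (k z : EX.obj m) ∈ (⊤ : (EX.obj m).Opens) from trivial)
  rw [← hk]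
  exact this

end Groth.Agent.S6551
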