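import Groth.Statements.S6553
import Groth.Agent.S1588

set_option autoImplicit false
set_option linter.style.haveILetI false
set_option linter.unusedSectionVars false
set_option backward.isDefEq.respectTransparency false
set_option backward.isDefEq.respectTransparency.types false
set_option maxHeartbeats 1000000
universe u
open CategoryTheory CategoryTheory.Limits AlgebraicGeometry
open Curves

namespace Groth.Agent.S6553

open Groth.Agent


/-- Let k'/k be a finite separable extension of fields, X a scheme locally of finite type over k' of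
dimension 1, and x ∈ X a closed point. Then x is a node of the k'-scheme X if and only if x is a
node of X viewed as a k-scheme via Spec k' → Spec k. -/
theorem result (k : Type u) [Field k] (k' : Type u) [Field k'] [Algebra k k']
    [FiniteDimensional k k'] [Algebra.IsSeparable k k']
    (X : Scheme.{u}) [X.Over (Spec (CommRingCat.of k'))] [LocallyOfFiniteType (X ↘ (Spec (CommRingCat.of k')))] (hdim : topologicalKrullDim X = 1)
    (x : X) (hx : IsClosed ({x} : Set X)) :
    Curv2.IsNode k' X x ↔
      @Curv2.IsNode k _ X ⟨(X ↘ (Spec (CommRingCat.of k'))) ≫ Spec.map (CommRingCat.ofHom (algebraMap k k'))⟩ x := by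
  let str' := X ↘ Spec (CommRingCat.of k')
  let g := Spec.map (CommRingCat.ofHom (algebraMap k k'))
  letI oX : X.Over (Spec (CommRingCat.of k)) := ⟨str' ≫ g⟩
  haveI : Algebra.Etale k k' := by
    haveI : Algebra.FormallyEtale k k' := Algebra.FormallyEtale.of_isSeparable k k'
    exact ⟨inferInstance, Algebra.FinitePresentation.of_finiteType.1 inferInstance⟩
  haveI : Etale g := (HasRingHomProperty.Spec_iff (P := @Etale)).2 (RingHom.etale_algebraMap.2 inferInstance)
  haveI : LocallyOfFiniteType (X ↘ Spec (CommRingCat.of k)) := inferInstanceAs (LocallyOfFiniteType (str' ≫ g))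
  letI oB : (Curv2.bc k X k').Over (Spec (CommRingCat.of k')) := ⟨Curv2.bcSnd k X k'⟩
  haveI : LocallyOfFiniteType ((Curv2.bc k X k') ↘ Spec (CommRingCat.of k')) :=
    inferInstanceAs (LocallyOfFiniteType (pullback.snd (str' ≫ g) g))
  let σ : X ⟶ Curv2.bc k X k' := pullback.lift (𝟙 X) str' (by rw [Category.id_comp]; rfl)
  haveI : Etale (Curv2.bcFst k X k') := MorphismProperty.pullback_fst (str' ≫ g) g inferInstance
  haveI : Etale (σ ≫ Curv2.bcFst k X k') := by
    rw [show σ ≫ Curv2.bcFst k X k' = 𝟙 X from pullback.lift_fst _ _ _]; infer_instance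
  haveI : Etale σ := Etale.of_comp σ (Curv2.bcFst k X k')
  have hσ : σ ≫ ((Curv2.bc k X k') ↘ Spec (CommRingCat.of k')) = str' := pullback.lift_snd _ _ _
  have hfx : Curv2.bcFst k X k' (σ x) = x := by
    rw [← Scheme.Hom.comp_apply, show σ ≫ Curv2.bcFst k X k' = 𝟙 X from pullback.lift_fst _ _ _]; rfl
  rw [← NodalLib.isNode_iff σ hσ x]
  conv_rhs => rw [← hfx]
  exact (S1588.result k X hdim k' (σ x)).symm

end Groth.Agent.S6553
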