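import Groth.Statements.S6555
import Groth.Agent.UnifOmega.Alg
import Groth.Agent.SmoothReg.Scheme

set_option autoImplicit false
set_option linter.style.haveILetI false
set_option linter.unusedSectionVars false
set_option backward.isDefEq.respectTransparency false
set_option backward.isDefEq.respectTransparency.types false
set_option maxHeartbeats 1000000
universe u
open CategoryTheory CategoryTheory.Limits AlgebraicGeometry
attribute [local instance] Curv2.resAlgebra Curv2.stalkAlgebra
open Curves

namespace Groth.Agent.S6555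

open Groth.Agent


/-- Let X be a scheme over the field k and x ∈ X a closed point near which X → Spec k is smooth of
relative dimension 1 (on some open neighbourhood of x), with κ(x)/k separable. If s is an
irreducible element of the local ring O_{X,x} (a discrete valuation ring, so s generates its maximal
ideal), then Ω_{O_{X,x}/k}, which is the stalk of Ω_{X/k} at x, is free of rank one with basis d s:
the map a ↦ a · d s from O_{X,x} to Ω_{O_{X,x}/k} is bijective. -/
theorem result (k : Type u) [Field k] (X : Scheme.{u}) [X.Over (Spec (CommRingCat.of k))]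
    (x : X) (hx : IsClosed ({x} : Set X))
    (hsm : ∃ U : X.Opens, x ∈ U ∧ SmoothOfRelativeDimension 1 (U.ι ≫ (X ↘ (Spec (CommRingCat.of k)))))
    (hsep : Algebra.IsSeparable k (X.residueField x))
    (s : X.presheaf.stalk x) (hs : Irreducible s) :
    Function.Bijective (fun a : X.presheaf.stalk x => a • KaehlerDifferential.D k (X.presheaf.stalk x) s) := by
  letI := Curv2.resAlgebra k X x
  letI := Curv2.stalkAlgebra k X x
  obtain ⟨U, hxU, hU⟩ := hsm
  obtain ⟨W₀, hW₀, V₀, hV₀, hxV₀, e₀, hstd⟩ :=
    hU.exists_isStandardSmoothOfRelativeDimension (⟨x, hxU⟩ : (U : Scheme.{u}))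
  haveI : Subsingleton ↥(Spec (CommRingCat.of k)) := inferInstanceAs (Subsingleton (PrimeSpectrum k))
  obtain rfl : W₀ = ⊤ := top_le_iff.1 fun z _ => Subsingleton.elim ((U.ι ≫ (X ↘ Spec (CommRingCat.of k))) ⟨x, hxU⟩) z ▸ e₀ hxV₀
  let f := X ↘ Spec (CommRingCat.of k)
  let V : X.Opens := U.ι ''ᵁ V₀
  have hV : IsAffineOpen V := hV₀.image_of_isOpenImmersion U.ι
  have hxV : x ∈ V := ⟨⟨x, hxU⟩, hxV₀, rfl⟩
  have happ : (U.ι ≫ f).appLE ⊤ V₀ e₀ = f.appLE ⊤ V (by simp) ≫ U.ι.appLE V V₀ (U.ι.preimage_image_eq V₀).ge :=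
    (Scheme.Hom.appLE_comp_appLE U.ι f ⊤ V V₀ _ _).symm
  haveI : IsIso (U.ι.appLE V V₀ (U.ι.preimage_image_eq V₀).ge) := by
    rw [Scheme.Hom.appLE]
    haveI : IsIso (U.ι.app V) := U.ι.isIso_app V (by
      rw [Scheme.Opens.opensRange_ι]
      rintro _ ⟨p, -, rfl⟩
      exact p.2)
    haveI : IsIso (homOfLE (U.ι.preimage_image_eq V₀).ge) :=
      ⟨homOfLE (U.ι.preimage_image_eq V₀).le, Subsingleton.elim _ _, Subsingleton.elim _ _⟩
    infer_instance
  let eI := (asIso (U.ι.appLE V V₀ (U.ι.preimage_image_eq V₀).ge)).symm.commRingCatIsoToRingEquiv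
  have hstd' : RingHom.IsStandardSmoothOfRelativeDimension 1 (f.appLE ⊤ V (by simp)).hom := by
    have h1 := (RingHom.isStandardSmoothOfRelativeDimension_respectsIso (n := 1)).1 _ eI hstd
    convert h1 using 1
    rw [happ]
    ext a
    exact (eI.apply_symm_apply _).symm
  let φ : k →+* Γ(X, V) := SmoothReg.affMap f V
  have hφ : φ.IsStandardSmoothOfRelativeDimension 1 :=
    (RingHom.isStandardSmoothOfRelativeDimension_respectsIso (n := 1)).2 _
      (Scheme.ΓSpecIso (CommRingCat.of k)).symm.commRingCatIsoToRingEquiv hstd'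
  letI : Algebra k Γ(X, V) := φ.toAlgebra
  haveI : Algebra.IsStandardSmoothOfRelativeDimension 1 k Γ(X, V) := hφ
  letI := X.presheaf.algebra_section_stalk ⟨x, hxV⟩
  haveI := hV.isLocalization_stalk ⟨x, hxV⟩
  haveI : IsScalarTower k Γ(X, V) (X.presheaf.stalk x) := IsScalarTower.of_algebraMap_eq fun c =>
    (X.presheaf.germ_res_apply (homOfLE (le_top : V ≤ ⊤)) x hxV _).symm
  letI : Algebra (X.presheaf.stalk x) (X.residueField x) := (X.residue x).hom.toAlgebra
  haveI : IsScalarTower k (X.presheaf.stalk x) (X.residueField x) := IsScalarTower.of_algebraMap_eq fun c => rfl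
  exact UnifOmega.bijective_smul_D k Γ(X, V) (hV.primeIdealOf ⟨x, hxV⟩).asIdeal (X.presheaf.stalk x)
    (X.residueField x) (X.residue_surjective x) s hs

end Groth.Agent.S6555
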