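import Groth.Statements.S6557
import Groth.Agent.GrpSchLib.SmoothQuot
import Groth.Agent.DimFormula.DedekindFlat
import Groth.Agent.SchTop.Closed
import Groth.Agent.S9800

set_option autoImplicit false
set_option linter.style.haveILetI false
set_option linter.unusedSectionVars false
set_option backward.isDefEq.respectTransparency false
set_option backward.isDefEq.respectTransparency.types false
set_option maxHeartbeats 1000000
universe u
open CategoryTheory CategoryTheory.Limits AlgebraicGeometry
open Curves

namespace Groth.Agent.S6557

open Groth.Agent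


/-- Let k be a field and f : X → Y a surjective morphism over k of curves over k (integral, separated,
of finite type over k, of dimension one). If X is smooth over k and every local ring of Y is an
integrally closed domain, then Y is also smooth over k. -/
theorem result (k : Type u) [Field k]
    (X Y : Scheme.{u}) [X.Over (Spec (CommRingCat.of k))] [Y.Over (Spec (CommRingCat.of k))]
    [IsIntegral X] [IsSeparated (X ↘ (Spec (CommRingCat.of k)))] [LocallyOfFiniteType (X ↘ (Spec (CommRingCat.of k)))] [QuasiCompact (X ↘ (Spec (CommRingCat.of k)))] (hdX : topologicalKrullDim X = 1) [IsIntegral Y] [IsSeparated (Y ↘ (Spec (CommRingCat.of k)))] [LocallyOfFiniteType (Y ↘ (Spec (CommRingCat.of k)))] [QuasiCompact (Y ↘ (Spec (CommRingCat.of k)))] (hdY : topologicalKrullDim Y = 1)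
    (f : X ⟶ Y) (hf : f ≫ (Y ↘ (Spec (CommRingCat.of k))) = X ↘ (Spec (CommRingCat.of k))) [Surjective f]
    [Smooth (X ↘ (Spec (CommRingCat.of k)))] (hY : Pi1.IsNormalScheme Y) :
    Smooth (Y ↘ (Spec (CommRingCat.of k))) := by
  haveI : IsLocallyNoetherian Y := LocallyOfFiniteType.isLocallyNoetherian (Y ↘ (Spec (CommRingCat.of k)))
  haveI : Flat f := DimFormula.flat_of_regular_dim_le_one
    (fun y => ⟨S9800.result Y hY hdY.le y, (SchTop.ringKrullDim_stalk_le y).trans hdY.le⟩) f fun η hη => by
      have hg : η = genericPoint X := (hη _ ((genericPoint_spec X).specializes (Set.mem_univ η))).symm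
      subst hg
      obtain ⟨x, hx⟩ := f.surjective (genericPoint Y)
      refine (((genericPoint_spec Y).specializes (Set.mem_univ _)).antisymm ?_).eq.symm
      exact hx ▸ ((genericPoint_spec X).specializes (Set.mem_univ x)).map f.continuous
  haveI : Smooth (f ≫ (Y ↘ (Spec (CommRingCat.of k)))) := hf.symm ▸ inferInstanceAs (Smooth (X ↘ (Spec (CommRingCat.of k))))
  exact GrpSchLib.smooth_of_flat_surjective f _

end Groth.Agent.S6557
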