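import Groth.Statements.S6568
import Groth.Agent.CanonDual.LiftSections
import Groth.Agent.CanonDual.H1Crit
import Groth.Agent.CanonDual.TF
import Groth.Agent.CanonDual.Nodal
import Groth.Agent.QCoh.SupportFT
-- import your own Groth.Agent.* helpers here

set_option autoImplicit false
set_option linter.style.haveILetI false
set_option backward.isDefEq.respectTransparency false
set_option backward.isDefEq.respectTransparency.types false
set_option maxHeartbeats 4000000
universe u
open CategoryTheory CategoryTheory.Limits AlgebraicGeometry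
attribute [local instance] HasDerivedCategory.standard
open Curves

namespace Groth.Agent.S6568

/-- Let X be proper and integral over the field k, of dimension one, with H^0(X, O_X) = k, and ω_X its
dualizing module (the degree -1 cohomology sheaf of f^! O for the structure morphism f, assuming
Rf_* on D_QCoh and its right adjoint exist). Suppose F is a torsion-free coherent O_X-module
(stalkwise: a · m = 0 forces a = 0 or m = 0) containing ω_X as a submodule, with coherent quotient Q
= F/ω_X supported in dimension zero and with dim_k H^0(X, Q) ≥ 2 (so 0 → ω_X → F → Q → 0 is short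
exact). Then F is generated by its global sections. -/
theorem result (k : Type u) [Field k] (X : Scheme.{u}) [X.Over (Spec (CommRingCat.of k))] [IsIntegral X] [IsProper (X ↘ (Spec (CommRingCat.of k)))] (hdim : topologicalKrullDim X = 1)
    (h0 : Module.finrank k (Coh.HH X (Coh.structureModule X) 0) = 1)
    [DCoh.HasRpush (X ↘ (Spec (CommRingCat.of k)))] (h : DCoh.RpushPreservesQCoh (X ↘ (Spec (CommRingCat.of k)))) [DCoh.HasShriek (X ↘ (Spec (CommRingCat.of k))) h]
    (OY : DCoh.DQCoh (Spec (CommRingCat.of k))) (hOY : Nonempty (OY.obj ≅ DCoh.inD (Spec (CommRingCat.of k)) (Coh.structureModule (Spec (CommRingCat.of k)))))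
    (F Q : X.Modules) (hF : Coh.IsCoh F) (hQ : Coh.IsCoh Q)
    (f : DCoh.dualizingMod (X ↘ (Spec (CommRingCat.of k))) h OY 1 ⟶ F) (g : F ⟶ Q) (w : f ≫ g = 0) (hex : (ShortComplex.mk f g w).ShortExact)
    (htf : ∀ (x : X) (a : X.presheaf.stalk x) (m : F.presheaf.stalk x), a • m = 0 → a = 0 ∨ m = 0)
    (hQ0 : topologicalKrullDim (CohB1.support Q) ≤ 0) (hQ2 : 2 ≤ Module.finrank k (Coh.HH X Q 0)) :
    Curv2.IsGloballyGenerated F := by
  haveI := CurveCohLib.isNoetherian_of_proper (k := k) (X := X)
  have hdual := CanonDual.exists_isRDualOver_dualizingMod h OY hOY (d := 1)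
    (fun M hM q hq => CanonDual.subsingleton_HH_curve k hdim.le hM hq)
  generalize DCoh.dualizingMod (X ↘ (Spec (CommRingCat.of k))) h OY 1 = ω at f w hex hdual
  obtain ⟨tr, hω⟩ := hdual
  obtain ⟨hωc, hωt, hωr⟩ := CanonDual.isTF1_dualizing hdim (CanonDual.closedDimOne_of_connected k hdim) hω
  haveI := hex.epi_g
  haveI := hex.mono_f
  have hFt : TorSh.IsTorsionFree F := fun x => ⟨fun r hr v v' hv => sub_eq_zero.1
    (((htf x r (v - v') (by rw [smul_sub]; exact sub_eq_zero.2 hv)).resolve_left hr.ne_zero))⟩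
  have hQs : ∀ x ∈ CohB1.support Q, IsClosed ({x} : Set X) := fun x hx => by
    have hcl : IsClosed (CohB1.support Q) := QCoh.isClosed_support_of_ft hQ.2
    refine CanonDual.isClosed_of_dim_zero k
      (Scheme.IdealSheafData.vanishingIdeal ⟨CohB1.support Q, hcl⟩) ?_ ?_
    · rw [Scheme.IdealSheafData.coe_support_vanishingIdeal]
      exact hQ0
    · show x ∈ ((Scheme.IdealSheafData.vanishingIdeal ⟨CohB1.support Q, hcl⟩).support : Set X)
      rw [Scheme.IdealSheafData.coe_support_vanishingIdeal]
      exact hx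
  have hnotcl : ∀ η ∈ genericPoints X, ¬ IsClosed ({η} : Set X) := fun η hη hcl => by
    have hη1 : (closure ({η} : Set X)) ∈ irreducibleComponents (X : Type u) := hη
    have hd := CanonDual.components_dim_one k (CanonDual.closedDimOne_of_connected k hdim) _ hη1
    rw [hcl.closure_eq] at hd
    have h0' := topologicalKrullDim_zero_of_discreteTopology ({η} : Set X)
    rw [hd] at h0'
    exact absurd h0' (by norm_num)
  have huniq : ∀ {ζ η : X}, ζ ∈ genericPoints X → η ∈ genericPoints X → ζ = η := fun {ζ η} hζ hη => by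
    have h2 : ∀ z ∈ genericPoints X, closure ({z} : Set X) = Set.univ := fun z hz => by
      have := hz
      rw [genericPoints, Set.mem_ofPred_eq, irreducibleComponents_eq_singleton] at this
      exact this
    exact IsGenericPoint.eq (show IsGenericPoint ζ Set.univ from h2 ζ hζ) (h2 η hη)
  have hfbij : ∀ η ∈ genericPoints X, Function.Bijective (TFQuot.st f η) := fun η hη => by
    have hsub : Subsingleton ((DerSch.stalkFunctor X η).obj Q) :=
      TFQuot.subsingleton_stalk_iff.2 fun hv => hnotcl η hη (hQs η hv)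
    exact ⟨TFQuot.st_injective f η, fun v =>
      ((ShortComplex.ShortExact.moduleCat_exact_iff_function_exact _).1 (hex.exact.map (DerSch.stalkFunctor X η)) v).1
        (hsub.elim _ _)⟩
  haveI hQ1 : Subsingleton (Coh.HH X Q 1) := S0047.result X Q hQ hQs 1 one_pos
  haveI := CurveCohLib.finite_HH (k := k) hQ 0
  -- the first cohomology vanishes
  have hF1 : Subsingleton (Coh.HH X F 1) := by
    rw [← CanonDual.subsingleton_hom_iff hω hF.1]
    refine subsingleton_of_forall_eq 0 fun r => ?_
    obtain ⟨-, hsc⟩ := CanonDual.dualizing_end_scalar hdim h0 hω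
    obtain ⟨a, ha⟩ := hsc (f ≫ r)
    rcases eq_or_ne a 0 with rfl | ha0
    · rw [zero_smul] at ha
      obtain ⟨q, hq⟩ := hex.exact.desc' r ha.symm
      haveI := (CanonDual.subsingleton_hom_iff hω hQ.1).2 hQ1
      rw [← hq, Subsingleton.elim q 0]
      exact comp_zero
    · let sp := ShortComplex.Splitting.ofExactOfRetraction (ShortComplex.mk f g w) hex.exact (a⁻¹ • r)
        (by show f ≫ (a⁻¹ • r) = _; rw [Linear.comp_smul, ← ha, smul_smul, inv_mul_cancel₀ ha0, one_smul]) hex.epi_g
      have hs0 : sp.s = 0 := TFQuot.hom_eq_zero hF.1 hFt _ fun η hη v => by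
        by_cases hv : η ∈ CohB1.support Q
        · exact absurd (hQs η hv) (hnotcl η hη)
        · haveI := TFQuot.subsingleton_stalk_iff.2 hv
          rw [Subsingleton.elim v 0, map_zero]
      have hz : IsZero Q := (IsZero.iff_id_eq_zero Q).2 (by
        rw [← show sp.s ≫ g = 𝟙 Q from sp.s_g, hs0, zero_comp])
      rw [CurveCohLib.finrank_HH_zero_eq_zero_of_isZero hz] at hQ2
      omega
  have hωe := Euler.euler_add k hex hωc hF hQ
  dsimp only at hωe
  rw [CanonDual.euler_two hdim.le hF.1, CanonDual.euler_two hdim.le hωc.1, Module.finrank_zero_of_subsingleton (M := Coh.HH X F 1),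
    CurveCohLib.euler_eq_finrank_zero hQ hQs,
    CanonDual.finrank_HH_dualizing hdim (CanonDual.cm_of_h0 hdim h0) hω 1 le_rfl, h0] at hωe
  push_cast at hωe
  have hbig : Module.finrank k (Coh.HH X ω 0) < Module.finrank k (Coh.HH X F 0) := by omega
  haveI := CurveCohLib.finite_HH (k := k) hF 0
  -- the image of all sections
  let P : X.Modules := SheafOfModules.free (R := X.ringCatSheaf) (Coh.structureModule X ⟶ F)
  let p : P ⟶ F := Sigma.desc (f := fun _ : (Coh.structureModule X ⟶ F) => SheafOfModules.unit X.ringCatSheaf) fun s => s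
  refine ⟨Coh.structureModule X ⟶ F, p, ?_⟩
  by_contra hne
  have hPq : Coh.IsQCoh P := (inferInstance : (SheafOfModules.free (R := X.ringCatSheaf) (Coh.structureModule X ⟶ F)).IsQuasicoherent)
  let π : F ⟶ cokernel p := cokernel.π p
  have hCc : Coh.IsCoh (cokernel p) := QCoh.isCoh_cokernel hPq hF p
  let F' := kernel π
  let i : F' ⟶ F := kernel.ι π
  have hF' : Coh.IsCoh F' := QCoh.isCoh_kernel hF hCc π
  have hF't : TorSh.IsTorsionFree F' := CanonDual.torsionFree_of_mono i hFt
  haveI := CurveCohLib.finite_HH (k := k) hF' 0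
  have hS : (ShortComplex.mk i π (kernel.condition π)).ShortExact :=
    { exact := ShortComplex.exact_of_f_is_kernel _ (kernelIsKernel π) }
  have hlift : ∀ s : Coh.structureModule X ⟶ F, s ≫ π = 0 := fun s => by
    have hs : Sigma.ι (fun _ : (Coh.structureModule X ⟶ F) => SheafOfModules.unit X.ringCatSheaf) s ≫ p = s := Sigma.ι_desc _ _
    rw [← hs, Category.assoc, cokernel.condition, comp_zero]
  have hi0 : i ≠ 0 := fun e0 => by
    obtain ⟨t, ht⟩ := Module.finrank_pos_iff_exists_ne_zero.1 (show 0 < Module.finrank k (Coh.HH X F 0) by omega)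
    obtain ⟨s, rfl⟩ := SheafHomX.cls_surjective t
    apply ht
    have : s = 0 := by rw [← kernel.lift_ι π s (hlift s), show kernel.ι π = 0 from e0, comp_zero]
    rw [this, ← CanonDual.mapLin_cls (k := k) (0 : Coh.structureModule X ⟶ F) (0 : F ⟶ F) |>.trans (congrArg SheafHomX.cls zero_comp)]
    show Sheaf.H.map ((QCoh.toAbFunctor X).map (0 : F ⟶ F)) 0 _ = 0
    rw [Functor.map_zero]
    show ((Sheaf.functorH _ 0).map 0).hom _ = 0
    rw [Functor.map_zero]
    rfl
  -- generic stalks
  have hgen : ∀ η ∈ genericPoints X, Function.Bijective (TFQuot.st i η) := by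
    intro η hη
    have hfield := TFQuot.isField_stalk_generic (X := X) hη
    letI := hfield.toField
    obtain ⟨eω⟩ := hωr η hη
    let ef : ((DerSch.stalkFunctor X η).obj ω) ≃ₗ[X.presheaf.stalk η] ((DerSch.stalkFunctor X η).obj F) :=
      LinearEquiv.ofBijective (TFQuot.st f η).hom (hfbij η hη)
    refine ⟨TFQuot.st_injective i η, fun v => ?_⟩
    obtain ⟨u, hu⟩ : ∃ u, TFQuot.st i η u ≠ 0 := by
      by_contra hall
      push Not at hall
      refine hi0 (TFQuot.hom_eq_zero hF.1 hFt i fun ζ hζ u => ?_)
      obtain rfl : ζ = η := huniq hζ hη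
      exact hall u
    let e1 := ef.symm.trans eω
    have hne1 : e1 (TFQuot.st i η u) ≠ 0 := fun e => hu (e1.map_eq_zero_iff.1 e)
    refine ⟨(e1 v / e1 (TFQuot.st i η u)) • u, e1.injective ?_⟩
    rw [map_smul, map_smul, smul_eq_mul]
    exact div_mul_cancel₀ _ hne1
  have hCs : ∀ x ∈ CohB1.support (cokernel p), IsClosed ({x} : Set X) := fun x hx => by
    refine TFQuot.isClosed_singleton_of_notMem hdim.le fun hη => hx (subsingleton_of_forall_eq 0 fun v => ?_)
    obtain ⟨w', rfl⟩ := TFQuot.st_surjective π x v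
    obtain ⟨u, rfl⟩ := (hgen x hη).2 w'
    rw [← TFQuot.st_comp, kernel.condition]
    exact TFQuot.st_zero x u
  have hC0 : 0 < Module.finrank k (Coh.HH X (cokernel p) 0) := by
    refine Nat.pos_of_ne_zero fun hz => hne ?_
    have := CurveCohLib.isZero_of_euler_eq_zero (k := k) hCc hCs (by rw [CurveCohLib.euler_eq_finrank_zero hCc hCs, hz]; rfl)
    exact Abelian.epi_of_cokernel_π_eq_zero _ (this.eq_of_tgt _ _)
  have he := Euler.euler_add k hS hF' hF hCc
  dsimp only at he
  rw [CanonDual.euler_two hdim.le hF.1, CanonDual.euler_two hdim.le hF'.1, Module.finrank_zero_of_subsingleton (M := Coh.HH X F 1),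
    CurveCohLib.euler_eq_finrank_zero hCc hCs] at he
  push_cast at he
  have hsame : Module.finrank k (Coh.HH X F 0) ≤ Module.finrank k (Coh.HH X F' 0) := by
    refine LinearMap.finrank_le_finrank_of_surjective (f := PnCoh.Finite.mapLin k i 0) fun t => ?_
    obtain ⟨s, rfl⟩ := SheafHomX.cls_surjective t
    exact ⟨SheafHomX.cls (kernel.lift π s (hlift s)), (CanonDual.mapLin_cls _ _).trans (congrArg SheafHomX.cls (kernel.lift_ι _ _ _))⟩
  have hnon : ¬ Subsingleton (F' ⟶ ω) := fun hs => by
    haveI := (CanonDual.subsingleton_hom_iff hω hF'.1).1 hs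
    rw [Module.finrank_zero_of_subsingleton (M := Coh.HH X F' 1)] at he
    omega
  obtain ⟨φ, hφ⟩ : ∃ φ : F' ⟶ ω, φ ≠ 0 := by
    by_contra hall
    push Not at hall
    exact hnon (subsingleton_of_forall_eq 0 hall)
  have hφinj : ∀ η ∈ genericPoints X, Function.Injective (TFQuot.st φ η) := by
    intro η hη
    have hfield := TFQuot.isField_stalk_generic (X := X) hη
    letI := hfield.toField
    refine (injective_iff_map_eq_zero _).2 fun u hu => ?_
    by_contra hu0
    refine hφ (TFQuot.hom_eq_zero hωc.1 hωt φ fun ζ hζ v => ?_)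
    obtain rfl : ζ = η := huniq hζ hη
    obtain ⟨eω⟩ := hωr ζ hη
    let e1 : ((DerSch.stalkFunctor X ζ).obj F') ≃ₗ[X.presheaf.stalk ζ] X.presheaf.stalk ζ :=
      (LinearEquiv.ofBijective (TFQuot.st i ζ).hom (hgen ζ hη)).trans
        ((LinearEquiv.ofBijective (TFQuot.st f ζ).hom (hfbij ζ hη)).symm.trans eω)
    have hne1 : e1 u ≠ 0 := fun e => hu0 (e1.map_eq_zero_iff.1 e)
    have hv : v = (e1 v / e1 u) • u := e1.injective (by rw [map_smul, smul_eq_mul, div_mul_cancel₀ _ hne1])
    rw [hv, map_smul, hu, smul_zero]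
  haveI : Mono φ := Preadditive.mono_of_kernel_zero (TFQuot.hom_eq_zero hF'.1 hF't (kernel.ι φ) fun η hη v => by
    apply hφinj η hη
    rw [← TFQuot.st_comp, kernel.condition, TFQuot.st_zero, map_zero])
  have hS2 : (ShortComplex.mk φ (cokernel.π φ) (cokernel.condition φ)).ShortExact :=
    { exact := ShortComplex.exact_of_g_is_cokernel _ (cokernelIsCokernel φ) }
  haveI := CurveCohLib.finite_HH (k := k) hωc 0
  have hinj : Function.Injective (PnCoh.Finite.mapLin k φ 0) := fun x y hxy => by
    obtain ⟨a, rfl⟩ := SheafHomX.cls_surjective x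
    obtain ⟨b, rfl⟩ := SheafHomX.cls_surjective y
    rw [CanonDual.mapLin_cls, CanonDual.mapLin_cls] at hxy
    exact congrArg SheafHomX.cls ((cancel_mono φ).1 (SheafHomX.cls_injective hxy))
  have hle : Module.finrank k (Coh.HH X F' 0) ≤ Module.finrank k (Coh.HH X ω 0) :=
    LinearMap.finrank_le_finrank_of_injective (f := PnCoh.Finite.mapLin k φ 0) hinj
  omega

end Groth.Agent.S6568
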