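import Groth.Statements.S6569
import Groth.Agent.NodalQ.Syntomic
import Groth.Agent.OmegaUniv.Universal
import Groth.Agent.UnibEtale.Comp

set_option linter.style.haveILetI false
set_option backward.isDefEq.respectTransparency false
set_option backward.isDefEq.respectTransparency.types false
set_option maxHeartbeats 1000000

set_option autoImplicit false
universe u
open CategoryTheory CategoryTheory.Limits AlgebraicGeometry
attribute [local instance] HasDerivedCategory.standard
open Curves

namespace Groth.Agent.S6569

/-- Let k be a field and X a scheme locally of finite type over k, equidimensional of dimension 1; the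
structure morphism is also assumed quasi-separated (automatic here, X being locally Noetherian), so
that the sheaf of differentials Ω_{X/k} can be taken as the conormal sheaf of the diagonal. Two
conditions on X are then equivalent: (1) X has at worst nodal singularities; (2) X → Spec k is a
local complete intersection morphism, and Z → Spec k is unramified, where Z ⊆ X denotes the closed
subscheme whose ideal sheaf is the first Fitting ideal of Ω_{X/k}. -/
theorem result (k : Type u) [Field k] (X : Scheme.{u}) [X.Over (Spec (CommRingCat.of k))] [LocallyOfFiniteType (X ↘ (Spec (CommRingCat.of k)))] [QuasiSeparated (X ↘ (Spec (CommRingCat.of k)))]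
    (hequi : ∀ Z ∈ irreducibleComponents (X : Type u), topologicalKrullDim Z = 1) :
    Curv2.AtWorstNodal k X ↔
      (Dual3.IsLCIMor (X ↘ (Spec (CommRingCat.of k))) ∧
        FormallyUnramified ((Fitt.sheafIdeal (Omega.sheaf (X ↘ (Spec (CommRingCat.of k)))) 1).subschemeι ≫ (X ↘ (Spec (CommRingCat.of k))))) := by
  let p := X ↘ Spec (CommRingCat.of k)
  haveI : Subsingleton ↥(Spec (CommRingCat.of k)) := inferInstanceAs (Subsingleton (PrimeSpectrum k))
  have hd : ∀ x : X, FlatMor.fibreDimAt p x = (1 : WithBot ℕ∞) := fun x => by
    obtain ⟨z, -, hfz, hmax, he⟩ := Groth.Agent.FibDim.exists_fibMax_generization p x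
    rw [he, ← hequi _ (Groth.Agent.VarDim.closure_mem_irreducibleComponents
      (fun y hy => hmax y hy (Subsingleton.elim _ _))), Groth.Agent.FibDim.topologicalKrullDim_closure p z]
  have hflat : Flat p := inferInstance
  have hlci : Dual3.IsLCIMor p ↔ Synt.IsSyntomicMor p := by
    constructor
    · intro h x
      obtain ⟨U, V, e, hx, hL⟩ := h x
      refine ⟨U, V, e, hx, ?_⟩
      letI := (p.appLE V.1 U.1 e).hom.toAlgebra
      haveI : Module.Flat Γ(Spec (CommRingCat.of k), V.1) Γ(X, U.1) := Flat.flat_appLE p V.2 U.2 e
      exact Groth.Agent.Synt29.isSyntomic_of_flat_of_isLCI hL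
    · intro h x
      obtain ⟨U, V, e, hx, hS⟩ := h x
      refine ⟨U, V, e, hx, ?_⟩
      letI := (p.appLE V.1 U.1 e).hom.toAlgebra
      exact Groth.Agent.Synt29.isLCI_of_isSyntomic hS
  rw [hlci]
  have key := Groth.Agent.NodalQ.isNodalFamily_iff_syntomic p _ _ (Groth.Agent.OmegaUniv.isUniversal_dOmega p)
  rw [Groth.Agent.NodalQ.isNodalFamily_field_iff k X] at key
  exact ⟨fun h => let r := key.1 ⟨hequi, h⟩; ⟨r.1, r.2.2⟩, fun h => (key.2 ⟨h.1, hd, h.2⟩).2⟩

end Groth.Agent.S6569
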