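import Groth.Statements.S6570
import Groth.Agent.NodalQ.Syntomic
import Groth.Agent.OmegaUniv.Universal
import Groth.Agent.UnibEtale.Comp

set_option linter.style.haveILetI false
set_option backward.isDefEq.respectTransparency false
set_option backward.isDefEq.respectTransparency.types false
set_option maxHeartbeats 1000000

set_option autoImplicit false
universe u
open CategoryTheory CategoryTheory.Limits AlgebraicGeometry
attribute [local instance] HasDerivedCategory.standard
open Curves

namespace Groth.Agent.S6570

/-- Let f : X → S be a quasi-separated morphism of schemes (so that Ω_{X/S} can be taken as the conormal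
sheaf of the diagonal). The following are equivalent: (1) f is flat, locally of finite presentation,
and every nonempty fibre is equidimensional of dimension 1 with at-worst-nodal singularities; (2) f
is syntomic of relative dimension 1, and Sing(f) → S is unramified, where Sing(f) ⊆ X denotes the
closed subscheme whose ideal sheaf is the first Fitting ideal of Ω_{X/S}. (The published statement
does not assume f quasi-separated; this row does.) -/
theorem result {X S : Scheme.{u}} (f : X ⟶ S) [QuasiSeparated f] :
    Curv2.IsNodalFamily f ↔
      (Synt.IsSyntomicMor f ∧ (∀ x : X, Dual3.localFibreDim f x = 1) ∧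
        FormallyUnramified ((Fitt.sheafIdeal (Omega.sheaf f) 1).subschemeι ≫ f)) := by
  constructor
  · intro h
    haveI := h.2.1
    obtain ⟨h1, h2, h3⟩ := (Groth.Agent.NodalQ.isNodalFamily_iff_syntomic f _ _
      (Groth.Agent.OmegaUniv.isUniversal_dOmega f)).1 h
    exact ⟨h1, fun x => (Groth.Agent.NodalQ.localFibreDim_eq f x).trans (h2 x), h3⟩
  · rintro ⟨h1, h2, h3⟩
    haveI := Groth.Agent.KRegLib.lfp_of_isSyntomicMor f h1
    exact (Groth.Agent.NodalQ.isNodalFamily_iff_syntomic f _ _ (Groth.Agent.OmegaUniv.isUniversal_dOmega f)).2
      ⟨h1, fun x => (Groth.Agent.NodalQ.localFibreDim_eq f x).symm.trans (h2 x), h3⟩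

end Groth.Agent.S6570
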