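import Groth.Statements.S6572
import Groth.Agent.TameResidue.Diff
import Groth.Agent.TameResidue.Basic
import Groth.Agent.HypEll.Basic
import Groth.Agent.GenusOnePt.Basic
import Groth.Agent.CurveFF.Base
import Groth.Agent.S9346

set_option autoImplicit false
set_option backward.isDefEq.respectTransparency false
set_option backward.isDefEq.respectTransparency.types false
set_option linter.style.haveILetI false
universe u
open CategoryTheory CategoryTheory.Limits AlgebraicGeometry
open Curves

namespace Groth.Agent.S6572

/-- Local rings at closed points of a smooth curve are discrete valuation rings. -/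
theorem isDVR (k : Type u) [Field k] (X : Scheme.{u}) [X.Over (Spec (CommRingCat.of k))] [IsIntegral X]
    [IsProper (X ↘ Spec (CommRingCat.of k))] [Smooth (X ↘ Spec (CommRingCat.of k))]
    (hdim : topologicalKrullDim X = 1) {z : X} (hz : IsClosed ({z} : Set X)) :
    IsDiscreteValuationRing (X.presheaf.stalk z) := by
  haveI := CurveCohLib.isNoetherian_of_proper (k := k) (X := X)
  have hreg : IsRegularLocalRing (X.presheaf.stalk z) :=
    SmoothReg.isRegularLocalRing_stalk_of_mem_smoothLocus (X ↘ Spec (CommRingCat.of k)) (by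
      rw [(Scheme.Hom.smoothLocus_eq_top_iff (f := X ↘ Spec (CommRingCat.of k))).2 inferInstance]
      trivial)
  have hd : ringKrullDim (X.presheaf.stalk z) = 1 :=
    (SmoothReg.ringKrullDim_stalk_closedPoint (X ↘ Spec (CommRingCat.of k)) hz).trans hdim
  refine IsLocalRing.finrank_CotangentSpace_eq_one_iff.mp ?_
  rw [IsRegularLocalRing.iff_finrank_cotangentSpace, hd] at hreg
  exact_mod_cast hreg

/-- Let k be a field and f : X → Y a morphism over k of smooth proper curves over k (proper, smooth,
integral, of dimension one) which is generically étale (étale on a nonempty open of X) and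
nonconstant (f(ξ_X) = ξ_Y for the generic points), with H^0(X, O_X) = H^0(Y, O_Y) = k. For a closed
point x ∈ X with image y, write e_x for the ramification index of the extension of discrete
valuation rings O_{Y,y} → O_{X,x} and d_x for the length of the O_{X,x}-module Ω_{O_{X,x}/O_{Y,y}}.
Then e_x − 1 ≤ d_x, with equality exactly when O_{Y,y} → O_{X,x} is tame: the residue field
extension κ(x)/κ(y) is separable and e_x is not divisible by the characteristic of κ(y) (e_x ≠ 0 in
κ(y)). (The published statement also identifies d_x with the multiplicity of x in the ramification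
divisor; this row takes the length of Ω_{O_{X,x}/O_{Y,y}}, the stalk of Ω_{X/Y} at x, as the
definition of d_x.) -/
theorem result (k : Type u) [Field k]
    (X Y : Scheme.{u}) [X.Over (Spec (CommRingCat.of k))] [Y.Over (Spec (CommRingCat.of k))]
    [IsIntegral X] [IsProper (X ↘ (Spec (CommRingCat.of k)))] [Smooth (X ↘ (Spec (CommRingCat.of k)))] (hdX : topologicalKrullDim X = 1)
    [IsIntegral Y] [IsProper (Y ↘ (Spec (CommRingCat.of k)))] [Smooth (Y ↘ (Spec (CommRingCat.of k)))] (hdY : topologicalKrullDim Y = 1)
    (hX0 : Module.finrank k (Coh.HH X (Coh.structureModule X) 0) = 1) (hY0 : Module.finrank k (Coh.HH Y (Coh.structureModule Y) 0) = 1)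
    (f : X ⟶ Y) (hf : f ≫ (Y ↘ (Spec (CommRingCat.of k))) = X ↘ (Spec (CommRingCat.of k))) (e : f (genericPoint X) = genericPoint Y)
    (het : ∃ U : X.Opens, (U : Set X).Nonempty ∧ Etale (U.ι ≫ f))
    (x : X) (hx : IsClosed ({x} : Set X)) :
    letI := (f.stalkMap x).hom.toAlgebra
    letI := (f.residueFieldMap x).hom.toAlgebra
    ((((Ideal.ramificationIdx (IsLocalRing.maximalIdeal (X.presheaf.stalk x)) (Y.presheaf.stalk (f x)) - 1 : ℕ) : ℕ∞) ≤ Module.length (X.presheaf.stalk x) (KaehlerDifferential (Y.presheaf.stalk (f x)) (X.presheaf.stalk x))) ∧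
      ((Module.length (X.presheaf.stalk x) (KaehlerDifferential (Y.presheaf.stalk (f x)) (X.presheaf.stalk x)) = ((Ideal.ramificationIdx (IsLocalRing.maximalIdeal (X.presheaf.stalk x)) (Y.presheaf.stalk (f x)) - 1 : ℕ) : ℕ∞)) ↔
        (Algebra.IsSeparable (Y.residueField (f x)) (X.residueField x) ∧ ((Ideal.ramificationIdx (IsLocalRing.maximalIdeal (X.presheaf.stalk x)) (Y.presheaf.stalk (f x)) : ℕ) : Y.residueField (f x)) ≠ 0))) := by
  letI := (f.stalkMap x).hom.toAlgebra
  letI := (f.residueFieldMap x).hom.toAlgebra
  haveI : IsLocalHom (algebraMap (Y.presheaf.stalk (f x)) (X.presheaf.stalk x)) :=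
    inferInstanceAs (IsLocalHom (f.stalkMap x).hom)
  haveI : SmoothOfRelativeDimension 1 (X ↘ Spec (CommRingCat.of k)) := HypEll.smooth_one _ hdX
  haveI : IsProper f := by
    haveI : IsProper (f ≫ (Y ↘ Spec (CommRingCat.of k))) := hf ▸ inferInstance
    exact IsProper.of_comp f (Y ↘ Spec (CommRingCat.of k))
  have hy : IsClosed ({f x} : Set Y) := by
    have := f.isClosedMap _ hx
    rwa [Set.image_singleton] at this
  haveI := isDVR k X hdX hx
  haveI := isDVR k Y hdY hy
  letI : Algebra k (X.presheaf.stalk x) := Curv2.stalkAlgebra k X x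
  letI : Algebra k (Y.presheaf.stalk (f x)) := Curv2.stalkAlgebra k Y (f x)
  haveI : IsScalarTower k (Y.presheaf.stalk (f x)) (X.presheaf.stalk x) :=
    IsScalarTower.of_algebraMap_eq fun c => by
      show X.presheaf.germ ⊤ x trivial ((X ↘ Spec (CommRingCat.of k)).appTop _) =
        f.stalkMap x (Y.presheaf.germ ⊤ (f x) trivial ((Y ↘ Spec (CommRingCat.of k)).appTop _))
      erw [Scheme.Hom.germ_stalkMap_apply]
      rw [← hf]
      rfl
  obtain ⟨-, g, hg⟩ := TameResidue.exists_generator (k := k) X x
  let φ := KaehlerDifferential.map k (Y.presheaf.stalk (f x)) (X.presheaf.stalk x) (X.presheaf.stalk x)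
  have hφ : Function.Surjective φ :=
    KaehlerDifferential.map_surjective k (Y.presheaf.stalk (f x)) (X.presheaf.stalk x)
  have hg' : Submodule.span (X.presheaf.stalk x) {φ g} = ⊤ := top_unique fun z _ => by
    obtain ⟨t, rfl⟩ := hφ z
    obtain ⟨d, rfl⟩ := Submodule.mem_span_singleton.1 (hg.ge (Submodule.mem_top (x := t)))
    rw [map_smul]
    exact Submodule.smul_mem _ _ (Submodule.mem_span_singleton_self _)
  haveI : IsDominant f := ((S9346.result f).out 0 1).2 e
  haveI : Module.Finite k (IsLocalRing.ResidueField (X.presheaf.stalk x)) := GenusOnePt.finite_residue (k := k) hx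
  haveI : Module.Finite (IsLocalRing.ResidueField (Y.presheaf.stalk (f x)))
      (IsLocalRing.ResidueField (X.presheaf.stalk x)) :=
    Module.Finite.of_restrictScalars_finite k _ _
  obtain ⟨h1, h2⟩ := TameResidue.length_kaehler_iff (S9346.stalkMap_injective f x) _ hg'
  refine ⟨h1, h2.trans ?_⟩
  unfold TameResidue.Tame
  refine and_congr ?_ Iff.rfl
  let i₁ : Algebra (IsLocalRing.ResidueField (Y.presheaf.stalk (f x))) (IsLocalRing.ResidueField (X.presheaf.stalk x)) :=
    inferInstance
  let i₂ : Algebra (IsLocalRing.ResidueField (Y.presheaf.stalk (f x))) (IsLocalRing.ResidueField (X.presheaf.stalk x)) :=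
    (f.residueFieldMap x).hom.toAlgebra
  have hi : i₁ = i₂ := Algebra.algebra_ext i₁ i₂ fun z => by
    obtain ⟨z, rfl⟩ := IsLocalRing.residue_surjective z
    rfl
  exact Iff.of_eq (congrArg (fun a : Algebra (IsLocalRing.ResidueField (Y.presheaf.stalk (f x)))
    (IsLocalRing.ResidueField (X.presheaf.stalk x)) => @Algebra.IsSeparable _ _ _ _ a) hi)

end Groth.Agent.S6572
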