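import Groth.Statements.S6577
import Groth.Agent.CanonDual.Sub
import Groth.Agent.CanonDual.Curve

set_option autoImplicit false
set_option backward.isDefEq.respectTransparency.types false
universe u
open CategoryTheory CategoryTheory.Limits AlgebraicGeometry
attribute [local instance] HasDerivedCategory.standard
open Curves

namespace Groth.Agent.S6577

/-- Let X be proper over the field k of dimension ≤ 1, i : Y → X a closed immersion, and ω_X, ω_Y the
dualizing modules of X and of Y over k (degree -1 cohomology sheaves of the shriek of O for the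
structure morphisms, assuming the derived pushforwards on D_QCoh and their right adjoints exist).
Then i_*ω_Y ≅ Hom_{O_X}(i_*O_Y, ω_X), where the sheaf Hom is taken as the right adjoint of i_*O_Y ⊗
− (assumed to exist). (Existence of an isomorphism only.) -/
theorem result (k : Type u) [Field k] (X : Scheme.{u}) [X.Over (Spec (CommRingCat.of k))] [IsProper (X ↘ (Spec (CommRingCat.of k)))] (hdim : topologicalKrullDim X ≤ 1)
    [DCoh.HasRpush (X ↘ (Spec (CommRingCat.of k)))] (h : DCoh.RpushPreservesQCoh (X ↘ (Spec (CommRingCat.of k)))) [DCoh.HasShriek (X ↘ (Spec (CommRingCat.of k))) h]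
    (OY : DCoh.DQCoh (Spec (CommRingCat.of k))) (hOY : Nonempty (OY.obj ≅ DCoh.inD (Spec (CommRingCat.of k)) (Coh.structureModule (Spec (CommRingCat.of k)))))
    {Y : Scheme.{u}} (i : Y ⟶ X) [IsClosedImmersion i]
    [DCoh.HasRpush (i ≫ (X ↘ (Spec (CommRingCat.of k))))] (hY : DCoh.RpushPreservesQCoh (i ≫ (X ↘ (Spec (CommRingCat.of k))))) [DCoh.HasShriek (i ≫ (X ↘ (Spec (CommRingCat.of k)))) hY]
    [DCoh.HasSheafHom ((Coh.push i).obj (Coh.structureModule Y))] :
    Nonempty ((Coh.push i).obj (DCoh.dualizingMod (i ≫ (X ↘ (Spec (CommRingCat.of k)))) hY OY 1) ≅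
      (DCoh.sheafHom ((Coh.push i).obj (Coh.structureModule Y))).obj (DCoh.dualizingMod (X ↘ (Spec (CommRingCat.of k))) h OY 1)) := by
  haveI : IsLocallyNoetherian X := LocallyOfFiniteType.isLocallyNoetherian (X ↘ Spec (CommRingCat.of k))
  obtain ⟨tr, hω⟩ := Groth.Agent.CanonDual.exists_isRDualOver_dualizingMod h OY hOY (d := 1)
    (fun M hM q hq => Groth.Agent.CanonDual.subsingleton_HH_curve k hdim hM hq)
  letI : Y.Over (Spec (CommRingCat.of k)) := ⟨i ≫ (X ↘ Spec (CommRingCat.of k))⟩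
  haveI : IsProper (Y ↘ Spec (CommRingCat.of k)) := inferInstanceAs (IsProper (i ≫ _))
  have hdimY : topologicalKrullDim Y ≤ 1 :=
    i.isClosedEmbedding.isInducing.topologicalKrullDim_le.trans hdim
  haveI : DCoh.HasRpush (Y ↘ Spec (CommRingCat.of k)) := inferInstanceAs (DCoh.HasRpush (i ≫ _))
  haveI : DCoh.HasShriek (Y ↘ Spec (CommRingCat.of k)) hY := ‹DCoh.HasShriek (i ≫ _) hY›
  obtain ⟨trY, hωY⟩ := Groth.Agent.CanonDual.exists_isRDualOver_dualizingMod (X := Y) hY OY hOY (d := 1)
    (fun M hM q hq => Groth.Agent.CanonDual.subsingleton_HH_curve k hdimY hM hq)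
  obtain ⟨t, ht⟩ := Groth.Agent.CanonDual.exists_isRDualOver_shriek i rfl hω
    (Groth.Agent.CanonDual.isCoh_dualizing hdim hω)
  obtain ⟨ρ, hρ⟩ := (hωY.2 _ ht.1).2 t
  haveI := Groth.Agent.CanonDual.isIso_of_trace hωY ht ρ hρ
  obtain ⟨a⟩ := Groth.Agent.CanonDual.nonempty_hom_push_iso i (DCoh.dualizingMod (X ↘ Spec (CommRingCat.of k)) h OY 1)
  obtain ⟨b⟩ := Groth.Agent.CanonDual.nonempty_sheafHom_iso ((Coh.push i).obj (Coh.structureModule Y))
  exact ⟨(Coh.push i).mapIso (asIso ρ).symm ≪≫ a.symm ≪≫ (b.app _).symm⟩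

end Groth.Agent.S6577
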