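import Groth.Statements.S6587
import Groth.Agent.DTenPro.ProBasic
-- import your own Groth.Agent.* helpers here

set_option autoImplicit false
universe v u
open CategoryTheory CategoryTheory.Limits Opposite
open CohDer

namespace Groth.Agent.S6587

open CategoryTheory.Pretriangulated in
/-- Let D be a triangulated category and let X_n → Y_n → Z_n → X_n⟦1⟧ be an inverse system of
distinguished triangles of D indexed by ℕ (levelwise maps f, g, h of inverse systems, each level
distinguished). If the inverse system (Z_n) is pro-zero, then the levelwise map f : (X_n) → (Y_n) is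
a pro-isomorphism. -/
theorem result {D : Type u} [Category.{v} D] [Preadditive D] [HasZeroObject D] [HasShift D ℤ]
    [∀ n : ℤ, (shiftFunctor D n).Additive] [Pretriangulated D] [IsTriangulated D]
    (X Y Z : ARSys.PS D) (f : X ⟶ Y) (g : Y ⟶ Z) (h : Z ⟶ X ⋙ shiftFunctor D (1 : ℤ))
    (hT : ∀ n : ℕ, Triangle.mk (f.app (op n)) (g.app (op n)) (h.app (op n)) ∈ distinguishedTriangles)
    (hZ : DerCA.IsProZero Z) :
    DerCA.IsProIso f := by
  let O : ARSys.PS D := (Functor.const ℕᵒᵖ).obj (Classical.choose (HasZeroObject.zero (C := D)))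
  have hz : ∀ n, IsZero (O.obj n) := fun n => Classical.choose_spec (HasZeroObject.zero (C := D))
  have h₃ : DerCA.IsProIso (0 : O ⟶ Z) := fun n => by
    obtain ⟨m, hm, h0⟩ := hZ n
    refine ⟨m, hm, 0, (hz _).eq_of_src _ _, ?_⟩
    rw [h0, zero_comp]
  refine Groth.Agent.TowerLib.EssConst.proIso_middle (aX := 𝟙 X) (qX := (0 : X ⟶ O))
    (hX := (0 : O ⟶ X ⋙ shiftFunctor D (1 : ℤ))) (fun n => isomorphic_distinguished _ (contractible_distinguished (X.obj (op n))) _
      (Triangle.isoMk _ _ (Iso.refl _) (Iso.refl _) ((hz (op n)).iso (isZero_zero D)) (by exact (Category.comp_id _).trans (Category.id_comp _).symm)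
        ((isZero_zero D).eq_of_tgt _ _) ((hz (op n)).eq_of_src _ _))) hT
    (f₁ := 𝟙 X) (f₂ := f) (f₃ := (0 : O ⟶ Z)) (fun n => rfl) (fun n => ?_) (fun n => (hz _).eq_of_src _ _)
    (DTenPro.proIso_of_isIso _ fun _ => inferInstance) h₃
  have e := Triangle.mk (f.app (op n)) (g.app (op n)) (h.app (op n))
  show 0 ≫ 0 = f.app (op n) ≫ g.app (op n)
  rw [zero_comp]
  exact (comp_distTriang_mor_zero₁₂ _ (hT n)).symm


end Groth.Agent.S6587
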