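import Groth.Statements.S6595
import Mathlib

set_option autoImplicit false
universe v u
open CategoryTheory CategoryTheory.Limits
open CohDer

namespace Groth.Agent.S6595

open CategoryTheory.Pretriangulated in
/-- Let D be a triangulated category, X and X' chain complexes in D considered in degrees ≤ n, where a
Postnikov system for the complex X_n → … → X_0 consists of objects Y_k, an isomorphism Y_0 ⟶ X_0,
and for 0 ≤ k < n distinguished triangles Y_{k+1} ⟶ X_{k+1} ⟶ Y_k ⟶ Y_{k+1}⟦1⟧ with X_{k+1} ⟶ Y_k ⟶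
X_k the differential. Suppose X' carries a Postnikov system (Y', a', b', c'). If Hom(X_i⟦i - j - 1⟧,
X'_j) = 0 for all j + 1 < i ≤ n, then Hom(X_i⟦i - j - 1⟧, Y'_j) = 0 for all j + 1 < i ≤ n. -/
theorem result {D : Type u} [Category.{v} D] [Preadditive D] [HasZeroObject D] [HasShift D ℤ]
    [∀ n : ℤ, (shiftFunctor D n).Additive] [Pretriangulated D] [IsTriangulated D]
    (X X' : ChainComplex D ℕ) (n : ℕ)
    (Y : ℕ → D) (a : ∀ k, Y k ⟶ X'.X k) (b : ∀ k, X'.X (k + 1) ⟶ Y k)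
    (c : ∀ k, Y k ⟶ (shiftFunctor D (1 : ℤ)).obj (Y (k + 1)))
    (h0 : IsIso (a 0))
    (hP : ∀ k, k < n → Triangle.mk (a (k + 1)) (b k) (c k) ∈ distinguishedTriangles ∧ b k ≫ a k = X'.d (k + 1) k)
    (hX : ∀ i j : ℕ, j + 1 < i → i ≤ n → ∀ ψ : (shiftFunctor D ((i : ℤ) - j - 1)).obj (X.X i) ⟶ X'.X j, ψ = 0)
    (i j : ℕ) (hij : j + 1 < i) (hi : i ≤ n) (ψ : (shiftFunctor D ((i : ℤ) - j - 1)).obj (X.X i) ⟶ Y j) :
    ψ = 0 := by
  suffices H : ∀ (j i : ℕ), j + 1 < i → i ≤ n → ∀ (s : ℤ), s = (i : ℤ) - j - 1 →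
      ∀ φ : (shiftFunctor D s).obj (X.X i) ⟶ Y j, φ = 0 from H j i hij hi _ rfl ψ
  intro j
  induction j with
  | zero =>
    intro i hij hi s hs φ
    subst hs
    haveI := h0
    rw [← cancel_mono (a 0), zero_comp]
    exact hX i 0 hij hi _
  | succ j ih =>
    intro i hij hi s hs φ
    subst hs
    obtain ⟨hT, -⟩ := hP j (by lia)
    have h1 : φ ≫ a (j + 1) = 0 := hX i (j + 1) hij hi _
    obtain ⟨η, hη⟩ := (Triangle.mk (a (j + 1)) (b j) (c j)).coyoneda_exact₁ hT (φ⟦(1 : ℤ)⟧') (by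
      change φ⟦(1 : ℤ)⟧' ≫ (a (j + 1))⟦(1 : ℤ)⟧' = 0
      rw [← Functor.map_comp, h1, Functor.map_zero])
    let e := (shiftFunctorAdd' D ((i : ℤ) - (j + 1 : ℕ) - 1) 1 ((i : ℤ) - j - 1) (by push_cast; ring)).app (X.X i)
    have h2 : e.hom ≫ η = 0 := ih i (by lia) hi _ rfl _
    have h3 : η = 0 := by rw [← cancel_epi e.hom, comp_zero, h2]
    apply (shiftFunctor D (1 : ℤ)).map_injective
    rw [Functor.map_zero]
    refine hη.trans ?_
    rw [h3]
    exact zero_comp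

end Groth.Agent.S6595
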