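import Groth.Statements.S6598
import Mathlib

set_option autoImplicit false
universe v u
open CategoryTheory CategoryTheory.Limits
open CohDer

namespace Groth.Agent.S6598

/-- Let α : K ⟶ L be a morphism of cochain complexes over an additive category. There is a factorization
K ⟶ L' ⟶ L of α such that (1) K ⟶ L' is a termwise split injection (in each degree isomorphic to the
inclusion of a direct summand) and (2) L' ⟶ L admits a section s : L ⟶ L' (s followed by L' ⟶ L is
the identity) such that L' ⟶ L followed by s is homotopic to the identity of L'. Moreover if K and L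
are both bounded below, resp. both bounded above, then L' may be chosen bounded below, resp. bounded
above. -/
theorem result {V : Type u} [Category.{v} V] [Preadditive V] [HasBinaryBiproducts V] [HasZeroObject V]
    (K L : CochainComplex V ℤ) (α : K ⟶ L) :
    ∃ (L' : CochainComplex V ℤ) (α' : K ⟶ L') (π : L' ⟶ L) (s : L ⟶ L'),
      α' ≫ π = α ∧ s ≫ π = 𝟙 L ∧ Nonempty (Homotopy (π ≫ s) (𝟙 L')) ∧
      (∀ n : ℤ, ∃ (C : V) (e : L'.X n ≅ K.X n ⊞ C), α'.f n ≫ e.hom = biprod.inl) ∧
      (∀ a : ℤ, K.IsStrictlyGE a → L.IsStrictlyGE a → ∃ a' : ℤ, L'.IsStrictlyGE a') ∧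
      (∀ a : ℤ, K.IsStrictlyLE a → L.IsStrictlyLE a → ∃ a' : ℤ, L'.IsStrictlyLE a') := by
  let D := CochainComplex.mappingCone (𝟙 K)
  let π : L ⊞ D ⟶ L := biprod.fst
  let α' : K ⟶ L ⊞ D := biprod.lift α (CochainComplex.mappingCone.inr (𝟙 K))
  refine ⟨L ⊞ D, α', π, biprod.inl, by simp [α', π], biprod.inl_fst, ⟨?_⟩, fun n => ?_, ?_, ?_⟩
  · have hD : Homotopy (0 : D ⟶ D) (𝟙 D) := (CochainComplex.mappingCone.homotopyToZeroOfId K).symm
    have h := (Homotopy.refl (π ≫ biprod.inl)).add ((hD.compRight biprod.inr).compLeft (biprod.snd : L ⊞ D ⟶ D))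
    exact (Homotopy.ofEq (by simp)).trans (h.trans (Homotopy.ofEq (by simp [π, biprod.total])))
  · let fs := (CochainComplex.mappingCone.fst (𝟙 K)).1.v n (n + 1) rfl
    let sn := (CochainComplex.mappingCone.snd (𝟙 K)).v n n (add_zero n)
    let p : (L ⊞ D).X n ⟶ D.X n := (biprod.snd : L ⊞ D ⟶ D).f n
    refine ⟨L.X n ⊞ K.X (n + 1),
      { hom := biprod.lift (p ≫ sn) (biprod.lift (π.f n - p ≫ sn ≫ α.f n) (p ≫ fs))
        inv := biprod.desc (α'.f n) (biprod.desc ((biprod.inl : L ⟶ L ⊞ D).f n)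
          ((CochainComplex.mappingCone.inl (𝟙 K)).v (n + 1) n (by lia) ≫ (biprod.inr : D ⟶ L ⊞ D).f n))
        hom_inv_id := ?_
        inv_hom_id := ?_ }, ?_⟩
    · apply HomologicalComplex.biprodX_ext_from
      · simp [π, α', p]
      · rw [CochainComplex.mappingCone.ext_from_iff (𝟙 K) (n + 1) n rfl]
        constructor
        · simp [π, α', p, fs, sn, D]
        · apply HomologicalComplex.biprodX_ext_to
          · simp [π, α', p, fs, sn, D]
          · simp [π, α', p, fs, sn, D]
    · ext <;> simp [π, α', p, fs, sn, D]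
    · ext <;> simp [π, α', p, fs, sn, D]
  · intro a hK hL
    refine ⟨a - 1, (CochainComplex.isStrictlyGE_iff _ _).2 fun i hi => ?_⟩
    refine IsZero.of_iso ?_ (HomologicalComplex.biprodXIso L D i)
    exact (biprod_isZero_iff _ _).2 ⟨L.isZero_of_isStrictlyGE a i (by lia),
      (CochainComplex.mappingCone.isZero_X_iff _ i).2 ⟨K.isZero_of_isStrictlyGE a _ (by lia), K.isZero_of_isStrictlyGE a i (by lia)⟩⟩
  · intro a hK hL
    refine ⟨a, (CochainComplex.isStrictlyLE_iff _ _).2 fun i hi => ?_⟩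
    refine IsZero.of_iso ?_ (HomologicalComplex.biprodXIso L D i)
    exact (biprod_isZero_iff _ _).2 ⟨L.isZero_of_isStrictlyLE a i (by lia),
      (CochainComplex.mappingCone.isZero_X_iff _ i).2 ⟨K.isZero_of_isStrictlyLE a _ (by lia), K.isZero_of_isStrictlyLE a i (by lia)⟩⟩

end Groth.Agent.S6598
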