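import Groth.Statements.S6599
import Mathlib

set_option autoImplicit false
universe v u
open CategoryTheory CategoryTheory.Limits
open CohDer

namespace Groth.Agent.S6599

/-- Let α : K ⟶ L be a morphism of cochain complexes over an additive category. There is a factorization
K ⟶ K' ⟶ L of α such that (1) K' ⟶ L is a termwise split surjection (in each degree isomorphic to
the projection onto a direct summand) and (2) K ⟶ K' admits a retraction s : K' ⟶ K (K ⟶ K' followed
by s is the identity) such that s followed by K ⟶ K' is homotopic to the identity of K'. Moreover if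
K and L are both bounded below, resp. both bounded above, then K' may be chosen bounded below, resp.
bounded above. -/
theorem result {V : Type u} [Category.{v} V] [Preadditive V] [HasBinaryBiproducts V] [HasZeroObject V]
    (K L : CochainComplex V ℤ) (α : K ⟶ L) :
    ∃ (K' : CochainComplex V ℤ) (i : K ⟶ K') (α' : K' ⟶ L) (s : K' ⟶ K),
      i ≫ α' = α ∧ i ≫ s = 𝟙 K ∧ Nonempty (Homotopy (s ≫ i) (𝟙 K')) ∧
      (∀ n : ℤ, ∃ (C : V) (e : K'.X n ≅ C ⊞ L.X n), e.inv ≫ α'.f n = biprod.snd) ∧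
      (∀ a : ℤ, K.IsStrictlyGE a → L.IsStrictlyGE a → ∃ a' : ℤ, K'.IsStrictlyGE a') ∧
      (∀ a : ℤ, K.IsStrictlyLE a → L.IsStrictlyLE a → ∃ a' : ℤ, K'.IsStrictlyLE a') := by
  let M : CochainComplex V ℤ := L⟦(-1 : ℤ)⟧
  let D := CochainComplex.mappingCone (𝟙 M)
  let z : CochainComplex.HomComplex.Cocycle M L (-1) :=
    (CochainComplex.HomComplex.Cocycle.ofHom (𝟙 L)).leftShift (-1) (-1) (by lia)
  let q : D ⟶ L := CochainComplex.mappingCone.desc (𝟙 M) z.1 0 (by
    rw [comp_zero, CochainComplex.HomComplex.Cochain.ofHom_zero]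
    exact z.δ_eq_zero 0)
  let α' : K ⊞ D ⟶ L := biprod.desc α q
  refine ⟨K ⊞ D, biprod.inl, α', biprod.fst, by simp [α'], biprod.inl_fst, ⟨?_⟩, fun n => ?_, ?_, ?_⟩
  · have hD : Homotopy (0 : D ⟶ D) (𝟙 D) := (CochainComplex.mappingCone.homotopyToZeroOfId M).symm
    have h := (Homotopy.refl (biprod.fst ≫ biprod.inl : K ⊞ D ⟶ K ⊞ D)).add
      ((hD.compRight biprod.inr).compLeft (biprod.snd : K ⊞ D ⟶ D))
    exact (Homotopy.ofEq (by simp)).trans (h.trans (Homotopy.ofEq (by simp [biprod.total])))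
  · let fs := (CochainComplex.mappingCone.fst (𝟙 M)).1.v n (n + 1) rfl
    let sn := (CochainComplex.mappingCone.snd (𝟙 M)).v n n (add_zero n)
    let p : (K ⊞ D).X n ⟶ D.X n := (biprod.snd : K ⊞ D ⟶ D).f n
    let i₁ : (K ⊞ D).X n ⟶ K.X n := (biprod.fst : K ⊞ D ⟶ K).f n
    let j : K.X n ⟶ (K ⊞ D).X n := (biprod.inl : K ⟶ K ⊞ D).f n
    let k : D.X n ⟶ (K ⊞ D).X n := (biprod.inr : D ⟶ K ⊞ D).f n
    let u : L.X n ≅ M.X (n + 1) := (L.shiftFunctorObjXIso (-1) (n + 1) n (by lia)).symm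
    have hz : z.1.v (n + 1) n (by lia) = u.inv := by
      simp [z, u, M, CochainComplex.HomComplex.Cochain.leftShift_v _ (-1) (-1) (zero_add _) (n + 1) n (by lia) n (add_zero n),
        Int.negOnePow_even 2 ⟨1, rfl⟩]
    have hq : (CochainComplex.mappingCone.inl (𝟙 M)).v (n + 1) n (by lia) ≫ q.f n = u.inv := by
      rw [CochainComplex.mappingCone.inl_v_desc_f, hz]
    have hq' : (CochainComplex.mappingCone.inr (𝟙 M)).f n ≫ q.f n = 0 := by
      rw [CochainComplex.mappingCone.inr_f_desc_f, HomologicalComplex.zero_f]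
    refine ⟨K.X n ⊞ M.X n,
      { hom := biprod.lift (biprod.lift i₁ (p ≫ sn)) (α'.f n)
        inv := biprod.desc (biprod.desc (j - α.f n ≫ u.hom ≫ (CochainComplex.mappingCone.inl (𝟙 M)).v (n + 1) n (by lia) ≫ k)
            ((CochainComplex.mappingCone.inr (𝟙 M)).f n ≫ k))
          (u.hom ≫ (CochainComplex.mappingCone.inl (𝟙 M)).v (n + 1) n (by lia) ≫ k)
        hom_inv_id := ?_
        inv_hom_id := ?_ }, ?_⟩
    · apply HomologicalComplex.biprodX_ext_from
      · simp [α', i₁, p, j, k]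
      · rw [CochainComplex.mappingCone.ext_from_iff (𝟙 M) (n + 1) n rfl]
        constructor
        · simp [α', i₁, p, j, k, sn, reassoc_of% hq, hq]
        · simp [α', i₁, p, j, k, sn, reassoc_of% hq', hq']
    · ext <;> simp [α', i₁, p, j, k, sn, hq, hq']
    · ext <;> simp [α', i₁, p, j, k, hq, hq']
  · intro a hK hL
    refine ⟨a, (CochainComplex.isStrictlyGE_iff _ _).2 fun i hi => ?_⟩
    refine IsZero.of_iso ?_ (HomologicalComplex.biprodXIso K D i)
    exact (biprod_isZero_iff _ _).2 ⟨K.isZero_of_isStrictlyGE a i (by lia),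
      (CochainComplex.mappingCone.isZero_X_iff _ i).2 ⟨(L.isZero_of_isStrictlyGE a i (by lia)).of_iso
        (L.shiftFunctorObjXIso (-1) (i + 1) i (by lia)), (L.isZero_of_isStrictlyGE a (i - 1) (by lia)).of_iso
        (L.shiftFunctorObjXIso (-1) i (i - 1) (by lia))⟩⟩
  · intro a hK hL
    refine ⟨a + 1, (CochainComplex.isStrictlyLE_iff _ _).2 fun i hi => ?_⟩
    refine IsZero.of_iso ?_ (HomologicalComplex.biprodXIso K D i)
    exact (biprod_isZero_iff _ _).2 ⟨K.isZero_of_isStrictlyLE a i (by lia),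
      (CochainComplex.mappingCone.isZero_X_iff _ i).2 ⟨(L.isZero_of_isStrictlyLE a i (by lia)).of_iso
        (L.shiftFunctorObjXIso (-1) (i + 1) i (by lia)), (L.isZero_of_isStrictlyLE a (i - 1) (by lia)).of_iso
        (L.shiftFunctorObjXIso (-1) i (i - 1) (by lia))⟩⟩

end Groth.Agent.S6599
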