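import Groth.Statements.S6617
import Groth.Agent.S6598

set_option autoImplicit false
universe v u
open CategoryTheory CategoryTheory.Limits
open CohDer

namespace Groth.Agent.S6617

/-- Let A be an additive category and A₀ → A₁ → A₂ → … a sequence of composable morphisms of complexes.
There are complexes Bᵢ, homotopy equivalences Bᵢ ⟶ Aᵢ and termwise split injections Bᵢ ⟶ Bᵢ₊₁
forming a commutative ladder over the given sequence. Moreover if all Aᵢ are bounded below, resp.
bounded above, then the Bᵢ may be chosen bounded below, resp. bounded above. (The published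
statement is for finite sequences A₁ → … → A_n; this row takes a sequence indexed by ℕ, built by the
same step-by-step construction.) -/
theorem result {V : Type u} [Category.{v} V] [Preadditive V] [HasBinaryBiproducts V] [HasZeroObject V]
    (X : ℕ → CochainComplex V ℤ) (a : ∀ i, X i ⟶ X (i + 1)) :
    ∃ (B : ℕ → CochainComplex V ℤ) (b : ∀ i, B i ⟶ B (i + 1)) (e : ∀ i, HomotopyEquiv (B i) (X i)),
      (∀ i, b i ≫ (e (i + 1)).hom = (e i).hom ≫ a i) ∧
      (∀ (i : ℕ) (n : ℤ), ∃ (C : V) (ε : (B (i + 1)).X n ≅ (B i).X n ⊞ C), (b i).f n ≫ ε.hom = biprod.inl) ∧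
      ((∀ i, ∃ m : ℤ, (X i).IsStrictlyGE m) → ∀ i, ∃ m : ℤ, (B i).IsStrictlyGE m) ∧
      ((∀ i, ∃ m : ℤ, (X i).IsStrictlyLE m) → ∀ i, ∃ m : ℤ, (B i).IsStrictlyLE m) := by
  classical
  let S : ℕ → Type (max u v) := fun i => Σ (B : CochainComplex V ℤ), HomotopyEquiv B (X i)
  have step : ∀ i (P : S i), ∃ (Q : S (i + 1)) (b : P.1 ⟶ Q.1), b ≫ Q.2.hom = P.2.hom ≫ a i ∧
      (∀ n : ℤ, ∃ (C : V) (ε : Q.1.X n ≅ P.1.X n ⊞ C), b.f n ≫ ε.hom = biprod.inl) ∧
      (∀ m : ℤ, P.1.IsStrictlyGE m → (X (i + 1)).IsStrictlyGE m → ∃ m' : ℤ, Q.1.IsStrictlyGE m') ∧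
      (∀ m : ℤ, P.1.IsStrictlyLE m → (X (i + 1)).IsStrictlyLE m → ∃ m' : ℤ, Q.1.IsStrictlyLE m') := by
    intro i P
    obtain ⟨L', α', π, s, h1, h2, ⟨h3⟩, h4, h5, h6⟩ :=
      Groth.Agent.S6598.result P.1 (X (i + 1)) (P.2.hom ≫ a i)
    exact ⟨⟨L', ⟨π, s, h3, Homotopy.ofEq h2⟩⟩, α', h1, h4, h5, h6⟩
  choose Q b hb hsplit hge hle using step
  let P : ∀ i, S i := fun i => Nat.rec (motive := S) ⟨X 0, HomotopyEquiv.refl _⟩ (fun i P => Q i P) i
  refine ⟨fun i => (P i).1, fun i => b i (P i), fun i => (P i).2, fun i => hb i (P i), fun i => hsplit i (P i), ?_, ?_⟩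
  · intro h i
    induction i with
    | zero => exact h 0
    | succ i ih =>
      obtain ⟨m, hm⟩ := ih
      obtain ⟨m', hm'⟩ := h (i + 1)
      exact hge i (P i) (min m m') (CochainComplex.isStrictlyGE_of_ge _ _ m (min_le_left _ _))
        (CochainComplex.isStrictlyGE_of_ge _ _ m' (min_le_right _ _))
  · intro h i
    induction i with
    | zero => exact h 0
    | succ i ih =>
      obtain ⟨m, hm⟩ := ih
      obtain ⟨m', hm'⟩ := h (i + 1)
      exact hle i (P i) (max m m') (CochainComplex.isStrictlyLE_of_le _ m _ (le_max_left _ _))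
        (CochainComplex.isStrictlyLE_of_le _ m' _ (le_max_right _ _))

end Groth.Agent.S6617
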