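import Groth.Statements.S6666
import Mathlib.AlgebraicGeometry.AffineScheme
import Mathlib.AlgebraicGeometry.IdealSheaf.Subscheme
import Mathlib.CategoryTheory.Limits.Connected
import Mathlib.RingTheory.Localization.Ideal
import Mathlib.RingTheory.Spectrum.Prime.RingHom
-- import your own Groth.Agent.* helpers here

set_option autoImplicit false
set_option backward.isDefEq.respectTransparency false
universe u
open CategoryTheory AlgebraicGeometry
open Lim

namespace Groth.Agent.S6666

open CategoryTheory.Limits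

section Zorn

variable {A : Type u} [CommRing A]

/-- The ring `S⁻¹A / I`. -/
abbrev Q (q : Submonoid A × Ideal A) : Type u :=
  Localization q.1 ⧸ q.2.map (algebraMap A (Localization q.1))

theorem Q_ext {q : Submonoid A × Ideal A} {X : Type u} [CommRing X] (f g : Q q →+* X)
    (h : f.comp (algebraMap A (Q q)) = g.comp (algebraMap A (Q q))) : f = g :=
  Ideal.Quotient.ringHom_ext (IsLocalization.ringHom_ext q.1 h)

theorem isUnit_Q (q : Submonoid A × Ideal A) {a : A} (ha : a ∈ q.1) : IsUnit (algebraMap A (Q q) a) := by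
  rw [IsScalarTower.algebraMap_apply A (Localization q.1) (Q q)]
  exact (IsLocalization.map_units _ (⟨a, ha⟩ : q.1)).map _

theorem eq_zero_Q (q : Submonoid A × Ideal A) {a : A} (ha : a ∈ q.2) : algebraMap A (Q q) a = 0 := by
  rw [IsScalarTower.algebraMap_apply A (Localization q.1) (Q q)]
  exact Ideal.Quotient.eq_zero_iff_mem.2 (Ideal.mem_map_of_mem _ ha)

theorem exists_lift (q : Submonoid A × Ideal A) {X : Type u} [CommRing X] (φ : A →+* X)
    (hS : ∀ a ∈ q.1, IsUnit (φ a)) (hI : ∀ a ∈ q.2, φ a = 0) :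
    ∃ f : Q q →+* X, f.comp (algebraMap A (Q q)) = φ := by
  let l : Localization q.1 →+* X := IsLocalization.lift (M := q.1) (fun s => hS s s.2)
  have hl : ∀ a, l (algebraMap A _ a) = φ a := fun a => IsLocalization.lift_eq _ a
  refine ⟨Ideal.Quotient.lift _ l fun x hx => ?_, RingHom.ext fun a => ?_⟩
  · have : q.2.map (algebraMap A (Localization q.1)) ≤ RingHom.ker l :=
      Ideal.map_le_iff_le_comap.2 fun a ha => by
        rw [Ideal.mem_comap, RingHom.mem_ker, hl, hI a ha]
    exact this hx
  · exact hl a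

theorem nontrivial_Q_iff (q : Submonoid A × Ideal A) : Nontrivial (Q q) ↔ Disjoint (q.1 : Set A) q.2 := by
  rw [Ideal.Quotient.nontrivial_iff, IsLocalization.map_algebraMap_ne_top_iff_disjoint q.1]

/-- The transition map. -/
noncomputable def trans {q q' : Submonoid A × Ideal A} (h : q ≤ q') : Q q →+* Q q' :=
  (exists_lift q (algebraMap A (Q q')) (fun _ ha => isUnit_Q q' (h.1 ha)) fun _ ha => eq_zero_Q q' (h.2 ha)).choose

theorem trans_comp {q q' : Submonoid A × Ideal A} (h : q ≤ q') :
    (trans h).comp (algebraMap A (Q q)) = algebraMap A (Q q') :=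
  (exists_lift q (algebraMap A (Q q')) (fun _ ha => isUnit_Q q' (h.1 ha)) fun _ ha => eq_zero_Q q' (h.2 ha)).choose_spec

/-- The rings attached to a set of pairs. -/
noncomputable def sysQ (C : Set (Submonoid A × Ideal A)) : C ⥤ CommRingCat.{u} where
  obj q := CommRingCat.of (Q q.1)
  map f := CommRingCat.ofHom (trans (leOfHom f))
  map_id q := CommRingCat.hom_ext (Q_ext _ _ (by
    simp only [CommRingCat.hom_ofHom, CommRingCat.hom_id]
    rw [trans_comp]; rfl))
  map_comp f g := CommRingCat.hom_ext (Q_ext _ _ (by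
    simp only [CommRingCat.hom_ofHom, CommRingCat.hom_comp]
    rw [trans_comp, RingHom.comp_assoc, trans_comp, trans_comp]))

/-- The cocone of an upper bound. -/
noncomputable def sysCocone (C : Set (Submonoid A × Ideal A)) (u₀ : Submonoid A × Ideal A) (hu : ∀ q ∈ C, q ≤ u₀) :
    Cocone (sysQ C) where
  pt := CommRingCat.of (Q u₀)
  ι :=
    { app := fun q => CommRingCat.ofHom (trans (hu q.1 q.2))
      naturality := fun q q' f => CommRingCat.hom_ext (Q_ext _ _ (by
        show ((trans (hu q'.1 q'.2)).comp (trans (leOfHom f))).comp (algebraMap A (Q q.1)) =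
          ((RingHom.id (Q u₀)).comp (trans (hu q.1 q.2))).comp (algebraMap A (Q q.1))
        rw [RingHom.id_comp]
        rw [RingHom.comp_assoc, trans_comp, trans_comp, trans_comp])) }

theorem nonempty_isColimit (C : Set (Submonoid A × Ideal A)) (hC : IsChain (· ≤ ·) C) (q₀ : C)
    (u₀ : Submonoid A × Ideal A) (hu : ∀ q ∈ C, q ≤ u₀)
    (h1 : ∀ a ∈ u₀.1, ∃ q ∈ C, a ∈ q.1) (h2 : ∀ a ∈ u₀.2, ∃ q ∈ C, a ∈ q.2) :
    Nonempty (IsColimit (sysCocone C u₀ hu)) := by
  have hφ : ∀ (s : Cocone (sysQ C)) (q : C), (s.ι.app q).hom.comp (algebraMap A (Q q.1)) =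
      (s.ι.app q₀).hom.comp (algebraMap A (Q q₀.1)) := by
    intro s q
    rcases hC.total q.2 q₀.2 with h | h
    · have := congrArg (fun k => (CommRingCat.Hom.hom k).comp (algebraMap A (Q q.1))) (s.w (homOfLE (show q ≤ q₀ from h)))
      change ((s.ι.app q₀).hom.comp (trans h)).comp (algebraMap A (Q q.1)) = _ at this
      rw [RingHom.comp_assoc, trans_comp] at this
      exact this.symm
    · have := congrArg (fun k => (CommRingCat.Hom.hom k).comp (algebraMap A (Q q₀.1))) (s.w (homOfLE (show q₀ ≤ q from h)))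
      change ((s.ι.app q).hom.comp (trans h)).comp (algebraMap A (Q q₀.1)) = _ at this
      rw [RingHom.comp_assoc, trans_comp] at this
      exact this
  have hex : ∀ s : Cocone (sysQ C), ∃ f : Q u₀ →+* s.pt,
      f.comp (algebraMap A (Q u₀)) = (s.ι.app q₀).hom.comp (algebraMap A (Q q₀.1)) := fun s =>
    exists_lift u₀ _ (fun a ha => by
        obtain ⟨q, hq, haq⟩ := h1 a ha
        rw [← hφ s ⟨q, hq⟩]
        exact (isUnit_Q q haq).map (s.ι.app ⟨q, hq⟩).hom)
      fun a ha => by
        obtain ⟨q, hq, haq⟩ := h2 a ha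
        rw [← hφ s ⟨q, hq⟩]
        exact (congrArg (s.ι.app ⟨q, hq⟩).hom (eq_zero_Q q haq)).trans (map_zero _)
  refine ⟨{ desc := fun s => CommRingCat.ofHom (hex s).choose, fac := fun s q => ?_, uniq := fun s m hm => ?_ }⟩
  · refine CommRingCat.hom_ext (Q_ext _ _ ?_)
    show ((hex s).choose.comp (trans (hu q.1 q.2))).comp _ = _
    rw [RingHom.comp_assoc, trans_comp, (hex s).choose_spec]
    exact (hφ s q).symm
  · refine CommRingCat.hom_ext (Q_ext _ _ ?_)
    show m.hom.comp _ = (hex s).choose.comp _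
    rw [(hex s).choose_spec, ← hm q₀]
    show _ = (m.hom.comp (trans (hu q₀.1 q₀.2))).comp _
    rw [RingHom.comp_assoc, trans_comp]

theorem surjective_trans {q q' : Submonoid A × Ideal A} (h : q ≤ q') (h' : q'.1 = q.1) :
    Function.Surjective (trans h) := by
  obtain ⟨S, I⟩ := q
  obtain ⟨S', I'⟩ := q'
  obtain rfl : S' = S := h'
  have e : trans h = Ideal.Quotient.factor (Ideal.map_mono h.2) := Q_ext _ _ (by
    rw [trans_comp]
    refine RingHom.ext fun a => ?_
    rw [RingHom.comp_apply, IsScalarTower.algebraMap_apply A (Localization S') (Q (S', I)),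
      IsScalarTower.algebraMap_apply A (Localization S') (Q (S', I'))]
    rfl)
  rw [e]
  exact Ideal.Quotient.factor_surjective _

end Zorn

/-- Isomorphic test schemes. -/
theorem prop_of_iso {T : Scheme.{u}} (P : ∀ ⦃T' : Scheme.{u}⦄, (T' ⟶ T) → Prop)
    (h1 : ∀ ⦃T' T'' : Scheme.{u}⦄ (a : T' ⟶ T) (t : T'' ⟶ T') [IsClosedImmersion t] [Surjective t]
      [CompactSpace T'] [QuasiSeparatedSpace T'] [CompactSpace T''] [QuasiSeparatedSpace T''], P (t ≫ a) ↔ P a)
    {T' T'' : Scheme.{u}} (a : T' ⟶ T) (e : T'' ⟶ T') [IsIso e] [CompactSpace T'] [QuasiSeparatedSpace T']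
    [CompactSpace T''] [QuasiSeparatedSpace T''] (b : T'' ⟶ T) (hb : e ≫ a = b) (hP : P b) : P a :=
  (h1 a e).1 (hb ▸ hP)

/-- Let T be a nonempty quasi-compact quasi-separated scheme and P a property of schemes over T (applied
to quasi-compact quasi-separated ones). Assume: (1) for every thickening T'' → T' (a surjective
closed immersion) of quasi-compact quasi-separated schemes over T, P(T'') if and only if P(T'); (2)
if a scheme T' over T is a limit (in schemes over T) of a cofiltered system of quasi-compact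
quasi-separated schemes over T with affine transition morphisms and P holds for every member, then
P(T'); (3) if T' is quasi-compact quasi-separated over T with P(T') and Z ⊂ T' is a closed subscheme
whose open complement V is quasi-compact, then P(V) or P(Z). Then P(T) implies P(Spec K → T) for
some field K and some morphism Spec K → T. (The published statement does not require T nonempty; for
T empty and P identically true there is no morphism from the spectrum of a field to T, so
nonemptiness is assumed here.) -/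
theorem result (T : Scheme.{u}) [CompactSpace T] [QuasiSeparatedSpace T]
    [Nonempty T] (P : ∀ ⦃T' : Scheme.{u}⦄, (T' ⟶ T) → Prop)
    (h1 : ∀ ⦃T' T'' : Scheme.{u}⦄ (a : T' ⟶ T) (t : T'' ⟶ T') [IsClosedImmersion t] [Surjective t]
      [CompactSpace T'] [QuasiSeparatedSpace T'] [CompactSpace T''] [QuasiSeparatedSpace T''], P (t ≫ a) ↔ P a)
    (h2 : ∀ ⦃I : Type u⦄ [SmallCategory I] [IsCofiltered I] (D : I ⥤ Over T) (c : Limits.Cone D) (_ : Limits.IsLimit c),
      (∀ (i j : I) (m : i ⟶ j), IsAffineHom (D.map m).left) →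
      (∀ i, CompactSpace (D.obj i).left ∧ QuasiSeparatedSpace (D.obj i).left) →
      (∀ i, P (D.obj i).hom) → P c.pt.hom)
    (h3 : ∀ ⦃T' Z V : Scheme.{u}⦄ (a : T' ⟶ T) [CompactSpace T'] [QuasiSeparatedSpace T'] (i : Z ⟶ T') [IsClosedImmersion i]
      (j : V ⟶ T') [IsOpenImmersion j] [CompactSpace V], Set.range j = (Set.range i)ᶜ → P a → P (j ≫ a) ∨ P (i ≫ a))
    (hT : P (𝟙 T)) :
    ∃ (K : Type u) (_ : Field K) (t : Spec (CommRingCat.of K) ⟶ T), P t := by
  classical
  -- reduce to an affine scheme
  have haffine : ∀ (n : ℕ) {T' : Scheme.{u}} (a : T' ⟶ T) [CompactSpace T'] [QuasiSeparatedSpace T'] [Nonempty T'],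
      (∃ U : Fin n → T'.Opens, (∀ i, IsAffineOpen (U i)) ∧ ∀ x, ∃ i, x ∈ U i) → P a →
      ∃ (A : CommRingCat.{u}) (_ : Nontrivial A) (s : Spec A ⟶ T), P s := by
    intro n
    induction n with
    | zero =>
      intro T' a _ _ _ hU _
      obtain ⟨U, -, hU⟩ := hU
      exact (hU (Classical.arbitrary T')).elim fun i _ => i.elim0
    | succ n ih =>
      intro T' a _ _ _ hU hP
      obtain ⟨U, hUa, hU⟩ := hU
      have hdone : ∀ (V : T'.Opens), IsAffineOpen V → Nonempty (V : Scheme.{u}) → P (V.ι ≫ a) →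
          ∃ (A : CommRingCat.{u}) (_ : Nontrivial A) (s : Spec A ⟶ T), P s := by
        intro V hV hne hPV
        haveI : IsAffine (V : Scheme.{u}) := hV
        haveI : Nonempty (Spec Γ((V : Scheme.{u}), ⊤)) := hne.map (V : Scheme.{u}).isoSpec.hom
        haveI : Nontrivial Γ((V : Scheme.{u}), ⊤) := PrimeSpectrum.nonempty_iff_nontrivial.1 this
        exact ⟨Γ((V : Scheme.{u}), ⊤), inferInstance, (V : Scheme.{u}).isoSpec.inv ≫ V.ι ≫ a,
          prop_of_iso P h1 _ (V : Scheme.{u}).isoSpec.hom (V.ι ≫ a) (by simp) hPV⟩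
      let V := U 0
      let I := Scheme.IdealSheafData.vanishingIdeal (X := T') ⟨(V : Set T')ᶜ, V.2.isClosed_compl⟩
      let i := I.subschemeι
      haveI : QuasiSeparatedSpace (V : Scheme.{u}) := quasiSeparatedSpace_of_quasiSeparated V.ι
      haveI hVc : CompactSpace (V : Scheme.{u}) := isCompact_iff_compactSpace.mp (hUa 0).isCompact
      haveI : CompactSpace I.subscheme := QuasiCompact.compactSpace_of_compactSpace i
      haveI : QuasiSeparatedSpace I.subscheme := quasiSeparatedSpace_of_quasiSeparated i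
      have hrange : Set.range V.ι = (Set.range i)ᶜ := by
        rw [Scheme.Opens.range_ι, Scheme.IdealSheafData.range_subschemeι, Scheme.IdealSheafData.coe_support_vanishingIdeal]
        exact (compl_compl _).symm
      -- the complement, covered by the other opens
      have hZ : ∀ (_ : Nonempty I.subscheme), P (i ≫ a) →
          ∃ (A : CommRingCat.{u}) (_ : Nontrivial A) (s : Spec A ⟶ T), P s := fun _ hPZ =>
        ih (i ≫ a) ⟨fun k => i ⁻¹ᵁ U k.succ, fun k => (hUa k.succ).preimage i, fun z => by
          obtain ⟨k, hk⟩ := hU (i z)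
          induction k using Fin.cases with
          | zero =>
            exfalso
            have hz : i z ∈ (Set.range i)ᶜ := by
              rw [← hrange, Scheme.Opens.range_ι]; exact hk
            exact hz ⟨z, rfl⟩
          | succ k => exact ⟨k, hk⟩⟩ hPZ
      by_cases hVne : Nonempty (V : Scheme.{u})
      · by_cases hZne : Nonempty I.subscheme
        · rcases h3 a i V.ι hrange hP with h | h
          · exact hdone V (hUa 0) hVne h
          · exact hZ hZne h
        · have htop : Set.range V.ι = Set.univ := by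
            rw [hrange, Set.compl_univ_iff, Set.range_eq_empty_iff]
            exact not_nonempty_iff.1 hZne
          haveI : Surjective V.ι := ⟨Set.range_eq_univ.1 htop⟩
          haveI : IsIso V.ι := isIso_of_isOpenImmersion_of_opensRange_eq_top V.ι (TopologicalSpace.Opens.ext (htop.trans (TopologicalSpace.Opens.coe_top).symm))
          exact hdone V (hUa 0) hVne (prop_of_iso P h1 _ (inv V.ι) a (by simp) hP)
      · have hsurj : Surjective i := ⟨Set.range_eq_univ.1 (by
          rw [← compl_compl (Set.range i), ← hrange, Set.compl_univ_iff.2]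
          rw [Set.range_eq_empty_iff]
          exact not_nonempty_iff.1 hVne)⟩
        obtain ⟨z, -⟩ := hsurj.surj (Classical.arbitrary T')
        exact hZ ⟨z⟩ ((h1 a i).2 hP)
  obtain ⟨A, hA, s, hs⟩ : ∃ (A : CommRingCat.{u}) (_ : Nontrivial A) (s : Spec A ⟶ T), P s := by
    obtain ⟨F, hF⟩ := isCompact_univ.elim_finite_subcover (fun U : T.affineOpens => ((U : T.Opens) : Set T))
      (fun U => U.1.2) (fun x _ => by
        obtain ⟨U, hU, hxU, -⟩ := exists_isAffineOpen_mem_and_subset (x := x) (U := ⊤) trivial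
        exact Set.mem_iUnion.2 ⟨⟨U, hU⟩, hxU⟩)
    refine haffine F.card (𝟙 T) ⟨fun k => (F.equivFin.symm k).1.1, fun k => (F.equivFin.symm k).1.2, fun x => ?_⟩ hT
    obtain ⟨U, hU, hxU⟩ := Set.mem_iUnion₂.1 (hF (Set.mem_univ x))
    exact ⟨F.equivFin ⟨U, hU⟩, by
      show x ∈ (F.equivFin.symm (F.equivFin ⟨U, hU⟩)).1.1
      rw [Equiv.symm_apply_apply]; exact hxU⟩
  -- Zorn
  let sp : ∀ q : Submonoid A × Ideal A, Spec (CommRingCat.of (Q q)) ⟶ T := fun q =>
    Spec.map (CommRingCat.ofHom (algebraMap A (Q q))) ≫ s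
  let 𝒮 : Set (Submonoid A × Ideal A) := {q | Nontrivial (Q q) ∧ P (sp q)}
  have h0 : ((⊥, ⊥) : Submonoid A × Ideal A) ∈ 𝒮 := by
    let q : Submonoid A × Ideal A := (⊥, ⊥)
    obtain ⟨g, hg⟩ := exists_lift q (RingHom.id A) (fun a ha => by
        obtain rfl := Submonoid.mem_bot.1 ha; exact isUnit_one) (fun a ha => (Submodule.mem_bot A).1 ha)
    have hg' : (algebraMap A (Q q)).comp g = RingHom.id _ := Q_ext _ _ (by
      rw [RingHom.comp_assoc, hg]; rfl)
    haveI : IsIso (CommRingCat.ofHom g : CommRingCat.of (Q q) ⟶ A) :=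
      ⟨CommRingCat.ofHom (algebraMap A (Q q)), CommRingCat.hom_ext hg', CommRingCat.hom_ext hg⟩
    refine ⟨(nontrivial_Q_iff q).2 ?_, prop_of_iso P h1 _ (Spec.map (CommRingCat.ofHom g)) s ?_ hs⟩
    · exact Set.disjoint_left.2 fun a ha ha' => one_ne_zero (α := A) (by
        obtain rfl := Submonoid.mem_bot.1 ha; exact (Submodule.mem_bot A).1 ha')
    · have e : CommRingCat.ofHom (algebraMap A (Q q)) ≫ CommRingCat.ofHom g = 𝟙 A := CommRingCat.hom_ext hg
      rw [← Category.assoc, ← Spec.map_comp, e]
      erw [Spec.map_id, Category.id_comp]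
  obtain ⟨m, -, hmmax⟩ := zorn_le_nonempty₀ 𝒮 (fun C hC𝒮 hC q₀ hq₀ => by
    have hne : C.Nonempty := ⟨q₀, hq₀⟩
    have hd1 : DirectedOn (· ≤ ·) (Prod.fst '' C) :=
      (IsChain.image_of_map_rel _ _ Prod.fst (fun _ _ h => h.1) hC).directedOn
    have hd2 : DirectedOn (· ≤ ·) (Prod.snd '' C) :=
      (IsChain.image_of_map_rel _ _ Prod.snd (fun _ _ h => h.2) hC).directedOn
    let u₀ : Submonoid A × Ideal A := (sSup (Prod.fst '' C), sSup (Prod.snd '' C))
    have hu : ∀ q ∈ C, q ≤ u₀ := fun q hq => ⟨le_sSup ⟨q, hq, rfl⟩, le_sSup ⟨q, hq, rfl⟩⟩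
    have h1' : ∀ a ∈ u₀.1, ∃ q ∈ C, a ∈ q.1 := fun a ha => by
      obtain ⟨_, ⟨q, hq, rfl⟩, haq⟩ := (Submonoid.mem_sSup_of_directedOn (hne.image _) hd1).1 ha
      exact ⟨q, hq, haq⟩
    have h2' : ∀ a ∈ u₀.2, ∃ q ∈ C, a ∈ q.2 := fun a ha => by
      obtain ⟨_, ⟨q, hq, rfl⟩, haq⟩ := (Submodule.mem_sSup_of_directed (hne.image _) hd2).1 ha
      exact ⟨q, hq, haq⟩
    refine ⟨u₀, ⟨(nontrivial_Q_iff u₀).2 (Set.disjoint_left.2 fun a ha ha' => ?_), ?_⟩, hu⟩
    · obtain ⟨q, hq, haq⟩ := h1' a ha
      obtain ⟨q', hq', haq'⟩ := h2' a ha'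
      rcases hC.total hq hq' with h | h
      · exact Set.disjoint_left.1 ((nontrivial_Q_iff q').1 (hC𝒮 hq').1) (h.1 haq) haq'
      · exact Set.disjoint_left.1 ((nontrivial_Q_iff q).1 (hC𝒮 hq).1) haq (h.2 haq')
    · haveI : Nonempty C := ⟨⟨q₀, hq₀⟩⟩
      haveI : IsDirectedOrder C := ⟨fun a b => by
        rcases hC.total a.2 b.2 with h | h
        · exact ⟨b, h, le_rfl⟩
        · exact ⟨a, le_rfl, h⟩⟩
      obtain ⟨hcol⟩ := nonempty_isColimit C hC ⟨q₀, hq₀⟩ u₀ hu h1' h2'
      let G : (↥C)ᵒᵖ ⥤ Scheme.{u} := (sysQ C).op ⋙ Scheme.Spec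
      have hw : ∀ {q q' : (↥C)ᵒᵖ} (f : q ⟶ q'), G.map f ≫ sp q'.unop.1 = sp q.unop.1 := fun {q q'} f => by
        show Spec.map (CommRingCat.ofHom (trans _)) ≫ Spec.map _ ≫ s = Spec.map _ ≫ s
        rw [← Spec.map_comp_assoc, ← CommRingCat.ofHom_comp, trans_comp]
      let D : (↥C)ᵒᵖ ⥤ Over T := G.toOver T (fun q => sp q.unop.1) hw
      let c : Cone D :=
        { pt := Over.mk (sp u₀)
          π :=
            { app := fun q => Over.homMk (Spec.map (CommRingCat.ofHom (trans (hu q.unop.1 q.unop.2)))) (by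
                show Spec.map _ ≫ Spec.map _ ≫ s = Spec.map _ ≫ s
                rw [← Spec.map_comp_assoc, ← CommRingCat.ofHom_comp, trans_comp])
              naturality := fun q q' f => by
                apply Over.OverMorphism.ext
                show 𝟙 _ ≫ Spec.map (CommRingCat.ofHom (trans (hu q'.unop.1 q'.unop.2))) =
                  Spec.map (CommRingCat.ofHom (trans (hu q.unop.1 q.unop.2))) ≫ Spec.map (CommRingCat.ofHom (trans (leOfHom f.unop)))
                rw [Category.id_comp, ← Spec.map_comp, ← CommRingCat.ofHom_comp]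
                congr 2
                exact (Q_ext _ _ (by rw [RingHom.comp_assoc, trans_comp, trans_comp, trans_comp])).symm } }
      haveI : IsCofiltered (↥C)ᵒᵖ := inferInstance
      haveI : IsConnected (↥C)ᵒᵖ := IsCofiltered.isConnected _
      have hlim : IsLimit ((Over.forget T).mapCone c) := isLimitOfPreserves Scheme.Spec hcol.op
      exact h2 D c (isLimitOfReflects (Over.forget T) hlim)
        (fun q q' f => by
          show IsAffineHom (Spec.map (CommRingCat.ofHom (trans _)))
          infer_instance)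
        (fun q => ⟨inferInstanceAs (CompactSpace (Spec (CommRingCat.of (Q q.unop.1)))),
          inferInstanceAs (QuasiSeparatedSpace (Spec (CommRingCat.of (Q q.unop.1))))⟩)
        (fun q => (hC𝒮 q.unop.2).2)) _ h0
  obtain ⟨⟨hmne, hmP⟩, hmmax⟩ := hmmax
  let B := Q m
  haveI : Nontrivial B := hmne
  have hkey : ∀ a : A, IsUnit (algebraMap A B a) ∨ algebraMap A B a = 0 := by
    intro a
    by_contra hcon
    rw [not_or] at hcon
    obtain ⟨hu, hz⟩ := hcon
    let x := algebraMap A B a
    let q₂ : Submonoid A × Ideal A := (m.1, m.2 ⊔ Ideal.span {a})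
    have hle₂ : m ≤ q₂ := ⟨le_rfl, le_sup_left⟩
    have hnot₂ : q₂ ∉ 𝒮 := fun h => hz (eq_zero_Q m ((hmmax h hle₂).2 (Ideal.mem_sup_right (Ideal.mem_span_singleton_self a))))
    have hrange : Set.range (Spec.map (CommRingCat.ofHom (trans hle₂))) = PrimeSpectrum.zeroLocus {x} := by
      have hker : RingHom.ker (trans hle₂) = Ideal.span {x} := by
        refine le_antisymm ?_ ((Ideal.span_singleton_le_iff_mem _).2 ?_)
        · let φ : A →+* B ⧸ Ideal.span {x} := (Ideal.Quotient.mk (Ideal.span {x})).comp (algebraMap A B)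
          obtain ⟨g, hg⟩ := exists_lift (X := B ⧸ Ideal.span {x}) q₂ φ
            (fun b hb => ((isUnit_Q m hb).map (Ideal.Quotient.mk (Ideal.span {x})))) (fun b hb => by
              have : q₂.2 ≤ RingHom.ker ((Ideal.Quotient.mk (Ideal.span {x})).comp (algebraMap A B)) :=
                sup_le (fun b hb => by rw [RingHom.mem_ker, RingHom.comp_apply, eq_zero_Q m hb, map_zero])
                  ((Ideal.span_singleton_le_iff_mem _).2 (Ideal.Quotient.eq_zero_iff_mem.2 (Ideal.mem_span_singleton_self x)))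
              exact this hb)
          have hg' : g.comp (trans hle₂) = Ideal.Quotient.mk (Ideal.span {x}) := Q_ext _ _ (by
            rw [RingHom.comp_assoc, trans_comp, hg])
          intro b hb
          rw [← Ideal.Quotient.eq_zero_iff_mem, ← hg', RingHom.comp_apply, RingHom.mem_ker.1 hb, map_zero]
        · rw [RingHom.mem_ker, show trans hle₂ x = algebraMap A (Q q₂) a from RingHom.congr_fun (trans_comp hle₂) a]
          exact eq_zero_Q q₂ (Ideal.mem_sup_right (Ideal.mem_span_singleton_self a))
      have hsurj : Function.Surjective (trans hle₂) := surjective_trans hle₂ rfl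
      show Set.range (PrimeSpectrum.comap (trans hle₂)) = _
      rw [range_comap_of_surjective _ _ hsurj, hker, PrimeSpectrum.zeroLocus_span]
    haveI : IsClosedImmersion (Spec.map (CommRingCat.ofHom (trans hle₂))) :=
      IsClosedImmersion.spec_of_surjective _ (surjective_trans hle₂ rfl)
    have hsp₂ : Spec.map (CommRingCat.ofHom (trans hle₂)) ≫ sp m = sp q₂ := by
      show Spec.map _ ≫ Spec.map _ ≫ s = Spec.map _ ≫ s
      rw [← Spec.map_comp_assoc, ← CommRingCat.ofHom_comp, trans_comp]
    by_cases hnil : IsNilpotent x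
    · haveI : Surjective (Spec.map (CommRingCat.ofHom (trans hle₂))) := ⟨Set.range_eq_univ.1 (by
        rw [hrange, Set.eq_univ_iff_forall]
        intro p
        rw [PrimeSpectrum.mem_zeroLocus, Set.singleton_subset_iff]
        exact p.2.mem_of_pow_mem _ (hnil.choose_spec ▸ p.asIdeal.zero_mem))⟩
      have h := (h1 (sp m) (Spec.map (CommRingCat.ofHom (trans hle₂)))).2 hmP
      rw [hsp₂] at h
      refine hnot₂ ⟨?_, h⟩
      obtain ⟨p⟩ : Nonempty (PrimeSpectrum B) := PrimeSpectrum.nonempty_iff_nontrivial.2 hmne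
      obtain ⟨p', -⟩ := (inferInstance : Surjective (Spec.map (CommRingCat.ofHom (trans hle₂)))).surj p
      exact PrimeSpectrum.nonempty_iff_nontrivial.1 ⟨p'⟩
    · let j : Spec (CommRingCat.of (Localization.Away x)) ⟶ Spec (CommRingCat.of B) :=
        Spec.map (CommRingCat.ofHom (algebraMap B (Localization.Away x)))
      haveI : IsOpenImmersion j := IsOpenImmersion.of_isLocalization x
      have hj : Set.range j = (PrimeSpectrum.basicOpen x : Set (PrimeSpectrum B)) :=
        PrimeSpectrum.localization_away_comap_range (Localization.Away x) x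
      rcases h3 (sp m) (Spec.map (CommRingCat.ofHom (trans hle₂))) j (by
          rw [hj, hrange, PrimeSpectrum.basicOpen_eq_zeroLocus_compl]) hmP with h | h
      · let q₁ : Submonoid A × Ideal A := (m.1 ⊔ Submonoid.powers a, m.2)
        have hle₁ : m ≤ q₁ := ⟨le_sup_left, le_rfl⟩
        have ha₁ : a ∈ q₁.1 := Submonoid.mem_sup_right (Submonoid.mem_powers a)
        obtain ⟨g, hg⟩ := exists_lift q₁ ((algebraMap B (Localization.Away x)).comp (algebraMap A B))
          (fun b hb => by
            have : q₁.1 ≤ (IsUnit.submonoid _).comap ((algebraMap B (Localization.Away x)).comp (algebraMap A B)) :=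
              sup_le (fun b hb => (isUnit_Q m hb).map (algebraMap B _))
                ((Submonoid.powers_le).2 (IsLocalization.Away.algebraMap_isUnit (S := Localization.Away x) x))
            exact this hb)
          (fun b hb => by rw [RingHom.comp_apply, eq_zero_Q m hb, map_zero])
        have hax : IsUnit (trans hle₁ x) := by
          rw [show trans hle₁ x = algebraMap A (Q q₁) a from RingHom.congr_fun (trans_comp hle₁) a]
          exact isUnit_Q q₁ ha₁
        let g' : Localization.Away x →+* Q q₁ := IsLocalization.Away.lift x hax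
        have hg'x : g'.comp (algebraMap B (Localization.Away x)) = trans hle₁ := IsLocalization.Away.lift_comp x hax
        have e1 : g'.comp g = RingHom.id _ := Q_ext _ _ (by
          rw [RingHom.comp_assoc, hg, ← RingHom.comp_assoc, hg'x, trans_comp]; rfl)
        have e2 : g.comp g' = RingHom.id _ := IsLocalization.ringHom_ext (Submonoid.powers x) (by
          rw [RingHom.comp_assoc, hg'x]
          refine Q_ext _ _ ?_
          rw [RingHom.comp_assoc, trans_comp, hg]
          rfl)
        haveI : IsIso (CommRingCat.ofHom g' : CommRingCat.of (Localization.Away x) ⟶ CommRingCat.of (Q q₁)) :=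
          ⟨CommRingCat.ofHom g, CommRingCat.hom_ext e2, CommRingCat.hom_ext e1⟩
        have hsp₁ : Spec.map (CommRingCat.ofHom g') ≫ j ≫ sp m = sp q₁ := by
          show Spec.map _ ≫ Spec.map _ ≫ Spec.map _ ≫ s = Spec.map _ ≫ s
          rw [← Spec.map_comp_assoc, ← Spec.map_comp_assoc, ← CommRingCat.ofHom_comp, ← CommRingCat.ofHom_comp]
          congr 3
          rw [hg'x, trans_comp]
        have hP₁ : P (sp q₁) := by
          rw [← hsp₁]
          exact (h1 _ _).2 h
        have hne₁ : Nontrivial (Q q₁) := by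
          haveI : Nontrivial (Localization.Away x) := not_subsingleton_iff_nontrivial.1 fun h => hnil (by
            obtain ⟨⟨_, n, rfl⟩, hc⟩ := (IsLocalization.eq_iff_exists (Submonoid.powers x) (Localization.Away x)).1
              (Subsingleton.elim (algebraMap B (Localization.Away x) 1) (algebraMap B (Localization.Away x) 0))
            exact ⟨n, by simpa using hc⟩)
          exact g.domain_nontrivial
        exact hu (isUnit_Q m ((hmmax ⟨hne₁, hP₁⟩ hle₁).1 ha₁))
      · rw [hsp₂] at h
        refine hnot₂ ⟨?_, h⟩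
        by_contra hne
        haveI := not_nontrivial_iff_subsingleton.1 hne
        have he : Set.range (Spec.map (CommRingCat.ofHom (trans hle₂))) = ∅ := by
          rw [Set.range_eq_empty_iff]
          exact inferInstanceAs (IsEmpty (PrimeSpectrum (Q q₂)))
        rw [hrange] at he
        exact hu (Ideal.span_singleton_eq_top.1 (PrimeSpectrum.zeroLocus_empty_iff_eq_top.1
          ((PrimeSpectrum.zeroLocus_span {x}).trans he)))
  have hfield : IsField B := by
    refine ⟨exists_pair_ne B, mul_comm, fun {b} hb0 => IsUnit.exists_right_inv ?_⟩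
    suffices h : IsUnit b ∨ b = 0 from h.resolve_right hb0
    clear hb0
    obtain ⟨y, rfl⟩ := Ideal.Quotient.mk_surjective b
    obtain ⟨a, t, rfl⟩ := IsLocalization.exists_mk'_eq m.1 y
    have e : Ideal.Quotient.mk _ (IsLocalization.mk' (Localization m.1) a t) * algebraMap A B t = algebraMap A B a := by
      rw [IsScalarTower.algebraMap_apply A (Localization m.1) B, IsScalarTower.algebraMap_apply A (Localization m.1) B]
      show Ideal.Quotient.mk _ _ * Ideal.Quotient.mk _ _ = Ideal.Quotient.mk _ _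
      rw [← map_mul, IsLocalization.mk'_spec]
    rcases hkey a with h | h
    · exact Or.inl (isUnit_of_mul_isUnit_left (e ▸ h))
    · exact Or.inr ((isUnit_Q m t.2).mul_left_eq_zero.1 (e.trans h))
  exact ⟨B, hfield.toField, sp m, hmP⟩

end Groth.Agent.S6666
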