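import Groth.Statements.S6689
import Groth.Agent.EtModLib.ConstrOps
import Groth.Agent.KFlatLib.PsiC
-- import your own Groth.Agent.* helpers here

set_option autoImplicit false
universe u
open CategoryTheory CategoryTheory.Limits AlgebraicGeometry Opposite
attribute [local instance] HasDerivedCategory.standard
open EtModD


namespace Groth.Agent.S6689

/-- Let Λ be a Noetherian ring, f : X → Y a morphism of schemes and K an object of D(Y_et, Λ) whose
cohomology sheaves are all constructible sheaves of Λ-modules. Then all cohomology sheaves of f⁻¹ K
are constructible, where f⁻¹ on derived categories is induced by the exact inverse image functor on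
sheaves of Λ-modules (its left exactness is carried as an instance hypothesis). -/
theorem result (Λ : Type (u + 1)) [CommRing Λ] [IsNoetherianRing Λ] {X Y : Scheme.{u}}
    (f : X ⟶ Y) [PreservesFiniteLimits (EtModW.pull Λ f)] (K : EtModD.D Λ Y)
    (hK : ∀ i : ℤ, EtModW.IsConstructible Λ (EtModD.HD K i)) (i : ℤ) :
    EtModW.IsConstructible Λ (EtModD.HD ((EtModW.pull Λ f).mapDerivedCategory.obj K) i) := by
  obtain ⟨_, _, _⟩ := Groth.Agent.EtModLib.preservesFiniteLimits_pull (Λ := Λ) f
  exact Groth.Agent.EtModLib.isConstructible_of_iso
    ((Groth.Agent.KFlatLib.mapDCHomologyIso (EtModW.pull Λ f) i).app K).symm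
    (Groth.Agent.EtModLib.isConstructible_pull f (hK i))

end Groth.Agent.S6689
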