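import Groth.Statements.S6692
import Groth.Agent.ClosedAffAcyc.Cech
import Groth.Agent.ClosedAffAcyc.Cover

set_option autoImplicit false
universe u
open CategoryTheory CategoryTheory.Limits AlgebraicGeometry Opposite
open EtPBC

namespace Groth.Agent.S6692

/-- Let X be a scheme with affine diagonal (the intersection of any two affine opens is affine) covered
by n + 1 affine opens, i : Z → X a closed immersion, A a torsion sheaf of rings on the small etale
site of X (every local section is, etale locally around each point, of finite additive order) and I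
an injective object of the category of sheaves of A-modules. Then the etale cohomology H^q(Z, i⁻¹ I)
of the underlying abelian sheaf of I restricted to Z vanishes for every q > n. -/
theorem result (X : Scheme.{u}) (n : ℕ)
    (hΔ : ∀ U V : X.Opens, IsAffineOpen U → IsAffineOpen V → IsAffineOpen (U ⊓ V))
    (W : Fin (n + 1) → X.Opens) (hW : ∀ k, IsAffineOpen (W k)) (hcov : ⨆ k, W k = ⊤)
    {Z : Scheme.{u}} (i : Z ⟶ X) [IsClosedImmersion i]
    (A : Sheaf X.smallEtaleTopology RingCat.{u + 1})
    (hA : ∀ (U : X.Etale) (s : A.val.obj (op U)) (x : U.left), ∃ (V : X.Etale) (g : V ⟶ U),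
      (∃ v : V.left, g.left.base v = x) ∧ IsOfFinAddOrder (A.val.map g.op s))
    (I : SheafOfModules.{u + 1} A) [Injective I] (q : ℕ) (hq : n < q) :
    Subsingleton (EtCoh.H Z ((EtCoh.pull i).obj ((SheafOfModules.toSheaf A).obj I)) q) := by
  refine Groth.Agent.ClosedAffAcyc.subsingleton_H_cover n X hΔ W hW hcov i _ (fun U s x => ?_)
    (Groth.Agent.ClosedAffAcyc.affAcyclic_of_isCechAcyclic _
      (Groth.Agent.ClosedAffAcyc.isCechAcyclic_toSheaf A I)) q hq
  obtain ⟨V, g, hv, hfin⟩ := hA U (1 : A.obj.obj (op U)) x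
  obtain ⟨m, hm, hm0⟩ := isOfFinAddOrder_iff_nsmul_eq_zero.1 hfin
  refine ⟨V, g, hv, isOfFinAddOrder_iff_nsmul_eq_zero.2 ⟨m, hm, ?_⟩⟩
  have h1 : m • (1 : A.obj.obj (op V)) = 0 := by
    rw [← map_one (A.obj.map g.op).hom]
    exact hm0
  let t : I.val.obj (op V) := I.val.map g.op s
  show m • t = 0
  rw [← one_smul (A.obj.obj (op V)) t, ← smul_assoc, h1, zero_smul]

end Groth.Agent.S6692
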