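import Groth.Statements.S6698
import Groth.Agent.EtBCD5.Etale
-- import your own Groth.Agent.* helpers here

set_option autoImplicit false
set_option backward.isDefEq.respectTransparency false
set_option backward.isDefEq.respectTransparency.types false
universe u
open CategoryTheory CategoryTheory.Limits AlgebraicGeometry Opposite
attribute [local instance] HasDerivedCategory.standard
open EtBC

attribute [-instance] CategoryTheory.catToReflQuiver

namespace Groth.Agent.S6698

open Groth.Agent.EtBCD5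

/-- Let Y = X ×_S T be a cartesian square of schemes with f : X → S, g : T → S, h : Y → X, e : Y → T,
and K an object of D(T_et). Let (U_i → X) be a jointly surjective family of etale X-schemes such
that every U_i → S factors as a_i : U_i → V_i followed by an etale V_i → S, and let T_i = V_i ×_S T
(projections g_i, t_i) and Y_i = U_i ×_{V_i} T_i (projections h_i, e_i). If for every i the base
change morphism a_i⁻¹ Rg_i,_* (t_i⁻¹ K) → Rh_i,_* e_i⁻¹ (t_i⁻¹ K) is an isomorphism, then the base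
change morphism f⁻¹ Rg_* K → Rh_* e⁻¹ K is an isomorphism. (Unbounded derived direct images exist
under the stated binders; each base change morphism is the transpose under an adjunction between
inverse image and derived direct image on derived categories, supplied as data; left exactness of
the inverse images is carried as instance hypotheses.) -/
theorem result {X S Y T : Scheme.{u}} (f : X ⟶ S) (g : T ⟶ S) (h : Y ⟶ X) (e : Y ⟶ T)
    (c : IsPullback e h g f) [PreservesFiniteLimits (EtCoh.pull e)] [PreservesFiniteLimits (EtCoh.pull f)]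
    [DCoh.HasRpushEt T g] [DCoh.HasRpushEt Y h] [DCoh.HasRpushEt X f] (adj : EtBC.pullD f ⊣ DCoh.RpushEt X f)
    (K : DCoh.DEt T)
    {ι : Type u} (U : ι → X.Etale) (hU : EtCoh.Covers U) (V : ι → S.Etale)
    (a : ∀ i, (U i).left ⟶ (V i).left) (ha : ∀ i, a i ≫ (V i).hom = (U i).hom ≫ f)
    (Ti Yi : ι → Scheme.{u}) (gi : ∀ i, Ti i ⟶ (V i).left) (ti : ∀ i, Ti i ⟶ T)
    (cT : ∀ i, IsPullback (ti i) (gi i) g (V i).hom)
    (hi : ∀ i, Yi i ⟶ (U i).left) (ei : ∀ i, Yi i ⟶ Ti i) (cY : ∀ i, IsPullback (ei i) (hi i) (gi i) (a i))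
    [∀ i, PreservesFiniteLimits (EtCoh.pull (ei i))] [∀ i, PreservesFiniteLimits (EtCoh.pull (a i))]
    [∀ i, PreservesFiniteLimits (EtCoh.pull (ti i))]
    [∀ i, DCoh.HasRpushEt (Ti i) (gi i)] [∀ i, DCoh.HasRpushEt (Yi i) (hi i)] [∀ i, DCoh.HasRpushEt (U i).left (a i)]
    (adji : ∀ i, EtBC.pullD (a i) ⊣ DCoh.RpushEt (U i).left (a i))
    (hloc : ∀ i, IsIso (EtBC.bcMap (gi i) (a i) (hi i) (ei i) (cY i).w (adji i) ((EtBC.pullD (ti i)).obj K))) :
    IsIso (EtBC.bcMap g f h e c.w adj K) := by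
  obtain ⟨I, hI, ⟨eK⟩⟩ := exists_kinj_iso K
  obtain ⟨J, s, hJ, hs⟩ := exists_kinj ((pullC e).obj I)
  refine (isIso_bcMap_iff g f h e c.w adj I eK s).2 (quasiIso_of_covers _ U hU fun i => ?_)
  haveI : AlgebraicGeometry.Etale (U i).hom := (U i).prop
  haveI : AlgebraicGeometry.Etale (V i).hom := (V i).prop
  haveI : AlgebraicGeometry.Etale (ti i) := MorphismProperty.of_isPullback (cT i).flip inferInstance
  let u := (U i).hom
  have c₁ : IsPullback (ei i ≫ ti i) (hi i) g (a i ≫ (V i).hom) := (cY i).paste_horiz (cT i)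
  let k : Yi i ⟶ Y := c.lift (ei i ≫ ti i) (hi i ≫ u) (by rw [c₁.w, ha i, Category.assoc])
  have hk1 : k ≫ e = ei i ≫ ti i := c.lift_fst _ _ _
  have hk2 : k ≫ h = hi i ≫ u := c.lift_snd _ _ _
  have ck : IsPullback k (hi i) h u := by
    have big : IsPullback (k ≫ e) (hi i) g (u ≫ f) := by
      rw [hk1]; exact c₁.of_iso (Iso.refl _) (Iso.refl _) (Iso.refl _) (Iso.refl _) (by simp) (by simp) (by simp)
        (by simp [u, ha i])
    exact IsPullback.of_right big hk2 c
  haveI : AlgebraicGeometry.Etale u := (U i).prop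
  haveI : AlgebraicGeometry.Etale k := MorphismProperty.of_isPullback ck.flip ‹AlgebraicGeometry.Etale u›
  haveI := EtLim8.preservesFiniteLimits_pull k
  haveI := EtLim8.preservesFiniteLimits_pull u
  haveI := EtLim8.preservesFiniteLimits_pull (ei i ≫ ti i)
  haveI := EtLim8.preservesFiniteLimits_pull (k ≫ e)
  haveI := isKInjective_pullC_of_etale (ti i) I
  haveI := isKInjective_pullC_of_etale k J
  obtain ⟨N, t, hN, ht⟩ := exists_kinj ((pullC (ei i)).obj ((pullC (ti i)).obj I))
  have qloc := (isIso_bcMap_iff (gi i) (a i) (hi i) (ei i) (cY i).w (adji i) ((pullC (ti i)).obj I)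
    ((EtBC.pullD (ti i)).mapIso eK ≪≫ (EtCoh.pull (ti i)).mapDerivedCategoryFactorsh.app _) t).1 (hloc i)
  have qV := quasiIso_bcC_of_etale g (V i).hom (gi i) (ti i) (cT i) I (𝟙 ((pullC (ti i)).obj I))
  haveI := quasiIso_pullC (a i) (bcC g (V i).hom (gi i) (ti i) (cT i).w I (𝟙 _))
  have q₁ : QuasiIso (bcC g (a i ≫ (V i).hom) (hi i) (ei i ≫ ti i) c₁.w I
      ((pullCompC (ei i) (ti i) I).hom ≫ (pullC (ei i)).map (𝟙 _) ≫ t)) := by
    rw [bcC_vcomp g (V i).hom (gi i) (ti i) (cT i).w (a i) (hi i) (ei i) (cY i).w]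
    infer_instance
  haveI := quasiIso_pullC (ei i) (𝟙 ((pullC (ti i)).obj I))
  haveI := quasiIso_pullC k s
  have w₂ : (k ≫ e) ≫ g = hi i ≫ u ≫ f := by rw [hk1, c₁.w, ha i]
  have q₂ := quasiIso_bcC_congr g (a i ≫ (V i).hom) (hi i) (ei i ≫ ti i) c₁.w (g₂ := u ≫ f) (g₂' := k ≫ e)
    (ha i) hk1.symm w₂ I _ ((pullCompC k e I).hom ≫ (pullC k).map s ≫ 𝟙 ((pullC k).obj J)) q₁
  rw [bcC_vcomp g f h e c.w u (hi i) k ck.w w₂] at q₂
  haveI := quasiIso_bcC_of_etale h u (hi i) k ck J (𝟙 ((pullC k).obj J))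
  have q₃ : QuasiIso ((pullC u).map (bcC g f h e c.w I s) ≫ bcC h u (hi i) k ck.w J (𝟙 _)) :=
    (quasiIso_iff_comp_left (pullCompC u f _).hom _).1 q₂
  exact quasiIso_of_comp_right _ (bcC h u (hi i) k ck.w J (𝟙 _))

end Groth.Agent.S6698
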