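import Groth.Statements.S6699
import Groth.Agent.EtModLib.PresentMod
-- import your own Groth.Agent.* helpers here

set_option autoImplicit false
universe u
open CategoryTheory CategoryTheory.Limits AlgebraicGeometry Opposite
attribute [local instance] HasDerivedCategory.standard
open EtModD

attribute [-instance] CategoryTheory.catToReflQuiver

namespace Groth.Agent.S6699

/-- Let X be a quasi-compact and quasi-separated scheme, Λ a Noetherian ring, K an object of D(X_et, Λ)
and b an integer such that the b-th cohomology sheaf of K is a constructible sheaf of Λ-modules.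
Then there exist finitely many affine schemes U_k with etale morphisms j_k : U_k → X and a morphism
φ : F[-b] → K in D(X_et, Λ), where F is the direct sum of the sheaves j_{k!} Λ (extension by zero of
the constant sheaf Λ on U_k) placed in degree b, such that the map induced by φ on b-th cohomology
sheaves is an epimorphism F → H^b(K). (Continuity of the functors V ↦ (V → U_k → X) between small
etale sites, true for every etale morphism, appears as an instance binder in front of the
extension-by-zero terms.) -/
theorem result (Λ : Type (u + 1)) [CommRing Λ] [IsNoetherianRing Λ] (X : Scheme.{u})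
    [CompactSpace X] [QuasiSeparatedSpace X] (K : EtModD.D Λ X) (b : ℤ)
    (hK : EtModW.IsConstructible Λ (EtModD.HD K b)) :
    ∃ (m : ℕ) (U : Fin m → Scheme.{u}) (j : ∀ k, U k ⟶ X) (_ : ∀ k, Etale (j k)) (_ : ∀ k, IsAffine (U k)),
      ∀ [∀ k, EtShriek.JCont (j k)],
        ∃ φ : (DerivedCategory.singleFunctor (EtModW.Mod Λ X) b).obj
              (∐ fun k => (EtSix.extZeroMod Λ (j k)).obj (EtSix.constΛ Λ (U k))) ⟶ K,
          Epi ((DerivedCategory.homologyFunctor (EtModW.Mod Λ X) b).map φ) := by
  obtain ⟨C, ⟨e⟩⟩ : ∃ C, Nonempty (DerivedCategory.Q.obj C ≅ K) :=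
    ⟨DerivedCategory.Q.objPreimage K, ⟨DerivedCategory.Q.objObjPreimageIso K⟩⟩
  have hC : EtModW.IsConstructible Λ (C.homology b) :=
    EtModLib.isConstructible_of_iso (((DerivedCategory.homologyFunctor (EtModW.Mod Λ X) b).mapIso e).symm ≪≫
      (DerivedCategory.homologyFunctorFactors (EtModW.Mod Λ X) b).app C) hK
  haveI : Epi (C.homologyπ b) := inferInstance
  obtain ⟨m, U, j, hj, hU, h⟩ := EtModLib.exists_sum_extZero_lift (C.homologyπ b) hC
  refine ⟨m, U, j, hj, hU, ?_⟩
  intro hJ
  obtain ⟨ψ, hψ⟩ := h
  let g := HomologicalComplex.mkHomFromSingle (ψ ≫ C.iCycles b) (fun k _ => by rw [Category.assoc, C.iCycles_d, comp_zero])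
  have hg : Epi (HomologicalComplex.homologyMap g b) := by
    have hc : HomologicalComplex.cyclesMap g b =
        (HomologicalComplex.singleObjCyclesSelfIso (ComplexShape.up ℤ) b _).hom ≫ ψ := by
      rw [← cancel_mono (C.iCycles b), HomologicalComplex.cyclesMap_i, HomologicalComplex.mkHomFromSingle_f,
        Category.assoc, HomologicalComplex.singleObjCyclesSelfIso_hom, Category.assoc]
    haveI : Epi (HomologicalComplex.cyclesMap g b ≫ C.homologyπ b) := by
      rw [hc, Category.assoc]
      exact @epi_comp _ _ _ _ _ _ inferInstance _ hψ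
    exact epi_of_epi_fac (HomologicalComplex.homologyπ_naturality g b)
  refine ⟨DerivedCategory.Q.map g ≫ e.hom, ?_⟩
  have h1 : Epi ((DerivedCategory.homologyFunctor (EtModW.Mod Λ X) b).map (DerivedCategory.Q.map g)) :=
    ((MorphismProperty.epimorphisms _).arrow_mk_iso_iff
      (Arrow.isoMk ((DerivedCategory.homologyFunctorFactors _ b).app _) ((DerivedCategory.homologyFunctorFactors _ b).app C)
        ((DerivedCategory.homologyFunctorFactors _ b).hom.naturality g).symm)).2 hg
  rw [Functor.map_comp]
  exact @epi_comp _ _ _ _ _ _ h1 _ inferInstance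

end Groth.Agent.S6699
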