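import Groth.Statements.S6700
import Groth.Agent.EtModLib.PresentMod
import Groth.Agent.EtFound.ConstStalk
import Groth.Agent.H6HomAlg.Resolve
import Groth.Agent.TriCat.ResolveOp
import Groth.Agent.KFlatLib.PsiC
-- import your own Groth.Agent.* helpers here

set_option autoImplicit false
universe u
open CategoryTheory CategoryTheory.Limits AlgebraicGeometry Opposite
attribute [local instance] HasDerivedCategory.standard
open EtModD

attribute [-instance] CategoryTheory.catToReflQuiver

namespace Groth.Agent.S6700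

open Groth.Agent.EtModLib

set_option backward.isDefEq.respectTransparency false
set_option backward.isDefEq.respectTransparency.types false

attribute [local instance] CategoryTheory.Abelian.hasFiniteBiproducts

variable {Λ : Type (u + 1)} [CommRing Λ] {X : Scheme.{u}}

/-- the constant sheaf `Λ` is constructible -/
theorem isConstructible_constΛ (U : Scheme.{u}) : EtModW.IsConstructible Λ (EtSix.constΛ Λ U) := by
  have hft : EtModW.IsFTLocConst Λ (EtSix.constΛ Λ U) := by
    rw [isFTLocConst_iff]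
    intro x
    let φ : ModuleCat.of Λ Λ ⟶ (EtSix.constΛ Λ U).obj.obj (op (EtCoh.top U)) :=
      (toSheafify U.smallEtaleTopology ((Functor.const U.Etaleᵒᵖ).obj (ModuleCat.of Λ Λ))).app (op (EtCoh.top U))
    have hφ : EtFound.ConstBy (EtSix.constΛ Λ U) φ := fun Ω _ _ ξ z => by
      have h := EtFound.toSheafify_const_germ_bijective ξ (ModuleCat.{u + 1} Λ) (ModuleCat.of Λ Λ) (EtCoh.top U) z
      exact h
    exact ⟨EtCoh.top U, x, rfl, _, ftConst_range hφ⟩
  refine EtModLib.isConstructible_of_pieces fun V _ y hy => ⟨Set.univ, trivial, ⟨U, 𝟙 U, inferInstance, ?_, ?_⟩, ?_⟩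
  · simp
  · exact isFTLocConst_pull (𝟙 U) hft
  · rw [Set.preimage_univ]
    exact Topology.IsConstructible.univ

/-- finite sums of constructible sheaves are constructible -/
theorem isConstructible_biproduct [IsNoetherianRing Λ] : ∀ {b : ℕ} (E : Fin b → EtModW.Mod Λ X),
    (∀ i, EtModW.IsConstructible Λ (E i)) → EtModW.IsConstructible Λ (⨁ E)
  | 0, E, _ => EtModLib.isConstructible_of_isZero (IsZero.of_iso (isZero_zero _)
      { hom := 0, inv := 0, hom_inv_id := biproduct.hom_ext _ _ fun i => i.elim0, inv_hom_id := (isZero_zero _).eq_of_src _ _ })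
  | b + 1, E, h => by
    let S : ShortComplex (EtModW.Mod Λ X) := ShortComplex.mk (biproduct.ι E 0)
      (biproduct.lift fun i : Fin b => biproduct.π E i.succ)
      (biproduct.hom_ext _ _ fun i => by simp [biproduct.ι_π_ne _ (Fin.succ_ne_zero i).symm])
    let σ : S.Splitting :=
      { r := biproduct.π E 0
        s := biproduct.desc fun i : Fin b => biproduct.ι E i.succ
        f_r := biproduct.ι_π_self E 0
        s_g := by
          refine biproduct.hom_ext' _ _ fun i => biproduct.hom_ext _ _ fun i' => ?_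
          by_cases hi : i = i'
          · subst hi
            simp [S]
          · simp [S, biproduct.ι_π_ne _ hi, biproduct.ι_π_ne _ (fun e => hi (Fin.succ_injective _ e))]
        id := by
          change biproduct.π E 0 ≫ biproduct.ι E 0 + _ = _
          rw [biproduct.lift_desc, ← Fin.sum_univ_succ (f := fun i => biproduct.π E i ≫ biproduct.ι E i)]
          exact biproduct.total }
    exact EtModLib.isConstructible_extension σ.shortExact (h 0) (isConstructible_biproduct _ fun i => h i.succ)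

variable (Λ) in
/-- finite sums of extensions by zero of `Λ` from affine etale schemes -/
def IsSum (M : EtModW.Mod Λ X) : Prop :=
  ∃ (m : ℕ) (U : Fin m → Scheme.{u}) (j : ∀ k, U k ⟶ X) (_ : ∀ k, Etale (j k)) (_ : ∀ k, IsAffine (U k)),
    ∀ [∀ k, EtShriek.JCont (j k)],
      Nonempty (M ≅ ∐ fun k => (EtSix.extZeroMod Λ (j k)).obj (EtSix.constΛ Λ (U k)))

theorem IsSum.isConstructible [IsNoetherianRing Λ] [QuasiSeparatedSpace X] {M : EtModW.Mod Λ X}
    (h : IsSum Λ M) : EtModW.IsConstructible Λ M := by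
  obtain ⟨m, U, j, hj, hU, he⟩ := h
  haveI : ∀ k, EtShriek.JCont (j k) := fun k => EtFound.jCont (j k)
  obtain ⟨e⟩ := he
  refine EtModLib.isConstructible_of_iso (e ≪≫ (biproduct.isoCoproduct _).symm).symm
    (isConstructible_biproduct _ fun k => ?_)
  haveI : QuasiCompact (j k ≫ X.toSpecΓ) := (HasAffineProperty.iff_of_isAffine (P := @QuasiCompact)).mpr inferInstance
  haveI : QuasiCompact (j k) := QuasiCompact.of_comp (j k) X.toSpecΓ
  haveI : QuasiSeparated (j k ≫ X.toSpecΓ) :=
    (HasAffineProperty.iff_of_isAffine (P := @QuasiSeparated)).mpr inferInstance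
  haveI : QuasiSeparated (j k) := QuasiSeparated.of_comp (j k) X.toSpecΓ
  exact EtModLib.isConstructible_extZeroMod (j k) (isConstructible_constΛ (U k))

theorem IsSum.of_iso {M N : EtModW.Mod Λ X} (e : M ≅ N) (h : IsSum Λ M) : IsSum Λ N := by
  obtain ⟨m, U, j, hj, hU, he⟩ := h
  refine ⟨m, U, j, hj, hU, ?_⟩
  intro hJ
  obtain ⟨a⟩ := @he hJ
  exact ⟨e.symm ≪≫ a⟩

theorem IsSum.prod {M N : EtModW.Mod Λ X} (h : IsSum Λ M) (h' : IsSum Λ N) : IsSum Λ (M ⨯ N) := by
  obtain ⟨m, U, j, hj, hU, he⟩ := h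
  obtain ⟨n, V, i, hi, hV, he'⟩ := h'
  let d : Fin m ⊕ Fin n → Σ W : Scheme.{u}, W ⟶ X := Sum.elim (fun k => ⟨U k, j k⟩) (fun k => ⟨V k, i k⟩)
  let W : Fin m ⊕ Fin n → Scheme.{u} := fun k => (d k).1
  let w : ∀ k : Fin m ⊕ Fin n, W k ⟶ X := fun k => (d k).2
  haveI hw : ∀ k : Fin m ⊕ Fin n, Etale (w k) := fun k => by
    cases k with
    | inl k => exact hj k
    | inr k => exact hi k
  have hJw : ∀ k : Fin m ⊕ Fin n, @EtShriek.JCont _ _ (w k) (hw k) := fun k => @EtFound.jCont _ _ (w k) (hw k)
  refine ⟨m + n, fun k => W (finSumFinEquiv.symm k), fun k => w (finSumFinEquiv.symm k), fun k => hw _,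
    fun k => Sum.rec (motive := fun k => IsAffine (W k)) hU hV _, ?_⟩
  intro hJ
  haveI : ∀ k, EtShriek.JCont (j k) := fun k => hJw (.inl k)
  haveI : ∀ k, EtShriek.JCont (i k) := fun k => hJw (.inr k)
  obtain ⟨a⟩ := he
  obtain ⟨b⟩ := he'
  let f : Fin m ⊕ Fin n → EtModW.Mod Λ X := fun k =>
    (EtSix.extZeroMod Λ (w k)).obj (EtSix.constΛ Λ (W k))
  let c : (∐ fun k => f (.inl k)) ⨿ (∐ fun k => f (.inr k)) ≅ ∐ f :=
    { hom := coprod.desc (Sigma.desc fun k => Sigma.ι f (.inl k)) (Sigma.desc fun k => Sigma.ι f (.inr k))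
      inv := Sigma.desc fun k => match k with
        | .inl k => Sigma.ι (fun k => f (.inl k)) k ≫ coprod.inl
        | .inr k => Sigma.ι (fun k => f (.inr k)) k ≫ coprod.inr
      hom_inv_id := by
        refine coprod.hom_ext (Sigma.hom_ext _ _ fun k => ?_) (Sigma.hom_ext _ _ fun k => ?_) <;> simp
      inv_hom_id := by
        refine Sigma.hom_ext _ _ fun k => ?_
        rcases k with k | k <;> simp }
  exact ⟨(biprod.isoProd M N).symm ≪≫ biprod.mapIso a b ≪≫ biprod.isoCoprod _ _ ≪≫ c ≪≫
    (Sigma.whiskerEquiv finSumFinEquiv.symm fun k => Iso.refl (f (finSumFinEquiv.symm k))).symm⟩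

theorem main (Λ : Type (u + 1)) [CommRing Λ] [IsNoetherianRing Λ] (X : Scheme.{u}) [CompactSpace X]
    [QuasiSeparatedSpace X] (K : EtModD.D Λ X) (n : ℤ) [K.IsLE n] :
    (∀ i : ℤ, EtModW.IsConstructible Λ (EtModD.HD K i)) ↔
      ∃ (C : CochainComplex (EtModW.Mod Λ X) ℤ) (c : ℤ),
        (∀ i : ℤ, c < i → IsZero (C.X i)) ∧
        (∀ i : ℤ, ∃ (m : ℕ) (U : Fin m → Scheme.{u}) (j : ∀ k, U k ⟶ X) (_ : ∀ k, Etale (j k))
            (_ : ∀ k, IsAffine (U k)),
            ∀ [∀ k, EtShriek.JCont (j k)],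
              Nonempty (C.X i ≅ ∐ fun k => (EtSix.extZeroMod Λ (j k)).obj (EtSix.constΛ Λ (U k)))) ∧
        Nonempty (DerivedCategory.Q.obj C ≅ K) := by
  let H := fun i => DerivedCategory.homologyFunctor (EtModW.Mod Λ X) i
  let f := fun i => DerivedCategory.homologyFunctorFactors (EtModW.Mod Λ X) i
  refine ⟨fun hK => ?_, fun ⟨C, c, _, hC, ⟨e⟩⟩ i => ?_⟩
  · obtain ⟨C₀, ⟨e₀⟩⟩ : ∃ C, Nonempty (DerivedCategory.Q.obj C ≅ K) :=
      ⟨DerivedCategory.Q.objPreimage K, ⟨DerivedCategory.Q.objObjPreimageIso K⟩⟩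
    let P : ChainComplex (EtModW.Mod Λ X) ℤ :=
      HomologicalComplex.restriction C₀ ComplexShape.embeddingDownIntUpInt
    have hh : ∀ i : ℤ, Nonempty (P.homology i ≅ (H (-i)).obj K) := fun i =>
      ⟨HomologicalComplex.restrictionHomologyIso C₀ ComplexShape.embeddingDownIntUpInt (i + 1) i (i - 1)
        (by simp) (by simp) (i' := -(i + 1)) (j' := -i) (k' := -(i - 1)) rfl rfl rfl
        (by simp; omega) (by simp; omega) ≪≫ ((f (-i)).app C₀).symm ≪≫ (H (-i)).mapIso e₀⟩
    let K' : ObjectProperty (EtModW.Mod Λ X) := fun M => EtModW.IsConstructible Λ M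
    let K'' : ObjectProperty (EtModW.Mod Λ X) := fun M => IsSum Λ M
    haveI : K'.IsClosedUnderIsomorphisms := ⟨fun e h => EtModLib.isConstructible_of_iso e h⟩
    haveI : K''.IsClosedUnderIsomorphisms := ⟨fun e h => IsSum.of_iso e h⟩
    obtain ⟨Q, u, hQ, hQ0, hu⟩ := H6HomAlg.Resolve.exists_quasiIso (P := P) (K' := K') (K'' := K'')
      (fun M h => IsSum.isConstructible h)
      (fun A A' v hA' hv => by
        obtain ⟨m, U, j, hj, hU, he⟩ := EtModLib.exists_sum_extZero_lift v hA'
        haveI : ∀ k, EtShriek.JCont (j k) := fun k => EtFound.jCont (j k)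
        obtain ⟨ψ, hψ⟩ := he
        exact ⟨_, ψ, ⟨m, U, j, hj, hU, fun {_} => ⟨Iso.refl _⟩⟩, hψ⟩)
      (fun A B v hA hB _ => EtModLib.isConstructible_kernel v hA hB)
      (fun B B' h h' => IsSum.prod h h')
      (fun i => EtModLib.isConstructible_of_iso (hh i).some.symm (hK _)) (-n)
      (fun i hi => IsZero.of_iso (K.isZero_of_isLE n (-i) (by omega)) (hh i).some)
    let Φ := (ChainComplex.cochainComplexEquivalence (C := EtModW.Mod Λ X))
    refine ⟨Φ.functor.obj Q, n, fun i hi => hQ0 _ (show -i < -n by omega), fun i => ?_, ?_⟩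
    · by_cases h : -n ≤ -i
      · exact hQ (-i) h
      · exact ⟨0, Fin.elim0, fun k => k.elim0, fun k => k.elim0, fun k => k.elim0, fun {_} =>
          ⟨(hQ0 (-i) (by omega)).iso ((isZero_zero _).of_iso
            { hom := 0, inv := 0, hom_inv_id := Sigma.hom_ext _ _ fun k => k.elim0
              inv_hom_id := (isZero_zero _).eq_of_src _ _ })⟩⟩
    · have hq : QuasiIso (Φ.functor.map u) := ⟨fun i =>
        (TriCat.quasiIsoAt_restrictionMap_iff ComplexShape.embeddingUpIntDownInt u (i - 1) i (i + 1) (by simp)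
          (by simp) (i' := -(i - 1)) (j' := -i) (k' := -(i + 1)) rfl rfl rfl (by simp; omega) (by simp; omega)).2
          (hu.quasiIsoAt (-i))⟩
      let ε : Φ.functor.obj P ⟶ C₀ := Φ.counitIso.hom.app C₀
      haveI : IsIso ε := inferInstanceAs (IsIso (Φ.counitIso.hom.app C₀))
      haveI : QuasiIso (Φ.functor.map u ≫ ε) := inferInstance
      haveI : IsIso (DerivedCategory.Q.map (Φ.functor.map u ≫ ε)) := inferInstance
      exact ⟨asIso (DerivedCategory.Q.map (Φ.functor.map u ≫ ε)) ≪≫ e₀⟩
  · refine EtModLib.isConstructible_of_iso (((f i).app C).symm ≪≫ (H i).mapIso e) ?_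
    obtain ⟨hp, -, -⟩ : WSerre.IsWeakSerre (fun F : EtModW.Mod Λ X => EtModW.IsConstructible Λ F) ∧ True ∧ True :=
      ⟨EtModLib.isWeakSerre_isConstructible, trivial, trivial⟩
    have hX : ∀ i, EtModW.IsConstructible Λ (C.X i) := fun i => IsSum.isConstructible (hC i)
    have hcy : EtModW.IsConstructible Λ (C.cycles i) :=
      EtModLib.isConstructible_of_iso
        ((kernelIsKernel (C.d i (i + 1))).conePointUniqueUpToIso (C.cyclesIsKernel i (i + 1) (by simp)))
        (EtModLib.isConstructible_kernel _ (hX _) (hX _))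
    exact EtModLib.isConstructible_of_iso
      ((cokernelIsCokernel (C.toCycles (i - 1) i)).coconePointUniqueUpToIso
        (C.homologyIsCokernel (i - 1) i (by simp)))
      (EtModLib.isConstructible_cokernel _ (hX _) hcy)

/-- (1) ⇔ (2): let X be a quasi-compact and quasi-separated scheme, Λ a Noetherian ring and K an object
of D(X_et, Λ) which is bounded above. Then every cohomology sheaf of K is a constructible sheaf of
Λ-modules if and only if K is isomorphic, in D(X_et, Λ), to the image of a bounded above complex of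
sheaves of Λ-modules each of whose terms is isomorphic to a finite direct sum of sheaves j_! Λ,
extensions by zero of the constant sheaf Λ along etale morphisms j : U → X with U affine. (A third
equivalent condition, representability by a bounded above complex of flat constructible sheaves of
Λ-modules, is not included. Continuity of the functors V ↦ (V → U → X) between small etale sites,
true for every etale morphism, appears as an instance binder in front of the extension-by-zero
terms.) -/
theorem result (Λ : Type (u + 1)) [CommRing Λ]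
    [IsNoetherianRing Λ] (X : Scheme.{u}) [CompactSpace X] [QuasiSeparatedSpace X] (K : EtModD.D Λ X) (n : ℤ)
    [K.IsLE n] :
    (∀ i : ℤ, EtModW.IsConstructible Λ (EtModD.HD K i)) ↔
      ∃ (C : CochainComplex (EtModW.Mod Λ X) ℤ) (c : ℤ),
        (∀ i : ℤ, c < i → IsZero (C.X i)) ∧
        (∀ i : ℤ, ∃ (m : ℕ) (U : Fin m → Scheme.{u}) (j : ∀ k, U k ⟶ X) (_ : ∀ k, Etale (j k))
            (_ : ∀ k, IsAffine (U k)),
            ∀ [∀ k, EtShriek.JCont (j k)],
              Nonempty (C.X i ≅ ∐ fun k => (EtSix.extZeroMod Λ (j k)).obj (EtSix.constΛ Λ (U k)))) ∧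
        Nonempty (DerivedCategory.Q.obj C ≅ K) := by
  exact main Λ X K n

end Groth.Agent.S6700
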