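import Groth.Statements.S6701
import Groth.Agent.BcLim5.Main
-- import your own Groth.Agent.* helpers here

set_option autoImplicit false
universe u
open CategoryTheory CategoryTheory.Limits AlgebraicGeometry Opposite
open EtBC

attribute [-instance] CategoryTheory.catToReflQuiver

namespace Groth.Agent.S6701

/-- Let ι be a nonempty directed preordered set and consider an inverse system, indexed by ι, of
cartesian squares of schemes Y_i = X_i ×_{S_i} T_i (maps f_i : X_i → S_i, g_i : T_i → S_i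
quasi-compact and quasi-separated, h_i : Y_i → X_i, e_i : Y_i → T_i) whose transition morphisms are
affine. Let X, S, T, Y be limits of the four systems, with the induced morphisms f : X → S, g : T →
S, h : Y → X, e : Y → T forming a cartesian square compatible with the projections. Let (F_i) be
abelian sheaves on the small etale sites of the T_i with maps φ_ij : u_ij⁻¹ F_i → F_j for i ≤ j
satisfying the cocycle condition, and let F be the colimit on T of the sheaves p_i⁻¹ F_i along the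
maps induced by the φ_ij (presented as the colimit of any diagram G identified with (p_i⁻¹ F_i)
compatibly). If for every i the degree-q base change map f_i⁻¹ R^q g_i,_* F_i → R^q h_i,_* e_i⁻¹ F_i
is an isomorphism, then the degree-q base change map f⁻¹ R^q g_* F → R^q h_* e⁻¹ F is an
isomorphism. (Left exactness of the inverse image functors is carried as instance hypotheses.) -/
theorem result {ι : Type u} [Preorder ι] [Nonempty ι] [IsDirected ι (· ≤ ·)]
    (Xs Ss Ts Ys : ιᵒᵖ ⥤ Scheme.{u}) (fN : Xs ⟶ Ss) (gN : Ts ⟶ Ss) (hN : Ys ⟶ Xs) (eN : Ys ⟶ Ts)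
    (sq : ∀ a : ιᵒᵖ, IsPullback (eN.app a) (hN.app a) (gN.app a) (fN.app a))
    [∀ a : ιᵒᵖ, QuasiCompact (gN.app a)] [∀ a : ιᵒᵖ, QuasiSeparated (gN.app a)]
    (haff : ∀ ⦃a b : ιᵒᵖ⦄ (m : a ⟶ b),
      IsAffineHom (Xs.map m) ∧ IsAffineHom (Ss.map m) ∧ IsAffineHom (Ts.map m) ∧ IsAffineHom (Ys.map m))
    (cX : Cone Xs) (hcX : IsLimit cX) (cS : Cone Ss) (hcS : IsLimit cS)
    (cT : Cone Ts) (hcT : IsLimit cT) (cY : Cone Ys) (hcY : IsLimit cY)
    (f : cX.pt ⟶ cS.pt) (g : cT.pt ⟶ cS.pt) (h : cY.pt ⟶ cX.pt) (e : cY.pt ⟶ cT.pt)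
    (hf : ∀ a, f ≫ cS.π.app a = cX.π.app a ≫ fN.app a) (hg : ∀ a, g ≫ cS.π.app a = cT.π.app a ≫ gN.app a)
    (hh : ∀ a, h ≫ cX.π.app a = cY.π.app a ≫ hN.app a) (he : ∀ a, e ≫ cT.π.app a = cY.π.app a ≫ eN.app a)
    (c : IsPullback e h g f)
    [∀ a, PreservesFiniteLimits (EtCoh.pull (eN.app a))] [PreservesFiniteLimits (EtCoh.pull e)]
    (F : ∀ i : ι, EtCoh.Ab (Ts.obj (op i)))
    (φ : ∀ ⦃i j : ι⦄ (hij : i ≤ j), (EtCoh.pull (Ts.map (homOfLE hij).op)).obj (F i) ⟶ F j)
    (hφ : ∀ ⦃i j k : ι⦄ (hij : i ≤ j) (hjk : j ≤ k),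
      φ (hij.trans hjk) = (EtLim.pullTrans Ts hij hjk).hom.app (F i) ≫
        (EtCoh.pull (Ts.map (homOfLE hjk).op)).map (φ hij) ≫ φ hjk)
    (G : ι ⥤ EtCoh.Ab cT.pt) (ψ : ∀ i : ι, (EtCoh.pull (cT.π.app (op i))).obj (F i) ≅ G.obj i)
    (hψ : ∀ ⦃i j : ι⦄ (hij : i ≤ j), (ψ i).hom ≫ G.map (homOfLE hij) =
      (EtLim.pullTransCone Ts cT hij).hom.app (F i) ≫ (EtCoh.pull (cT.π.app (op j))).map (φ hij) ≫ (ψ j).hom)
    (q : ℕ)
    (hstage : ∀ i : ι, IsIso (EtBC.bcQ (gN.app (op i)) (fN.app (op i)) (hN.app (op i)) (eN.app (op i))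
      (sq (op i)).w q (F i))) :
    IsIso (EtBC.bcQ g f h e c.w q (colimit G)) := by
  haveI : ∀ {a b : ιᵒᵖ} (m : a ⟶ b), IsAffineHom (Ts.map m) := fun m => (haff m).2.2.1
  haveI : ∀ {a b : ιᵒᵖ} (m : a ⟶ b), IsAffineHom (Ss.map m) := fun m => (haff m).2.1
  haveI : ∀ {a b : ιᵒᵖ} (m : a ⟶ b), IsAffineHom (Xs.map m) := fun m => (haff m).1
  haveI : ∀ {a b : ιᵒᵖ} (m : a ⟶ b), IsAffineHom (Ys.map m) := fun m => (haff m).2.2.2
  let S : Groth.Agent.EtLim8.Sys Ts :=
    { F := F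
      l := fun i j h => (EtCoh.pullPushAdj (Ts.map (homOfLE h).op)).homEquiv _ _ (φ h)
      comp := fun i j k hij hjk => Groth.Agent.EtLim8.compat_of_pullComp
        (Groth.Agent.EtLim8.tr_comp Ts hij hjk).symm _ _ _ (hφ hij hjk) }
  let D : Groth.Agent.EtLim8.Diag S cT :=
    { G := G
      ψ := ψ
      compat := fun i j h => Groth.Agent.EtLim8.compat_of_pullComp
        (Groth.Agent.EtLim8.pr_tr cT h).symm _ _ _ (hψ h) }
  have hst : ∀ i : ι, IsIso (EtBC.bcQ (gN.app (op i)) (fN.app (op i)) (hN.app (op i)) (eN.app (op i))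
      (sq (op i)).w q (S.unitalize.F i)) := fun i =>
    Groth.Agent.BcLim5.isIso_bcQ_of_retract (sq (op i)).w _ q (S.unitalizeSection i)
      (S.oneSubIdem.cokerπ.app i) (S.unitalizeSection_π i) (hstage i)
  refine Groth.Agent.BcLim5.isIso_bcQ_of_iso c.w _ q (colim.mapIso (D.isoUnitalize S)) ?_
  exact Groth.Agent.BcLim5.isIso_bcQ_limit fN gN hN eN (fun i => (sq (op i)).w) q S.unitalize
    (fun i => (hf (op i)).symm) (fun i => (hg (op i)).symm) (fun i => (hh (op i)).symm) (fun i => (he (op i)).symm)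
    c.w (fun a => inferInstance) (fun a => inferInstance)
    (fun a => MorphismProperty.of_isPullback (P := @QuasiCompact) (sq a) inferInstance)
    (fun a => MorphismProperty.of_isPullback (P := @QuasiSeparated) (sq a) inferInstance)
    hcX hcS hcT hcY S.unitalize_isUnital hst

end Groth.Agent.S6701
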