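import Groth.Statements.S6711
import Groth.Agent.ConsPropLib.QFFactor
import Groth.Agent.H6Proj.Acyclic
import Groth.Agent.H23.PullPush
import Groth.Agent.QCoh.HHExact
import Groth.Agent.QCoh.OpenSub
import Groth.Agent.CohGabLib.SerreClass
import Groth.Agent.SheafHomX.Local
import Groth.Agent.SheafHomX.Coherent
open CategoryTheory CategoryTheory.Limits AlgebraicGeometry TopologicalSpace Opposite
open scoped Pointwise

set_option backward.isDefEq.respectTransparency false
set_option synthInstance.maxHeartbeats 200000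

namespace Groth.Agent.S6711
open Groth.Agent.QCoh

theorem subsingleton_ab_X₃.{w} {Y : TopCat.{w}} {T : ShortComplex (CohTop.Ab Y)} (hT : T.ShortExact)
    (n : ℕ) (h₂ : Subsingleton (CohTop.H T.X₂ n)) (h₁ : Subsingleton (CohTop.H T.X₁ (n + 1))) :
    Subsingleton (CohTop.H T.X₃ n) := by
  refine subsingleton_of_forall_eq 0 fun x => ?_
  obtain ⟨y, rfl⟩ := CategoryTheory.Abelian.Ext.covariant_sequence_exact₃ _ hT x rfl (h₁.elim _ _)
  rw [h₂.elim y 0]
  exact CategoryTheory.Abelian.Ext.zero_comp _ _ _ _ _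

theorem subsingleton_H_X₃.{w} {X : Scheme.{w}} {S : ShortComplex X.Modules} (hS : S.ShortExact) (n : ℕ)
    (h₂ : Subsingleton (Coh.HH X S.X₂ n)) (h₁ : Subsingleton (Coh.HH X S.X₁ (n + 1))) :
    Subsingleton (Coh.HH X S.X₃ n) :=
  subsingleton_ab_X₃ (Y := X.toPresheafedSpace.carrier) (T := S.map (toAbFunctor X)) (toAb_shortExact hS) n h₂ h₁

theorem shortExact_restr.{w} {X U : Scheme.{w}} (j : U ⟶ X) [IsOpenImmersion j] {S : ShortComplex X.Modules}
    (hS : S.ShortExact) : (S.map (Scheme.Modules.restrictFunctor j)).ShortExact := by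
  haveI := hS.mono_f
  haveI := hS.epi_g
  haveI : PreservesColimitsOfSize.{w, w} (Scheme.Modules.restrictFunctor j) :=
    (Scheme.Modules.restrictAdjunction j).leftAdjoint_preservesColimits
  exact .mk' (hS.exact.map_of_epi_of_preservesCokernel _ hS.epi_g inferInstance)
    (mono_restrict_map j S.f) (inferInstanceAs (Epi ((Scheme.Modules.restrictFunctor j).map S.g)))

theorem le_of_acyclic.{w} {W : Scheme.{w}} [IsAffine W] [IsNoetherianRing Γ(W, ⊤)] (U : W.Opens)
    (a : Ideal Γ(W, ⊤)) (ha : ∀ y ∈ U, ∃ f ∈ a, y ∈ W.basicOpen f)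
    (haU : ∀ f ∈ a, W.basicOpen f ≤ U)
    (M : W.Modules) (hM : Coh.IsQCoh M) (hfin : Module.Finite Γ(W, ⊤) Γ(M, ⊤))
    (hinj : Function.Injective (M.presheaf.map (homOfLE (le_top : U.ι ''ᵁ ⊤ ≤ ⊤)).op))
    (hsurj : Function.Surjective (M.presheaf.map (homOfLE (le_top : U.ι ''ᵁ ⊤ ≤ ⊤)).op))
    (hvan : ∀ q : ℕ, 0 < q → Subsingleton (Coh.HH _ (M.restrict U.ι) q)) :
    (⊤ : Submodule Γ(W, ⊤) Γ(M, ⊤)) ≤ a • ⊤ := by
  classical
  induction hJ : Module.annihilator Γ(W, ⊤) Γ(M, ⊤)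
    using (wellFounded_gt (α := Ideal Γ(W, ⊤))).induction generalizing M with
  | _ J IH =>
  rcases subsingleton_or_nontrivial Γ(M, ⊤) with hs | hs
  · intro m _
    rw [Subsingleton.elim m 0]; exact zero_mem _
  obtain ⟨g, hga, hg⟩ : ∃ g ∈ a, ∀ m : Γ(M, ⊤), g • m = 0 → m = 0 := by
    by_contra hc
    simp only [not_exists, not_and, not_forall] at hc
    have hsub : (a : Set Γ(W, ⊤)) ⊆ ⋃ p ∈ associatedPrimes Γ(W, ⊤) Γ(M, ⊤), (p : Set Γ(W, ⊤)) := fun g hg => by
      rw [biUnion_associatedPrimes_eq_zero_divisors]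
      obtain ⟨m, h1, h2⟩ := hc g hg
      exact ⟨m, h2, h1⟩
    obtain ⟨p, hp, hap⟩ := (Ideal.subset_union_prime_finite (associatedPrimes.finite Γ(W, ⊤) Γ(M, ⊤)) ⊥ ⊥
      (fun p hp _ _ => hp.isPrime)).1 hsub
    obtain ⟨hpp, m, rfl⟩ := isAssociatedPrime_iff.1 (AssociatedPrimes.mem_iff.1 hp)
    refine hpp.ne_top ((Ideal.eq_top_iff_one _).2 ?_)
    have hm0 : m = 0 := hinj (by
      rw [map_zero]
      refine eq_zero_of_locally _ _ fun y hy => ?_
      obtain ⟨f, hf, hyf⟩ := ha y ((Scheme.Opens.ι_image_top U).le hy)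
      have hle : W.basicOpen f ≤ U.ι ''ᵁ ⊤ := (haU f hf).trans (Scheme.Opens.ι_image_top U).ge
      refine ⟨_, homOfLE hle, hyf, ?_⟩
      rw [QCoh.map_map]
      exact res_eq_zero_of_smul_eq_zero _ f le_rfl m (Submodule.mem_colon_singleton.1 (hap hf)))
    rw [Submodule.mem_colon_singleton, hm0, smul_zero]
    exact zero_mem _
  let φ' : Γ(M, ⊤) →+ Γ(M, ⊤) := DistribSMul.toAddMonoidHom _ g
  obtain ⟨φ, hφ⟩ := OmegaLib.exists_hom_of_affine (P := W) (F := M)
    (SheafHomX.globLocalized hM) φ' fun r m => smul_comm g r m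
  replace hφ : ∀ m, φ.app ⊤ m = g • m := hφ
  haveI : Mono φ := Preadditive.mono_of_kernel_zero ((isZero_of_cover (isQCoh_kernel hM hM φ)
    (fun _ : Unit => ⊤) (fun _ => isAffineOpen_top W) (fun _ => ⟨(), trivial⟩) fun _ =>
      subsingleton_of_forall_eq 0 fun c => app_injective (kernel.ι φ) ⊤ (by
        rw [map_zero]
        refine hg _ ((hφ _).symm.trans ?_)
        exact congr(($(kernel.condition φ)).app ⊤ c))).eq_of_src _ _)
  let S := ShortComplex.mk φ (cokernel.π φ) (cokernel.condition φ)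
  have hS : S.ShortExact :=
    .mk' (ShortComplex.exact_of_g_is_cokernel _ (cokernelIsCokernel φ)) inferInstance inferInstance
  have hS' := shortExact_restr U.ι hS
  have hN : Coh.IsQCoh (cokernel φ) := isQCoh_cokernel hM hM φ
  let N := cokernel φ
  let πl : Γ(M, ⊤) →ₗ[Γ(W, ⊤)] Γ(N, ⊤) :=
    { toFun := (cokernel.π φ).app ⊤
      map_add' := map_add ((cokernel.π φ).app ⊤).hom
      map_smul' := fun r x => (cokernel.π φ).app_smul r x }
  have hπ : Function.Surjective πl := app_surjective_of_epi hM hN _ (isAffineOpen_top W)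
  have hvanN : ∀ q : ℕ, 0 < q → Subsingleton (Coh.HH _ (N.restrict U.ι) q) := fun q hq =>
    subsingleton_H_X₃ hS' q (hvan q hq) (hvan _ (q.succ_pos))
  have hsurjN : Function.Surjective (N.presheaf.map (homOfLE (le_top : U.ι ''ᵁ ⊤ ≤ ⊤)).op) := fun s => by
    obtain ⟨t, ht⟩ := app_top_surjective_of_HH_one hS' (hvan 1 one_pos) s
    obtain ⟨m, rfl⟩ := hsurj t
    exact ⟨πl m, (map_app_comm (cokernel.π φ) _ m).symm.trans ht⟩
  have hinjN : Function.Injective (N.presheaf.map (homOfLE (le_top : U.ι ''ᵁ ⊤ ≤ ⊤)).op) := by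
    refine (injective_iff_map_eq_zero _).2 fun n hn => ?_
    obtain ⟨m, rfl⟩ := hπ n
    obtain ⟨c, hc⟩ := exists_app_f_eq hS (U.ι ''ᵁ ⊤) (M.presheaf.map (homOfLE le_top).op m)
      ((map_app_comm (cokernel.π φ) _ m).trans hn)
    obtain ⟨m', rfl⟩ := hsurj c
    have hm : φ.app ⊤ m' = m := hinj ((map_app_comm φ (homOfLE le_top) m').symm.trans hc)
    show (cokernel.π φ).app ⊤ m = 0
    rw [← hm]
    exact congr(($(cokernel.condition φ)).app ⊤ m')
  have hlt : J < Module.annihilator Γ(W, ⊤) Γ(N, ⊤) := by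
    subst hJ
    refine lt_of_le_of_ne (LinearMap.annihilator_le_of_surjective πl hπ) fun he => ?_
    obtain ⟨m, hm⟩ := exists_ne (0 : Γ(M, ⊤))
    refine hm (hg m (Module.mem_annihilator.1 (?_ : g ∈ _) m))
    rw [he, Module.mem_annihilator]
    intro n
    obtain ⟨x, rfl⟩ := hπ n
    rw [← map_smul, ← hφ]
    exact congr(($(cokernel.condition φ)).app ⊤ x)
  have hfinN : Module.Finite Γ(W, ⊤) Γ(N, ⊤) := Module.Finite.of_surjective πl hπ
  have hN' := IH _ hlt N hN hfinN hinjN hsurjN hvanN rfl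
  intro m _
  have hm : πl m ∈ (a • ⊤ : Submodule Γ(W, ⊤) Γ(M, ⊤)).map πl := by
    rw [Submodule.map_smul'', Submodule.map_top, LinearMap.range_eq_top.2 hπ]
    exact hN' trivial
  obtain ⟨x, hx, hxm⟩ := hm
  obtain ⟨c, hc⟩ := exists_app_f_eq hS ⊤ (m - x) (by
    show πl (m - x) = 0
    rw [map_sub, hxm, sub_self])
  rw [← sub_add_cancel m x, ← show φ.app ⊤ c = m - x from hc, hφ]
  exact add_mem (Submodule.smul_mem_smul hga trivial) hx

theorem isClosed_range.{w} {T V : Scheme.{w}} [IsAffine T] [IsNoetherianRing Γ(T, ⊤)] (i : V ⟶ T)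
    [IsOpenImmersion i] [QuasiCompact i] [QuasiSeparated i] {K : V.Modules} (hK : Coh.IsQCoh K)
    (hsupp : CohB1.support K = Set.univ)
    (hfin : Module.Finite Γ(T, ⊤) Γ((Scheme.Modules.pushforward i).obj K, ⊤))
    (hvan : ∀ q : ℕ, 0 < q → Subsingleton (Coh.HH V K q)) : IsClosed (Set.range i) := by
  classical
  let M := (Scheme.Modules.pushforward i).obj K
  have hM : Coh.IsQCoh M := isQCoh_pushforward i hK
  let U := i.opensRange
  let a : Ideal Γ(T, ⊤) :=
    { carrier := {f | T.basicOpen f ≤ U}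
      zero_mem' := by show T.basicOpen 0 ≤ U; rw [Scheme.basicOpen_zero]; exact bot_le
      add_mem' := fun {f g} hf hg => (T.basicOpen_add_le f g).trans (sup_le hf hg)
      smul_mem' := fun r f hf => by
        show T.basicOpen (r * f) ≤ U
        rw [Scheme.basicOpen_mul]; exact inf_le_right.trans hf }
  have ha : ∀ y ∈ U, ∃ f ∈ a, y ∈ T.basicOpen f := fun y hy => by
    obtain ⟨f, hf, hyf⟩ := (isAffineOpen_top T).exists_basicOpen_le ⟨y, hy⟩ trivial
    exact ⟨f, hf, hyf⟩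
  have hbij : Function.Bijective (M.presheaf.map (homOfLE (le_top : U.ι ''ᵁ ⊤ ≤ ⊤)).op) := by
    have e : (i ⁻¹ᵁ ⊤ : V.Opens) = i ⁻¹ᵁ (U.ι ''ᵁ ⊤) := by
      rw [Scheme.Opens.ι_image_top]
      exact TopologicalSpace.Opens.ext (Set.ext fun x => ⟨fun _ => ⟨x, rfl⟩, fun _ => trivial⟩)
    let h : i ⁻¹ᵁ (U.ι ''ᵁ ⊤) ⟶ i ⁻¹ᵁ (⊤ : T.Opens) := homOfLE e.ge
    haveI : IsIso h := ⟨homOfLE e.le, Subsingleton.elim _ _, Subsingleton.elim _ _⟩
    exact ConcreteCategory.bijective_of_isIso (K.presheaf.map h.op)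
  have hvanM : ∀ q : ℕ, 0 < q → Subsingleton (Coh.HH _ (M.restrict U.ι) q) := fun q hq => by
    rw [H6Proj.subsingleton_HH_restrict_iff i U rfl hM q]
    let e : (Scheme.Modules.pullback i).obj M ≅ K := ((Scheme.Modules.restrictFunctorIsoPullback i).app M).symm ≪≫
      asIso ((Scheme.Modules.restrictAdjunction i).counit.app K)
    exact subsingleton_HH_of_iso e.symm q (hvan q hq)
  have key := le_of_acyclic U a ha (fun f hf => hf) M hM hfin hbij.1 hbij.2 hvanM
  obtain ⟨r, hr1, hr⟩ := Submodule.exists_sub_one_mem_and_smul_eq_zero_of_fg_of_le_smul a ⊤ hfin.fg_top key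
  have hUr : (U : Set T) = (T.basicOpen r : Set T)ᶜ := by
    ext y
    refine ⟨?_, fun hy => ?_⟩
    · rintro ⟨v, rfl⟩ hyr
      obtain ⟨f, hf, hvf⟩ := ha (i v) ⟨v, rfl⟩
      have hD : IsAffineOpen (T.basicOpen f) := (isAffineOpen_top T).basicOpen f
      have hD' : IsAffineOpen (i ⁻¹ᵁ T.basicOpen f) := by
        rw [← i.isAffineOpen_iff_of_isOpenImmersion, i.image_preimage_eq_opensRange_inf, inf_eq_right.2 hf]
        exact hD
      obtain ⟨m, hm⟩ := (mem_support_iff hK hD' (show v ∈ i ⁻¹ᵁ T.basicOpen f from hvf)).1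
        (hsupp ▸ Set.mem_univ v)
      let r' : Γ(T, T.basicOpen f) := T.presheaf.map (homOfLE le_top).op r
      refine hm (i.app _ r') ?_ ?_
      · rw [← Scheme.preimage_basicOpen]
        show i v ∈ T.basicOpen r'
        rw [Scheme.basicOpen_res]
        exact ⟨hvf, hyr⟩
      · obtain ⟨n, t, ht⟩ := exists_pow_smul_eq_map hM (isAffineOpen_top T) f
          (show Γ(M, T.basicOpen f) from m)
        have hu : IsUnit (T.presheaf.map (homOfLE (T.basicOpen_le f)).op f ^ n) :=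
          (RingedSpace.isUnit_res_basicOpen T.toRingedSpace f).pow n
        refine (pushforward_smul i _ r' m).symm.trans ?_
        refine hu.smul_eq_zero.1 ?_
        rw [smul_comm]
        show r' • _ = (0 : Γ(M, T.basicOpen f))
        rw [← ht, ← map_smul' (M := M), hr t trivial, map_zero]
    · obtain ⟨f, hf⟩ : ∃ f, f = r - 1 := ⟨_, rfl⟩
      by_contra hyU
      refine hy ?_
      have hyf : y ∉ T.basicOpen (r - 1) := fun h => hyU (hr1 h)
      by_contra hyr
      apply hyf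
      rw [SetLike.mem_coe] at hyr
      rw [T.mem_basicOpen _ y (show y ∈ (⊤ : T.Opens) from trivial), map_sub, map_one]
      rw [T.mem_basicOpen _ y (show y ∈ (⊤ : T.Opens) from trivial)] at hyr
      have := IsLocalRing.isUnit_one_sub_self_of_mem_nonunits _ hyr
      simpa using this.neg
  show IsClosed (U : Set T)
  rw [hUr]
  exact (T.basicOpen r).2.isClosed_compl

end Groth.Agent.S6711

set_option autoImplicit false
universe u
open CategoryTheory AlgebraicGeometry
open FunMor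

namespace Groth.Agent.S6711

open CategoryTheory.Limits in
/-- Suppose V and X are Noetherian schemes and f : V ⟶ X is separated and quasi-finite (quasi-finite
meaning locally quasi-finite and of finite type). If there is a coherent O_V-module K whose support
is all of V such that f_* K is coherent and R^q f_* K = 0 for every q > 0, then f is finite. -/
theorem result
    {V X : Scheme.{u}} [IsNoetherian V] [IsNoetherian X] (f : V ⟶ X)
    [LocallyQuasiFinite f] [LocallyOfFiniteType f] [QuasiCompact f] [IsSeparated f]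
    [HasInjectiveResolutions V.Modules]
    (K : V.Modules) (hK : Coh.IsCoh K) (hsupp : CohB1.support K = Set.univ)
    (hpush : Coh.IsCoh ((Coh.push f).obj K))
    (hvan : ∀ q : ℕ, 0 < q → IsZero ((Coh.Rpush f q).obj K)) : IsFinite f := by
  classical
  choose W hW hyW using fun y : X => QCoh.exists_affine_mem y
  refine (IsZariskiLocalAtTarget.iff_of_iSup_eq_top (P := @IsFinite) W (top_le_iff.1 fun y _ =>
    TopologicalSpace.Opens.mem_iSup.2 ⟨y, hyW y⟩)).2 fun y => ?_
  let U := W y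
  haveI : IsAffine U.toScheme := hW y
  obtain ⟨T, i, π, hi, hπ, he⟩ := ConsPropLib.exists_finite_factor (f ∣_ U)
  haveI := hi
  haveI := hπ
  haveI : IsAffine T := isAffine_of_isAffineHom π
  haveI : IsLocallyNoetherian T := LocallyOfFiniteType.isLocallyNoetherian π
  haveI : IsNoetherianRing Γ(T, ⊤) := QCoh.noetherian_sections ⟨⊤, isAffineOpen_top T⟩
  let K' := K.restrict (f ⁻¹ᵁ U).ι
  have hK' : Coh.IsQCoh K' := QCoh.isQCoh_restrict _ hK.1
  haveI : QuasiCompact i := inferInstance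
  haveI : QuasiSeparated i := inferInstance
  have hsupp' : CohB1.support K' = Set.univ := Set.eq_univ_of_forall fun v => by
    obtain ⟨O, hO, hvO⟩ := QCoh.exists_affine_mem v
    have hO' : IsAffineOpen ((f ⁻¹ᵁ U).ι ''ᵁ O) := hO.image_of_isOpenImmersion _
    obtain ⟨m, hm⟩ := (QCoh.mem_support_iff hK.1 hO' (show (f ⁻¹ᵁ U).ι v ∈ _ from ⟨v, hvO, rfl⟩)).1
      (hsupp ▸ Set.mem_univ _)
    refine (QCoh.mem_support_iff hK' hO hvO).2 ⟨m, fun r hr => hm (((f ⁻¹ᵁ U).ι.appIso O).inv r) ?_⟩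
    rw [← Scheme.image_basicOpen]
    exact ⟨v, hr, rfl⟩
  let M := (Scheme.Modules.pushforward i).obj K'
  have hpush' : Coh.IsCoh ((Scheme.Modules.pushforward (f ∣_ U)).obj K') :=
    SheafHomX.isCoh_of_iso (asIso ((H23.PullPush.pushRestrict f U).app K)) (SheafHomX.isCoh_restrict U.ι hpush)
  have hfin : Module.Finite Γ(T, ⊤) Γ(M, ⊤) := by
    haveI : Module.Finite Γ(U.toScheme, ⊤) Γ((Scheme.Modules.pushforward π).obj M, ⊤) :=
      QCoh.finite_sections (SheafHomX.isCoh_of_iso ((Scheme.Modules.pushforwardCongr he.symm ≪≫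
      (Scheme.Modules.pushforwardComp i π).symm).app K') hpush') (isAffineOpen_top U.toScheme)
    letI : Algebra Γ(U.toScheme, ⊤) Γ(T, ⊤) := π.appTop.hom.toAlgebra
    letI : Module Γ(U.toScheme, ⊤) Γ(M, ⊤) := Module.compHom _ π.appTop.hom
    haveI : IsScalarTower Γ(U.toScheme, ⊤) Γ(T, ⊤) Γ(M, ⊤) := IsScalarTower.of_algebraMap_smul fun _ _ => rfl
    haveI : Module.Finite Γ(U.toScheme, ⊤) Γ(M, ⊤) := Module.Finite.of_surjective
      ({ toFun := fun x => (show Γ(M, π ⁻¹ᵁ ⊤) from x), map_add' := fun _ _ => rfl,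
         map_smul' := fun r x => QCoh.pushforward_smul π ⊤ r x } :
        Γ((Scheme.Modules.pushforward π).obj M, ⊤) →ₗ[Γ(U.toScheme, ⊤)] Γ(M, ⊤)) (fun y => ⟨y, rfl⟩)
    exact Module.Finite.of_restrictScalars_finite Γ(U.toScheme, ⊤) Γ(T, ⊤) Γ(M, ⊤)
  have hclosed := isClosed_range i hK' hsupp' hfin fun q hq =>
    H6Proj.subsingleton_HH_of_isZero_Rpush f hK.1 q (hvan q hq) (hW y)
  haveI : IsClosedImmersion i := IsClosedImmersion.of_isPreimmersion i hclosed
  rw [← he]
  infer_instance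

end Groth.Agent.S6711
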