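import Groth.Statements.S6717
import Groth.Agent.H6Proj.BoxRes

open AlgebraicGeometry CategoryTheory CategoryTheory.Limits
attribute [local instance] CategoryTheory.Abelian.hasFiniteBiproducts

set_option autoImplicit false
universe u
open CategoryTheory AlgebraicGeometry
open DEquiv

namespace Groth.Agent.S6717

open CategoryTheory.Limits in
/-- Let R be a commutative ring and X, Y quasi-compact and quasi-separated schemes over R which have the
resolution property. Then for every quasi-coherent O-module F of finite type on X ×_R Y there are a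
finite locally free O_X-module E, a finite locally free O_Y-module G and an epimorphism pr_1^* E ⊗
pr_2^* G ⟶ F. -/
theorem result
    (R : Type u) [CommRing R] (X Y : Scheme.{u}) [X.Over (Spec (.of R))] [Y.Over (Spec (.of R))]
    [CompactSpace X] [QuasiSeparatedSpace X] [CompactSpace Y] [QuasiSeparatedSpace Y]
    (hX : PerfAux.HasResolutionProperty X) (hY : PerfAux.HasResolutionProperty Y)
    (F : (pullback (X ↘ Spec (.of R)) (Y ↘ Spec (.of R))).Modules) (hF : Coh.IsQCoh F) (hF' : CohB1.IsFT F) :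
    ∃ (E : X.Modules) (G : Y.Modules), FlatMod.IsFinLocFree E ∧ FlatMod.IsFinLocFree G ∧
      ∃ π : CohB1.tensorMod
          ((Scheme.Modules.pullback (pullback.fst (X ↘ Spec (.of R)) (Y ↘ Spec (.of R)))).obj E)
          ((Scheme.Modules.pullback (pullback.snd (X ↘ Spec (.of R)) (Y ↘ Spec (.of R)))).obj G) ⟶ F,
        Epi π := by
  classical
  let x := X ↘ Spec (.of R)
  let y := Y ↘ Spec (.of R)
  let pX := pullback.fst x y
  let pY := pullback.snd x y
  haveI : QuasiCompact y := inferInstance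
  haveI : QuasiSeparated y := inferInstance
  haveI : QuasiCompact pX := inferInstance
  haveI : QuasiSeparated pX := inferInstance
  haveI : CompactSpace ↥(pullback x y) := QuasiCompact.compactSpace_of_compactSpace pX
  have haff : ∀ U : X.Opens, IsAffineOpen U → IsAffineHom ((pX ⁻¹ᵁ U).ι ≫ pY) := by
    intro U hU
    haveI : IsAffine U.toScheme := hU
    haveI : IsAffineHom (U.ι ≫ x) := isAffineHom_of_isAffine _
    let jU : pullback (U.ι ≫ x) y ⟶ pullback x y :=
      pullback.map _ _ _ _ U.ι (𝟙 Y) (𝟙 _) (Category.comp_id _) (by simp)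
    haveI : IsOpenImmersion jU := inferInstance
    have hr : Set.range (pX ⁻¹ᵁ U).ι = Set.range jU := by
      show _ = Set.range (pullback.map (U.ι ≫ x) y x y U.ι (𝟙 Y) (𝟙 _) _ _)
      rw [Scheme.Pullback.range_map, Scheme.Opens.range_ι, Scheme.Opens.range_ι]
      simp
      rfl
    let e := IsOpenImmersion.isoOfRangeEq (pX ⁻¹ᵁ U).ι jU hr
    have h1 : jU ≫ pY = pullback.snd (U.ι ≫ x) y :=
      (pullback.lift_snd _ _ _).trans (Category.comp_id _)
    have : (pX ⁻¹ᵁ U).ι ≫ pY = e.hom ≫ pullback.snd (U.ι ≫ x) y := by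
      rw [← h1, ← Category.assoc, IsOpenImmersion.isoOfRangeEq_hom_fac]
    rw [this]
    haveI : IsAffineHom (pullback.snd (U.ι ≫ x) y) := MorphismProperty.pullback_snd _ _ inferInstance
    infer_instance
  have hloc : ∀ z : ↥(pullback x y), ∃ (W : (pullback x y).Opens) (E : X.Modules) (G : Y.Modules)
      (ψ : (DCoh.tensorBi.obj ((Scheme.Modules.pullback pX).obj E)).obj
        ((Scheme.Modules.pullback pY).obj G) ⟶ F), z ∈ W ∧ FlatMod.IsFinLocFree E ∧ FlatMod.IsFinLocFree G ∧
      ∀ p ∈ W, Epi ((DerSch.stalkFunctor (pullback x y) p).map ψ) := by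
    intro z
    obtain ⟨U, hU, hzU, -⟩ := exists_isAffineOpen_mem_and_subset (X := X) (U := ⊤) (x := pX z) trivial
    obtain ⟨V, hV, hzV, -⟩ := exists_isAffineOpen_mem_and_subset (X := Y) (U := ⊤) (x := pY z) trivial
    haveI := haff U hU
    obtain ⟨E, G, ψ, hE, hG, hψ⟩ := Groth.Agent.H6Proj.exists_box_local pX pY hX hY hF hF' hU hV
    exact ⟨pX ⁻¹ᵁ U ⊓ pY ⁻¹ᵁ V, E, G, ψ, ⟨hzU, hzV⟩, hE, hG, hψ⟩
  choose W E G ψ hzW hE hG hψ using hloc
  let WS : ↥(pullback x y) → Set ↥(pullback x y) := fun z => ((W z : (pullback x y).Opens) : Set ↥(pullback x y))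
  have hWS : (Set.univ : Set ↥(pullback x y)) ⊆ ⋃ z, WS z := fun z _ => Set.mem_iUnion.2 ⟨z, hzW z⟩
  obtain ⟨S, hS⟩ := isCompact_univ.elim_finite_subcover WS (fun z => (W z).2) hWS
  let eI := (Fintype.equivFin S).symm
  let NE : Fin (Fintype.card S) → X.Modules := fun i => E (eI i)
  let NG : Fin (Fintype.card S) → Y.Modules := fun i => G (eI i)
  let fE := Scheme.Modules.pullback pX
  let fG := Scheme.Modules.pullback pY
  let T := DCoh.tensorBi (X := pullback x y)
  haveI : ∀ N, (Groth.Agent.SheafHomX.ten (X := pullback x y) N).IsLeftAdjoint :=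
    fun N => Groth.Agent.SheafHomX.isLeftAdjoint_ten N
  let term : ∀ i, (T.obj (fE.obj (⨁ NE))).obj (fG.obj (⨁ NG)) ⟶ F := fun i =>
    (T.map (fE.map (biproduct.π NE i))).app _ ≫ (T.obj _).map (fG.map (biproduct.π NG i)) ≫ ψ (eI i)
  refine ⟨⨁ NE, ⨁ NG, Groth.Agent.AmpleFamGen.isFinLocFree_biproduct' NE fun i => hE _,
    Groth.Agent.AmpleFamGen.isFinLocFree_biproduct' NG fun i => hG _, ∑ i, term i,
    Groth.Agent.AmpleFamGen.epi_of_stalk _ fun z => ?_⟩
  obtain ⟨w, hw, hzw⟩ := Set.mem_iUnion₂.1 (hS (Set.mem_univ z))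
  obtain ⟨i, hi⟩ := eI.surjective ⟨w, hw⟩
  let inc := (T.map (fE.map (biproduct.ι NE i))).app (fG.obj (NG i)) ≫ (T.obj _).map (fG.map (biproduct.ι NG i))
  have key : ∀ k, inc ≫ term k =
      ((Groth.Agent.SheafHomX.ten (fG.obj (NG i))).map (fE.map (biproduct.ι NE i ≫ biproduct.π NE k))) ≫
        (T.obj _).map (fG.map (biproduct.ι NG i ≫ biproduct.π NG k)) ≫ ψ (eI k) := by
    intro k
    simp only [inc, term, Functor.map_comp, Category.assoc, NatTrans.naturality_assoc]
    rfl
  have hk : inc ≫ (∑ k, term k) = ψ (eI i) := by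
    rw [Preadditive.comp_sum, Finset.sum_eq_single i]
    · rw [key, biproduct.ι_π_self, biproduct.ι_π_self, fE.map_id, fG.map_id]
      erw [CategoryTheory.Functor.map_id]
      exact (Category.id_comp _).trans (Category.id_comp _)
    · intro k _ hk
      rw [key, biproduct.ι_π_ne _ (Ne.symm hk)]
      erw [fE.map_zero, Functor.map_zero, zero_comp]
    · intro h
      exact absurd (Finset.mem_univ i) h
  haveI : Epi ((DerSch.stalkFunctor (pullback x y) z).map (ψ (eI i))) := hψ _ z (by rw [hi]; exact hzw)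
  have h5 : Epi ((DerSch.stalkFunctor (pullback x y) z).map inc ≫
      (DerSch.stalkFunctor (pullback x y) z).map (∑ k, term k)) := by
    rw [← Functor.map_comp, hk]
    assumption
  exact @epi_of_epi _ _ _ _ _ ((DerSch.stalkFunctor (pullback x y) z).map inc) _ h5

end Groth.Agent.S6717
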