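import Groth.Statements.S6722
import Groth.Agent.S6710
import Groth.Agent.CohGabLib.SerreClass
import Groth.Agent.QCoh.FT
import Groth.Agent.QCoh.Qcqs
import Groth.Agent.SheafHomX.Local
open CategoryTheory CategoryTheory.Limits AlgebraicGeometry TopologicalSpace Opposite

set_option backward.isDefEq.respectTransparency false
set_option synthInstance.maxHeartbeats 200000

namespace Groth.Agent.S6722
open Groth.Agent.QCoh

theorem ker_lift.{w} {X : Scheme.{w}} {M N : X.Modules} (g : M ⟶ N) (V : X.Opens) (x : Γ(M, V))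
    (hx : g.app V x = 0) : ∃ a, (kernel.ι g).app V a = x := by
  haveI : Mono (Abelian.image.ι g) := inferInstance
  haveI : Mono (kernel.ι g) := inferInstance
  haveI : PreservesFiniteLimits (Scheme.Modules.toPresheaf X) := inferInstance
  have hS := CohGabLib.shortExact_kernel (Abelian.factorThruImage g)
  obtain ⟨a, ha⟩ := exists_app_f_eq hS V x (app_injective (Abelian.image.ι g) V (by
    have h := congr(($(Abelian.image.fac g)).app V x)
    exact h.trans (hx.trans (map_zero _).symm)))
  have hz : kernel.ι (Abelian.factorThruImage g) ≫ g = 0 :=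
    (congrArg (kernel.ι (Abelian.factorThruImage g) ≫ ·) (Abelian.image.fac g).symm).trans
      (by rw [kernel.condition_assoc, zero_comp])
  exact ⟨(kernel.lift g _ hz).app V a,
    (congr(($(kernel.lift_ι g _ hz)).app V a)).trans ha⟩

theorem exists_sub.{w} {X : Scheme.{w}} [CompactSpace X] [QuasiSeparatedSpace X]
    (F : X.Modules) (hFq : Coh.IsQCoh F) (hF : CohB1.IsFP F)
    (P : ObjectProperty X.Modules) (hPF : P F)
    (hSerre : ∀ S : ShortComplex X.Modules, S.ShortExact → Coh.IsQCoh S.X₁ → Coh.IsQCoh S.X₂ →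
      Coh.IsQCoh S.X₃ → (P S.X₂ ↔ P S.X₁ ∧ P S.X₃))
    (N : X.Modules) (hN : Coh.IsQCoh N) (hsupp : CohB1.support N ⊆ CohB1.support F) (hN0 : ¬ IsZero N) :
    ∃ (W : X.Modules) (i : W ⟶ N), Mono i ∧ Coh.IsQCoh W ∧ P W ∧ ¬ IsZero W := by
  classical
  choose V hV hxV using fun x : X => exists_affine_mem x
  let WS : X → Set X := fun x => (V x : Set X)
  have hWS : (Set.univ : Set X) ⊆ ⋃ x, WS x := fun x _ => Set.mem_iUnion.2 ⟨x, hxV x⟩
  obtain ⟨S, hS⟩ := isCompact_univ.elim_finite_subcover WS (fun x => (V x).2) hWS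
  let cnt : X.Modules → ℕ := fun M => (S.filter fun x => ¬ Subsingleton Γ(M, V x)).card
  induction hn : cnt N using Nat.strong_induction_on generalizing N with
  | _ n IH =>
  obtain ⟨x, hxS, hx⟩ : ∃ x ∈ S, ¬ Subsingleton Γ(N, V x) := by
    by_contra hc
    simp only [not_exists, not_and, not_not] at hc
    exact hN0 (isZero_of_cover hN (fun x : S => V x.1) (fun x => hV x.1) (fun y => by
      obtain ⟨w, hw, hyw⟩ := Set.mem_iUnion₂.1 (hS (Set.mem_univ y))
      exact ⟨⟨w, hw⟩, hyw⟩) fun x => hc x.1 x.2)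
  let j := (V x).ι
  haveI : IsAffine (V x).toScheme := hV x
  haveI : QuasiCompact j := inferInstance
  haveI : QuasiSeparated j := inferInstance
  have hj : j ''ᵁ ⊤ = V x := Scheme.Opens.ι_image_top _
  let O := j ''ᵁ ⊤
  have hO : IsAffineOpen O := (isAffineOpen_top (V x).toScheme).image_of_isOpenImmersion j
  let η := (Scheme.Modules.restrictAdjunction j).unit.app N
  have hη : Function.Bijective (η.app O) := by
    rw [Scheme.Modules.restrictAdjunction_unit_app_app]
    have : IsIso (homOfLE (j.image_preimage_le O)) := by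
      have e : j ''ᵁ (j ⁻¹ᵁ O) = O := congrArg (fun W => j ''ᵁ W) (j.preimage_image_eq ⊤)
      exact ⟨homOfLE e.ge, Subsingleton.elim _ _, Subsingleton.elim _ _⟩
    exact ConcreteCategory.bijective_of_isIso _
  by_cases hK0 : IsZero (kernel η)
  swap
  · have hNj : Coh.IsQCoh ((Scheme.Modules.pushforward j).obj ((Scheme.Modules.restrictFunctor j).obj N)) :=
      isQCoh_pushforward j (isQCoh_restrict j hN)
    have hK : Coh.IsQCoh (kernel η) := isQCoh_kernel hN hNj η
    have hlt : cnt (kernel η) < n := by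
      subst hn
      refine Finset.card_lt_card ((Finset.ssubset_iff_of_subset ?_).2 ⟨x, ?_, ?_⟩)
      · intro y hy
        rw [Finset.mem_filter] at hy ⊢
        exact ⟨hy.1, fun h => hy.2 (@Function.Injective.subsingleton _ _ _ (app_injective (kernel.ι η) (V y)) h)⟩
      · exact Finset.mem_filter.2 ⟨hxS, hx⟩
      · rw [Finset.mem_filter]
        refine fun h => h.2 ?_
        refine (?_ : ∀ W, O = W → Subsingleton Γ(kernel η, W)) (V x) hj
        rintro _ rfl
        refine ⟨fun a b => app_injective (kernel.ι η) O (hη.1 ?_)⟩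
        have h0 : ∀ c, η.app O ((kernel.ι η).app O c) = 0 := fun c => congr(($(kernel.condition η)).app O c)
        rw [h0, h0]
    obtain ⟨W, i, hi, hW, hPW, hW0⟩ := IH _ hlt (kernel η) hK
      ((mem_support_of_mono hK hN (kernel.ι η)).trans hsupp) hK0 rfl
    haveI := hi
    exact ⟨W, i ≫ kernel.ι η, mono_comp _ _, hW, hPW, hW0⟩
  haveI : Mono η := Preadditive.mono_of_kernel_zero (hK0.eq_of_src _ _)
  haveI : Module.FinitePresentation Γ(X, O) Γ(F, O) := finitePresentation_of_isFP hF hO
  haveI : Nontrivial Γ(N, O) := not_subsingleton_iff_nontrivial.1 (by show ¬ Subsingleton Γ(N, j ''ᵁ ⊤); rw [hj]; exact hx)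
  have hsub : Module.support Γ(X, O) Γ(N, O) ⊆ Module.support Γ(X, O) Γ(F, O) := fun p hp => by
    obtain ⟨y, hy, rfl⟩ : ∃ (y : X) (hy : y ∈ O), hO.primeIdealOf ⟨y, hy⟩ = p :=
      ⟨hO.fromSpec p, hO.range_fromSpec.le (Set.mem_range_self _), by
        apply hO.fromSpec.isOpenEmbedding.injective; rw [hO.fromSpec_primeIdealOf]⟩
    exact (mem_moduleSupport_iff hFq hO hy).2 (hsupp ((mem_moduleSupport_iff hN hO hy).1 hp))
  obtain ⟨ψ, hψ⟩ := @exists_ne _ (Groth.Agent.S6710.result Γ(X, O) Γ(F, O) Γ(N, O) hsub) 0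
  obtain ⟨k, hk⟩ : ∃ k, ψ k ≠ 0 := by
    by_contra h
    simp only [not_exists, not_not] at h
    exact hψ (LinearMap.ext h)
  obtain ⟨φ₀, hφ₀⟩ := OmegaLib.exists_hom_of_affine (P := (V x).toScheme)
    (F := (Scheme.Modules.restrictFunctor j).obj N)
    (SheafHomX.globLocalized (isQCoh_restrict j hFq)) ψ.toAddMonoidHom
    fun r m => ψ.map_smul ((j.appIso ⊤).inv r) m
  let T := (Scheme.Modules.pushforward j).obj ((Scheme.Modules.restrictFunctor j).obj N)
  have hT : Coh.IsQCoh T := isQCoh_pushforward j (isQCoh_restrict j hN)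
  let φ : F ⟶ T := (Scheme.Modules.restrictAdjunction j).unit.app F ≫ (Scheme.Modules.pushforward j).map φ₀
  have hφ : φ.app O k = η.app O (ψ k) := by
    have e : j ⁻¹ᵁ O = ⊤ := j.preimage_image_eq ⊤
    show φ₀.app (j ⁻¹ᵁ O) (F.presheaf.map (homOfLE (j.image_preimage_le O)).op k) =
      N.presheaf.map (homOfLE (j.image_preimage_le O)).op (ψ k)
    rw [← show φ₀.app ⊤ k = ψ k from hφ₀ k]
    exact map_app_comm φ₀ (homOfLE e.le) k
  have hC : Coh.IsQCoh (cokernel φ) := isQCoh_cokernel hFq hT φ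
  let g := η ≫ cokernel.π φ
  have hW : Coh.IsQCoh (kernel g) := isQCoh_kernel hN hC g
  refine ⟨kernel g, kernel.ι g, inferInstance, hW, ?_, fun h0 => ?_⟩
  · have hI : Coh.IsQCoh (Abelian.image φ) := isQCoh_kernel hT hC (cokernel.π φ)
    have hPI : P (Abelian.image φ) :=
      ((hSerre _ (CohGabLib.shortExact_kernel (Abelian.factorThruImage φ))
        (isQCoh_kernel hFq hI _) hFq hI).1 hPF).2
    let l : kernel g ⟶ Abelian.image φ := kernel.lift _ (kernel.ι g ≫ η) (by
      rw [Category.assoc]; exact kernel.condition g)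
    haveI : Mono (kernel.ι g ≫ η) := mono_comp _ _
    haveI : Mono l := mono_of_mono_fac (kernel.lift_ι _ _ _)
    exact ((hSerre (ShortComplex.mk l (cokernel.π l) (cokernel.condition l))
      (.mk' (ShortComplex.exact_of_g_is_cokernel _ (cokernelIsCokernel l)) inferInstance inferInstance)
      hW hI (isQCoh_cokernel hW hI l)).1 hPI).1
  · obtain ⟨a, ha⟩ := ker_lift g O (ψ k) (by
      show (cokernel.π φ).app O (η.app O (ψ k)) = 0
      rw [← hφ]
      exact congr(($(cokernel.condition φ)).app O k))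
    refine hk (ha.symm.trans ?_)
    rw [h0.eq_of_src (kernel.ι g) 0]
    rfl

end Groth.Agent.S6722

set_option autoImplicit false
universe u
open CategoryTheory AlgebraicGeometry
open FunMor

namespace Groth.Agent.S6722

open CategoryTheory.Limits in
/-- Let X be a quasi-compact and quasi-separated scheme and F a finitely presented (quasi-coherent)
O_X-module. Then every quasi-coherent O_X-module E with Supp(E) ⊆ Supp(F) lies in the smallest Serre
subcategory of QCoh(O_X) containing F which is closed under extensions and arbitrary direct sums.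
Stated as: E has every property P of O_X-modules such that P holds for F, P is a Serre class on
quasi-coherent modules (in a short exact sequence of quasi-coherent modules the middle term has P
iff the outer terms do), and P is closed under direct sums of quasi-coherent modules. (The reverse
inclusion, that such modules form a class of this kind, is not restated.) -/
theorem result
    (X : Scheme.{u}) [CompactSpace X] [QuasiSeparatedSpace X]
    (F : X.Modules) (hFq : Coh.IsQCoh F) (hF : CohB1.IsFP F)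
    (P : ObjectProperty X.Modules) (hPF : P F)
    (hSerre : ∀ S : ShortComplex X.Modules, S.ShortExact → Coh.IsQCoh S.X₁ → Coh.IsQCoh S.X₂ →
      Coh.IsQCoh S.X₃ → (P S.X₂ ↔ P S.X₁ ∧ P S.X₃))
    (hsum : ∀ (ι : Type u) (M : ι → X.Modules), (∀ i, Coh.IsQCoh (M i)) → (∀ i, P (M i)) →
      P (∐ M))
    (E : X.Modules) (hE : Coh.IsQCoh E) (hsupp : CohB1.support E ⊆ CohB1.support F) :
    P E := by
  classical
  haveI := QCoh.hasFiniteBiproducts X
  have hzero : ∀ M : X.Modules, Coh.IsQCoh M → IsZero M → P M := fun M hM h =>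
    ((hSerre (ShortComplex.mk (0 : M ⟶ F) (𝟙 F) zero_comp) (.mk' (by
      rw [ShortComplex.exact_iff_mono _ (h.eq_of_src _ _)]
      infer_instance) ⟨fun g g' _ => h.eq_of_tgt g g'⟩ inferInstance)
      hM hFq hFq).1 hPF).1
  have hquot : ∀ {A B : X.Modules} (e : A ⟶ B) [Epi e], Coh.IsQCoh A → Coh.IsQCoh B → P A → P B :=
    fun e _ hA hB h => ((hSerre _ (CohGabLib.shortExact_kernel e) (QCoh.isQCoh_kernel hA hB e) hA hB).1 h).2
  let Good : (Σ V : X.affineOpens, Γ(E, V.1)) → Prop := fun s =>
    ∃ (W : X.Modules) (i : W ⟶ E), Mono i ∧ Coh.IsQCoh W ∧ P W ∧ s.2 ∈ Set.range (i.app s.1.1)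
  let ι := {s // Good s}
  choose W i hi hWq hPW hs using fun s : ι => s.2
  let d : ∐ W ⟶ E := Sigma.desc i
  have hcop : Coh.IsQCoh (∐ W) := QCoh.isQCoh_colimit _ fun s => hWq s.as
  have hC : Coh.IsQCoh (cokernel d) := QCoh.isQCoh_cokernel hcop hE d
  have hI : Coh.IsQCoh (Abelian.image d) := QCoh.isQCoh_kernel hE hC (cokernel.π d)
  have hPI : P (Abelian.image d) := hquot (Abelian.factorThruImage d) hcop hI (hsum ι W hWq hPW)
  have hses : (ShortComplex.mk (Abelian.image.ι d) (cokernel.π d) (kernel.condition _)).ShortExact :=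
    CohGabLib.shortExact_kernel (cokernel.π d)
  refine (hSerre _ hses hI hE hC).2 ⟨hPI, hzero _ hC ?_⟩
  by_contra hN0
  obtain ⟨W', i', hi', hW', hPW', hW0⟩ := exists_sub F hFq hF P hPF hSerre (cokernel d) hC
    ((QCoh.support_of_epi hE hC (cokernel.π d)).trans hsupp) hN0
  haveI := hi'
  let g := cokernel.π d ≫ cokernel.π i'
  have hC' : Coh.IsQCoh (cokernel i') := QCoh.isQCoh_cokernel hW' hC i'
  let W₂ := kernel g
  have hW₂ : Coh.IsQCoh W₂ := QCoh.isQCoh_kernel hE hC' g
  let I' := Abelian.image i'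
  have hI' : Coh.IsQCoh I' := QCoh.isQCoh_kernel hC hC' (cokernel.π i')
  let r : W₂ ⟶ I' := kernel.lift _ (kernel.ι g ≫ cokernel.π d) (by rw [Category.assoc]; exact kernel.condition g)
  have hPI' : P I' := hquot (Abelian.factorThruImage i') hW' hI' hPW'
  have hsq : IsPullback (kernel.ι g) r (cokernel.π d) (kernel.ι (cokernel.π i')) := by
    refine IsPullback.of_isLimit' ⟨(kernel.lift_ι _ _ _).symm⟩ (PullbackCone.IsLimit.mk _
      (fun s => kernel.lift g s.fst (by
        show s.fst ≫ cokernel.π d ≫ cokernel.π i' = 0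
        rw [s.condition_assoc, kernel.condition, comp_zero]))
      (fun s => kernel.lift_ι _ _ _) (fun s => ?_) (fun s m h1 h2 => ?_))
    · rw [← cancel_mono (kernel.ι (cokernel.π i')), Category.assoc, kernel.lift_ι, kernel.lift_ι_assoc]
      exact s.condition
    · rw [← cancel_mono (kernel.ι g), kernel.lift_ι]; exact h1
  haveI : Epi r := Abelian.epi_snd_of_isLimit _ _ hsq.isLimit
  have hPk : P (kernel r) := by
    let l : kernel r ⟶ Abelian.image d := kernel.lift _ (kernel.ι r ≫ kernel.ι g) (by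
      rw [Category.assoc, hsq.w, kernel.condition_assoc, zero_comp])
    haveI : Mono (kernel.ι r ≫ kernel.ι g) := mono_comp _ _
    haveI : Mono l := mono_of_mono_fac (kernel.lift_ι _ _ _)
    have hkr := QCoh.isQCoh_kernel hW₂ hI' r
    exact ((hSerre (ShortComplex.mk l (cokernel.π l) (cokernel.condition l))
      (.mk' (ShortComplex.exact_of_g_is_cokernel _ (cokernelIsCokernel l)) inferInstance inferInstance)
      hkr hI (QCoh.isQCoh_cokernel hkr hI l)).1 hPI).1
  have hPW₂ : P W₂ :=
    (hSerre _ (CohGabLib.shortExact_kernel r) (QCoh.isQCoh_kernel hW₂ hI' r) hW₂ hI').2 ⟨hPk, hPI'⟩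
  have h0 : kernel.ι g ≫ cokernel.π d = 0 := QCoh.hom_eq_zero_of_affine _ fun V hV a => by
    let s : ι := ⟨⟨⟨V, hV⟩, (kernel.ι g).app V a⟩, ⟨W₂, kernel.ι g, inferInstance, hW₂, hPW₂, a, rfl⟩⟩
    obtain ⟨b, hb⟩ := hs s
    show (cokernel.π d).app V ((kernel.ι g).app V a) = 0
    rw [← show (i s).app V b = (kernel.ι g).app V a from hb]
    have he : i s ≫ cokernel.π d = 0 := by
      rw [← Sigma.ι_desc i s, Category.assoc, cokernel.condition, comp_zero]
    exact congr(($he).app V b)
  have hr0 : r ≫ kernel.ι (cokernel.π i') = 0 := by rw [kernel.lift_ι]; exact h0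
  have hz : IsZero I' := IsZero.of_mono_eq_zero (kernel.ι (cokernel.π i')) (by
    rw [← cancel_epi r, hr0, comp_zero])
  refine hW0 (IsZero.of_mono_eq_zero i' ?_)
  rw [← Abelian.image.fac i', hz.eq_of_src (Abelian.image.ι i') 0, comp_zero]

end Groth.Agent.S6722
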