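import Groth.Statements.S6729
import Groth.Agent.S6717
import Groth.Agent.QCoh.DevissageP
import Groth.Agent.Lib.CurveDeg
import Groth.Agent.AmpleVan.Vanish
open AlgebraicGeometry CategoryTheory CategoryTheory.Limits

/-- Resolutions by objects of `P`. -/
theorem Groth.Agent.S6729.exists_res.{v, w} {A : Type w} [Category.{v} A] [Abelian A]
    (P Q : A → Prop) (hP : ∀ K, Q K → ∃ (Y : A) (π : Y ⟶ K), P Y ∧ Epi π ∧ Q (kernel π)) (F : A) (hF : Q F) :
    ∃ (C : ChainComplex A ℕ) (π : C ⟶ (ChainComplex.single₀ A).obj F), QuasiIso π ∧ ∀ n, P (C.X n) := by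
  classical
  choose Y π hY hπ hQ using hP
  let K : ℕ → {M : A // Q M} := fun n => Nat.rec ⟨F, hF⟩ (fun _ M => ⟨_, hQ M.1 M.2⟩) n
  let Z : ℕ → A := fun n => Y (K n).1 (K n).2
  let p : ∀ n, Z n ⟶ (K n).1 := fun n => π (K n).1 (K n).2
  haveI : ∀ n, Epi (p n) := fun n => hπ _ _
  let ι : ∀ n, (K (n+1)).1 ⟶ Z n := fun n => kernel.ι (p n)
  have hw : ∀ n, ι n ≫ p n = 0 := fun n => kernel.condition _
  let d : ∀ n, Z (n+1) ⟶ Z n := fun n => p (n+1) ≫ ι n
  have hd : ∀ n, d (n+1) ≫ d n = 0 := fun n => by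
    simp only [d, Category.assoc]; rw [reassoc_of% (hw (n+1))]; simp
  have hsc : ∀ n, (ShortComplex.mk (d n) (p n) (by simp [d, hw])).Exact := fun n => by
    let φ : ShortComplex.mk (d n) (p n) (by simp [d, hw]) ⟶ ShortComplex.mk (ι n) (p n) (hw n) :=
      { τ₁ := p (n+1), τ₂ := 𝟙 _, τ₃ := 𝟙 _ }
    haveI : Epi φ.τ₁ := (inferInstance : Epi (p (n+1)))
    haveI : IsIso φ.τ₂ := (inferInstance : IsIso (𝟙 _))
    haveI : Mono φ.τ₃ := (inferInstance : Mono (𝟙 _))
    exact (ShortComplex.exact_iff_of_epi_of_isIso_of_mono φ).2 (ShortComplex.exact_kernel (p n))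
  let C : ChainComplex A ℕ := ChainComplex.of Z d hd
  have hCd : ∀ n, C.d (n+1) n = d n := fun n => ChainComplex.of_d Z d n
  refine ⟨C, (ChainComplex.toSingle₀Equiv _ _).symm ⟨p 0, ?_⟩, ⟨fun n => ?_⟩, fun n => hY _ _⟩
  · show C.d (0+1) 0 ≫ p 0 = 0
    rw [hCd]; simp [d, hw]
  cases n with
  | zero =>
    rw [ChainComplex.quasiIsoAt₀_iff, ShortComplex.quasiIso_iff_of_zeros']
    · refine (ShortComplex.exact_and_epi_g_iff_of_iso ?_).2 ⟨hsc 0, inferInstanceAs (Epi (p 0))⟩
      exact ShortComplex.isoMk (Iso.refl _) (Iso.refl _) (Iso.refl _) ((Category.id_comp _).trans ((hCd 0).symm.trans (Category.comp_id _).symm)) (by simp; exact (Category.id_comp _).trans (Category.comp_id _).symm)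
    all_goals rfl
  | succ n =>
    rw [quasiIsoAt_iff_exactAt']
    · rw [HomologicalComplex.exactAt_iff' _ (n + 1 + 1) (n + 1) n (by simp) (by simp)]
      let φ : ShortComplex.mk (d (n+1)) (p (n+1)) (by simp [d, hw]) ⟶ ShortComplex.mk (d (n+1)) (d n) (hd n) :=
        { τ₁ := 𝟙 _, τ₂ := 𝟙 _, τ₃ := ι n }
      haveI : Epi φ.τ₁ := (inferInstance : Epi (𝟙 _))
      haveI : IsIso φ.τ₂ := (inferInstance : IsIso (𝟙 _))
      haveI : Mono φ.τ₃ := (inferInstance : Mono (kernel.ι (p n)))
      refine ShortComplex.exact_of_iso ?_ ((ShortComplex.exact_iff_of_epi_of_isIso_of_mono φ).1 (hsc (n+1)))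
      exact ShortComplex.isoMk (Iso.refl _) (Iso.refl _) (Iso.refl _) (by simp [hCd]; exact (Category.id_comp _).trans (Category.comp_id _).symm) (by simp [hCd]; exact (Category.id_comp _).trans (Category.comp_id _).symm)
    · apply ChainComplex.exactAt_succ_single_obj

set_option autoImplicit false
universe u
open CategoryTheory AlgebraicGeometry
open DEquiv

namespace Groth.Agent.S6729

open CategoryTheory.Limits in
/-- Let R be a Noetherian ring and X a separated scheme of finite type over R which has the resolution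
property. Let O_Δ = Δ_* O_X on X ×_R X, where Δ is the diagonal. Then there is a resolution ⋯ ⟶ E_1
⊠ G_1 ⟶ E_0 ⊠ G_0 ⟶ O_Δ ⟶ 0 with every E_i and G_i a finite locally free O_X-module: an ℕ-indexed
chain complex with a quasi-isomorphism to O_Δ in degree 0, each of whose terms is isomorphic to
pr_1^* E_i ⊗ pr_2^* G_i. -/
theorem result
    (R : Type u) [CommRing R] [IsNoetherianRing R] (X : Scheme.{u}) [X.Over (Spec (.of R))]
    [IsSeparated (X ↘ Spec (.of R))] [LocallyOfFiniteType (X ↘ Spec (.of R))] [CompactSpace X]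
    (hX : PerfAux.HasResolutionProperty X) :
    ∃ (C : ChainComplex (pullback (X ↘ Spec (.of R)) (X ↘ Spec (.of R))).Modules ℕ)
      (π : C ⟶ (ChainComplex.single₀ _).obj
        ((Coh.push (pullback.diagonal (X ↘ Spec (.of R)))).obj (Coh.structureModule X))),
      QuasiIso π ∧ ∀ n : ℕ, ∃ (E G : X.Modules), FlatMod.IsFinLocFree E ∧ FlatMod.IsFinLocFree G ∧
        Nonempty (C.X n ≅ CohB1.tensorMod
          ((Scheme.Modules.pullback (pullback.fst (X ↘ Spec (.of R)) (X ↘ Spec (.of R)))).obj E)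
          ((Scheme.Modules.pullback (pullback.snd (X ↘ Spec (.of R)) (X ↘ Spec (.of R)))).obj G)) := by
  classical
  let x := X ↘ Spec (CommRingCat.of R)
  haveI : IsLocallyNoetherian X := LocallyOfFiniteType.isLocallyNoetherian x
  haveI : QuasiSeparatedSpace X := inferInstance
  haveI : LocallyOfFiniteType (pullback.fst x x) := inferInstance
  haveI : IsLocallyNoetherian (pullback x x) := LocallyOfFiniteType.isLocallyNoetherian (pullback.fst x x)
  haveI : QuasiCompact x := inferInstance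
  haveI : CompactSpace ↥(pullback x x) := QuasiCompact.compactSpace_of_compactSpace (pullback.fst x x)
  haveI : IsNoetherian (pullback x x) := {}
  have hΔ : Coh.IsCoh ((Coh.push (pullback.diagonal x)).obj (Coh.structureModule X)) :=
    Groth.Agent.QCoh.isCoh_push_structure _
  obtain ⟨C, π, hπ, hC⟩ := exists_res
    (fun M => ∃ (E G : X.Modules), FlatMod.IsFinLocFree E ∧ FlatMod.IsFinLocFree G ∧
        Nonempty (M ≅ CohB1.tensorMod
          ((Scheme.Modules.pullback (pullback.fst x x)).obj E)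
          ((Scheme.Modules.pullback (pullback.snd x x)).obj G)))
    Coh.IsCoh (fun K hK => by
      obtain ⟨E, G, hE, hG, φ, hφ⟩ := Groth.Agent.S6717.result R X X hX hX K hK.1 hK.2
      refine ⟨_, φ, ⟨E, G, hE, hG, ⟨Iso.refl _⟩⟩, hφ, Groth.Agent.QCoh.isCoh_kernel ?_ hK φ⟩
      exact Groth.Agent.AmpleVan.isCoh_tensor
        (Groth.Agent.CurveDeg.isCoh_of_isFinLocFree (Groth.Agent.KFlatLib.isFinLocFree_pullback _ hE))
        (Groth.Agent.CurveDeg.isCoh_of_isFinLocFree (Groth.Agent.KFlatLib.isFinLocFree_pullback _ hG))) _ hΔ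
  exact ⟨C, π, hπ, hC⟩

end Groth.Agent.S6729
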