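import Groth.Statements.S6732
import Mathlib

set_option autoImplicit false
universe w v u
open CategoryTheory
open DEquiv

namespace Groth.Agent.S6732

open CategoryTheory.Limits CategoryTheory.Pretriangulated in
/-- Let k be a field and T a k-linear triangulated category with dim_k Hom(X, Y) < ∞ for all X, Y, and
let (S, c) be a Serre functor: a k-linear equivalence T ⥤ T with k-linear isomorphisms c_{X,Y} :
Hom(X, Y) ≅ Hom(Y, S X)^∨ natural in X and Y. Then S is an exact functor of triangulated categories: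
there is an isomorphism of functors S ∘ ⟦1⟧ ≅ ⟦1⟧ ∘ S such that for every distinguished triangle (A,
B, C, f, g, h) the triangle (S A, S B, S C, S f, S g, S h followed by that isomorphism at A) is
distinguished. -/
theorem result
    {k : Type w} [Field k]
    {T : Type u} [Category.{v} T] [Preadditive T] [Linear k T] [HasZeroObject T] [HasShift T ℤ]
    [∀ n : ℤ, (shiftFunctor T n).Additive] [∀ n : ℤ, (shiftFunctor T n).Linear k] [Pretriangulated T]
    [IsTriangulated T] [∀ X Y : T, Module.Finite k (X ⟶ Y)]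
    (S : T ≌ T) [S.functor.Additive] [S.functor.Linear k]
    (c : ∀ X Y : T, (X ⟶ Y) ≃ₗ[k] Module.Dual k (Y ⟶ S.functor.obj X))
    (hc₁ : ∀ (X Y Y' : T) (f : X ⟶ Y) (g : Y ⟶ Y'),
      c X Y' (f ≫ g) = (c X Y f) ∘ₗ Linear.leftComp k (S.functor.obj X) g)
    (hc₂ : ∀ (X' X Y : T) (a : X' ⟶ X) (f : X ⟶ Y),
      c X' Y (a ≫ f) = (c X Y f) ∘ₗ Linear.rightComp k Y (S.functor.map a)) :
    ∃ e : shiftFunctor T (1 : ℤ) ⋙ S.functor ≅ S.functor ⋙ shiftFunctor T (1 : ℤ),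
      ∀ T' ∈ distTriang T,
        Triangle.mk (S.functor.map T'.mor₁) (S.functor.map T'.mor₂)
          (S.functor.map T'.mor₃ ≫ e.hom.app T'.obj₁) ∈ distTriang T := by
  classical
  let F := S.functor
  let tr : ∀ X : T, Module.Dual k (X ⟶ F.obj X) := fun X => c X X (𝟙 X)
  have hc : ∀ (X Y : T) (f : X ⟶ Y) (u : Y ⟶ F.obj X), c X Y f u = tr X (f ≫ u) := fun X Y f u => by
    have := LinearMap.congr_fun (hc₁ X X Y (𝟙 X) f) u
    rwa [Category.id_comp] at this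
  have hcyc : ∀ (X' X : T) (a : X' ⟶ X) (u : X ⟶ F.obj X'), tr X' (a ≫ u) = tr X (u ≫ F.map a) := fun X' X a u => by
    have := LinearMap.congr_fun (hc₂ X' X X a (𝟙 X)) u
    rw [Category.comp_id, hc] at this
    exact this
  have hrep : ∀ (X Y : T) (Φ : Module.Dual k (X ⟶ Y)), ∃ u : Y ⟶ F.obj X, ∀ f, Φ f = tr X (f ≫ u) := fun X Y Φ => by
    obtain ⟨u, hu⟩ := (Module.evalEquiv k (Y ⟶ F.obj X)).surjective (Φ ∘ₗ (c X Y).symm.toLinearMap)
    refine ⟨u, fun f => ?_⟩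
    have := LinearMap.congr_fun hu (c X Y f)
    rw [LinearMap.comp_apply, LinearEquiv.coe_coe, LinearEquiv.symm_apply_apply] at this
    rw [← this, ← hc]
    rfl
  have hsep : ∀ (X Y : T) (u : Y ⟶ F.obj X), (∀ f : X ⟶ Y, tr X (f ≫ u) = 0) → u = 0 := fun X Y u hu => by
    refine (Module.forall_dual_apply_eq_zero_iff k u).1 fun φ => ?_
    obtain ⟨f, rfl⟩ := (c X Y).surjective φ
    rw [hc]
    exact hu f
  have hext : ∀ (X Y : T) (u u' : Y ⟶ F.obj X), (∀ f : X ⟶ Y, tr X (f ≫ u) = tr X (f ≫ u')) → u = u' :=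
    fun X Y u u' hu => sub_eq_zero.1 (hsep X Y _ fun f => by rw [Preadditive.comp_sub, map_sub, hu, sub_self])
  have hexact : ∀ {U V W : T} (f : U ⟶ V) (g : V ⟶ W), f ≫ g = 0 →
      (∀ (X : T) (b : V ⟶ X), f ≫ b = 0 → ∃ b', b = g ≫ b') →
      ∀ (X : T) (y : X ⟶ F.obj V), y ≫ F.map g = 0 → ∃ z, z ≫ F.map f = y := fun {U V W} f g _ hfg X y hy => by
    let L : (V ⟶ X) →ₗ[k] (U ⟶ X) := Linear.leftComp k X f
    let φ : Module.Dual k (V ⟶ X) := tr V ∘ₗ Linear.rightComp k V y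
    have hker : φ ∈ L.ker.dualAnnihilator := (Submodule.mem_dualAnnihilator φ).2 fun b hb => by
      obtain ⟨b', rfl⟩ := hfg X b hb
      show tr V ((g ≫ b') ≫ y) = 0
      rw [Category.assoc, hcyc, Category.assoc, hy, comp_zero, map_zero]
    rw [← LinearMap.range_dualMap_eq_dualAnnihilator_ker] at hker
    obtain ⟨Φ, hΦ⟩ := hker
    obtain ⟨z, hz⟩ := hrep U X Φ
    refine ⟨z, hext V X _ _ fun b => ?_⟩
    have h1 : Φ (f ≫ b) = tr V (b ≫ y) := LinearMap.congr_fun hΦ b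
    rw [← h1, hz, ← Category.assoc, ← hcyc, Category.assoc]
  let σ := shiftFunctor T (1 : ℤ)
  let sl : ∀ X Y : T, (X ⟶ Y) ≃ₗ[k] (σ.obj X ⟶ σ.obj Y) := fun X Y =>
    LinearEquiv.ofBijective (σ.mapLinearMap k)
      ⟨σ.map_injective, σ.map_surjective⟩
  have hpre : ∀ A : T, ∃ ei : σ.obj (F.obj A) ⟶ F.obj (σ.obj A), ∀ r : A ⟶ F.obj A,
      tr (σ.obj A) (σ.map r ≫ ei) = -tr A r := fun A => by
    obtain ⟨ei, hei⟩ := hrep (σ.obj A) (σ.obj (F.obj A)) (-(tr A ∘ₗ (sl A (F.obj A)).symm.toLinearMap))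
    refine ⟨ei, fun r => ?_⟩
    rw [← hei]
    show -tr A ((sl A (F.obj A)).symm (sl A (F.obj A) r)) = _
    rw [LinearEquiv.symm_apply_apply]
  choose ei hei using hpre
  have hnat : ∀ {A A' : T} (a : A ⟶ A'), σ.map (F.map a) ≫ ei A' = ei A ≫ F.map (σ.map a) := fun {A A'} a => by
    refine hext _ _ _ _ fun b => ?_
    obtain ⟨b, rfl⟩ := σ.map_surjective b
    rw [← Category.assoc (σ.map b), ← σ.map_comp, hei, ← hcyc]
    conv_rhs => rw [← Category.assoc (σ.map b), ← hcyc, ← Category.assoc, ← σ.map_comp, hei]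
  have hiso : ∀ A : T, IsIso (ei A) := fun A => by
    refine isIso_of_yoneda_map_bijective (ei A) fun X => ?_
    obtain ⟨X', ⟨eX⟩⟩ : ∃ X', Nonempty (σ.obj X' ≅ X) :=
      ⟨(shiftFunctor T (-1 : ℤ)).obj X, ⟨(shiftFunctorCompIsoId T (-1 : ℤ) 1 (by simp)).app X⟩⟩
    let Lr : (X ⟶ σ.obj (F.obj A)) →ₗ[k] (X ⟶ F.obj (σ.obj A)) := Linear.rightComp k X (ei A)
    have hinj : Function.Injective Lr := (injective_iff_map_eq_zero Lr).2 fun r hr => by
      obtain ⟨r', hr'⟩ := σ.map_surjective (eX.hom ≫ r)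
      have h0 : r' = 0 := hsep A X' r' fun b => by
        have h1 : tr (σ.obj A) ((σ.map b ≫ eX.hom) ≫ (r ≫ ei A)) = 0 := by
          rw [show r ≫ ei A = 0 from hr, comp_zero, map_zero]
        rw [show (σ.map b ≫ eX.hom) ≫ (r ≫ ei A) = σ.map (b ≫ r') ≫ ei A by
          rw [σ.map_comp, hr']; simp only [Category.assoc], hei, neg_eq_zero] at h1
        exact h1
      rw [h0, σ.map_zero] at hr'
      rw [← cancel_epi eX.hom, ← hr', comp_zero]
    have hd : Module.finrank k (X ⟶ σ.obj (F.obj A)) = Module.finrank k (X ⟶ F.obj (σ.obj A)) := by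
      have e1 : (X ⟶ σ.obj (F.obj A)) ≃ₗ[k] (X' ⟶ F.obj A) :=
        (Linear.homCongr k eX.symm (Iso.refl _)) ≪≫ₗ (sl X' (F.obj A)).symm
      have e2 : (σ.obj A ⟶ X) ≃ₗ[k] (A ⟶ X') :=
        (Linear.homCongr k (Iso.refl _) eX.symm) ≪≫ₗ (sl A X').symm
      rw [e1.finrank_eq, ← Subspace.dual_finrank_eq, ← (c A X').finrank_eq, ← e2.finrank_eq,
        (c (σ.obj A) X).finrank_eq, Subspace.dual_finrank_eq]
    exact ⟨hinj, (LinearMap.injective_iff_surjective_of_finrank_eq_finrank hd).1 hinj⟩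
  let eiIso : ∀ A : T, σ.obj (F.obj A) ≅ F.obj (σ.obj A) := fun A =>
    haveI := hiso A
    asIso (ei A)
  let e : σ ⋙ F ≅ F ⋙ σ := (NatIso.ofComponents eiIso fun a => hnat a).symm
  refine ⟨e, fun T' hT' => ?_⟩
  obtain ⟨A, B, C, f, g, h⟩ := T'
  obtain ⟨C', j, k', hC⟩ := distinguished_cocone_triangle (F.map f)
  have heA : e.hom.app A = (eiIso A).inv := rfl
  let L : (C ⟶ F.obj B) × (σ.obj A ⟶ C') →ₗ[k] (C ⟶ C') :=
    (Linear.rightComp k C j).coprod (Linear.leftComp k C' h)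
  let φ : Module.Dual k ((C ⟶ F.obj B) × (σ.obj A ⟶ C')) :=
    (tr B ∘ₗ Linear.leftComp k (F.obj B) g).coprod (tr (σ.obj A) ∘ₗ Linear.rightComp k (σ.obj A) (k' ≫ ei A))
  have hφ : φ ∈ L.ker.dualAnnihilator := (Submodule.mem_dualAnnihilator φ).2 fun ab hab => by
    obtain ⟨a, b⟩ := ab
    have hab' : a ≫ j = h ≫ (-b) := by
      rw [Preadditive.comp_neg]
      exact eq_neg_of_add_eq_zero_left (LinearMap.mem_ker.1 hab)
    obtain ⟨cc, hc₁', hc₂'⟩ : ∃ cc : B ⟶ F.obj A, g ≫ a = cc ≫ F.map f ∧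
        (-(σ.map f)) ≫ σ.map cc = (-b) ≫ k' := complete_distinguished_triangle_morphism₁ (Triangle.mk f g h).rotate
      (Triangle.mk (F.map f) j k') (rot_of_distTriang _ hT') hC a (-b) hab'.symm
    show tr B (g ≫ a) + tr (σ.obj A) (b ≫ k' ≫ ei A) = 0
    have h2 : (-(σ.map f)) ≫ σ.map cc = (-b) ≫ k' := hc₂'
    replace h2 : σ.map f ≫ σ.map cc = b ≫ k' :=
      neg_injective (((Preadditive.neg_comp _ _).symm.trans h2).trans (Preadditive.neg_comp _ _))
    rw [← σ.map_comp] at h2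
    have h1 : g ≫ a = cc ≫ F.map f := hc₁'
    rw [h1, ← hcyc, ← Category.assoc b, ← h2, hei, add_neg_cancel]
  rw [← LinearMap.range_dualMap_eq_dualAnnihilator_ker] at hφ
  obtain ⟨Φ, hΦ⟩ := hφ
  obtain ⟨ψ, hψ⟩ := hrep C C' Φ
  have hψg : j ≫ ψ = F.map g := hext C (F.obj B) _ _ fun a => by
    have h1 : Φ (a ≫ j + h ≫ 0) = tr B (g ≫ a) + tr (σ.obj A) (0 ≫ k' ≫ ei A) := LinearMap.congr_fun hΦ (a, 0)
    rw [comp_zero, add_zero, zero_comp, map_zero, add_zero, hψ, Category.assoc] at h1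
    rw [h1, hcyc]
  have hψh : ψ ≫ F.map h = k' ≫ ei A := hext (σ.obj A) C' _ _ fun b => by
    have h1 : Φ ((0 : C ⟶ F.obj B) ≫ j + h ≫ b) = tr B (g ≫ 0) + tr (σ.obj A) (b ≫ k' ≫ ei A) :=
      LinearMap.congr_fun hΦ (0, b)
    rw [comp_zero, map_zero, zero_add, zero_comp, zero_add, hψ, Category.assoc, hcyc, Category.assoc] at h1
    exact h1
  have hk : ψ ≫ F.map h ≫ (eiIso A).inv = k' := by
    rw [← Category.assoc, hψh, Category.assoc]
    exact (congrArg (k' ≫ ·) (eiIso A).hom_inv_id).trans (Category.comp_id _)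
  have hψiso : IsIso ψ := by
    refine isIso_of_yoneda_map_bijective ψ fun X => ⟨(injective_iff_map_eq_zero (Preadditive.rightComp X ψ)).2 fun x hx => ?_, fun y => ?_⟩
    · have hx' : x ≫ ψ = 0 := hx
      have hxk : x ≫ k' = 0 := by rw [← hk, ← Category.assoc, hx', zero_comp]
      obtain ⟨y, rfl⟩ : ∃ y : X ⟶ F.obj B, x = y ≫ j := Triangle.coyoneda_exact₃ _ hC x hxk
      change (y ≫ j) ≫ ψ = 0 at hx'
      rw [Category.assoc, hψg] at hx'
      obtain ⟨z, rfl⟩ := hexact f g (comp_distTriang_mor_zero₁₂ _ hT')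
        (fun Y b hb => Triangle.yoneda_exact₂ _ hT' b hb) X y hx'
      show (z ≫ F.map f) ≫ j = 0
      rw [Category.assoc, show F.map f ≫ j = 0 from comp_distTriang_mor_zero₁₂ _ hC, comp_zero]
    · let t : X ⟶ σ.obj (F.obj A) := y ≫ F.map h ≫ (eiIso A).inv
      have hnat' : (eiIso A).inv ≫ σ.map (F.map f) = F.map (σ.map f) ≫ (eiIso B).inv := by
        rw [Iso.inv_comp_eq, ← Category.assoc, Iso.eq_comp_inv]
        exact hnat f
      have hhf : h ≫ σ.map f = 0 := comp_distTriang_mor_zero₃₁ _ hT'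
      have ht : t ≫ σ.map (F.map f) = 0 := by
        simp only [t, Category.assoc, hnat']
        rw [← Category.assoc (F.map h), ← F.map_comp, hhf, F.map_zero, zero_comp, comp_zero]
      obtain ⟨x, hx⟩ : ∃ x : X ⟶ C', t = x ≫ k' := Triangle.coyoneda_exact₁ _ hC t ht
      have hy : (y - x ≫ ψ) ≫ F.map h = 0 := by
        rw [← cancel_mono (eiIso A).inv, zero_comp, Preadditive.sub_comp, Preadditive.sub_comp,
          Category.assoc, Category.assoc, Category.assoc, hk]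
        exact sub_eq_zero.2 hx
      obtain ⟨z, hz⟩ := hexact g h (comp_distTriang_mor_zero₂₃ _ hT')
        (fun Y b hb => Triangle.yoneda_exact₃ _ hT' b hb) X (y - x ≫ ψ) hy
      refine ⟨x + z ≫ j, ?_⟩
      show (x + z ≫ j) ≫ ψ = y
      rw [Preadditive.add_comp, Category.assoc, hψg, hz, add_sub_cancel]
  haveI := hψiso
  refine isomorphic_distinguished _ hC _ (Triangle.isoMk _ _ (Iso.refl _) (Iso.refl _) (asIso ψ).symm
    ((Category.comp_id _).trans (Category.id_comp _).symm) ?_ ?_)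
  · show F.map g ≫ inv ψ = 𝟙 _ ≫ j
    rw [Category.id_comp, ← hψg, Category.assoc, IsIso.hom_inv_id, Category.comp_id]
  · show (F.map h ≫ e.hom.app A) ≫ σ.map (𝟙 _) = inv ψ ≫ k'
    rw [σ.map_id, IsIso.eq_inv_comp]
    exact ((congrArg (ψ ≫ ·) (Category.comp_id _)).trans hk)

end Groth.Agent.S6732
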