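import Groth.Statements.S6736
import Groth.Agent.H6Proj.Acyclic

open AlgebraicGeometry CategoryTheory CategoryTheory.Limits

set_option autoImplicit false
universe u
open CategoryTheory CategoryTheory.Limits AlgebraicGeometry
open FunMor

namespace Groth.Agent.S6736

/-- Let R be a ring and X, Y schemes over R with X quasi-compact with affine diagonal. Let K be a
quasi-coherent module on X ×_R Y which is flat over X and such that R^q pr_{2,*}(pr_1^* F ⊗ K) = 0
for all quasi-coherent O_X-modules F and all q > 0. Then for every scheme T over R and every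
quasi-coherent module F on T ×_R X, R^q pr_{13,*}(pr_{12}^* F ⊗ pr_{23}^* K) = 0 for all q > 0. Here
T ×_R X ×_R Y is realised as (T ×_R X) ×_X (X ×_R Y), with pr_{12}, pr_{23} its two projections and
pr_{13} the morphism to T ×_R Y determined by its two components. (Higher direct images as right
derived functors; the injective-resolution instances hold for module categories of schemes but are
carried as binders.) -/
theorem result
    (R : Type u) [CommRing R] (X Y : Scheme.{u}) [X.Over (Spec (.of R))] [Y.Over (Spec (.of R))]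
    [CompactSpace X] [IsAffineHom (pullback.diagonal (X ↘ Spec (.of R)))]
    [HasInjectiveResolutions (pullback (X ↘ Spec (.of R)) (Y ↘ Spec (.of R))).Modules]
    (K : (pullback (X ↘ Spec (.of R)) (Y ↘ Spec (.of R))).Modules) (hKq : Coh.IsQCoh K)
    (hKfl : FlatMod.IsFlatOver (pullback.fst (X ↘ Spec (.of R)) (Y ↘ Spec (.of R))) K)
    (hKac : ∀ (F : X.Modules), Coh.IsQCoh F → ∀ q : ℕ, 0 < q →
      IsZero ((Coh.Rpush (pullback.snd (X ↘ Spec (.of R)) (Y ↘ Spec (.of R))) q).obj
        (CohB1.tensorMod ((Scheme.Modules.pullback (pullback.fst (X ↘ Spec (.of R)) (Y ↘ Spec (.of R)))).obj F) K)))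
    (T : Scheme.{u}) [T.Over (Spec (.of R))]
    [HasInjectiveResolutions (pullback (pullback.snd (T ↘ Spec (.of R)) (X ↘ Spec (.of R))) (pullback.fst (X ↘ Spec (.of R)) (Y ↘ Spec (.of R)))).Modules]
    (pr₁₃ : (pullback (pullback.snd (T ↘ Spec (.of R)) (X ↘ Spec (.of R))) (pullback.fst (X ↘ Spec (.of R)) (Y ↘ Spec (.of R)))) ⟶ (pullback (T ↘ Spec (.of R)) (Y ↘ Spec (.of R))))
    (h₁ : pr₁₃ ≫ pullback.fst (T ↘ Spec (.of R)) (Y ↘ Spec (.of R)) =
      pullback.fst _ _ ≫ pullback.fst (T ↘ Spec (.of R)) (X ↘ Spec (.of R)))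
    (h₂ : pr₁₃ ≫ pullback.snd (T ↘ Spec (.of R)) (Y ↘ Spec (.of R)) =
      pullback.snd _ _ ≫ pullback.snd (X ↘ Spec (.of R)) (Y ↘ Spec (.of R)))
    (F : (pullback (T ↘ Spec (.of R)) (X ↘ Spec (.of R))).Modules) (hF : Coh.IsQCoh F) (q : ℕ) (hq : 0 < q) :
    IsZero ((Coh.Rpush pr₁₃ q).obj
      (CohB1.tensorMod
        ((Scheme.Modules.pullback
          (pullback.fst (pullback.snd (T ↘ Spec (.of R)) (X ↘ Spec (.of R))) (pullback.fst (X ↘ Spec (.of R)) (Y ↘ Spec (.of R))))).obj F)
        ((Scheme.Modules.pullback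
          (pullback.snd (pullback.snd (T ↘ Spec (.of R)) (X ↘ Spec (.of R))) (pullback.fst (X ↘ Spec (.of R)) (Y ↘ Spec (.of R))))).obj K))) := by
  haveI : IsAffineHom (pullback.diagonal (X ↘ Spec (.of R))) := inferInstance
  haveI : QuasiSeparated (X ↘ Spec (.of R)) := ⟨inferInstance⟩
  haveI : QuasiCompact (X ↘ Spec (.of R)) := inferInstance
  let t := T ↘ Spec (.of R)
  let x := X ↘ Spec (.of R)
  let y := Y ↘ Spec (.of R)
  let a := pullback.fst (pullback.snd t x) (pullback.fst x y)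
  let b := pullback.snd (pullback.snd t x) (pullback.fst x y)
  have hsq : IsPullback b pr₁₃ (pullback.snd x y) (pullback.snd t y) := by
    have h := (IsPullback.of_hasPullback (pullback.snd t x) (pullback.fst x y)).flip.paste_vert
      (IsPullback.of_hasPullback t x).flip
    rw [← h₁, pullback.condition] at h
    exact IsPullback.of_bot h h₂.symm (IsPullback.of_hasPullback t y).flip
  haveI : QuasiCompact pr₁₃ := MorphismProperty.of_isPullback hsq inferInstance
  haveI : QuasiSeparated pr₁₃ := MorphismProperty.of_isPullback hsq inferInstance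
  have hM : Coh.IsQCoh ((DCoh.tensorBi.obj ((Scheme.Modules.pullback a).obj F)).obj
      ((Scheme.Modules.pullback b).obj K)) :=
    Groth.Agent.KFlatLib.isQCoh_tensor (Groth.Agent.QCoh.isQCoh_pullback a hF)
      (Groth.Agent.QCoh.isQCoh_pullback b hKq)
  let ι := {T0 : T.Opens // IsAffineOpen T0} × {V : Y.Opens // IsAffineOpen V}
  refine Groth.Agent.H6Proj.isZero_Rpush_of_HH pr₁₃ hM q
    (fun i : ι => (pullback.fst t y) ⁻¹ᵁ i.1.1 ⊓ (pullback.snd t y) ⁻¹ᵁ i.2.1) ?_ ?_ ?_
  · rintro ⟨⟨T0, hT⟩, ⟨V, hV⟩⟩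
    haveI : IsAffine T0.toScheme := hT
    haveI : IsAffine V.toScheme := hV
    have : (pullback.fst t y) ⁻¹ᵁ T0 ⊓ (pullback.snd t y) ⁻¹ᵁ V =
        (pullback.map (T0.ι ≫ t) (V.ι ≫ y) t y T0.ι V.ι (𝟙 _) (Category.comp_id _)
          (Category.comp_id _)).opensRange := by
      ext1
      rw [Scheme.Hom.coe_opensRange, Scheme.Pullback.range_map, Scheme.Opens.range_ι,
        Scheme.Opens.range_ι]
      rfl
    rw [this]
    exact isAffineOpen_opensRange _
  · intro z
    obtain ⟨T0, hT, hzT, -⟩ := exists_isAffineOpen_mem_and_subset (X := T) (U := ⊤)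
      (x := pullback.fst t y z) trivial
    obtain ⟨V, hV, hzV, -⟩ := exists_isAffineOpen_mem_and_subset (X := Y) (U := ⊤)
      (x := pullback.snd t y z) trivial
    exact ⟨(⟨T0, hT⟩, ⟨V, hV⟩), hzT, hzV⟩
  rintro ⟨⟨T0, hT⟩, ⟨V, hV⟩⟩
  haveI : IsAffine T0.toScheme := hT
  let jA : pullback (T0.ι ≫ t) x ⟶ pullback t x :=
    pullback.map _ _ _ _ T0.ι (𝟙 X) (𝟙 _) (Category.comp_id _) (by simp)
  let jB : pullback x (V.ι ≫ y) ⟶ pullback x y :=
    pullback.map _ _ _ _ (𝟙 X) V.ι (𝟙 _) (by simp) (Category.comp_id _)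
  haveI : IsOpenImmersion jA := inferInstance
  haveI : IsOpenImmersion jB := inferInstance
  let qA := pullback.snd (T0.ι ≫ t) x
  let p := pullback.fst x (V.ι ≫ y)
  haveI : IsAffineHom (T0.ι ≫ t) := isAffineHom_of_isAffine _
  haveI : IsAffineHom qA := MorphismProperty.pullback_snd _ _ inferInstance
  have eA : qA ≫ 𝟙 X = jA ≫ pullback.snd t x := (pullback.lift_snd _ _ _).symm
  have eB : p ≫ 𝟙 X = jB ≫ pullback.fst x y := (pullback.lift_fst _ _ _).symm
  let j := pullback.map qA p (pullback.snd t x) (pullback.fst x y) jA jB (𝟙 X) eA eB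
  haveI : IsOpenImmersion j := inferInstance
  have hrA : Set.range jA = (pullback.fst t x) ⁻¹' (T0 : Set T) := by
    show Set.range (pullback.map _ _ _ _ T0.ι (𝟙 X) (𝟙 _) _ _) = _
    rw [Scheme.Pullback.range_map, Scheme.Opens.range_ι]
    simp
  have hrB : Set.range jB = (pullback.snd x y) ⁻¹' (V : Set Y) := by
    show Set.range (pullback.map _ _ _ _ (𝟙 X) V.ι (𝟙 _) _ _) = _
    rw [Scheme.Pullback.range_map, Scheme.Opens.range_ι]
    simp
  have hj : j.opensRange = pr₁₃ ⁻¹ᵁ ((pullback.fst t y) ⁻¹ᵁ T0 ⊓ (pullback.snd t y) ⁻¹ᵁ V) := by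
    rw [Scheme.Hom.preimage_inf, ← Scheme.Hom.comp_preimage, ← Scheme.Hom.comp_preimage, h₁, h₂]
    ext1
    rw [Scheme.Hom.coe_opensRange]
    show Set.range (pullback.map qA p (pullback.snd t x) (pullback.fst x y) jA jB (𝟙 X) eA eB) = _
    rw [Scheme.Pullback.range_map, hrA, hrB]
    rfl
  refine (Groth.Agent.H6Proj.subsingleton_HH_restrict_iff j _ hj hM q).2 ?_
  have hFA := Groth.Agent.QCoh.isQCoh_pullback jA hF
  have hKB := Groth.Agent.QCoh.isQCoh_pullback jB hKq
  have ea : j ≫ a = pullback.fst qA p ≫ jA := pullback.lift_fst _ _ _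
  have eb : j ≫ b = pullback.snd qA p ≫ jB := pullback.lift_snd _ _ _
  let c : (Scheme.Modules.pullback j).obj ((DCoh.tensorBi.obj ((Scheme.Modules.pullback a).obj F)).obj
      ((Scheme.Modules.pullback b).obj K)) ≅
      (DCoh.tensorBi.obj ((Scheme.Modules.pullback (pullback.fst qA p)).obj
        ((Scheme.Modules.pullback jA).obj F))).obj
        ((Scheme.Modules.pullback (pullback.snd qA p)).obj ((Scheme.Modules.pullback jB).obj K)) :=
    ((Groth.Agent.KFlatLib.pullTensorBiIso j).app _).app _ ≪≫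
      (DCoh.tensorBi.mapIso ((Scheme.Modules.pullbackComp j a).app F ≪≫
        (Scheme.Modules.pullbackCongr ea).app F ≪≫ ((Scheme.Modules.pullbackComp _ jA).app F).symm)).app _ ≪≫
      (DCoh.tensorBi.obj _).mapIso ((Scheme.Modules.pullbackComp j b).app K ≪≫
        (Scheme.Modules.pullbackCongr eb).app K ≪≫ ((Scheme.Modules.pullbackComp _ jB).app K).symm)
  refine Groth.Agent.QCoh.subsingleton_HH_of_iso c.symm q ?_
  refine Groth.Agent.H6Proj.subsingleton_pullback_of_push qA p (IsPullback.of_hasPullback qA p) hFA hKB q ?_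
  let G := (Scheme.Modules.pushforward qA).obj ((Scheme.Modules.pullback jA).obj F)
  have hG : Coh.IsQCoh G := Groth.Agent.QCoh.isQCoh_pushforward qA hFA
  have hN : Coh.IsQCoh ((DCoh.tensorBi.obj ((Scheme.Modules.pullback (pullback.fst x y)).obj G)).obj K) :=
    Groth.Agent.KFlatLib.isQCoh_tensor (Groth.Agent.QCoh.isQCoh_pullback _ hG) hKq
  have h0 := Groth.Agent.H6Proj.subsingleton_HH_of_isZero_Rpush (pullback.snd x y) hN q (hKac G hG q hq) hV
  have hjB : jB.opensRange = (pullback.snd x y) ⁻¹ᵁ V := by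
    ext1
    rw [Scheme.Hom.coe_opensRange, hrB]
    rfl
  have h3 := (Groth.Agent.H6Proj.subsingleton_HH_restrict_iff jB _ hjB hN q).1 h0
  have ep : jB ≫ pullback.fst x y = p := by rw [← eB, Category.comp_id]
  exact Groth.Agent.QCoh.subsingleton_HH_of_iso
    (((Groth.Agent.KFlatLib.pullTensorBiIso jB).app _).app _ ≪≫
      (DCoh.tensorBi.mapIso ((Scheme.Modules.pullbackComp jB _).app G ≪≫
        (Scheme.Modules.pullbackCongr ep).app G)).app _) q h3

end Groth.Agent.S6736
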