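import Groth.Statements.S6762
import Groth.Agent.H6Proj.Affine
import Groth.Agent.S12131
import Groth.Agent.Exactness.Functor

open AlgebraicGeometry CategoryTheory CategoryTheory.Limits in
theorem Groth.Agent.S6762.nonempty_bc.{w} {X S X' S' : Scheme.{w}} (f : X ⟶ S) (g : S' ⟶ S)
    (g' : X' ⟶ X) (f' : X' ⟶ S') (h : IsPullback g' f' f g) [IsAffineHom f] :
    Nonempty (ObjectProperty.ι (QCohCat.isQCoh X) ⋙ Scheme.Modules.pushforward f ⋙ Scheme.Modules.pullback g ≅
      ObjectProperty.ι (QCohCat.isQCoh X) ⋙ Scheme.Modules.pullback g' ⋙ Scheme.Modules.pushforward f') := by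
  let α : Scheme.Modules.pushforward f ⟶
      Scheme.Modules.pullback g' ⋙ Scheme.Modules.pushforward f' ⋙ Scheme.Modules.pushforward g :=
    { app := fun F => (Scheme.Modules.pushforward f).map ((Scheme.Modules.pullbackPushforwardAdjunction g').unit.app F) ≫
        (Scheme.Modules.pushforwardComp g' f).hom.app ((Scheme.Modules.pullback g').obj F) ≫
        (Scheme.Modules.pushforwardCongr h.w).hom.app ((Scheme.Modules.pullback g').obj F) ≫
        (Scheme.Modules.pushforwardComp f' g).inv.app ((Scheme.Modules.pullback g').obj F)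
      naturality := fun F G φ =>
        (Functor.whiskerRight (Scheme.Modules.pullbackPushforwardAdjunction g').unit (Scheme.Modules.pushforward f) ≫
          Functor.whiskerLeft (Scheme.Modules.pullback g') ((Scheme.Modules.pushforwardComp g' f).hom ≫
            (Scheme.Modules.pushforwardCongr h.w).hom ≫ (Scheme.Modules.pushforwardComp f' g).inv)).naturality φ }
  refine ⟨NatIso.ofComponents (fun F => @asIso _ _ _ _
    (((Scheme.Modules.pullbackPushforwardAdjunction g).homEquiv _ _).symm (α.app F.obj))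
    (@Groth.Agent.S12131.result _ _ _ _ f g g' f' h ‹_› F.obj F.property)) fun {F G} φ => ?_⟩
  show (Scheme.Modules.pullback g).map ((Scheme.Modules.pushforward f).map φ.hom) ≫
      ((Scheme.Modules.pullbackPushforwardAdjunction g).homEquiv _ _).symm (α.app G.obj) =
    ((Scheme.Modules.pullbackPushforwardAdjunction g).homEquiv _ _).symm (α.app F.obj) ≫
      (Scheme.Modules.pushforward f').map ((Scheme.Modules.pullback g').map φ.hom)
  rw [← Adjunction.homEquiv_naturality_left_symm, ← Adjunction.homEquiv_naturality_right_symm]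
  exact congrArg _ (α.naturality φ.hom)

set_option autoImplicit false
universe u
open CategoryTheory AlgebraicGeometry
attribute [local instance] HasDerivedCategory.standard
open FunMor

namespace Groth.Agent.S6762

/-- Let R be a ring, X and Y schemes over R with X affine, K a quasi-coherent O_{X ×_R Y}-module and F_K
the functor M ↦ pr_{2,*}(pr_1^* M ⊗ K). Let f : X' ⟶ X be an affine morphism, view X' over R through
f, and let g : X' ×_R Y ⟶ X ×_R Y be the morphism f × id_Y (characterised by its two components).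
Then F_K ∘ f_* is isomorphic, as a functor on quasi-coherent O_{X'}-modules, to the functor M' ↦
pr'_{2,*}(pr'^*_1 M' ⊗ g^* K) attached to the quasi-coherent module g^* K on X' ×_R Y. -/
theorem result
    (R : Type u) [CommRing R] (X Y : Scheme.{u}) [X.Over (Spec (.of R))] [Y.Over (Spec (.of R))] [IsAffine X]
    (K : (Limits.pullback (X ↘ Spec (.of R)) (Y ↘ Spec (.of R))).Modules) (hK : Coh.IsQCoh K)
    {X' : Scheme.{u}} (f : X' ⟶ X) [IsAffineHom f]
    (g : (Limits.pullback (f ≫ (X ↘ Spec (.of R))) (Y ↘ Spec (.of R))) ⟶ (Limits.pullback (X ↘ Spec (.of R)) (Y ↘ Spec (.of R))))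
    (hg₁ : g ≫ (Limits.pullback.fst (X ↘ Spec (.of R)) (Y ↘ Spec (.of R))) = (Limits.pullback.fst (f ≫ (X ↘ Spec (.of R))) (Y ↘ Spec (.of R))) ≫ f) (hg₂ : g ≫ (Limits.pullback.snd (X ↘ Spec (.of R)) (Y ↘ Spec (.of R))) = (Limits.pullback.snd (f ≫ (X ↘ Spec (.of R))) (Y ↘ Spec (.of R)))) :
    Nonempty (ObjectProperty.ι (QCohCat.isQCoh X') ⋙ Coh.push f ⋙ (Scheme.Modules.pullback (Limits.pullback.fst (X ↘ Spec (.of R)) (Y ↘ Spec (.of R))) ⋙ DCoh.tensorRightMod K ⋙ Coh.push (Limits.pullback.snd (X ↘ Spec (.of R)) (Y ↘ Spec (.of R)))) ≅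
      ObjectProperty.ι (QCohCat.isQCoh X') ⋙ (Scheme.Modules.pullback (Limits.pullback.fst (f ≫ (X ↘ Spec (.of R))) (Y ↘ Spec (.of R))) ⋙ DCoh.tensorRightMod ((Scheme.Modules.pullback g).obj K) ⋙ Coh.push (Limits.pullback.snd (f ≫ (X ↘ Spec (.of R))) (Y ↘ Spec (.of R))))) := by
  have hsq : IsPullback (Limits.pullback.fst (f ≫ (X ↘ Spec (.of R))) (Y ↘ Spec (.of R))) g f
      (Limits.pullback.fst (X ↘ Spec (.of R)) (Y ↘ Spec (.of R))) := by
    refine (IsPullback.of_right ?_ hg₁ (IsPullback.of_hasPullback (X ↘ Spec (.of R)) (Y ↘ Spec (.of R))).flip).flip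
    rw [hg₂]
    exact (IsPullback.of_hasPullback _ _).flip
  haveI : IsAffineHom g := MorphismProperty.of_isPullback hsq inferInstance
  obtain ⟨β⟩ := Groth.Agent.S6762.nonempty_bc f _ _ g hsq
  let A := ObjectProperty.ι (QCohCat.isQCoh X') ⋙
    Scheme.Modules.pullback (Limits.pullback.fst (f ≫ (X ↘ Spec (.of R))) (Y ↘ Spec (.of R)))
  have hA : ∀ M, Coh.IsQCoh (A.obj M) := fun M => Groth.Agent.QCoh.isQCoh_pullback _ M.property
  let π : A ⋙ DCoh.tensorBi ⋙ (evaluation _ _).obj ((Scheme.Modules.pullback g).obj K) ⋙ Scheme.Modules.pushforward g ≅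
      A ⋙ Scheme.Modules.pushforward g ⋙ DCoh.tensorBi ⋙ (evaluation _ _).obj K :=
    (NatIso.ofComponents (fun M => @asIso _ _ _ _ (Groth.Agent.KFlatLib.projMod g (A.obj M) K)
      (Groth.Agent.H6Proj.isIso_projMod_affine g _ K (hA M) hK))
      fun {M N} φ => Groth.Agent.KFlatLib.projMod_naturality_left g (A.map φ) K).symm
  let e2 : Scheme.Modules.pushforward g ⋙
      Coh.push (Limits.pullback.snd (X ↘ Spec (.of R)) (Y ↘ Spec (.of R))) ≅
      Coh.push (Limits.pullback.snd (f ≫ (X ↘ Spec (.of R))) (Y ↘ Spec (.of R))) :=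
    Scheme.Modules.pushforwardComp g _ ≪≫ Scheme.Modules.pushforwardCongr hg₂
  exact ⟨Functor.isoWhiskerRight β (DCoh.tensorRightMod K ⋙ Coh.push _) ≪≫
    Functor.isoWhiskerLeft A (Functor.isoWhiskerLeft (Scheme.Modules.pushforward g)
      (Functor.isoWhiskerRight (Groth.Agent.Exactness.flipTensorIso K).symm (Coh.push _))) ≪≫
    Functor.isoWhiskerRight π.symm (Coh.push _) ≪≫
    Functor.isoWhiskerLeft A (Functor.isoWhiskerLeft (DCoh.tensorBi.flip.obj _) e2) ≪≫
    Functor.isoWhiskerLeft A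
      (Functor.isoWhiskerRight (Groth.Agent.Exactness.flipTensorIso _) (Coh.push _))⟩

end Groth.Agent.S6762
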