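import Groth.Statements.S6763
import Groth.Agent.S12131
import Groth.Agent.Exactness.Functor
import Groth.Agent.KFlatLib.Scheme.PullTensorCx
import Groth.Agent.KFlatLib.Scheme.QCohTensor

open AlgebraicGeometry CategoryTheory CategoryTheory.Limits in
theorem Groth.Agent.S6763.nonempty_bc.{w} {X S X' S' : Scheme.{w}} (f : X ⟶ S) (g : S' ⟶ S)
    (g' : X' ⟶ X) (f' : X' ⟶ S') (h : IsPullback g' f' f g) [IsAffineHom f] :
    Nonempty (ObjectProperty.ι (QCohCat.isQCoh X) ⋙ Scheme.Modules.pushforward f ⋙ Scheme.Modules.pullback g ≅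
      ObjectProperty.ι (QCohCat.isQCoh X) ⋙ Scheme.Modules.pullback g' ⋙ Scheme.Modules.pushforward f') := by
  let α : Scheme.Modules.pushforward f ⟶
      Scheme.Modules.pullback g' ⋙ Scheme.Modules.pushforward f' ⋙ Scheme.Modules.pushforward g :=
    { app := fun F => (Scheme.Modules.pushforward f).map ((Scheme.Modules.pullbackPushforwardAdjunction g').unit.app F) ≫
        (Scheme.Modules.pushforwardComp g' f).hom.app ((Scheme.Modules.pullback g').obj F) ≫
        (Scheme.Modules.pushforwardCongr h.w).hom.app ((Scheme.Modules.pullback g').obj F) ≫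
        (Scheme.Modules.pushforwardComp f' g).inv.app ((Scheme.Modules.pullback g').obj F)
      naturality := fun F G φ =>
        (Functor.whiskerRight (Scheme.Modules.pullbackPushforwardAdjunction g').unit (Scheme.Modules.pushforward f) ≫
          Functor.whiskerLeft (Scheme.Modules.pullback g') ((Scheme.Modules.pushforwardComp g' f).hom ≫
            (Scheme.Modules.pushforwardCongr h.w).hom ≫ (Scheme.Modules.pushforwardComp f' g).inv)).naturality φ }
  refine ⟨NatIso.ofComponents (fun F => @asIso _ _ _ _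
    (((Scheme.Modules.pullbackPushforwardAdjunction g).homEquiv _ _).symm (α.app F.obj))
    (@Groth.Agent.S12131.result _ _ _ _ f g g' f' h ‹_› F.obj F.property)) fun {F G} φ => ?_⟩
  show (Scheme.Modules.pullback g).map ((Scheme.Modules.pushforward f).map φ.hom) ≫
      ((Scheme.Modules.pullbackPushforwardAdjunction g).homEquiv _ _).symm (α.app G.obj) =
    ((Scheme.Modules.pullbackPushforwardAdjunction g).homEquiv _ _).symm (α.app F.obj) ≫
      (Scheme.Modules.pushforward f').map ((Scheme.Modules.pullback g').map φ.hom)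
  rw [← Adjunction.homEquiv_naturality_left_symm, ← Adjunction.homEquiv_naturality_right_symm]
  exact congrArg _ (α.naturality φ.hom)

set_option autoImplicit false
universe u
open CategoryTheory AlgebraicGeometry
attribute [local instance] HasDerivedCategory.standard
open FunMor

namespace Groth.Agent.S6763

/-- Let R be a ring, X and Y schemes over R with X affine, K a quasi-coherent O_{X ×_R Y}-module and F_K
the functor M ↦ pr_{2,*}(pr_1^* M ⊗ K). Let g : Y' ⟶ Y be a flat morphism, view Y' over R through g,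
and let h : X ×_R Y' ⟶ X ×_R Y be the morphism id_X × g (characterised by its two components). Then
g^* ∘ F_K is isomorphic, as a functor on quasi-coherent O_X-modules, to the functor M ↦
pr'_{2,*}(pr'^*_1 M ⊗ h^* K) attached to the quasi-coherent module h^* K on X ×_R Y'. (The case of
an open immersion g is a special case.) -/
theorem result
    (R : Type u) [CommRing R] (X Y : Scheme.{u}) [X.Over (Spec (.of R))] [Y.Over (Spec (.of R))] [IsAffine X]
    (K : (Limits.pullback (X ↘ Spec (.of R)) (Y ↘ Spec (.of R))).Modules) (hK : Coh.IsQCoh K)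
    {Y' : Scheme.{u}} (g : Y' ⟶ Y) [Flat g]
    (h : (Limits.pullback (X ↘ Spec (.of R)) (g ≫ (Y ↘ Spec (.of R)))) ⟶ (Limits.pullback (X ↘ Spec (.of R)) (Y ↘ Spec (.of R))))
    (hh₁ : h ≫ (Limits.pullback.fst (X ↘ Spec (.of R)) (Y ↘ Spec (.of R))) = (Limits.pullback.fst (X ↘ Spec (.of R)) (g ≫ (Y ↘ Spec (.of R))))) (hh₂ : h ≫ (Limits.pullback.snd (X ↘ Spec (.of R)) (Y ↘ Spec (.of R))) = (Limits.pullback.snd (X ↘ Spec (.of R)) (g ≫ (Y ↘ Spec (.of R)))) ≫ g) :
    Nonempty ((ObjectProperty.ι (QCohCat.isQCoh X) ⋙ Scheme.Modules.pullback (Limits.pullback.fst (X ↘ Spec (.of R)) (Y ↘ Spec (.of R))) ⋙ DCoh.tensorRightMod K ⋙ Coh.push (Limits.pullback.snd (X ↘ Spec (.of R)) (Y ↘ Spec (.of R)))) ⋙ Scheme.Modules.pullback g ≅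
      ObjectProperty.ι (QCohCat.isQCoh X) ⋙ (Scheme.Modules.pullback (Limits.pullback.fst (X ↘ Spec (.of R)) (g ≫ (Y ↘ Spec (.of R)))) ⋙ DCoh.tensorRightMod ((Scheme.Modules.pullback h).obj K) ⋙ Coh.push (Limits.pullback.snd (X ↘ Spec (.of R)) (g ≫ (Y ↘ Spec (.of R)))))) := by
  haveI : IsAffineHom (X ↘ Spec (.of R)) := isAffineHom_of_isAffine _
  haveI : IsAffineHom (Limits.pullback.snd (X ↘ Spec (.of R)) (Y ↘ Spec (.of R))) :=
    MorphismProperty.pullback_snd _ _ inferInstance
  have hsq : IsPullback h (Limits.pullback.snd (X ↘ Spec (.of R)) (g ≫ (Y ↘ Spec (.of R))))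
      (Limits.pullback.snd (X ↘ Spec (.of R)) (Y ↘ Spec (.of R))) g := by
    refine IsPullback.of_right ?_ hh₂ (IsPullback.of_hasPullback (X ↘ Spec (.of R)) (Y ↘ Spec (.of R)))
    rw [hh₁]
    exact IsPullback.of_hasPullback _ _
  obtain ⟨β⟩ := Groth.Agent.S6763.nonempty_bc _ g h _ hsq
  let P := Limits.pullback (X ↘ Spec (.of R)) (Y ↘ Spec (.of R))
  let A := ObjectProperty.ι (QCohCat.isQCoh X) ⋙
    Scheme.Modules.pullback (Limits.pullback.fst (X ↘ Spec (.of R)) (Y ↘ Spec (.of R)))
  let B := ObjectProperty.lift (QCohCat.isQCoh P) (A ⋙ DCoh.tensorBi.flip.obj K)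
    fun M => Groth.Agent.KFlatLib.isQCoh_tensor (Groth.Agent.QCoh.isQCoh_pullback _ M.property) hK
  let eT : A ⋙ DCoh.tensorBi.flip.obj K ⋙ Scheme.Modules.pullback h ≅
      A ⋙ Scheme.Modules.pullback h ⋙ DCoh.tensorBi.flip.obj ((Scheme.Modules.pullback h).obj K) :=
    NatIso.ofComponents (fun M => ((Groth.Agent.KFlatLib.pullTensorBiIso h).app (A.obj M)).app K)
      fun φ => NatTrans.congr_app ((Groth.Agent.KFlatLib.pullTensorBiIso h).hom.naturality (A.map φ)) K
  let e1 : Scheme.Modules.pullback (Limits.pullback.fst (X ↘ Spec (.of R)) (Y ↘ Spec (.of R))) ⋙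
      Scheme.Modules.pullback h ≅
      Scheme.Modules.pullback (Limits.pullback.fst (X ↘ Spec (.of R)) (g ≫ (Y ↘ Spec (.of R)))) :=
    Scheme.Modules.pullbackComp h _ ≪≫ Scheme.Modules.pullbackCongr hh₁
  let R1 := ObjectProperty.ι (QCohCat.isQCoh X)
  exact ⟨Functor.isoWhiskerLeft A (Functor.isoWhiskerRight (Groth.Agent.Exactness.flipTensorIso K).symm
      (Coh.push _ ⋙ Scheme.Modules.pullback g)) ≪≫
    Functor.isoWhiskerLeft B β ≪≫
    Functor.isoWhiskerRight eT (Scheme.Modules.pushforward _) ≪≫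
    Functor.isoWhiskerLeft R1 (Functor.isoWhiskerRight e1
      (DCoh.tensorBi.flip.obj ((Scheme.Modules.pullback h).obj K) ⋙ Scheme.Modules.pushforward _)) ≪≫
    Functor.isoWhiskerLeft R1 (Functor.isoWhiskerLeft _
      (Functor.isoWhiskerRight (Groth.Agent.Exactness.flipTensorIso _) (Coh.push _)))⟩

end Groth.Agent.S6763
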