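import Groth.Statements.S6767
import Groth.Agent.S6736
import Groth.Agent.S11133
import Groth.Agent.H6Proj.Affine
import Groth.Agent.S12131
import Groth.Agent.H6FunMor.FMExact
import Groth.Agent.Exactness.Functor
import Groth.Agent.FamHom.Pull
import Groth.Agent.PicClLib.Basic
import Groth.Agent.KFlatLib.Scheme.Tensor
import Groth.Agent.S2526

open AlgebraicGeometry CategoryTheory CategoryTheory.Limits

set_option autoImplicit false
universe u
open CategoryTheory AlgebraicGeometry
attribute [local instance] HasDerivedCategory.standard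
open FunMor

namespace Groth.Agent.S6767

/-- Let R be a ring and X, Y schemes over R with X quasi-compact, separated and flat over R. Let K be a
quasi-coherent O_{X ×_R Y}-module which is flat over X and such that R^q pr_{2,*}(pr_1^* M ⊗ K) = 0
for every quasi-coherent O_X-module M and every q > 0 (right derived functors of pr_{2,*}; the
existence of injective resolutions is carried as a binder) — that is, K is the kernel of the exact
functor M ↦ pr_{2,*}(pr_1^* M ⊗ K). Then there is an epimorphism O_X ⊠ F(O_X) = pr_1^* O_X ⊗ pr_2^*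
(pr_{2,*} K) ⟶ K of O_{X ×_R Y}-modules (existence of such an epimorphism; pr_{2,*}(pr_1^* O_X ⊗ K)
is written as pr_{2,*} K). -/
theorem result
    (R : Type u) [CommRing R] (X Y : Scheme.{u}) [X.Over (Spec (.of R))] [Y.Over (Spec (.of R))] [CompactSpace X] [IsSeparated (X ↘ Spec (.of R))] [Flat (X ↘ Spec (.of R))]
    [HasInjectiveResolutions (Limits.pullback (X ↘ Spec (.of R)) (Y ↘ Spec (.of R))).Modules]
    (K : (Limits.pullback (X ↘ Spec (.of R)) (Y ↘ Spec (.of R))).Modules) (hK : Coh.IsQCoh K) (hKf : FlatMod.IsFlatOver (Limits.pullback.fst (X ↘ Spec (.of R)) (Y ↘ Spec (.of R))) K)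
    (hKa : ∀ (M : X.Modules), Coh.IsQCoh M → ∀ q : ℕ, 0 < q →
      Limits.IsZero ((Coh.Rpush (Limits.pullback.snd (X ↘ Spec (.of R)) (Y ↘ Spec (.of R))) q).obj ((DCoh.tensorRightMod K).obj ((Scheme.Modules.pullback (Limits.pullback.fst (X ↘ Spec (.of R)) (Y ↘ Spec (.of R)))).obj M)))) :
    ∃ π : CohB1.tensorMod ((Scheme.Modules.pullback (Limits.pullback.fst (X ↘ Spec (.of R)) (Y ↘ Spec (.of R)))).obj (Coh.structureModule X))
        ((Scheme.Modules.pullback (Limits.pullback.snd (X ↘ Spec (.of R)) (Y ↘ Spec (.of R)))).obj ((Coh.push (Limits.pullback.snd (X ↘ Spec (.of R)) (Y ↘ Spec (.of R)))).obj K)) ⟶ K, Epi π := by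
  let x := X ↘ Spec (.of R)
  let y := Y ↘ Spec (.of R)
  haveI : QuasiCompact x := inferInstance
  haveI : QuasiSeparated x := inferInstance
  haveI : IsClosedImmersion (pullback.diagonal x) := inferInstance
  haveI : IsAffineHom (pullback.diagonal x) := inferInstance
  let a := pullback.fst (pullback.snd x x) (pullback.fst x y)
  let b := pullback.snd (pullback.snd x x) (pullback.fst x y)
  have wq : (a ≫ pullback.fst x x) ≫ x = (b ≫ pullback.snd x y) ≫ y := by
    have e : a ≫ pullback.snd x x = b ≫ pullback.fst x y := pullback.condition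
    rw [Category.assoc, pullback.condition, ← Category.assoc, e, Category.assoc, pullback.condition,
      ← Category.assoc]
  let q : pullback (pullback.snd x x) (pullback.fst x y) ⟶ pullback x y := pullback.lift _ _ wq
  have hq₁ : q ≫ pullback.fst x y = a ≫ pullback.fst x x := pullback.lift_fst _ _ _
  have hq₂ : q ≫ pullback.snd x y = b ≫ pullback.snd x y := pullback.lift_snd _ _ _
  have hsq : IsPullback b q (pullback.snd x y) (pullback.snd x y) := by
    have h := (IsPullback.of_hasPullback (pullback.snd x x) (pullback.fst x y)).flip.paste_vert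
      (IsPullback.of_hasPullback x x).flip
    rw [show a ≫ pullback.fst x x = q ≫ pullback.fst x y from hq₁.symm, pullback.condition] at h
    exact IsPullback.of_bot h hq₂.symm (IsPullback.of_hasPullback x y).flip
  haveI : QuasiCompact q := MorphismProperty.of_isPullback hsq inferInstance
  haveI : QuasiSeparated q := MorphismProperty.of_isPullback hsq inferInstance
  haveI : Flat (pullback.snd x y) := MorphismProperty.pullback_snd _ _ inferInstance
  have hKb := Groth.Agent.QCoh.isQCoh_pullback b hK
  have hflat : FlatMod.IsFlatOver a ((Scheme.Modules.pullback b).obj K) :=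
    Groth.Agent.FlatBC5.isFlatOver_of_baseChange
      (IsPullback.of_hasPullback (pullback.snd x x) (pullback.fst x y)).flip hK hKf
  haveI : HasInjectiveResolutions (pullback (pullback.snd x x) (pullback.fst x y)).Modules := inferInstance
  obtain ⟨-, hcol, -⟩ := Groth.Agent.H6FunMor.exact_kernel a q ((Scheme.Modules.pullback b).obj K) hflat
    fun M hM => Groth.Agent.S6736.result R X Y K hK hKf hKa X q hq₁ hq₂ M hM 1 one_pos
  let Φ := ObjectProperty.ι (QCohCat.isQCoh (pullback x x)) ⋙ Scheme.Modules.pullback a ⋙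
    DCoh.tensorRightMod ((Scheme.Modules.pullback b).obj K) ⋙ Coh.push q
  haveI : PreservesFiniteColimits Φ := hcol
  let O : (pullback x x).Modules := Coh.structureModule _
  let Δ := pullback.diagonal x
  let M0 := (Scheme.Modules.pushforward Δ).obj ((Scheme.Modules.pullback Δ).obj O)
  have hO : Coh.IsQCoh O := Groth.Agent.QCoh.isQCoh_structureModule
  have hN : Coh.IsQCoh ((Scheme.Modules.pullback Δ).obj O) := Groth.Agent.QCoh.isQCoh_pullback Δ hO
  have hM0 : Coh.IsQCoh M0 := Groth.Agent.QCoh.isQCoh_pushforward Δ hN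
  let A : QCohCat.QCoh (pullback x x) := ⟨O, hO⟩
  let B : QCohCat.QCoh (pullback x x) := ⟨M0, hM0⟩
  let u : A ⟶ B := ObjectProperty.homMk ((Scheme.Modules.pullbackPushforwardAdjunction Δ).unit.app O)
  haveI : Epi ((QCohCat.isQCoh (pullback x x)).ι.map u) := Groth.Agent.FamHom.epi_unit Δ O
  haveI : Epi u := (QCohCat.isQCoh (pullback x x)).ι.epi_of_epi_map ‹_›
  haveI : Epi (Φ.map u) := inferInstance
  have hD : (pullback.fst x y ≫ Δ) ≫ pullback.snd x x = 𝟙 _ ≫ pullback.fst x y := by
    rw [Category.assoc, pullback.diagonal_snd, Category.comp_id, Category.id_comp]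
  let D : pullback x y ⟶ pullback (pullback.snd x x) (pullback.fst x y) := pullback.lift _ _ hD
  have hDa : D ≫ a = pullback.fst x y ≫ Δ := pullback.lift_fst _ _ _
  have hDb : D ≫ b = 𝟙 _ := pullback.lift_snd _ _ _
  have hDq : D ≫ q = 𝟙 _ := by
    apply pullback.hom_ext
    · rw [Category.assoc, hq₁, ← Category.assoc, hDa, Category.assoc, pullback.diagonal_fst,
        Category.comp_id, Category.id_comp]
    · rw [Category.assoc, hq₂, ← Category.assoc, hDb]
  have hsqD : IsPullback (pullback.fst x y) D Δ a := by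
    refine (IsPullback.of_right ?_ hDa (IsPullback.of_hasPullback (pullback.snd x x) (pullback.fst x y)).flip).flip
    rw [hDb, pullback.diagonal_snd]
    exact IsPullback.of_horiz_isIso ⟨by simp⟩
  haveI : IsAffineHom D := MorphismProperty.of_isPullback hsqD inferInstance
  have oPull : ∀ {U V : Scheme.{u}} (f : U ⟶ V),
      Nonempty ((Scheme.Modules.pullback f).obj (Coh.structureModule V) ≅ Coh.structureModule U) :=
    fun f => Groth.Agent.PicClLib.nonempty_pullback_structureModule f
  have oTen : ∀ {U : Scheme.{u}} (M : U.Modules),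
      Nonempty ((DCoh.tensorBi.obj (Coh.structureModule U)).obj M ≅ M) := fun {U} M =>
    ⟨DCoh.shP.mapIso (BraidedCategory.braiding (DCoh.toP.obj (Coh.structureModule U)) (DCoh.toP.obj M)) ≪≫
      (Groth.Agent.KFlatLib.tensorStructureIso U).app M⟩
  let Kb := (Scheme.Modules.pullback b).obj K
  -- value at the structure sheaf
  obtain ⟨ea⟩ := oPull a
  obtain ⟨eKb⟩ := oTen Kb
  let bc := @asIso _ _ _ _ _
    (@Groth.Agent.S11133.result _ _ _ _ (pullback.snd x y) (pullback.snd x y) b q hsq _ _ _ K hK)
  let eA : (Scheme.Modules.pullback (pullback.snd x y)).obj ((Coh.push (pullback.snd x y)).obj K) ≅ Φ.obj A :=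
    bc ≪≫ (Coh.push q).mapIso (eKb.symm ≪≫ (DCoh.tensorBi.mapIso ea.symm).app Kb ≪≫
      (Groth.Agent.Exactness.flipTensorIso Kb).app ((Scheme.Modules.pullback a).obj O))
  -- value at the diagonal
  obtain ⟨eΔ⟩ := oPull Δ
  obtain ⟨ef⟩ := oPull (pullback.fst x y)
  obtain ⟨eK⟩ := oTen K
  let N' := (Scheme.Modules.pullback (pullback.fst x y)).obj ((Scheme.Modules.pullback Δ).obj O)
  let bcD := @asIso _ _ _ _ _ (@Groth.Agent.S12131.result _ _ _ _ Δ a (pullback.fst x y) D hsqD _ _ hN)
  haveI := Groth.Agent.H6Proj.isIso_projMod_affine D N' Kb (Groth.Agent.QCoh.isQCoh_pullback _ hN) hKb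
  let eB : Φ.obj B ≅ K :=
    (Coh.push q).mapIso ((Groth.Agent.Exactness.flipTensorIso Kb).symm.app ((Scheme.Modules.pullback a).obj M0) ≪≫
      (DCoh.tensorBi.mapIso bcD).app Kb ≪≫ asIso (Groth.Agent.KFlatLib.projMod D N' Kb) ≪≫
      (Scheme.Modules.pushforward D).mapIso
        ((DCoh.tensorBi.mapIso ((Scheme.Modules.pullback (pullback.fst x y)).mapIso eΔ ≪≫ ef)).app _ ≪≫
          (DCoh.tensorBi.obj _).mapIso ((Scheme.Modules.pullbackComp D b).app K ≪≫
            (Scheme.Modules.pullbackCongr hDb).app K ≪≫ (Scheme.Modules.pullbackId _).app K) ≪≫ eK)) ≪≫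
      (Scheme.Modules.pushforwardComp D q).app K ≪≫ (Scheme.Modules.pushforwardCongr hDq).app K ≪≫
      (Scheme.Modules.pushforwardId _).app K
  obtain ⟨ep⟩ := oPull (pullback.fst x y)
  obtain ⟨eT⟩ := oTen ((Scheme.Modules.pullback (pullback.snd x y)).obj ((Coh.push (pullback.snd x y)).obj K))
  exact ⟨((DCoh.tensorBi.mapIso ep).app _ ≪≫ eT ≪≫ eA).hom ≫ Φ.map u ≫ eB.hom, inferInstance⟩

end Groth.Agent.S6767
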