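import Groth.Statements.S6831
import Groth.Agent.RngSp.Maps
-- import your own Groth.Agent.* helpers here

set_option autoImplicit false
universe u
open CategoryTheory CategoryTheory.Limits TopologicalSpace
open ModSite

namespace Groth.Agent.S6831

/-- Let (X, O) be a ringed space, φ : G → F a map of O-modules with F of finite type, and x a point such
that the map of stalks φ_x : G_x → F_x is surjective (stalks are taken at the point of the site of
opens of X given by x). Then φ|_U is surjective for some open neighbourhood U of x. -/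
theorem result {X : TopCat.{u}} (O : TopCat.Sheaf CommRingCat.{u} X)
    {G F : ModSite.Mod O} (φ : G ⟶ F) [SheafOfModules.IsFiniteType (R := ModSite.ringSh O) F] (x : X)
    (hx : Function.Surjective (ModSite.stalkMap (Opens.pointGrothendieckTopology x) φ).hom) :
    ∃ U : Opens X, x ∈ U ∧ Epi ((ModSite.restr O U).map φ) := by
    open Groth.Agent.RngSp Groth.Agent.ClosedRinged in
    obtain ⟨U, ι, hι, t, hxU, ht⟩ := isFiniteType_iff.1 ‹SheafOfModules.IsFiniteType (R := ModSite.ringSh O) F› x
    haveI := Fintype.ofFinite ι
    obtain ⟨V, hV, m, hxV, hm⟩ := Groth.Agent.RngSp.exists_lifts φ hxU t fun i =>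
      Groth.Agent.RngSp.exists_lift_of_stalk φ hxU (t i) (hx _)
    refine ⟨V, hxV, Groth.Agent.RngSp.epi_restr φ V fun W hW z y hy => ?_⟩
    obtain ⟨W', hW', hyW', c, hc⟩ := ht.exists_sum (hW.trans hV) z y hy
    refine ⟨W', hW', hyW', ∑ i, c i • Groth.Agent.ClosedRinged.res G (hW'.trans hW) (m i), ?_⟩
    rw [map_sum, ← hc]
    refine Finset.sum_congr rfl fun i _ => ?_
    rw [map_smul, Groth.Agent.RngSp.mp_res, hm, Groth.Agent.ClosedRinged.res_res]

end Groth.Agent.S6831
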