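import Groth.Statements.S6832
import Groth.Agent.RngSp.Maps
-- import your own Groth.Agent.* helpers here

set_option autoImplicit false
universe u
open CategoryTheory CategoryTheory.Limits TopologicalSpace
open ModSite

namespace Groth.Agent.S6832

/-- On a ringed space (X, O), if θ : G → F is a surjective map of O-modules with G of finite type and F
of finite presentation, then Ker(θ) is of finite type. (Part (1) of the source is the case G = O^r.) -/
theorem result {X : TopCat.{u}} (O : TopCat.Sheaf CommRingCat.{u} X)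
    {G F : ModSite.Mod O} (θ : G ⟶ F) [Epi θ] [SheafOfModules.IsFiniteType (R := ModSite.ringSh O) G]
    [SheafOfModules.IsFinitePresentation (R := ModSite.ringSh O) F] : SheafOfModules.IsFiniteType (R := ModSite.ringSh O) (kernel θ) := by
    open Groth.Agent.RngSp Groth.Agent.ClosedRinged in
    rw [Groth.Agent.RngSp.isFiniteType_iff]
    intro x
    obtain ⟨U, ι, κ, hι, hκ, e, r, hxU, he, hr⟩ := Groth.Agent.RngSp.isFinitePresentation_iff.1
      ‹SheafOfModules.IsFinitePresentation (R := ModSite.ringSh O) F› x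
    obtain ⟨U', σ, hσ, g, hxU', hg⟩ := Groth.Agent.RngSp.isFiniteType_iff.1
      ‹SheafOfModules.IsFiniteType (R := ModSite.ringSh O) G› x
    haveI := hκ
    haveI := Fintype.ofFinite κ
    haveI := Fintype.ofFinite σ
    obtain ⟨V₀, hV₀, h, hxV₀, hh⟩ := Groth.Agent.RngSp.exists_lifts θ (U := U ⊓ U') ⟨hxU, hxU'⟩
      (fun j => Groth.Agent.ClosedRinged.res F inf_le_left (e j))
      fun j => Groth.Agent.RngSp.exists_mp_eq θ _ x ⟨hxU, hxU'⟩
    have hV₁ : V₀ ≤ U := hV₀.trans inf_le_left
    have hV₂ : V₀ ≤ U' := hV₀.trans inf_le_right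
    obtain ⟨V, hV, hxV, ha⟩ := Groth.Agent.RngSp.nearby_forall hxV₀
      (P := fun i W hW => ∃ a : ι → Groth.Agent.RngSp.fns O W,
        ∑ j, a j • Groth.Agent.ClosedRinged.res F (hW.trans hV₁) (e j) =
          Groth.Agent.RngSp.mp θ W (Groth.Agent.ClosedRinged.res G (hW.trans hV₂) (g i)))
      (fun i W W' hW hW' ⟨a, ha⟩ => ⟨fun j => Groth.Agent.ClosedRinged.resO O hW' (a j), by
        have := congrArg (Groth.Agent.ClosedRinged.res F hW') ha
        rw [Groth.Agent.RngSp.res_comb, ← Groth.Agent.RngSp.mp_res] at this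
        simpa only [Groth.Agent.ClosedRinged.res_res] using this⟩)
      fun i => by
        obtain ⟨W, hW, hxW, a, ha⟩ := he.exists_sum hV₁
          (Groth.Agent.RngSp.mp θ V₀ (Groth.Agent.ClosedRinged.res G hV₂ (g i))) x hxV₀
        refine ⟨W, hW, hxW, a, ?_⟩
        rw [ha, ← Groth.Agent.RngSp.mp_res, Groth.Agent.ClosedRinged.res_res]
    choose a ha using ha
    let sec : σ ⊕ κ → G.val.obj (Opposite.op V) := Sum.elim
      (fun i => Groth.Agent.ClosedRinged.res G (hV.trans hV₂) (g i) - ∑ j, a i j • Groth.Agent.ClosedRinged.res G hV (h j))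
      (fun l => ∑ j, Groth.Agent.ClosedRinged.resO O (hV.trans hV₁) (r l j) • Groth.Agent.ClosedRinged.res G hV (h j))
    have hθh : ∀ j, Groth.Agent.RngSp.mp θ V (Groth.Agent.ClosedRinged.res G hV (h j)) =
        Groth.Agent.ClosedRinged.res F (hV.trans hV₁) (e j) := fun j => by
      simp only [Groth.Agent.RngSp.mp_res, hh, Groth.Agent.ClosedRinged.res_res]
    have hsec : ∀ q, Groth.Agent.RngSp.mp θ V (sec q) = 0 := by
      rintro (i | l)
      · simp only [sec, Sum.elim_inl, map_sub, map_sum, map_smul, hθh, sub_eq_zero]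
        exact (ha i).symm
      · simp only [sec, Sum.elim_inr, map_sum, map_smul, hθh]
        rw [← Groth.Agent.RngSp.res_comb, hr.1 l, Groth.Agent.ClosedRinged.res_zero]
    have hS := Groth.Agent.RngSp.shortExact_ker θ
    choose k hk using fun q => Groth.Agent.RngSp.exists_of_shortExact hS (sec q) (hsec q)
    refine ⟨V, σ ⊕ κ, inferInstance, k, hxV, Groth.Agent.RngSp.genOn_of_exists_sum fun W hW z y hy => ?_⟩
    let z₂ := Groth.Agent.RngSp.mp (CategoryTheory.Limits.kernel.ι θ) W z
    obtain ⟨W₁, hW₁, hy₁, c, hc⟩ := hg.exists_sum (hW.trans (hV.trans hV₂)) z₂ y hy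
    let d : ι → Groth.Agent.RngSp.fns O W₁ := fun j =>
      ∑ i, c i * Groth.Agent.ClosedRinged.resO O (hW₁.trans hW) (a i j)
    have hd : ∑ j, d j • Groth.Agent.ClosedRinged.res F ((hW₁.trans hW).trans (hV.trans hV₁)) (e j) = 0 := by
      have h0 : Groth.Agent.RngSp.mp θ W z₂ = 0 := Groth.Agent.RngSp.app_kerι θ z
      have h1 := congrArg (Groth.Agent.ClosedRinged.res F hW₁) h0
      rw [← Groth.Agent.RngSp.mp_res, ← hc, Groth.Agent.ClosedRinged.res_zero, map_sum] at h1
      refine Eq.trans ?_ h1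
      simp only [d, Finset.sum_smul, mul_smul]
      rw [Finset.sum_comm]
      refine Finset.sum_congr rfl fun i _ => ?_
      rw [map_smul, ← Finset.smul_sum]
      congr 1
      have h2 := congrArg (Groth.Agent.ClosedRinged.res F (hW₁.trans hW)) (ha i)
      rw [Groth.Agent.RngSp.res_comb, ← Groth.Agent.RngSp.mp_res] at h2
      simpa only [Groth.Agent.ClosedRinged.res_res] using h2
    obtain ⟨W₂, hW₂, hy₂, hb⟩ := hr.2 W₁ ((hW₁.trans hW).trans (hV.trans hV₁)) d hd y hy₁
    obtain ⟨b, hb⟩ := (Submodule.mem_span_range_iff_exists_fun _).1 hb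
    refine ⟨W₂, hW₂.trans hW₁, hy₂, Sum.elim (fun i => Groth.Agent.ClosedRinged.resO O hW₂ (c i)) b, ?_⟩
    haveI := hS.mono_f
    apply Groth.Agent.ModPull.app_injective (CategoryTheory.Limits.kernel.ι θ) (Opposite.op W₂)
    change Groth.Agent.RngSp.mp (CategoryTheory.Limits.kernel.ι θ) W₂ _ = Groth.Agent.RngSp.mp (CategoryTheory.Limits.kernel.ι θ) W₂ _
    have e0 : Groth.Agent.RngSp.mp (CategoryTheory.Limits.kernel.ι θ) W₂
        (Groth.Agent.ClosedRinged.res (CategoryTheory.Limits.kernel θ) (hW₂.trans hW₁) z) =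
        ∑ i, Groth.Agent.ClosedRinged.resO O hW₂ (c i) •
          Groth.Agent.ClosedRinged.res G (((hW₂.trans hW₁).trans hW).trans (hV.trans hV₂)) (g i) := by
      rw [Groth.Agent.RngSp.mp_res, ← Groth.Agent.ClosedRinged.res_res G hW₁ hW₂, ← hc, Groth.Agent.RngSp.res_comb]
      simp only [Groth.Agent.ClosedRinged.res_res]
    rw [map_sum, Fintype.sum_sum_type, e0]
    simp only [map_smul, Groth.Agent.RngSp.mp_res, hk, sec, Sum.elim_inl, Sum.elim_inr, Groth.Agent.RngSp.res_sub,
      Groth.Agent.RngSp.res_comb, Groth.Agent.ClosedRinged.res_res, Groth.Agent.ClosedRinged.resO_resO, smul_sub,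
      Finset.sum_sub_distrib]
    rw [add_comm, add_sub, sub_eq_iff_eq_add, add_comm, add_left_cancel_iff]
    simp only [Finset.smul_sum, smul_smul]
    rw [Finset.sum_comm, Finset.sum_comm (γ := σ)]
    refine Finset.sum_congr rfl fun j _ => ?_
    simp only [← Finset.sum_smul]
    congr 1
    have h3 := congrFun hb j
    simp only [d, map_sum, map_mul, Finset.sum_apply, Pi.smul_apply, smul_eq_mul,
      Groth.Agent.ClosedRinged.resO_resO] at h3
    exact h3

end Groth.Agent.S6832
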