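import Groth.Statements.S6833
import Groth.Agent.RngSp.Maps
-- import your own Groth.Agent.* helpers here

set_option autoImplicit false
universe u
open CategoryTheory CategoryTheory.Limits TopologicalSpace
open ModSite

namespace Groth.Agent.S6833

/-- On a ringed space (X, O), if φ : G → F is a map of O-modules with G of finite type and F of finite
presentation, then Coker(φ) is of finite presentation. -/
theorem result {X : TopCat.{u}} (O : TopCat.Sheaf CommRingCat.{u} X)
    {G F : ModSite.Mod O} (φ : G ⟶ F) [SheafOfModules.IsFiniteType (R := ModSite.ringSh O) G] [SheafOfModules.IsFinitePresentation (R := ModSite.ringSh O) F] :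
    SheafOfModules.IsFinitePresentation (R := ModSite.ringSh O) (cokernel φ) := by
    open Groth.Agent.RngSp Groth.Agent.ClosedRinged in
    rw [Groth.Agent.RngSp.isFinitePresentation_iff]
    intro x
    obtain ⟨U, ι, κ, hι, hκ, e, r, hxU, he, hr⟩ := Groth.Agent.RngSp.isFinitePresentation_iff.1
      ‹SheafOfModules.IsFinitePresentation (R := ModSite.ringSh O) F› x
    obtain ⟨U', σ, hσ, g, hxU', hg⟩ := Groth.Agent.RngSp.isFiniteType_iff.1
      ‹SheafOfModules.IsFiniteType (R := ModSite.ringSh O) G› x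
    haveI := hκ
    haveI := Fintype.ofFinite κ
    haveI := Fintype.ofFinite σ
    obtain ⟨V, hV, hxV, ha⟩ := Groth.Agent.RngSp.nearby_forall (U := U ⊓ U') ⟨hxU, hxU'⟩
      (P := fun i W hW => ∃ a : ι → Groth.Agent.RngSp.fns O W,
        ∑ j, a j • Groth.Agent.ClosedRinged.res F (hW.trans inf_le_left) (e j) =
          Groth.Agent.RngSp.mp φ W (Groth.Agent.ClosedRinged.res G (hW.trans inf_le_right) (g i)))
      (fun i W W' hW hW' ⟨a, ha⟩ => ⟨fun j => Groth.Agent.ClosedRinged.resO O hW' (a j), by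
        have := congrArg (Groth.Agent.ClosedRinged.res F hW') ha
        rw [Groth.Agent.RngSp.res_comb, ← Groth.Agent.RngSp.mp_res] at this
        simpa only [Groth.Agent.ClosedRinged.res_res] using this⟩)
      fun i => by
        obtain ⟨W, hW, hxW, a, ha⟩ := he.exists_sum (inf_le_left : U ⊓ U' ≤ U)
          (Groth.Agent.RngSp.mp φ (U ⊓ U') (Groth.Agent.ClosedRinged.res G inf_le_right (g i))) x ⟨hxU, hxU'⟩
        refine ⟨W, hW, hxW, a, ?_⟩
        rw [ha, ← Groth.Agent.RngSp.mp_res, Groth.Agent.ClosedRinged.res_res]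
    choose a ha using ha
    have hV₁ : V ≤ U := hV.trans inf_le_left
    have hV₂ : V ≤ U' := hV.trans inf_le_right
    let π := CategoryTheory.Limits.cokernel.π φ
    let p : ι → (CategoryTheory.Limits.cokernel φ).val.obj (Opposite.op V) := fun j =>
      Groth.Agent.RngSp.mp π V (Groth.Agent.ClosedRinged.res F hV₁ (e j))
    have hgen : Groth.Agent.RngSp.GenOn (CategoryTheory.Limits.cokernel φ) V p := by
      refine Groth.Agent.RngSp.genOn_of_exists_sum fun W hW z y hy => ?_
      obtain ⟨W₁, hW₁, hy₁, m, hm⟩ := Groth.Agent.RngSp.exists_mp_eq π z y hy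
      obtain ⟨W₂, hW₂, hy₂, c, hc⟩ := he.exists_sum ((hW₁.trans hW).trans hV₁) m y hy₁
      refine ⟨W₂, hW₂.trans hW₁, hy₂, c, ?_⟩
      rw [← Groth.Agent.ClosedRinged.res_res _ hW₁ hW₂, ← hm, ← Groth.Agent.RngSp.mp_res, ← hc, map_sum]
      refine Finset.sum_congr rfl fun j _ => ?_
      rw [map_smul, ← Groth.Agent.RngSp.mp_res, Groth.Agent.ClosedRinged.res_res]
    refine ⟨V, ι, κ ⊕ σ, hι, inferInstance, p,
      Sum.elim (fun l j => Groth.Agent.ClosedRinged.resO O hV₁ (r l j)) a, hxV, hgen, ?_, fun W hW c hc y hy => ?_⟩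
    · rintro (l | i)
      · simp only [Sum.elim_inl, p, ← map_smul, ← map_sum]
        rw [← Groth.Agent.RngSp.res_comb, hr.1 l, Groth.Agent.ClosedRinged.res_zero, map_zero]
      · simp only [Sum.elim_inr, p, ← map_smul, ← map_sum]
        rw [ha i]
        exact Groth.Agent.RngSp.mp_cokernel_π φ _
    · simp only [p, ← Groth.Agent.RngSp.mp_res, Groth.Agent.ClosedRinged.res_res, ← map_smul, ← map_sum] at hc
      obtain ⟨W₁, hW₁, hy₁, m, hm⟩ := Groth.Agent.RngSp.exists_of_cokernel φ _ hc y hy
      obtain ⟨W₂, hW₂, hy₂, d, hd⟩ := hg.exists_sum ((hW₁.trans hW).trans hV₂) m y hy₁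
      let c' : ι → Groth.Agent.RngSp.fns O W₂ := fun j =>
        Groth.Agent.ClosedRinged.resO O (hW₂.trans hW₁) (c j) -
          ∑ i, d i * Groth.Agent.ClosedRinged.resO O ((hW₂.trans hW₁).trans hW) (a i j)
      have hc' : ∑ j, c' j • Groth.Agent.ClosedRinged.res F (((hW₂.trans hW₁).trans hW).trans hV₁) (e j) = 0 := by
        simp only [c', sub_smul, Finset.sum_sub_distrib, Finset.sum_smul, mul_smul]
        rw [sub_eq_zero, Finset.sum_comm]
        have h1 := congrArg (Groth.Agent.ClosedRinged.res F hW₂) hm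
        rw [← Groth.Agent.RngSp.mp_res, ← hd, map_sum, Groth.Agent.RngSp.res_comb, Groth.Agent.RngSp.res_comb] at h1
        simp only [Groth.Agent.ClosedRinged.res_res, Groth.Agent.ClosedRinged.resO_resO] at h1
        refine h1.symm.trans (Finset.sum_congr rfl fun i _ => ?_)
        rw [map_smul, ← Finset.smul_sum]
        congr 1
        have h2 := congrArg (Groth.Agent.ClosedRinged.res F ((hW₂.trans hW₁).trans hW)) (ha i)
        rw [Groth.Agent.RngSp.res_comb, ← Groth.Agent.RngSp.mp_res] at h2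
        simpa only [Groth.Agent.ClosedRinged.res_res] using h2.symm
      obtain ⟨W₃, hW₃, hy₃, hb⟩ := hr.2 W₂ (((hW₂.trans hW₁).trans hW).trans hV₁) c' hc' y hy₂
      obtain ⟨b, hb⟩ := (Submodule.mem_span_range_iff_exists_fun _).1 hb
      refine ⟨W₃, hW₃.trans (hW₂.trans hW₁), hy₃, (Submodule.mem_span_range_iff_exists_fun _).2
        ⟨Sum.elim b (fun i => Groth.Agent.ClosedRinged.resO O hW₃ (d i)), funext fun j => ?_⟩⟩
      have h3 := congrFun hb j
      simp only [c', map_sub, map_sum, map_mul, Finset.sum_apply, Pi.smul_apply, smul_eq_mul,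
        Groth.Agent.ClosedRinged.resO_resO] at h3
      simp only [Fintype.sum_sum_type, Sum.elim_inl, Sum.elim_inr, Pi.add_apply, Finset.sum_apply, Pi.smul_apply,
        smul_eq_mul, Groth.Agent.ClosedRinged.resO_resO]
      exact eq_sub_iff_add_eq.1 h3

end Groth.Agent.S6833
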