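import Groth.Statements.S6834
import Groth.Agent.RngSp.Stalks
-- import your own Groth.Agent.* helpers here

set_option autoImplicit false
universe u
open CategoryTheory CategoryTheory.Limits TopologicalSpace
open ModSite

namespace Groth.Agent.S6834

/-- Let (X, O) be a ringed space with X quasi-compact, I a directed preordered set (nonempty, with upper
bounds for pairs), (F_i) a system of O-modules over I and F = colim F_i. If F is of finite type then
F_i → F is surjective for some i; if moreover all transition maps are injective then F_i → F is an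
isomorphism for some i. -/
theorem result {X : TopCat.{u}} (O : TopCat.Sheaf CommRingCat.{u} X)
    [CompactSpace X] {I : Type u} [Preorder I] [Nonempty I] [IsDirected I (· ≤ ·)] (D : I ⥤ ModSite.Mod O)
    (c : Cocone D) (hc : IsColimit c) [SheafOfModules.IsFiniteType (R := ModSite.ringSh O) c.pt] :
    (∃ i : I, Epi (c.ι.app i)) ∧
      ((∀ (i j : I) (f : i ⟶ j), Mono (D.map f)) → ∃ i : I, IsIso (c.ι.app i)) := by
    open Groth.Agent.RngSp Groth.Agent.ClosedRinged in
    classical
    have h := Groth.Agent.RngSp.isFiniteType_iff.1 ‹SheafOfModules.IsFiniteType (R := ModSite.ringSh O) c.pt›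
    have key : ∀ x : X, ∃ (V : Opens X) (i : I), x ∈ V ∧ ∀ j, i ≤ j → ∀ (W : Opens X), W ≤ V →
        ∀ z : c.pt.val.obj (Opposite.op W), Groth.Agent.RngSp.Nearby W fun W' hW' =>
          ∃ m, Groth.Agent.RngSp.mp (c.ι.app j) W' m = Groth.Agent.ClosedRinged.res c.pt hW' z := by
      intro x
      obtain ⟨U, ι, hι, t, hxU, ht⟩ := h x
      haveI := Fintype.ofFinite ι
      obtain ⟨V, hV, hxV, hl⟩ := Groth.Agent.RngSp.nearby_forall hxU
        (P := fun k V hV => ∃ i, ∃ m, Groth.Agent.RngSp.mp (c.ι.app i) V m = Groth.Agent.ClosedRinged.res c.pt hV (t k))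
        (fun k V V' h h' ⟨i, m, hm⟩ => ⟨i, Groth.Agent.ClosedRinged.res (D.obj i) h' m, by
          rw [Groth.Agent.RngSp.mp_res, hm]; exact Groth.Agent.ClosedRinged.res_res c.pt _ _ _⟩)
        fun k => Groth.Agent.RngSp.exists_gm_of_isColimit hc (t k) x hxU
      choose i m hm using hl
      obtain ⟨i₀, hi₀⟩ := Finite.exists_le i
      refine ⟨V, i₀, hxV, fun j hj W hW z y hy => ?_⟩
      obtain ⟨W', hW', hy', a, ha⟩ := ht.exists_sum (hW.trans hV) z y hy
      refine ⟨W', hW', hy', ∑ k, a k • Groth.Agent.RngSp.mp (D.map (homOfLE ((hi₀ k).trans hj))) W'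
        (Groth.Agent.ClosedRinged.res (D.obj (i k)) (hW'.trans hW) (m k)), ?_⟩
      rw [map_sum, ← ha]
      refine Finset.sum_congr rfl fun k _ => ?_
      rw [map_smul]
      congr 1
      change Groth.Agent.RngSp.mp (D.map (homOfLE ((hi₀ k).trans hj)) ≫ c.ι.app j) W' _ = _
      rw [c.w, Groth.Agent.RngSp.mp_res, hm]; exact Groth.Agent.ClosedRinged.res_res c.pt _ _ _
    choose V i hxV hi using key
    obtain ⟨T, hT⟩ := isCompact_univ.elim_finite_subcover (fun x => (V x : Set X)) (fun x => (V x).2)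
      (fun x _ => Set.mem_iUnion.2 ⟨x, hxV x⟩)
    obtain ⟨j, hj⟩ := Finite.exists_le (fun x : T => i x)
    haveI hepi : Epi (c.ι.app j) := by
      refine Groth.Agent.RngSp.epi_of_surjective _ fun U z y hy => ?_
      obtain ⟨x, hxT, hy'⟩ := Set.mem_iUnion₂.1 (hT (Set.mem_univ y))
      obtain ⟨W, hW, hyW, m, hm⟩ := hi x j (hj ⟨x, hxT⟩) (U ⊓ V x) inf_le_right
        (Groth.Agent.ClosedRinged.res c.pt inf_le_left z) y ⟨hy, hy'⟩
      exact ⟨W, hW.trans inf_le_left, hyW, m, hm.trans (Groth.Agent.ClosedRinged.res_res c.pt _ _ _)⟩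
    refine ⟨⟨j, hepi⟩, fun hmono => ⟨j, ?_⟩⟩
    haveI : Mono (c.ι.app j) := Groth.Agent.ModPull.mono_of_app_eq_zero _ fun W m hm => by
      refine Groth.Agent.ClosedRinged.ext_locally (D.obj j) _ _ fun y hy => ?_
      obtain ⟨W', hW', hy', k, f, hf⟩ := Groth.Agent.RngSp.nearby_res_eq_zero_of_isColimit hc m hm y hy
      refine ⟨W', hW', hy', ?_⟩
      haveI := hmono j k f
      apply Groth.Agent.ModPull.app_injective (D.map f) (Opposite.op W')
      change Groth.Agent.RngSp.mp (D.map f) W' _ = Groth.Agent.RngSp.mp (D.map f) W' _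
      rw [Groth.Agent.RngSp.mp_res, hf, Groth.Agent.RngSp.mp_res]
      exact ((congrArg (Groth.Agent.ClosedRinged.res (D.obj k) hW') (map_zero (Groth.Agent.RngSp.mp (D.map f) W))).trans
        (Groth.Agent.ClosedRinged.res_zero _ _)).symm
    exact CategoryTheory.isIso_of_mono_of_epi _

end Groth.Agent.S6834
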