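import Groth.Statements.S6836
import Groth.Agent.RngSp.Free
-- import your own Groth.Agent.* helpers here

set_option autoImplicit false
universe u
open CategoryTheory CategoryTheory.Limits TopologicalSpace
open ModSite

namespace Groth.Agent.S6836

/-- On a ringed space (X, O), let r ≥ 0 and let φ : F → G be a map of O-modules which are both finite
locally free of rank r (every point has an open neighbourhood U with F|_U ≅ O_U^r, the free
O_U-module on r generators, and likewise for G). Then φ is an isomorphism if and only if it is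
surjective. -/
theorem result {X : TopCat.{u}} (O : TopCat.Sheaf CommRingCat.{u} X) (r : ℕ)
    {F G : ModSite.Mod O}
    (hF : ∀ x : X, ∃ U : Opens X, x ∈ U ∧
      Nonempty ((ModSite.restr O U).obj F ≅ SheafOfModules.free (ULift.{u} (Fin r))))
    (hG : ∀ x : X, ∃ U : Opens X, x ∈ U ∧
      Nonempty ((ModSite.restr O U).obj G ≅ SheafOfModules.free (ULift.{u} (Fin r))))
    (φ : F ⟶ G) : IsIso φ ↔ Epi φ := by
    open Groth.Agent.RngSp Groth.Agent.ClosedRinged in
    classical
    refine ⟨fun _ => inferInstance, fun hepi => ?_⟩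
    haveI : Mono φ := Groth.Agent.ModPull.mono_of_app_eq_zero φ fun U z hz => by
      change Groth.Agent.RngSp.mp φ U z = 0 at hz
      refine Groth.Agent.ClosedRinged.ext_locally F _ _ fun x hx => ?_
      obtain ⟨U₁, hx₁, ⟨e₁⟩⟩ := hF x
      obtain ⟨U₂, hx₂, ⟨e₂⟩⟩ := hG x
      obtain ⟨f, hf⟩ := Groth.Agent.RngSp.exists_basis_of_iso e₁
      obtain ⟨g, hg⟩ := Groth.Agent.RngSp.exists_basis_of_iso e₂
      let V : Opens X := U ⊓ (U₁ ⊓ U₂)
      have hV₁ : V ≤ U₁ := inf_le_right.trans inf_le_left
      have hV₂ : V ≤ U₂ := inf_le_right.trans inf_le_right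
      obtain ⟨W₁, hW₁, m, hxW₁, hm⟩ := Groth.Agent.RngSp.exists_lifts φ (U := V) ⟨hx, hx₁, hx₂⟩
        (fun j => Groth.Agent.ClosedRinged.res G hV₂ (g j))
        (fun j => Groth.Agent.RngSp.exists_mp_eq φ _ x ⟨hx, hx₁, hx₂⟩)
      obtain ⟨W, hW, hxW, hd⟩ := Groth.Agent.RngSp.nearby_forall hxW₁
        (P := fun p W hW => (∃ b : ULift.{u} (Fin r) → Groth.Agent.RngSp.fns O W,
            Groth.Agent.RngSp.comb b (fun i => Groth.Agent.ClosedRinged.res F ((hW.trans hW₁).trans hV₁) (f i)) =
              Groth.Agent.ClosedRinged.res F hW (m p)) ∧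
          ∃ a : ULift.{u} (Fin r) → Groth.Agent.RngSp.fns O W,
            Groth.Agent.RngSp.comb a (fun i => Groth.Agent.ClosedRinged.res G ((hW.trans hW₁).trans hV₂) (g i)) =
              Groth.Agent.RngSp.mp φ W (Groth.Agent.ClosedRinged.res F ((hW.trans hW₁).trans hV₁) (f p)))
        (fun p W W' hW hW' ⟨⟨b, hb⟩, a, ha⟩ => ⟨⟨_, by
            have := congrArg (Groth.Agent.ClosedRinged.res F hW') hb
            rw [Groth.Agent.RngSp.res_comb'] at this
            simpa only [Groth.Agent.ClosedRinged.res_res] using this⟩, _, by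
            have := congrArg (Groth.Agent.ClosedRinged.res G hW') ha
            rw [Groth.Agent.RngSp.res_comb', ← Groth.Agent.RngSp.mp_res] at this
            simpa only [Groth.Agent.ClosedRinged.res_res] using this⟩)
        (fun p => by
          obtain ⟨A, hA, hxA, b, hb⟩ := hf.gen.exists_sum (hW₁.trans hV₁) (m p) x hxW₁
          obtain ⟨B, hB, hxB, a, ha⟩ := hg.gen.exists_sum ((hA.trans hW₁).trans hV₂)
            (Groth.Agent.RngSp.mp φ A (Groth.Agent.ClosedRinged.res F ((hA.trans hW₁).trans hV₁) (f p))) x hxA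
          refine ⟨B, hB.trans hA, hxB, ⟨fun i => Groth.Agent.ClosedRinged.resO O hB (b i), ?_⟩, a, ?_⟩
          · have := congrArg (Groth.Agent.ClosedRinged.res F hB) hb
            rw [Groth.Agent.RngSp.res_comb] at this
            simp only [Groth.Agent.ClosedRinged.res_res] at this
            exact this
          · refine ha.trans ?_
            rw [← Groth.Agent.RngSp.mp_res, Groth.Agent.ClosedRinged.res_res])
      choose b hb using fun p => (hd p).1
      choose a ha using fun p => (hd p).2
      have hWU : W ≤ U₁ := (hW.trans hW₁).trans hV₁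
      have hWG : W ≤ U₂ := (hW.trans hW₁).trans hV₂
      let f' := fun i => Groth.Agent.ClosedRinged.res F hWU (f i)
      let g' := fun i => Groth.Agent.ClosedRinged.res G hWG (g i)
      let A : Matrix (ULift.{u} (Fin r)) (ULift.{u} (Fin r)) (Groth.Agent.RngSp.fns O W) := a
      let B : Matrix (ULift.{u} (Fin r)) (ULift.{u} (Fin r)) (Groth.Agent.RngSp.fns O W) := b
      have hBA : B * A = 1 := by
        refine funext fun j => (hg.mono hWG).eq_of_comb_eq ?_
        rw [Groth.Agent.RngSp.comb_one]
        change Groth.Agent.RngSp.comb (Matrix.vecMul (B j) A) g' = g' j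
        rw [Groth.Agent.RngSp.comb_vecMul, show (fun i => Groth.Agent.RngSp.comb (A i) g') =
          fun i => Groth.Agent.RngSp.mp φ W (f' i) from funext ha, ← Groth.Agent.RngSp.mp_comb,
          show Groth.Agent.RngSp.comb (B j) f' = _ from hb j, Groth.Agent.RngSp.mp_res, hm,
          Groth.Agent.ClosedRinged.res_res, Groth.Agent.ClosedRinged.res_res]
      have hAB : A * B = 1 := Groth.Agent.RngSp.mul_eq_one_comm' hBA
      let hWz : W ≤ U := (hW.trans hW₁).trans inf_le_left
      obtain ⟨W', hW', hxW', c, hc⟩ := hf.gen.exists_sum hWU (Groth.Agent.ClosedRinged.res F hWz z) x hxW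
      refine ⟨W', hW'.trans hWz, hxW', ?_⟩
      have hc' : Groth.Agent.RngSp.comb c (fun i => Groth.Agent.ClosedRinged.res F hW' (f' i)) =
          Groth.Agent.ClosedRinged.res F (hW'.trans hWz) z := by
        simp only [f', Groth.Agent.ClosedRinged.res_res]
        simp only [Groth.Agent.ClosedRinged.res_res] at hc
        exact hc
      let A' := A.map (Groth.Agent.ClosedRinged.resO O hW')
      let B' := B.map (Groth.Agent.ClosedRinged.resO O hW')
      have hAB' : A' * B' = 1 := by
        have := congrArg (RingHom.mapMatrix ((ModSite.ringSh O).obj.map (homOfLE hW').op).hom) hAB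
        rwa [map_mul, map_one] at this
      have h1 : Groth.Agent.RngSp.comb (Matrix.vecMul c A')
          (fun i => Groth.Agent.ClosedRinged.res G hW' (g' i)) = 0 := by
        rw [Groth.Agent.RngSp.comb_vecMul, show (fun p => Groth.Agent.RngSp.comb (A' p)
          (fun i => Groth.Agent.ClosedRinged.res G hW' (g' i))) =
          fun p => Groth.Agent.RngSp.mp φ W' (Groth.Agent.ClosedRinged.res F hW' (f' p)) from funext fun p => ?_,
          ← Groth.Agent.RngSp.mp_comb, hc', Groth.Agent.RngSp.mp_res, hz, Groth.Agent.ClosedRinged.res_zero]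
        rw [Groth.Agent.RngSp.mp_res, ← show Groth.Agent.RngSp.comb (A p) g' = _ from ha p, Groth.Agent.RngSp.res_comb']
        rfl
      have h2 : Matrix.vecMul c A' = 0 := ((hg.mono hWG).mono hW').indep W' le_rfl _ (by
        simp only [Groth.Agent.ClosedRinged.res_self]; exact h1)
      have h3 : c = 0 := by rw [← Matrix.vecMul_one c, ← hAB', ← Matrix.vecMul_vecMul, h2, Matrix.zero_vecMul]
      rw [← hc', h3]
      exact (Finset.sum_eq_zero fun i _ => zero_smul _ _).trans (Groth.Agent.ClosedRinged.res_zero F _).symm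
    exact CategoryTheory.isIso_of_mono_of_epi φ

end Groth.Agent.S6836
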