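import Groth.Statements.S6839
import Groth.Agent.RngSp.Maps
-- import your own Groth.Agent.* helpers here

set_option autoImplicit false
universe u
open CategoryTheory CategoryTheory.Limits TopologicalSpace
open ModSite

namespace Groth.Agent.S6839

/-- On a ringed space (X, O), if 0 → F₁ → F₂ → F₃ → 0 is a short exact sequence of O-modules with F₁ and
F₃ of finite type, then F₂ is of finite type. (The first assertion of the source, that images of
finite type modules are of finite type, is not restated.) -/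
theorem result {X : TopCat.{u}} (O : TopCat.Sheaf CommRingCat.{u} X)
    (S : ShortComplex (ModSite.Mod O)) (hS : S.ShortExact) [SheafOfModules.IsFiniteType (R := ModSite.ringSh O) S.X₁]
    [SheafOfModules.IsFiniteType (R := ModSite.ringSh O) S.X₃] : SheafOfModules.IsFiniteType (R := ModSite.ringSh O) S.X₂ := by
    open Groth.Agent.RngSp Groth.Agent.ClosedRinged in
    rw [Groth.Agent.RngSp.isFiniteType_iff]
    intro x
    obtain ⟨U₁, ι₁, h₁, a, hx₁, ha⟩ := Groth.Agent.RngSp.isFiniteType_iff.1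
      ‹SheafOfModules.IsFiniteType (R := ModSite.ringSh O) S.X₁› x
    obtain ⟨U₃, ι₃, h₃, b, hx₃, hb⟩ := Groth.Agent.RngSp.isFiniteType_iff.1
      ‹SheafOfModules.IsFiniteType (R := ModSite.ringSh O) S.X₃› x
    haveI := Fintype.ofFinite ι₁
    haveI := Fintype.ofFinite ι₃
    haveI := hS.epi_g
    obtain ⟨V, hV, m, hxV, hm⟩ := Groth.Agent.RngSp.exists_lifts S.g (U := U₁ ⊓ U₃) ⟨hx₁, hx₃⟩
      (fun i => Groth.Agent.ClosedRinged.res S.X₃ inf_le_right (b i))
      fun i => Groth.Agent.RngSp.exists_mp_eq S.g _ x ⟨hx₁, hx₃⟩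
    refine ⟨V, ι₁ ⊕ ι₃, inferInstance,
      Sum.elim (fun i => Groth.Agent.RngSp.mp S.f V (Groth.Agent.ClosedRinged.res S.X₁ (hV.trans inf_le_left) (a i))) m,
      hxV, Groth.Agent.RngSp.genOn_of_exists_sum fun W hW z y hy => ?_⟩
    obtain ⟨W₁, hW₁, hy₁, c, hc⟩ := hb.exists_sum (hW.trans (hV.trans inf_le_right))
      (Groth.Agent.RngSp.mp S.g W z) y hy
    let z' := Groth.Agent.ClosedRinged.res S.X₂ hW₁ z - ∑ i, c i • Groth.Agent.ClosedRinged.res S.X₂ (hW₁.trans hW) (m i)
    have hz' : Groth.Agent.RngSp.mp S.g W₁ z' = 0 := by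
      simp only [z', map_sub, map_sum, map_smul, Groth.Agent.RngSp.mp_res, hm, Groth.Agent.ClosedRinged.res_res]
      rw [sub_eq_zero]
      exact hc.symm
    obtain ⟨p, hp⟩ := Groth.Agent.RngSp.exists_of_shortExact hS z' hz'
    obtain ⟨W₂, hW₂, hy₂, d, hd⟩ := ha.exists_sum ((hW₁.trans hW).trans (hV.trans inf_le_left)) p y hy₁
    refine ⟨W₂, hW₂.trans hW₁, hy₂, Sum.elim d (fun i => Groth.Agent.ClosedRinged.resO O hW₂ (c i)), ?_⟩
    rw [Fintype.sum_sum_type]
    have e1 : ∑ i, d i • Groth.Agent.ClosedRinged.res S.X₂ ((hW₂.trans hW₁).trans hW)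
        (Groth.Agent.RngSp.mp S.f V (Groth.Agent.ClosedRinged.res S.X₁ (hV.trans inf_le_left) (a i))) =
        Groth.Agent.ClosedRinged.res S.X₂ hW₂ z' := by
      rw [← hp, ← Groth.Agent.RngSp.mp_res, ← hd, map_sum]
      refine Finset.sum_congr rfl fun i _ => ?_
      rw [map_smul, ← Groth.Agent.RngSp.mp_res, Groth.Agent.ClosedRinged.res_res]
    simp only [Sum.elim_inl, Sum.elim_inr]
    rw [e1]
    simp only [z', Groth.Agent.RngSp.res_sub, Groth.Agent.RngSp.res_comb, Groth.Agent.ClosedRinged.res_res]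
    exact sub_add_cancel _ _

end Groth.Agent.S6839
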