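import Groth.Statements.S6842
import Groth.Agent.RngSp.Stalks
-- import your own Groth.Agent.* helpers here

set_option autoImplicit false
universe u
open CategoryTheory CategoryTheory.Limits TopologicalSpace
open ModSite

namespace Groth.Agent.S6842

/-- Let (X, O) be a ringed space, (F_i)_{i ∈ I} a family of O-modules and U ⊆ X a quasi-compact open.
Then the canonical map ⊕_i F_i(U) → (⊕_i F_i)(U) is bijective: every section of the direct sum over
U is a finite sum of images of sections of the F_i over U (surjectivity), and such a finite sum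
vanishes only if each term's section is zero (injectivity). -/
theorem result {X : TopCat.{u}} (O : TopCat.Sheaf CommRingCat.{u} X)
    {I : Type u} (F : I → ModSite.Mod O) [HasCoproduct F] (U : Opens X) (hU : IsCompact (U : Set X)) :
    (∀ s : ModSite.sect (∐ F) U, ∃ (S : Finset I) (t : ∀ i, ModSite.sect (F i) U),
        s = ∑ i ∈ S, ((Sigma.ι F i).val.app (Opposite.op U)).hom (t i)) ∧
      ∀ (S : Finset I) (t : ∀ i, ModSite.sect (F i) U),
        ∑ i ∈ S, ((Sigma.ι F i).val.app (Opposite.op U)).hom (t i) = 0 → ∀ i ∈ S, t i = 0 := by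
    open Groth.Agent.RngSp Groth.Agent.ClosedRinged in
    classical
    let p : ∀ j, (∐ F) ⟶ F j := fun j => Sigma.desc fun i => if h : i = j then eqToHom (congrArg F h) else 0
    have hp : ∀ (j i : I) (V : Opens X) (m : (F i).val.obj (Opposite.op V)), i ≠ j →
        Groth.Agent.RngSp.mp (p j) V (Groth.Agent.RngSp.mp (Sigma.ι F i) V m) = 0 := fun j i V m hij => by
      change Groth.Agent.RngSp.mp (Sigma.ι F i ≫ p j) V m = 0
      rw [Sigma.ι_desc, dif_neg hij]
      rfl
    have hp' : ∀ (j : I) (V : Opens X) (m : (F j).val.obj (Opposite.op V)),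
        Groth.Agent.RngSp.mp (p j) V (Groth.Agent.RngSp.mp (Sigma.ι F j) V m) = m := fun j V m => by
      change Groth.Agent.RngSp.mp (Sigma.ι F j ≫ p j) V m = m
      rw [Sigma.ι_desc, dif_pos rfl]
      rfl
    constructor
    · intro s
      choose V hV hxV S t ht using fun x : U => Groth.Agent.RngSp.nearby_finsum_coproduct s x.1 x.2
      obtain ⟨T, hT⟩ := hU.elim_finite_subcover (fun x => (V x : Set X)) (fun x => (V x).2)
        (fun x hx => Set.mem_iUnion.2 ⟨⟨x, hx⟩, hxV ⟨x, hx⟩⟩)
      refine ⟨T.biUnion S, fun i => Groth.Agent.RngSp.mp (p i) U s, ?_⟩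
      refine Groth.Agent.ClosedRinged.ext_locally (∐ F) _ _ fun y hy => ?_
      obtain ⟨x, hxT, hy'⟩ := Set.mem_iUnion₂.1 (hT hy)
      refine ⟨V x, hV x, hy', ?_⟩
      rw [Groth.Agent.RngSp.res_sum]
      have hq : ∀ i, Groth.Agent.ClosedRinged.res (F i) (hV x) (Groth.Agent.RngSp.mp (p i) U s) =
          if i ∈ S x then t x i else 0 := fun i => by
        rw [← Groth.Agent.RngSp.mp_res, ht x, map_sum]
        split_ifs with hi
        · rw [Finset.sum_eq_single i (fun j _ hj => hp i j _ _ hj) (fun h => absurd hi h), hp']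
        · exact Finset.sum_eq_zero fun j hj => hp i j _ _ (fun e => hi (e ▸ hj))
      have he : ∀ i, Groth.Agent.ClosedRinged.res (∐ F) (hV x)
          (Groth.Agent.RngSp.mp (Sigma.ι F i) U (Groth.Agent.RngSp.mp (p i) U s)) =
          if i ∈ S x then Groth.Agent.RngSp.mp (Sigma.ι F i) (V x) (t x i) else 0 := fun i => by
        rw [← Groth.Agent.RngSp.mp_res, hq, apply_ite (Groth.Agent.RngSp.mp (Sigma.ι F i) (V x)), map_zero]
      refine (ht x).trans ?_
      rw [Finset.sum_congr rfl fun i _ => he i, Finset.sum_ite_mem,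
        Finset.inter_eq_right.2 (Finset.subset_biUnion_of_mem S hxT)]
    · intro S t h j hj
      have h1 := congrArg (Groth.Agent.RngSp.mp (p j) U) h
      rw [map_sum, map_zero, Finset.sum_eq_single j (fun i _ hi => hp j i _ _ hi) (fun h => absurd hj h)] at h1
      exact (hp' j U (t j)).symm.trans h1

end Groth.Agent.S6842
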