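import Groth.Statements.S6846
import Groth.Agent.RngSp.Maps
-- import your own Groth.Agent.* helpers here

set_option autoImplicit false
universe u
open CategoryTheory CategoryTheory.Limits TopologicalSpace
open ModSite

namespace Groth.Agent.S6846

/-- Let i : (Z, O_Z) → (X, O_X) be a morphism of ringed spaces. Suppose the underlying continuous map
embeds Z homeomorphically as a closed subset of X, and that the comorphism i♯ : O_X → i_*O_Z is
surjective as a map of sheaves (locally surjective). Then, given any O_Z-module F, finite type of F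
is equivalent to finite type of the pushforward O_X-module i_*F. -/
theorem result {Z X : TopCat.{u}} (i : Z ⟶ X)
    (O_Z : TopCat.Sheaf CommRingCat.{u} Z) (O_X : TopCat.Sheaf CommRingCat.{u} X)
    (c : O_X ⟶ ((TopologicalSpace.Opens.map i).sheafPushforwardContinuous CommRingCat.{u}
      (Opens.grothendieckTopology X) (Opens.grothendieckTopology Z)).obj O_Z)
    (hi : Topology.IsClosedEmbedding i) (hc : Sheaf.IsLocallySurjective c) (F : ModSite.Mod O_Z) :
    SheafOfModules.IsFiniteType (R := ModSite.ringSh O_X)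
        ((ModSite.RMor.ofFlat (TopologicalSpace.Opens.map i) c).push.obj F) ↔
      SheafOfModules.IsFiniteType (R := ModSite.ringSh O_Z) F := by
    open Groth.Agent.RngSp Groth.Agent.ClosedRinged in
    constructor
    · intro h
      rw [Groth.Agent.RngSp.isFiniteType_iff] at h ⊢
      intro z
      obtain ⟨U, ι, hι, t, hzU, ht⟩ := h (i z)
      haveI := Fintype.ofFinite ι
      refine ⟨Groth.Agent.ClosedRinged.pre i U, ι, hι, t, hzU,
        Groth.Agent.RngSp.genOn_of_exists_sum fun V hV w y hy => ?_⟩
      let W : Opens X := U ⊓ Groth.Agent.ClosedRinged.ext hi V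
      have hWV : Groth.Agent.ClosedRinged.pre i W ≤ V :=
        (Groth.Agent.ClosedRinged.pre_mono i inf_le_right).trans (Groth.Agent.ClosedRinged.pre_ext hi V).le
      have hyW : i y ∈ W := ⟨hV hy, (hi.isInducing.mem_functorObj_iff V).2 hy⟩
      obtain ⟨W₁, hW₁, hy₁, a, ha⟩ := ht.exists_sum (inf_le_left : W ≤ U)
        (Groth.Agent.ClosedRinged.res F hWV w) (i y) hyW
      refine ⟨Groth.Agent.ClosedRinged.pre i W₁, (Groth.Agent.ClosedRinged.pre_mono i hW₁).trans hWV, hy₁,
        fun j => Groth.Agent.ClosedRinged.cc i c W₁ (a j), ?_⟩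
      exact ha.trans (Groth.Agent.ClosedRinged.res_res F _ _ w)
    · intro h
      rw [Groth.Agent.RngSp.isFiniteType_iff] at h ⊢
      intro x
      by_cases hx : x ∈ Set.range i
      · obtain ⟨z, rfl⟩ := hx
        obtain ⟨V, ι, hι, t, hzV, ht⟩ := h z
        haveI := Fintype.ofFinite ι
        have hpe : Groth.Agent.ClosedRinged.pre i (Groth.Agent.ClosedRinged.ext hi V) ≤ V :=
          (Groth.Agent.ClosedRinged.pre_ext hi V).le
        refine ⟨Groth.Agent.ClosedRinged.ext hi V, ι, hι, fun j => Groth.Agent.ClosedRinged.res F hpe (t j),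
          (hi.isInducing.mem_functorObj_iff V).2 hzV,
          Groth.Agent.RngSp.genOn_of_exists_sum fun W hW w y hy => ?_⟩
        rcases Groth.Agent.ClosedRinged.exists_nhd hi (U := W) (V := ⊤) le_top hy with ⟨z₁, rfl, -⟩ | hoff
        · obtain ⟨W₁, hW₁, hz₁, a, ha⟩ := ht.exists_sum ((Groth.Agent.ClosedRinged.pre_mono i hW).trans hpe) w z₁ hy
          let W₂ : Opens X := W ⊓ Groth.Agent.ClosedRinged.ext hi W₁
          have hW₂ : Groth.Agent.ClosedRinged.pre i W₂ ≤ W₁ :=
            (Groth.Agent.ClosedRinged.pre_mono i inf_le_right).trans (Groth.Agent.ClosedRinged.pre_ext hi W₁).le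
          have hy₂ : i z₁ ∈ W₂ := ⟨hy, (hi.isInducing.mem_functorObj_iff W₁).2 hz₁⟩
          obtain ⟨W₃, hW₃, hy₃, hb⟩ := Groth.Agent.RngSp.nearby_forall hy₂
            (P := fun j W' hW' => ∃ b, Groth.Agent.ClosedRinged.cc i c W' b =
              Groth.Agent.ClosedRinged.resO O_Z ((Groth.Agent.ClosedRinged.pre_mono i hW').trans hW₂) (a j))
            (fun j W' W'' h h' ⟨b, hb⟩ => ⟨Groth.Agent.ClosedRinged.resO O_X h' b, by
              rw [Groth.Agent.ClosedRinged.cc_res, hb, Groth.Agent.ClosedRinged.resO_resO]⟩)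
            fun j => by
              obtain ⟨U, hU, b, hxU, hb⟩ := Groth.Agent.ClosedRinged.exists_lift hc hy₂
                (Groth.Agent.ClosedRinged.resO O_Z hW₂ (a j))
              exact ⟨U, hU, hxU, b, by rw [hb, Groth.Agent.ClosedRinged.resO_resO]⟩
          choose b hb using hb
          refine ⟨W₃, hW₃.trans inf_le_left, hy₃, b, ?_⟩
          have h1 := congrArg (Groth.Agent.ClosedRinged.res F ((Groth.Agent.ClosedRinged.pre_mono i hW₃).trans hW₂)) ha
          rw [Groth.Agent.RngSp.res_comb, Groth.Agent.ClosedRinged.res_res] at h1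
          refine Eq.trans (Finset.sum_congr rfl fun j _ => ?_) h1
          exact congrArg₂ (fun (p : Groth.Agent.RngSp.fns O_Z (Groth.Agent.ClosedRinged.pre i W₃))
            (q : F.val.obj (Opposite.op (Groth.Agent.ClosedRinged.pre i W₃))) => p • q) (hb j)
            ((Groth.Agent.ClosedRinged.res_res F hpe _ (t j)).trans (Groth.Agent.ClosedRinged.res_res F _ _ (t j)).symm)
        · refine ⟨W ⊓ Groth.Agent.ClosedRinged.off hi, inf_le_left, hoff, fun _ => 0, ?_⟩
          exact Groth.Agent.ClosedRinged.eq_of_empty F (Groth.Agent.ClosedRinged.not_mem_pre_off hi) _ _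
      · refine ⟨Groth.Agent.ClosedRinged.off hi, PEmpty, inferInstance, fun e => e.elim, hx,
          Groth.Agent.RngSp.genOn_of_exists_sum fun W hW w y hy => ⟨W, le_rfl, hy, fun e => e.elim, ?_⟩⟩
        exact Groth.Agent.ClosedRinged.eq_of_empty F (fun z hz => (hW hz) ⟨z, rfl⟩) _ _

end Groth.Agent.S6846
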