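import Groth.Statements.S6849
import Groth.Agent.RngSp.Free
-- import your own Groth.Agent.* helpers here

set_option autoImplicit false
universe u
open CategoryTheory CategoryTheory.Limits TopologicalSpace
open ModSite

namespace Groth.Agent.S6849

/-- Let (X, O) be a ringed space all of whose stalks O_{X,x} are local rings, H a finite locally free
O-module (every point has an open neighbourhood U with H|_U ≅ O_U^n, the free O_U-module on n
generators, for some n) and F a direct summand of H (maps F → H → F composing to the identity). Then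
F is finite locally free. -/
theorem result {X : TopCat.{u}}
    (O : TopCat.Sheaf CommRingCat.{u} X) (hO : ∀ x : X, IsLocalRing (O.presheaf.stalk x)) {F H : ModSite.Mod O}
    (hH : ∀ x : X, ∃ (U : Opens X) (n : ℕ), x ∈ U ∧
      Nonempty ((ModSite.restr O U).obj H ≅ SheafOfModules.free (ULift.{u} (Fin n))))
    (i : F ⟶ H) (p : H ⟶ F) (hip : i ≫ p = 𝟙 F) (x : X) :
    ∃ (U : Opens X) (n : ℕ), x ∈ U ∧
      Nonempty ((ModSite.restr O U).obj F ≅ SheafOfModules.free (ULift.{u} (Fin n))) := by
    open Groth.Agent.RngSp Groth.Agent.ClosedRinged in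
    classical
    obtain ⟨U, n, hxU, ⟨e⟩⟩ := hH x
    obtain ⟨h, hh⟩ := Groth.Agent.RngSp.exists_basis_of_iso e
    haveI := hO x
    obtain ⟨V, hV, hxV, hE⟩ := Groth.Agent.RngSp.nearby_forall hxU
      (P := fun j V hV => ∃ a : ULift.{u} (Fin n) → Groth.Agent.RngSp.fns O V,
        Groth.Agent.RngSp.comb a (fun k => Groth.Agent.ClosedRinged.res H hV (h k)) =
          Groth.Agent.RngSp.mp i V (Groth.Agent.RngSp.mp p V (Groth.Agent.ClosedRinged.res H hV (h j))))
      (fun j V V' hV h' ⟨a, ha⟩ => ⟨_, by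
        have := congrArg (Groth.Agent.ClosedRinged.res H h') ha
        rw [Groth.Agent.RngSp.res_comb', ← Groth.Agent.RngSp.mp_res, ← Groth.Agent.RngSp.mp_res] at this
        simpa only [Groth.Agent.ClosedRinged.res_res] using this⟩)
      (fun j => by
        obtain ⟨V, hV, hxV, a, ha⟩ := hh.gen.exists_sum le_rfl
          (Groth.Agent.RngSp.mp i U (Groth.Agent.RngSp.mp p U (h j))) x hxU
        refine ⟨V, hV, hxV, a, ha.trans ?_⟩
        simp only [Groth.Agent.RngSp.mp_res])
    choose E' hE using hE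
    let E : Matrix (ULift.{u} (Fin n)) (ULift.{u} (Fin n)) (Groth.Agent.RngSp.fns O V) := E'
    let h' := fun k => Groth.Agent.ClosedRinged.res H hV (h k)
    have hip' : ∀ (W : Opens X) (z : F.val.obj (Opposite.op W)),
        Groth.Agent.RngSp.mp p W (Groth.Agent.RngSp.mp i W z) = z := fun W z =>
      congrArg (fun k : F ⟶ F => Groth.Agent.RngSp.mp k W z) hip
    have hE' : (fun j => Groth.Agent.RngSp.comb (E j) h') =
        fun j => Groth.Agent.RngSp.mp i V (Groth.Agent.RngSp.mp p V (h' j)) := funext hE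
    have hEE : E * E = E := funext fun j => (hh.mono hV).eq_of_comb_eq (by
      change Groth.Agent.RngSp.comb (Matrix.vecMul (E j) E) h' = Groth.Agent.RngSp.comb (E j) h'
      rw [Groth.Agent.RngSp.comb_vecMul, hE', ← Groth.Agent.RngSp.mp_comb i, ← Groth.Agent.RngSp.mp_comb p,
        congrFun hE' j, hip'])
    let ev := Groth.Agent.RngSp.evalRing (O := O) hxV
    have hEE' : E.map ev * E.map ev = E.map ev :=
      (map_mul (RingHom.mapMatrix ev) E E).symm.trans (congrArg (RingHom.mapMatrix ev) hEE)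
    obtain ⟨r, W, Q, hWQ, hQW⟩ := Groth.Agent.RngSp.exists_split_idempotent (E.map ev) hEE'
    obtain ⟨V₁, hV₁, hxV₁, W₁, hW₁⟩ := Groth.Agent.RngSp.exists_lift_matrix hxV
      ((Matrix.reindex Equiv.ulift.{u}.symm (Equiv.refl _)) W)
    obtain ⟨V₂, hV₂, hxV₂, Q₂, hQ₂⟩ := Groth.Agent.RngSp.exists_lift_matrix hxV₁
      ((Matrix.reindex (Equiv.refl _) Equiv.ulift.{u}.symm) Q)
    let ρ : ∀ {A B : Opens X} (_ : B ≤ A), Groth.Agent.RngSp.fns O A →+* Groth.Agent.RngSp.fns O B :=
      fun h => ((ModSite.ringSh O).obj.map (homOfLE h).op).hom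
    let ev₂ := Groth.Agent.RngSp.evalRing (O := O) hxV₂
    let W₂ := W₁.map (ρ hV₂)
    let E₂ := E.map (ρ (hV₂.trans hV₁))
    have eW : W₂.map ev₂ = (Matrix.reindex Equiv.ulift.{u}.symm (Equiv.refl _)) W := by
      rw [← hW₁]
      exact Matrix.ext fun a b => Groth.Agent.RngSp.evalRing_resO hV₂ hxV₂ _
    have eE : E₂.map ev₂ = E.map ev := Matrix.ext fun a b => Groth.Agent.RngSp.evalRing_resO _ hxV₂ _
    have h₁ : (W₂ * Q₂).map ev₂ = (1 : Matrix (ULift.{u} (Fin r)) (ULift.{u} (Fin r)) _).map ev₂ := by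
      rw [Matrix.map_mul, eW, hQ₂, Matrix.map_one _ (map_zero ev₂) (map_one ev₂), Matrix.reindex_apply,
        Matrix.reindex_apply, Equiv.refl_symm, Equiv.coe_refl, Matrix.submatrix_mul _ _ _ _ _ Function.bijective_id |>.symm,
        hWQ]
      exact Matrix.submatrix_one_equiv Equiv.ulift.{u}
    have h₂ : (Q₂ * W₂).map ev₂ = E₂.map ev₂ := by
      rw [Matrix.map_mul, eW, hQ₂, eE, ← hQW, Matrix.reindex_apply, Matrix.reindex_apply, Equiv.refl_symm,
        Equiv.coe_refl, Equiv.symm_symm, ← Matrix.submatrix_mul _ _ _ _ _ Equiv.ulift.{u}.bijective]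
      rfl
    obtain ⟨V₃, hV₃, hxV₃, e₁⟩ := Groth.Agent.RngSp.exists_res_matrix_eq hxV₂ h₁
    obtain ⟨V₄, hV₄, hxV₄, e₂⟩ := Groth.Agent.RngSp.exists_res_matrix_eq hxV₂ h₂
    let T : Opens X := V₃ ⊓ V₄
    have hT : T ≤ V₂ := inf_le_left.trans hV₃
    let WT := W₂.map (ρ hT)
    let QT := Q₂.map (ρ hT)
    let ET := E₂.map (ρ hT)
    have hWQT : WT * QT = 1 := by
      have := congrArg (fun M => Matrix.map M (ρ (inf_le_left : T ≤ V₃))) e₁
      simp only [Matrix.map_map] at this
      rw [← Matrix.map_mul]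
      refine (Matrix.ext fun a b => ?_).trans (this.trans (Matrix.ext fun a b => ?_))
      · exact (Groth.Agent.ClosedRinged.resO_resO hV₃ inf_le_left _).symm
      · rw [Matrix.map_apply, Function.comp_apply, Matrix.one_apply, Matrix.one_apply]
        split_ifs
        · exact (congrArg _ (map_one (ρ hV₃))).trans (map_one _)
        · exact (congrArg _ (map_zero (ρ hV₃))).trans (map_zero _)
    have hQWT : QT * WT = ET := by
      have := congrArg (fun M => Matrix.map M (ρ (inf_le_right : T ≤ V₄))) e₂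
      simp only [Matrix.map_map] at this
      rw [← Matrix.map_mul]
      refine (Matrix.ext fun a b => ?_).trans (this.trans (Matrix.ext fun a b => ?_))
      · exact (Groth.Agent.ClosedRinged.resO_resO hV₄ inf_le_right _).symm
      · exact Groth.Agent.ClosedRinged.resO_resO hV₄ inf_le_right _
    have hTV : T ≤ V := hT.trans (hV₂.trans hV₁)
    let hT' := fun k => Groth.Agent.ClosedRinged.res H hTV (h' k)
    have hET : (fun j => Groth.Agent.RngSp.comb (ET j) hT') =
        fun j => Groth.Agent.RngSp.mp i T (Groth.Agent.RngSp.mp p T (hT' j)) := funext fun j => by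
      have := congrArg (Groth.Agent.ClosedRinged.res H hTV) (congrFun hE' j)
      rw [Groth.Agent.RngSp.res_comb', ← Groth.Agent.RngSp.mp_res, ← Groth.Agent.RngSp.mp_res] at this
      refine Eq.trans (congrArg (fun v => Groth.Agent.RngSp.comb v hT') (funext fun k => ?_)) this
      exact Groth.Agent.ClosedRinged.resO_resO (hV₂.trans hV₁) hT _
    let f : ULift.{u} (Fin r) → F.val.obj (Opposite.op T) := fun a =>
      Groth.Agent.RngSp.mp p T (Groth.Agent.RngSp.comb (WT a) hT')
    refine ⟨T, r, ⟨hxV₃, hxV₄⟩, Groth.Agent.RngSp.nonempty_iso_free (t := f) ⟨?_, fun S hS c hc => ?_⟩⟩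
    · refine Groth.Agent.RngSp.genOn_of_exists_sum fun S hS z y hy => ?_
      obtain ⟨S', hS', hy', c, hc⟩ := ((hh.mono hV).mono hTV).gen.exists_sum hS
        (Groth.Agent.RngSp.mp i S z) y hy
      have hl : S' ≤ T := hS'.trans hS
      refine ⟨S', hS', hy', Matrix.vecMul c (QT.map (ρ hl)), ?_⟩
      change Groth.Agent.RngSp.comb (Matrix.vecMul c (QT.map (ρ hl))) (fun a => Groth.Agent.ClosedRinged.res F hl (f a)) = _
      rw [Groth.Agent.RngSp.comb_vecMul]
      have key : (fun j => Groth.Agent.RngSp.comb (QT.map (ρ hl) j) fun a => Groth.Agent.ClosedRinged.res F hl (f a)) =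
          fun j => Groth.Agent.RngSp.mp p S' (Groth.Agent.ClosedRinged.res H hl (hT' j)) := funext fun j => by
        refine (Groth.Agent.RngSp.res_comb' hl (QT j) f).symm.trans ?_
        rw [← Groth.Agent.RngSp.mp_comb, ← Groth.Agent.RngSp.comb_vecMul]
        change Groth.Agent.ClosedRinged.res F hl (Groth.Agent.RngSp.mp p T (Groth.Agent.RngSp.comb ((QT * WT) j) hT')) = _
        rw [hQWT, congrFun hET j, hip']
        simp only [hT', Groth.Agent.RngSp.mp_res]
      rw [key, ← Groth.Agent.RngSp.mp_comb]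
      refine Eq.trans (congrArg (Groth.Agent.RngSp.mp p S') hc) ?_
      rw [Groth.Agent.RngSp.mp_res, hip']
    · let hS' := fun k => Groth.Agent.ClosedRinged.res H hS (hT' k)
      let WS := WT.map (ρ hS)
      let QS := QT.map (ρ hS)
      have hWQS : WS * QS = 1 := by
        rw [← Matrix.map_mul, hWQT]
        exact Matrix.map_one _ (map_zero _) (map_one _)
      have h1 : Groth.Agent.RngSp.comb (Matrix.vecMul (Matrix.vecMul c WS) (ET.map (ρ hS))) hS' = 0 := by
        have hes : (fun j => Groth.Agent.RngSp.comb (ET.map (ρ hS) j) hS') =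
            fun j => Groth.Agent.RngSp.mp i S (Groth.Agent.RngSp.mp p S (hS' j)) := funext fun j => by
          have := congrArg (Groth.Agent.ClosedRinged.res H hS) (congrFun hET j)
          rw [Groth.Agent.RngSp.res_comb', ← Groth.Agent.RngSp.mp_res, ← Groth.Agent.RngSp.mp_res] at this
          exact this
        rw [Groth.Agent.RngSp.comb_vecMul, hes, ← Groth.Agent.RngSp.mp_comb, ← Groth.Agent.RngSp.mp_comb,
          Groth.Agent.RngSp.comb_vecMul, Groth.Agent.RngSp.mp_comb p]
        refine Eq.trans (congrArg _ ?_) (map_zero (Groth.Agent.RngSp.mp i S))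
        refine Eq.trans (congrArg (Groth.Agent.RngSp.comb c) (funext fun a => ?_)) hc
        exact (congrArg (Groth.Agent.RngSp.mp p S) (Groth.Agent.RngSp.res_comb' hS (WT a) hT').symm).trans
          (Groth.Agent.RngSp.mp_res p hS _)
      have h2 := (((hh.mono hV).mono hTV).mono hS).indep S le_rfl _ (by
        simp only [Groth.Agent.ClosedRinged.res_self]; exact h1)
      have h3 : WS * ET.map (ρ hS) * QS = 1 := by
        rw [← hQWT, Matrix.map_mul, ← Matrix.mul_assoc, hWQS, Matrix.one_mul, hWQS]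
      rw [← Matrix.vecMul_one c, ← h3, ← Matrix.vecMul_vecMul, ← Matrix.vecMul_vecMul, h2, Matrix.zero_vecMul]

end Groth.Agent.S6849
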