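import Groth.Statements.S6850
import Groth.Agent.RngSp.TensorPres
import Groth.Agent.RngSp.Opens
-- import your own Groth.Agent.* helpers here

set_option autoImplicit false
universe u
open CategoryTheory CategoryTheory.Limits TopologicalSpace
open ModSite

namespace Groth.Agent.S6850

/-- On a ringed space (X, O), for O-modules F and G: if both are locally generated by sections then so
is F ⊗_O G; if both are of finite type then so is F ⊗_O G; if both are quasi-coherent then so is F
⊗_O G; if both are of finite presentation then so is F ⊗_O G; if both are locally free then so is F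
⊗_O G. (Parts (5), (6) on coherent modules are not restated.) -/
theorem result {X : TopCat.{u}} (O : TopCat.Sheaf CommRingCat.{u} X) (F G : ModSite.Mod O) :
    (Nonempty (SheafOfModules.LocalGeneratorsData.{u} (R := ModSite.ringSh O) F) →
        Nonempty (SheafOfModules.LocalGeneratorsData.{u} (R := ModSite.ringSh O) G) →
          Nonempty (SheafOfModules.LocalGeneratorsData.{u} (R := ModSite.ringSh O) (((ModSite.tensorBi O).obj F).obj G))) ∧
      (SheafOfModules.IsFiniteType (R := ModSite.ringSh O) F → SheafOfModules.IsFiniteType (R := ModSite.ringSh O) G →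
        SheafOfModules.IsFiniteType (R := ModSite.ringSh O) (((ModSite.tensorBi O).obj F).obj G)) ∧
      (SheafOfModules.IsQuasicoherent (R := ModSite.ringSh O) F →
        SheafOfModules.IsQuasicoherent (R := ModSite.ringSh O) G →
          SheafOfModules.IsQuasicoherent (R := ModSite.ringSh O) (((ModSite.tensorBi O).obj F).obj G)) ∧
      (SheafOfModules.IsFinitePresentation (R := ModSite.ringSh O) F →
        SheafOfModules.IsFinitePresentation (R := ModSite.ringSh O) G →
          SheafOfModules.IsFinitePresentation (R := ModSite.ringSh O) (((ModSite.tensorBi O).obj F).obj G)) ∧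
      (SheafOfModules.IsLocallyFree (R := ModSite.ringSh O) F → SheafOfModules.IsLocallyFree (R := ModSite.ringSh O) G →
        SheafOfModules.IsLocallyFree (R := ModSite.ringSh O) (((ModSite.tensorBi O).obj F).obj G)) := by
    haveI hcol : ∀ {V U : Opens X} (h : V ⟶ U),
        PreservesColimitsOfSize.{u, u} (SheafOfModules.overMap.{u} (ModSite.ringSh O) h) := fun h =>
      (SheafOfModules.overMapPushforwardAdj (ModSite.ringSh O) h).leftAdjoint_preservesColimits
    let rG : ∀ {M : ModSite.Mod O} {V U : Opens X} (h : V ⟶ U), ((ModSite.restr O U).obj M).GeneratingSections →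
        ((ModSite.restr O V).obj M).GeneratingSections := fun {M V U} h σ =>
      haveI := hcol h
      ((show (SheafOfModules.over M U).GeneratingSections from σ).map (SheafOfModules.overMap.{u} (ModSite.ringSh O) h) (SheafOfModules.overMapUnitIso h).symm).ofEpi
        ((SheafOfModules.overFunctorMap (ModSite.ringSh O) h).app M).hom
    let rP : ∀ {M : ModSite.Mod O} {V U : Opens X} (h : V ⟶ U), ((ModSite.restr O U).obj M).Presentation →
        ((ModSite.restr O V).obj M).Presentation := fun {M V U} h σ =>
      haveI := hcol h
      SheafOfModules.Presentation.ofIsIso ((SheafOfModules.overFunctorMap (ModSite.ringSh O) h).app M).hom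
        ((show (SheafOfModules.over M U).Presentation from σ).map (SheafOfModules.overMap.{u} (ModSite.ringSh O) h) (SheafOfModules.overMapUnitIso h).symm)
    have hrG : ∀ {M : ModSite.Mod O} {V U : Opens X} (h : V ⟶ U) (σ : ((ModSite.restr O U).obj M).GeneratingSections)
        (hσ : IsIso σ.π), IsIso (rG h σ).π := fun {M V U} h σ hσ => by
      haveI := hcol h
      let σ' : (SheafOfModules.over M U).GeneratingSections := σ
      haveI : IsIso σ'.π := hσ
      have h1 : IsIso (σ'.map (SheafOfModules.overMap.{u} (ModSite.ringSh O) h) (SheafOfModules.overMapUnitIso h).symm).π :=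
        inferInstance
      have h2 := SheafOfModules.GeneratingSections.ofEpi_π
        (σ'.map (SheafOfModules.overMap.{u} (ModSite.ringSh O) h) (SheafOfModules.overMapUnitIso h).symm)
        ((SheafOfModules.overFunctorMap (ModSite.ringSh O) h).app M).hom
      exact (congrArg (fun t => IsIso t) h2).mpr (IsIso.comp_isIso' h1 inferInstance)
    let tG : ∀ {V : Opens X}, ((ModSite.restr O V).obj F).GeneratingSections → ((ModSite.restr O V).obj G).GeneratingSections →
        ((ModSite.restr O V).obj (((ModSite.tensorBi O).obj F).obj G)).GeneratingSections := fun {V} σ τ =>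
      (Groth.Agent.RngSp.tnsGenerators σ τ).ofEpi (Groth.Agent.ModTensor.restrTensorIso O V F G).inv
    have htG : ∀ {V : Opens X} (σ : ((ModSite.restr O V).obj F).GeneratingSections)
        (τ : ((ModSite.restr O V).obj G).GeneratingSections) [IsIso σ.π] [IsIso τ.π], IsIso (tG σ τ).π :=
      fun {V} σ τ _ _ => by
        haveI := Groth.Agent.RngSp.isIso_tnsGenerators σ τ
        simp only [tG, SheafOfModules.GeneratingSections.ofEpi_π]
        exact IsIso.comp_isIso' (Groth.Agent.RngSp.isIso_tnsGenerators σ τ) inferInstance
    let gen : SheafOfModules.LocalGeneratorsData.{u} (R := ModSite.ringSh O) F →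
        SheafOfModules.LocalGeneratorsData.{u} (R := ModSite.ringSh O) G →
        SheafOfModules.LocalGeneratorsData.{u} (R := ModSite.ringSh O) (((ModSite.tensorBi O).obj F).obj G) :=
      fun σ τ =>
        { I := σ.I × τ.I
          X := fun p => σ.X p.1 ⊓ τ.X p.2
          coversTop := Groth.Agent.RngSp.coversTop_of_forall fun x => by
            obtain ⟨i, hi⟩ := Groth.Agent.RngSp.exists_mem_of_coversTop σ.coversTop x
            obtain ⟨j, hj⟩ := Groth.Agent.RngSp.exists_mem_of_coversTop τ.coversTop x
            exact ⟨(i, j), hi, hj⟩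
          generators := fun p => tG (rG (homOfLE inf_le_left) (σ.generators p.1)) (rG (homOfLE inf_le_right) (τ.generators p.2)) }
    refine ⟨fun ⟨σ⟩ ⟨τ⟩ => ⟨gen σ τ⟩, fun hF hG => ?_, fun hF hG => ?_, fun hF hG => ?_, fun hF hG => ?_⟩
    · obtain ⟨σ, hσ⟩ := hF.exists_localGeneratorsData
      obtain ⟨τ, hτ⟩ := hG.exists_localGeneratorsData
      constructor
      refine ⟨gen σ τ, ?_⟩
      constructor
      intro p
      haveI : Finite (σ.generators p.1).I := (hσ.isFiniteType p.1).finite
      haveI : Finite (τ.generators p.2).I := (hτ.isFiniteType p.2).finite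
      constructor
      exact inferInstanceAs (Finite ((σ.generators p.1).I × (τ.generators p.2).I))
    · obtain ⟨σ⟩ := hF.nonempty_quasicoherentData
      obtain ⟨τ⟩ := hG.nonempty_quasicoherentData
      let q : SheafOfModules.QuasicoherentData.{u} (R := ModSite.ringSh O) (((ModSite.tensorBi O).obj F).obj G) :=
        { I := σ.I × τ.I
          X := fun p => σ.X p.1 ⊓ τ.X p.2
          coversTop := (gen σ.localGeneratorsData τ.localGeneratorsData).coversTop
          presentation := fun p => SheafOfModules.Presentation.ofIsIso
            (Groth.Agent.ModTensor.restrTensorIso O (σ.X p.1 ⊓ τ.X p.2) F G).inv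
            (Groth.Agent.RngSp.tnsPresentation (rP (homOfLE inf_le_left) (σ.presentation p.1))
              (rP (homOfLE inf_le_right) (τ.presentation p.2))) }
      exact q.isQuasicoherent
    · obtain ⟨σ, hσ⟩ := hF.exists_quasicoherentData
      obtain ⟨τ, hτ⟩ := hG.exists_quasicoherentData
      have hrP : ∀ {M : ModSite.Mod O} {V U : Opens X} (h : V ⟶ U) (P : ((ModSite.restr O U).obj M).Presentation)
          (hP : P.IsFinite), (rP h P).IsFinite := fun {M V U} h P hP => by
        haveI := hcol h
        exact { isFiniteType_generators := ⟨hP.isFiniteType_generators.finite⟩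
                isFiniteType_relations := ⟨hP.isFiniteType_relations.finite⟩ }
      let q : SheafOfModules.QuasicoherentData.{u} (R := ModSite.ringSh O) (((ModSite.tensorBi O).obj F).obj G) :=
        { I := σ.I × τ.I
          X := fun p => σ.X p.1 ⊓ τ.X p.2
          coversTop := (gen σ.localGeneratorsData τ.localGeneratorsData).coversTop
          presentation := fun p => SheafOfModules.Presentation.ofIsIso
            (Groth.Agent.ModTensor.restrTensorIso O (σ.X p.1 ⊓ τ.X p.2) F G).inv
            (Groth.Agent.RngSp.tnsPresentation (rP (homOfLE inf_le_left) (σ.presentation p.1))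
              (rP (homOfLE inf_le_right) (τ.presentation p.2))) }
      constructor
      refine ⟨q, ?_⟩
      constructor
      intro p
      haveI := hrP (homOfLE inf_le_left : σ.X p.1 ⊓ τ.X p.2 ⟶ σ.X p.1) (σ.presentation p.1) (hσ.isFinite_presentation p.1)
      haveI := hrP (homOfLE inf_le_right : σ.X p.1 ⊓ τ.X p.2 ⟶ τ.X p.2) (τ.presentation p.2) (hτ.isFinite_presentation p.2)
      haveI := Groth.Agent.RngSp.tnsPresentation_isFinite (rP (homOfLE inf_le_left : σ.X p.1 ⊓ τ.X p.2 ⟶ σ.X p.1) (σ.presentation p.1))
        (rP (homOfLE inf_le_right : σ.X p.1 ⊓ τ.X p.2 ⟶ τ.X p.2) (τ.presentation p.2))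
      exact inferInstanceAs (SheafOfModules.Presentation.ofIsIso
        (Groth.Agent.ModTensor.restrTensorIso O (σ.X p.1 ⊓ τ.X p.2) F G).inv
        (Groth.Agent.RngSp.tnsPresentation (rP (homOfLE inf_le_left : σ.X p.1 ⊓ τ.X p.2 ⟶ σ.X p.1) (σ.presentation p.1))
          (rP (homOfLE inf_le_right : σ.X p.1 ⊓ τ.X p.2 ⟶ τ.X p.2) (τ.presentation p.2)))).IsFinite
    · obtain ⟨σ, hσ⟩ := hF.exists_isLocallyFreeData
      obtain ⟨τ, hτ⟩ := hG.exists_isLocallyFreeData
      suffices h : (gen σ τ).IsLocallyFreeData by
        constructor
        exact ⟨gen σ τ, h⟩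
      constructor
      intro p
      haveI := hrG (homOfLE inf_le_left : σ.X p.1 ⊓ τ.X p.2 ⟶ σ.X p.1) (σ.generators p.1) (hσ.isIso p.1)
      haveI := hrG (homOfLE inf_le_right : σ.X p.1 ⊓ τ.X p.2 ⟶ τ.X p.2) (τ.generators p.2) (hτ.isIso p.2)
      exact htG _ _

end Groth.Agent.S6850
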