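import Groth.Statements.S6852
import Groth.Agent.RngSp.GenAny
import Groth.Agent.ModPull.Tensor
-- import your own Groth.Agent.* helpers here

set_option autoImplicit false
universe u
open CategoryTheory CategoryTheory.Limits TopologicalSpace
open ModSite

namespace Groth.Agent.S6852

/-- Let f : (X, O_X) → (Y, O_Y) be a morphism of ringed spaces. If the O_Y-module G is locally generated
by sections (there is an open covering of Y on whose members G is generated by a family of
sections), then f^*G is locally generated by sections. -/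
theorem result {X Y : TopCat.{u}} (f : X ⟶ Y) (O_X : TopCat.Sheaf CommRingCat.{u} X)
    (O_Y : TopCat.Sheaf CommRingCat.{u} Y)
    (c : O_Y ⟶ ((TopologicalSpace.Opens.map f).sheafPushforwardContinuous CommRingCat.{u}
      (Opens.grothendieckTopology Y) (Opens.grothendieckTopology X)).obj O_X)
    (G : ModSite.Mod O_Y) (hG : Nonempty (SheafOfModules.LocalGeneratorsData.{u} (R := ModSite.ringSh O_Y) G)) :
    Nonempty (SheafOfModules.LocalGeneratorsData.{u} (R := ModSite.ringSh O_X)
      ((ModSite.RMor.ofFlat (TopologicalSpace.Opens.map f) c).pull.obj G)) := by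
    open Groth.Agent.RngSp Groth.Agent.ClosedRinged in
    classical
    obtain ⟨σ⟩ := hG
    refine Groth.Agent.RngSp.nonempty_localGeneratorsData fun x => ?_
    obtain ⟨U, ι, t, hxU, ht⟩ := Groth.Agent.RngSp.exists_genOn_of_localGeneratorsData σ (f x)
    let φ := ModSite.RMor.ofFlat (TopologicalSpace.Opens.map f) c
    refine ⟨(TopologicalSpace.Opens.map f).obj U, ι,
      fun i => Groth.Agent.ModPull.pu φ G (U := Opposite.op U) (t i), hxU, fun W hW z y hy => ?_⟩
    obtain ⟨W₁, hW₁, hy₁, Y, h, n, a, k, hz⟩ := Groth.Agent.RngSp.nearby_of_locally_opens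
      (Groth.Agent.ModPull.locally_combination φ G (W := W) z) y hy
    have hfy : f y ∈ Y ⊓ U := ⟨h.le hy₁, hW hy⟩
    obtain ⟨Y', hY', hfy', hk⟩ := Groth.Agent.RngSp.nearby_forall hfy
      (P := fun l Y' hY' => Groth.Agent.ClosedRinged.res G (hY'.trans inf_le_left) (k l) ∈
        Submodule.span (Groth.Agent.RngSp.fns O_Y Y')
          (Set.range fun i => Groth.Agent.ClosedRinged.res G (hY'.trans inf_le_right) (t i)))
      (fun l A B hA hB hl => by
        have := Groth.Agent.RngSp.res_mem_span hB _ _ hl
        simpa only [Groth.Agent.ClosedRinged.res_res] using this)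
      fun l => by
        obtain ⟨A, hA, hyA, hl⟩ := ht (Y ⊓ U) inf_le_right (Groth.Agent.ClosedRinged.res G inf_le_left (k l)) (f y) hfy
        exact ⟨A, hA, hyA, by simpa only [Groth.Agent.ClosedRinged.res_res] using hl⟩
    let W₂ : Opens X := W₁ ⊓ (TopologicalSpace.Opens.map f).obj Y'
    refine ⟨W₂, inf_le_left.trans hW₁, ⟨hy₁, hfy'⟩, ?_⟩
    let P := φ.pull.obj G
    have hz' : Groth.Agent.ClosedRinged.res P hW₁ z =
        ∑ l, (show Groth.Agent.RngSp.fns O_X W₁ from a l) •
          Groth.Agent.ClosedRinged.res P h.le (Groth.Agent.ModPull.pu φ G (U := Opposite.op Y) (k l)) := hz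
    have h2 := congrArg (Groth.Agent.ClosedRinged.res P (inf_le_left : W₂ ≤ W₁)) hz'
    rw [Groth.Agent.ClosedRinged.res_res, Groth.Agent.RngSp.res_comb] at h2
    show Groth.Agent.ClosedRinged.res P (inf_le_left.trans hW₁) z ∈ _
    rw [h2]
    refine Submodule.sum_mem _ fun l _ => Submodule.smul_mem _ _ ?_
    rw [Groth.Agent.ClosedRinged.res_res]
    have key : ∀ m : G.val.obj (Opposite.op Y'),
        m ∈ Submodule.span (Groth.Agent.RngSp.fns O_Y Y')
          (Set.range fun i => Groth.Agent.ClosedRinged.res G (hY'.trans inf_le_right) (t i)) →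
        Groth.Agent.ClosedRinged.res P (inf_le_right : W₂ ≤ (TopologicalSpace.Opens.map f).obj Y')
          (Groth.Agent.ModPull.pu φ G (U := Opposite.op Y') m) ∈
        Submodule.span (Groth.Agent.RngSp.fns O_X W₂) (Set.range fun i =>
          Groth.Agent.ClosedRinged.res P ((inf_le_left.trans hW₁).trans hW) (Groth.Agent.ModPull.pu φ G (U := Opposite.op U) (t i))) := by
      intro m hm
      induction hm using Submodule.span_induction with
      | mem m hm =>
        obtain ⟨i, rfl⟩ := hm
        refine Submodule.subset_span ⟨i, ?_⟩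
        refine (Groth.Agent.ClosedRinged.res_res P
          (fun z hz => (hY'.trans inf_le_right) hz : (TopologicalSpace.Opens.map f).obj Y' ≤ (TopologicalSpace.Opens.map f).obj U)
          inf_le_right _).symm.trans ?_
        exact congrArg (Groth.Agent.ClosedRinged.res P inf_le_right)
          (Groth.Agent.ModPull.pu_rs φ G (homOfLE (hY'.trans inf_le_right)).op (t i)).symm
      | zero => rw [show Groth.Agent.ModPull.pu φ G (U := Opposite.op Y') (0 : G.val.obj (Opposite.op Y')) = _ from Groth.Agent.ModPull.pu_zero φ G]; exact (Groth.Agent.ClosedRinged.res_zero P _).symm ▸ zero_mem _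
      | add p q _ _ hp hq =>
        rw [show Groth.Agent.ModPull.pu φ G (U := Opposite.op Y') (p + q) = _ from Groth.Agent.ModPull.pu_add φ G p q]
        exact (Groth.Agent.ClosedRinged.res_add P _ _ _).symm ▸ add_mem hp hq
      | smul r m _ hm =>
        rw [show Groth.Agent.ModPull.pu φ G (U := Opposite.op Y') (r • m) = _ from
          Groth.Agent.ModPull.pu_smul φ G (show O_Y.obj.obj (Opposite.op Y') from r) m]
        exact (Groth.Agent.ClosedRinged.res_smul P _ _ _).symm ▸ Submodule.smul_mem _ _ hm
    refine (congrArg (· ∈ _) ?_).mp (key _ (hk l))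
    refine (congrArg (Groth.Agent.ClosedRinged.res P inf_le_right)
      (Groth.Agent.ModPull.pu_rs φ G (homOfLE (hY'.trans inf_le_left)).op (k l))).trans ?_
    exact Groth.Agent.ClosedRinged.res_res P _ _ _

end Groth.Agent.S6852
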