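import Groth.Statements.S6858
import Groth.Agent.RngSp.GenAny
import Groth.Agent.RngSp.StalkRing
-- import your own Groth.Agent.* helpers here

set_option autoImplicit false
universe u
open CategoryTheory CategoryTheory.Limits TopologicalSpace
open ModSite

namespace Groth.Agent.S6858

/-- Let (X, O) be a ringed space all of whose stalks O_{X,x} are nonzero rings and F a locally free
O-module. Then there is a locally constant function rank_F : X → ℕ ∪ {∞} such that for every point
x, every open neighbourhood U of x and every index set I with F|_U ≅ ⊕_{i ∈ I} O_U, the cardinality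
of I (a natural number or ∞) is rank_F(x). -/
theorem result {X : TopCat.{u}} (O : TopCat.Sheaf CommRingCat.{u} X)
    (hO : ∀ x : X, Nontrivial (O.presheaf.stalk x)) (F : ModSite.Mod O)
    [SheafOfModules.IsLocallyFree (R := ModSite.ringSh O) F] :
    ∃ rk : X → ℕ∞, IsLocallyConstant rk ∧
      ∀ (x : X) (U : Opens X) (I : Type u), x ∈ U →
        Nonempty ((ModSite.restr O U).obj F ≅ SheafOfModules.free I) → ENat.card I = rk x := by
    open Groth.Agent.RngSp Groth.Agent.ClosedRinged in
    classical
    have hnt : ∀ x : X, Nontrivial (ModSite.stalkRing (Groth.Agent.RngSp.pt x) O) := fun x => by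
      by_contra hc
      rw [not_nontrivial_iff_subsingleton] at hc
      have h1 : Groth.Agent.RngSp.gR (O := O) (U := (⊤ : Opens X)) (x := x) trivial (1 : Groth.Agent.RngSp.fns O ⊤) = 0 :=
        Subsingleton.elim _ _
      obtain ⟨V, hV, hxV, he⟩ := Groth.Agent.RngSp.exists_res_eq_zero_of_gR _ h1
      have he' := congrArg (Groth.Agent.RngSp.evalRing hxV) he
      rw [map_zero, Groth.Agent.RngSp.evalRing_resO, map_one] at he'
      exact (hO x).exists_pair_ne.elim fun a ⟨b, hab⟩ => hab (by rw [← mul_one a, ← mul_one b, he', mul_zero, mul_zero])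
    have basis : ∀ (x : X) (U : Opens X) (I : Type u) (_ : x ∈ U),
        Nonempty ((ModSite.restr O U).obj F ≅ SheafOfModules.free I) →
        Nonempty (Module.Basis I (ModSite.stalkRing (Groth.Agent.RngSp.pt x) O) (ModSite.stalkAb (Groth.Agent.RngSp.pt x) F)) := by
      rintro x U I hx ⟨e⟩
      let σ : ((ModSite.restr O U).obj F).GeneratingSections :=
        { I := I
          s := fun i => SheafOfModules.sectionsMap e.inv (SheafOfModules.freeSection i)
          epi := by
            have : ((ModSite.restr O U).obj F).freeHomEquiv.symm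
                (fun i => SheafOfModules.sectionsMap e.inv (SheafOfModules.freeSection i)) = e.inv := by
              rw [Equiv.symm_apply_eq]
              funext i
              exact (SheafOfModules.freeHomEquiv_apply e.inv i).symm
            rw [this]
            infer_instance }
      let t : I → F.val.obj (Opposite.op U) := fun i => (σ.s i).eval (Opposite.op (Over.mk (𝟙 U)))
      have hgen : Groth.Agent.RngSp.GenOn F U t := Groth.Agent.RngSp.genOn_of_generatingSections' σ
      refine ⟨Module.Basis.mk (v := fun i => Groth.Agent.RngSp.gm F hx (t i)) ?_ ?_⟩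
      · rw [linearIndependent_iff']
        intro S g hg j hj
        obtain ⟨V, hV, hxV, ha⟩ := Groth.Agent.RngSp.nearby_forall hx
          (P := fun (i : S) V _ => ∀ hxV : x ∈ V, ∃ a, Groth.Agent.RngSp.gR hxV a = g i)
          (fun i V V' _ h' hP hxV => ⟨Groth.Agent.ClosedRinged.resO O h' (hP (h' hxV)).choose, by
            rw [Groth.Agent.RngSp.gR_res, (hP (h' hxV)).choose_spec]⟩)
          fun i => by
            obtain ⟨W, hW, a, ha⟩ := Groth.Agent.RngSp.exists_gR (g i)
            exact ⟨U ⊓ W, inf_le_left, ⟨hx, hW⟩, fun h => ⟨Groth.Agent.ClosedRinged.resO O inf_le_right a, by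
              rw [Groth.Agent.RngSp.gR_res, ha]⟩⟩
        choose a ha using fun i => ha i hxV
        have h0 : Groth.Agent.RngSp.gm F hxV (Groth.Agent.RngSp.comb a fun i => Groth.Agent.ClosedRinged.res F hV (t i.1)) =
            Groth.Agent.RngSp.gm F hxV 0 := by
          rw [Groth.Agent.RngSp.gm_comb, Groth.Agent.RngSp.gm_zero]
          refine Eq.trans (Finset.sum_congr rfl fun i _ => ?_) ((Finset.sum_coe_sort S _).trans hg)
          rw [ha, Groth.Agent.RngSp.gm_res]
        obtain ⟨W, hW, hxW, hz⟩ := (Groth.Agent.RngSp.gm_eq_iff hxV _ _).1 h0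
        rw [Groth.Agent.RngSp.res_comb', Groth.Agent.ClosedRinged.res_zero] at hz
        let A : Over U := Over.mk (homOfLE (hW.trans hV))
        let a' : S → Groth.Agent.RngSp.rO (O.over U) (Opposite.op A) := fun i => Groth.Agent.ClosedRinged.resO O hW (a i)
        have hz' : ∑ i, a' i • (σ.s i.1).eval (Opposite.op A) =
            (0 : ((ModSite.restr O U).obj F).val.obj (Opposite.op A)) := by
          refine Eq.trans (Finset.sum_congr rfl fun i _ => ?_) hz
          exact congrArg (a' i • ·) ((Groth.Agent.RngSp.sections_eval (σ.s i.1) A).trans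
            (Groth.Agent.ClosedRinged.res_res F hV hW (t i.1)).symm)
        have hcoord := congrArg (fun w => Groth.Agent.RngSp.coord (O := O.over U) j (e.hom.val.app (Opposite.op A) w)) hz'
        simp only [map_sum, map_zero] at hcoord
        have hterm : ∀ i : S, Groth.Agent.RngSp.coord (O := O.over U) j (e.hom.val.app (Opposite.op A)
            (a' i • (σ.s i.1).eval (Opposite.op A))) = if i.1 = j then a' i else 0 := fun i => by
          rw [map_smul, map_smul]
          have : e.hom.val.app (Opposite.op A) ((σ.s i.1).eval (Opposite.op A)) =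
              (SheafOfModules.freeSection (R := ModSite.ringSh (O.over U)) i.1).eval (Opposite.op A) :=
            congrArg (fun k : SheafOfModules.free (R := ModSite.ringSh (O.over U)) I ⟶ _ =>
              k.val.app (Opposite.op A) ((SheafOfModules.freeSection (R := ModSite.ringSh (O.over U)) i.1).eval (Opposite.op A)))
              e.inv_hom_id
          rw [this, Groth.Agent.RngSp.coord_freeSection]
          split_ifs
          · exact mul_one _
          · exact mul_zero _
        rw [Finset.sum_congr rfl fun i _ => hterm i, Finset.sum_eq_single ⟨j, hj⟩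
          (fun i _ hi => if_neg fun h => hi (Subtype.ext h)) (fun h => absurd (Finset.mem_univ _) h), if_pos rfl] at hcoord
        have h2 := congrArg (Groth.Agent.RngSp.gR (O := O) (U := W) hxW) hcoord
        refine Eq.trans ?_ (h2.trans (Groth.Agent.RngSp.gR_zero hxW))
        exact (ha ⟨j, hj⟩).symm.trans (Groth.Agent.RngSp.gR_res hW hxW (a ⟨j, hj⟩)).symm
      · rintro m -
        obtain ⟨V, hxV, z, rfl⟩ := Groth.Agent.RngSp.exists_gm m
        obtain ⟨W, hW, hxW, hz⟩ := hgen (V ⊓ U) inf_le_right (Groth.Agent.ClosedRinged.res F inf_le_left z) x ⟨hxV, hx⟩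
        rw [← Groth.Agent.RngSp.gm_res (hW.trans inf_le_left) hxW]
        rw [← Groth.Agent.ClosedRinged.res_res F inf_le_left hW]
        generalize Groth.Agent.ClosedRinged.res F hW (Groth.Agent.ClosedRinged.res F inf_le_left z) = w at hz ⊢
        induction hz using Submodule.span_induction with
        | mem w hw =>
          obtain ⟨i, rfl⟩ := hw
          rw [Groth.Agent.RngSp.gm_res]
          exact Submodule.subset_span ⟨i, rfl⟩
        | zero => rw [Groth.Agent.RngSp.gm_zero]; exact zero_mem _
        | add p q _ _ hp hq => rw [Groth.Agent.RngSp.gm_add]; exact add_mem hp hq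
        | smul r p _ hp => rw [Groth.Agent.RngSp.gm_smul]; exact Submodule.smul_mem _ _ hp
    obtain ⟨q, hq⟩ := (‹SheafOfModules.IsLocallyFree (R := ModSite.ringSh O) F› :
      SheafOfModules.IsLocallyFree (R := ModSite.ringSh O) F).exists_isLocallyFreeData
    choose i hi using fun x : X => Groth.Agent.RngSp.exists_mem_of_coversTop q.coversTop x
    have hiso : ∀ j, Nonempty ((ModSite.restr O (q.X j)).obj F ≅ SheafOfModules.free (q.generators j).I) := fun j =>
      haveI := hq.isIso j
      ⟨(asIso (q.generators j).π).symm⟩
    have key : ∀ (x : X) (U : Opens X) (I : Type u), x ∈ U →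
        Nonempty ((ModSite.restr O U).obj F ≅ SheafOfModules.free I) → ENat.card I = ENat.card (q.generators (i x)).I := by
      intro x U I hx he
      obtain ⟨b⟩ := basis x U I hx he
      obtain ⟨b'⟩ := basis x (q.X (i x)) _ (hi x) (hiso _)
      haveI := hnt x
      exact ENat.card_congr (b.indexEquiv b')
    refine ⟨fun x => ENat.card (q.generators (i x)).I, (IsLocallyConstant.iff_exists_open _).2 fun x => ?_, key⟩
    exact ⟨q.X (i x), (q.X (i x)).2, hi x, fun y hy => (key y (q.X (i x)) _ hy (hiso _)).symm⟩

end Groth.Agent.S6858
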