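import Groth.Statements.S6884
import Mathlib
import Groth.Agent.S2564


set_option autoImplicit false
universe u
open TensorProduct
open CAlg

namespace Groth.Agent.S6884

open CategoryTheory AlgebraicGeometry CategoryTheory.Limits

theorem flat_prod (R M N : Type u) [CommRing R] [AddCommGroup M] [Module R M] [AddCommGroup N] [Module R N]
    [Module.Flat R M] [Module.Flat R N] : Module.Flat R (M × N) := by
  rw [Module.Flat.iff_lTensor_preserves_injective_linearMap]
  intro P Q _ _ _ _ f hf
  have hcomm : ∀ x, TensorProduct.prodLeft R R M N Q (f.lTensor (M × N) x) =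
      Prod.map (f.lTensor M) (f.lTensor N) (TensorProduct.prodLeft R R M N P x) := fun x => by
    induction x using TensorProduct.induction_on with
    | zero => simp [Prod.ext_iff]
    | tmul a b => obtain ⟨a₁, a₂⟩ := a; simp [Prod.ext_iff]
    | add a b ha hb => simp only [map_add, ha, hb]; simp [Prod.map]
  intro a b hab
  refine (TensorProduct.prodLeft R R M N P).injective (((Module.Flat.lTensor_preserves_injective_linearMap f hf).prodMap
    (Module.Flat.lTensor_preserves_injective_linearMap f hf)) ?_)
  rw [← hcomm, ← hcomm, hab]

theorem flat_algebra (R S T : Type u) [CommRing R] [CommRing S] [CommRing T] [Algebra R S] [Algebra R T]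
    [Algebra.IsIntegral R S] (hinj : Function.Injective (algebraMap R S)) [Algebra.FinitePresentation R T]
    [Module.Flat S (S ⊗[R] T)] : Module.Flat R T := by
  have hfp : (algebraMap R T).FinitePresentation := RingHom.finitePresentation_algebraMap.2 inferInstance
  let f := Spec.map (CommRingCat.ofHom (algebraMap R T))
  haveI : LocallyOfFinitePresentation f :=
    (HasRingHomProperty.Spec_iff (P := @LocallyOfFinitePresentation)).2 hfp
  let g := Spec.map (CommRingCat.ofHom (algebraMap R S))
  have hr : (Algebra.TensorProduct.includeRight : S →ₐ[R] T ⊗[R] S).toRingHom.Flat := by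
    have h1 : (algebraMap S (S ⊗[R] T)).Flat := RingHom.flat_algebraMap_iff.2 inferInstance
    have h2 := RingHom.Flat.comp h1 (RingHom.Flat.of_bijective (f := (Algebra.TensorProduct.comm R S T).toRingEquiv.toRingHom)
      (Algebra.TensorProduct.comm R S T).bijective)
    convert h2 using 1
    exact RingHom.ext fun s => by simp [Algebra.TensorProduct.algebraMap_apply]
  have hsnd : Flat (pullback.snd f g) := by
    rw [(Iso.inv_comp_eq _).1 (pullbackSpecIso_inv_snd R T S)]
    exact MorphismProperty.comp_mem @Flat _ _ inferInstance ((HasRingHomProperty.Spec_iff (P := @Flat)).2 hr)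
  have hflat : Flat f := (Flat.iff_flat_stalkMap _).2 fun x =>
    Groth.Agent.S2564.result hinj f x fun x' _ => (Flat.iff_flat_stalkMap _).1 hsnd x'
  exact RingHom.flat_algebraMap_iff.1 ((HasRingHomProperty.Spec_iff (P := @Flat)).1 hflat)

end Groth.Agent.S6884

namespace Groth.Agent.S6884

/-- For an injective integral ring map `R → S` and `n ≥ 0`, let `M` be a module of finite presentation
over the polynomial ring `R[x_1, …, x_n]`. Then flatness of `S ⊗_R M` over `S` forces flatness of
`M` over `R`. -/
theorem result (R S : Type u) [CommRing R]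
    [CommRing S] [Algebra R S] [Algebra.IsIntegral R S] (hinj : Function.Injective (algebraMap R S)) (n : ℕ)
    (M : Type u) [AddCommGroup M] [Module (MvPolynomial (Fin n) R) M] [Module R M]
    [IsScalarTower R (MvPolynomial (Fin n) R) M] [Module.FinitePresentation (MvPolynomial (Fin n) R) M]
    [Module.Flat S (S ⊗[R] M)] : Module.Flat R M := by
  let P := MvPolynomial (Fin n) R
  letI : Module Pᵐᵒᵖ M := Module.compHom M ((RingHom.id P).fromOpposite mul_comm)
  haveI : IsCentralScalar P M := ⟨fun _ _ => rfl⟩
  let T := TrivSqZeroExt P M
  let eP : (P × M) ≃ₗ[P] T := LinearEquiv.refl P (P × M)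
  haveI : Module.FinitePresentation P T := Module.FinitePresentation.of_equiv eP
  haveI : Algebra.FinitePresentation P T := Algebra.FinitePresentation.of_finitePresentation P T
  haveI : IsScalarTower R P T := IsScalarTower.of_algebraMap_eq fun _ => rfl
  haveI : Algebra.FinitePresentation R T := Algebra.FinitePresentation.trans R P T
  let eR : (P × M) ≃ₗ[R] T :=
    { eP with
      map_smul' := fun r x => by
        have h1 : r • x = algebraMap R P r • x := (IsScalarTower.algebraMap_smul P r x).symm
        show eP (r • x) = r • eP x
        rw [h1, map_smul, IsScalarTower.algebraMap_smul] }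
  haveI : Module.Flat S ((S ⊗[R] P) × (S ⊗[R] M)) := flat_prod S (S ⊗[R] P) (S ⊗[R] M)
  haveI : Module.Flat S (S ⊗[R] T) := Module.Flat.of_linearEquiv
    ((LinearEquiv.baseChange R S _ _ eR).symm.trans (TensorProduct.prodRight R S S P M))
  haveI := flat_algebra R S T hinj
  haveI : Module.Flat R (P × M) := Module.Flat.of_linearEquiv eR
  exact Module.Flat.of_retract (LinearMap.inr R P M) (LinearMap.snd R P M) (LinearMap.snd_comp_inr R P M)

end Groth.Agent.S6884
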