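import Groth.Statements.S6886
-- import your own Groth.Agent.* helpers here
import Mathlib

set_option autoImplicit false
universe u
open TensorProduct
open CAlg TensorProduct

namespace Groth.Agent.S6886

open Polynomial in
/-- A monic polynomial splits into linear factors in a finite free extension. -/
theorem exists_split : ∀ (n : ℕ) (R : Type u) [CommRing R] (P : Polynomial R), P.Monic → P.natDegree = n →
    ∃ (R' : Type u) (_ : CommRing R') (_ : Algebra R R'), Module.Finite R R' ∧ Module.Free R R' ∧
      Function.Injective (algebraMap R R') ∧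
      ∃ α : Fin n → R', P.map (algebraMap R R') = ∏ j, (Polynomial.X - Polynomial.C (α j)) := by
  intro n
  induction n with
  | zero =>
    intro R _ P hP hd
    exact ⟨R, inferInstance, Algebra.id R, inferInstance, inferInstance, fun a b h => h, Fin.elim0, by
      simp [hP.natDegree_eq_zero.1 hd]⟩
  | succ n ih =>
    intro R _ P hP hd
    haveI : Nontrivial R := by
      by_contra h
      rw [not_nontrivial_iff_subsingleton] at h
      haveI := h
      simp [Subsingleton.elim P 0] at hd
    let R₁ := AdjoinRoot P
    let b := (AdjoinRoot.powerBasis' hP).basis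
    haveI : Module.Finite R R₁ := Module.Finite.of_basis b
    haveI : Module.Free R R₁ := Module.Free.of_basis b
    have hdim : 0 < (AdjoinRoot.powerBasis' hP).dim := by rw [AdjoinRoot.powerBasis'_dim, hd]; omega
    have hinj : Function.Injective (algebraMap R R₁) := by
      refine (injective_iff_map_eq_zero _).2 fun r hr => ?_
      have h1 : b ⟨0, hdim⟩ = 1 := by simp [b, PowerBasis.coe_basis]
      have h2 : r • b ⟨0, hdim⟩ = 0 := by rw [h1, ← Algebra.algebraMap_eq_smul_one, hr]
      simpa using congrArg (fun v => b.repr v ⟨0, hdim⟩) h2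
    haveI : Nontrivial R₁ := hinj.nontrivial
    have hroot : (P.map (algebraMap R R₁)).IsRoot (AdjoinRoot.root P) := AdjoinRoot.isRoot_root P
    set a := AdjoinRoot.root P
    have hmul := mul_divByMonic_eq_iff_isRoot.2 hroot
    set Q := P.map (algebraMap R R₁) /ₘ (X - C a)
    have hQ : Q.Monic := Monic.of_mul_monic_left (monic_X_sub_C a) (by rw [hmul]; exact hP.map _)
    have hQd : Q.natDegree = n := by
      rw [natDegree_divByMonic _ (monic_X_sub_C a), hP.natDegree_map, hd, natDegree_X_sub_C]
      omega
    obtain ⟨R', i1, i2, hfin, hfree, hi, α, hα⟩ := ih R₁ Q hQ hQd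
    letI : Algebra R R' := ((algebraMap R₁ R').comp (algebraMap R R₁)).toAlgebra
    haveI : IsScalarTower R R₁ R' := IsScalarTower.of_algebraMap_eq fun _ => rfl
    refine ⟨R', i1, inferInstance, Module.Finite.trans R₁ R', Module.Free.trans (R := R) (S := R₁) (M := R'),
      hi.comp hinj, Fin.cons (algebraMap R₁ R' a) α, ?_⟩
    rw [show (algebraMap R R') = (algebraMap R₁ R').comp (algebraMap R R₁) from rfl, ← Polynomial.map_map, ← hmul,
      Polynomial.map_mul, hα, Fin.prod_univ_succ]
    simp

/-- Let `R → S` be a finite ring map. One can find an extension `R ⊆ R'` of rings, with `R'` finite and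
free as an `R`-module, for which the ring `S ⊗_R R'` arises as a quotient of `R'[T_1, …,
T_n]/(P_1(T_1), …, P_n(T_n))` with each `P_i(T) = ∏_j (T - α_{ij})` a product of linear factors over
`R'`. -/
theorem result (R S : Type u) [CommRing R] [CommRing S] [Algebra R S]
    [Module.Finite R S] :
    ∃ (R' : Type u) (_ : CommRing R') (_ : Algebra R R'), Module.Finite R R' ∧ Module.Free R R' ∧
      Function.Injective (algebraMap R R') ∧
      ∃ (n : ℕ) (d : Fin n → ℕ) (α : (i : Fin n) → Fin (d i) → R')
        (φ : MvPolynomial (Fin n) R' →ₐ[R'] R' ⊗[R] S), Function.Surjective φ ∧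
          ∀ i, φ (∏ j, (MvPolynomial.X i - MvPolynomial.C (α i j))) = 0 := by
  classical
  obtain ⟨n, s, hs⟩ := Algebra.FiniteType.iff_quotient_mvPolynomial''.1 (inferInstance : Algebra.FiniteType R S)
  have hint : ∀ i, ∃ p : Polynomial R, p.Monic ∧ Polynomial.aeval (s (MvPolynomial.X i)) p = 0 := fun i =>
    Algebra.IsIntegral.isIntegral (R := R) (s (MvPolynomial.X i))
  choose p hpm hp using hint
  obtain ⟨R', i1, i2, hfin, hfree, hi, α, hα⟩ := exists_split _ R (∏ i, p i)
    (Polynomial.monic_prod_of_monic _ _ fun i _ => hpm i) rfl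
  let φ : MvPolynomial (Fin n) R' →ₐ[R'] TensorProduct R R' S :=
    MvPolynomial.aeval fun i => (1 : R') ⊗ₜ[R] s (MvPolynomial.X i)
  refine ⟨R', i1, i2, hfin, hfree, hi, n, fun _ => _, fun _ => α, φ, ?_, fun i => ?_⟩
  · intro z
    induction z with
    | zero => exact ⟨0, map_zero _⟩
    | add x y hx hy =>
      obtain ⟨a, rfl⟩ := hx
      obtain ⟨b, rfl⟩ := hy
      exact ⟨a + b, map_add _ _ _⟩
    | tmul r x =>
      obtain ⟨q, rfl⟩ := hs x
      refine ⟨MvPolynomial.C r * MvPolynomial.map (algebraMap R R') q, ?_⟩
      have h1 : φ (MvPolynomial.map (algebraMap R R') q) = (1 : R') ⊗ₜ[R] s q := by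
        have key : (φ.restrictScalars R).comp (MvPolynomial.mapAlgHom (Algebra.ofId R R')) =
            (Algebra.TensorProduct.includeRight).comp s := MvPolynomial.algHom_ext fun j => by simp [φ]
        exact DFunLike.congr_fun key q
      rw [map_mul, h1, show φ (MvPolynomial.C r) = r ⊗ₜ[R] (1 : S) from MvPolynomial.aeval_C _ r,
        Algebra.TensorProduct.tmul_mul_tmul, mul_one, one_mul]
  · have h0 : Polynomial.aeval (s (MvPolynomial.X i)) (∏ j, p j) = 0 := by
      rw [map_prod]
      exact Finset.prod_eq_zero (Finset.mem_univ i) (hp i)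
    have h1 : Polynomial.aeval (φ (MvPolynomial.X i)) ((∏ j, p j).map (algebraMap R R')) = 0 := by
      rw [Polynomial.aeval_map_algebraMap, show φ (MvPolynomial.X i) = Algebra.TensorProduct.includeRight
        (s (MvPolynomial.X i)) from MvPolynomial.aeval_X _ i, Polynomial.aeval_algHom_apply, h0, map_zero]
    rw [hα, map_prod] at h1
    rw [map_prod]
    refine Eq.trans (Finset.prod_congr rfl fun j _ => ?_) h1
    simp [MvPolynomial.algebraMap_eq, φ]

end Groth.Agent.S6886
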