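import Groth.Statements.S6915
import Groth.Agent.FittX.StrictTransform
-- import your own Groth.Agent.* helpers here

set_option backward.isDefEq.respectTransparency.types false

set_option autoImplicit false
universe u
open TensorProduct
open Fitt

namespace Groth.Agent.S6915

/-- Let `M` be a finite `R`-module, `k ≥ 0` and `I = Fit_k(M)`, and assume `M_𝔭` is free of rank `k` for
every prime `𝔭` not containing `I`. Then for every `a ∈ I` and (a copy `R₁` of) the affine blow-up
algebra `R[I/a]`, the strict transform `M' = (M ⊗_R R₁)/(a-power torsion)` is finite locally free of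
rank `k`: every prime of `R₁` has a basic open neighbourhood over which `M'` is free of rank `k`. -/
theorem result {R : Type u} [CommRing R] (M : Type u) [AddCommGroup M]
    [Module R M] [Module.Finite R M] (k : ℕ)
    (hfree : ∀ (p : Ideal R) [p.IsPrime], ¬ Fitt.ideal R M k ≤ p →
      Module.Free (Localization.AtPrime p) (LocalizedModule p.primeCompl M) ∧
        Module.finrank (Localization.AtPrime p) (LocalizedModule p.primeCompl M) = k)
    (a : R) (ha : a ∈ Fitt.ideal R M k) (R₁ : Type u) [CommRing R₁] [Algebra R R₁] (e : R₁ ≃ₐ[R] ↥(BlowUp.affineAlgebra R (Fitt.ideal R M k) a)) :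
    ∀ (p' : Ideal R₁) [p'.IsPrime], ∃ g : R₁, g ∉ p' ∧
      Module.Free (Localization.Away g) (LocalizedModule (Submonoid.powers g) ((R₁ ⊗[R] M) ⧸ FlatCA.powTorsion R₁ (algebraMap R R₁ a) (R₁ ⊗[R] M))) ∧
      Module.finrank (Localization.Away g) (LocalizedModule (Submonoid.powers g) ((R₁ ⊗[R] M) ⧸ FlatCA.powTorsion R₁ (algebraMap R R₁ a) (R₁ ⊗[R] M))) = k := by
  classical
  intro p' hp'
  have hnzd := Groth.Agent.FittX.StrictTransform.mem_nonZeroDivisors e
  refine Groth.Agent.FittX.StrictTransform.exists_free_away k _ hnzd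
    ((Groth.Agent.FittX.ideal_baseChange (TensorProduct.isBaseChange R M R₁) k).trans
      (Groth.Agent.FittX.StrictTransform.map_eq_span e ha)) ?_ p'
  refine or_iff_not_imp_left.2 fun hk => ?_
  rw [Groth.Agent.FittX.ideal_baseChange (TensorProduct.isBaseChange R M R₁) (k - 1), eq_bot_iff,
    Ideal.map_le_iff_le_comap]
  intro d hd
  have hrad : a ∈ (Submodule.annihilator (Submodule.span R {d})).radical := by
    rw [Ideal.radical_eq_sInf, Submodule.mem_sInf]
    rintro (p : Ideal R) ⟨hle, hp⟩
    haveI := hp
    by_contra hap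
    obtain ⟨hfr, hrk⟩ := hfree p fun h => hap (h ha)
    haveI := hfr
    haveI : Module.Finite (Localization.AtPrime p) (LocalizedModule p.primeCompl M) :=
      Module.Finite.of_isLocalizedModule p.primeCompl (LocalizedModule.mkLinearMap p.primeCompl M)
    have h0 := Groth.Agent.FittX.StrictTransform.ideal_pred_eq_bot k (Nat.pos_of_ne_zero hk) hrk
    rw [Groth.Agent.FittX.ideal_baseChange (IsLocalizedModule.isBaseChange p.primeCompl (Localization.AtPrime p)
      (LocalizedModule.mkLinearMap p.primeCompl M)), eq_bot_iff, Ideal.map_le_iff_le_comap] at h0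
    obtain ⟨t, ht⟩ := (IsLocalization.map_eq_zero_iff p.primeCompl (Localization.AtPrime p) d).1 (h0 hd)
    exact t.2 (hle ((Submodule.mem_annihilator_span_singleton _ _).2 ht))
  obtain ⟨n, hn⟩ := hrad
  have hz : algebraMap R R₁ (a ^ n * d) = 0 := by
    rw [show a ^ n * d = 0 from (Submodule.mem_annihilator_span_singleton _ _).1 hn, map_zero]
  rw [map_mul, map_pow] at hz
  exact Ideal.mem_bot.2 ((mem_nonZeroDivisors_iff.1 (pow_mem hnzd n)).1 _ hz)

end Groth.Agent.S6915
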