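import Groth.Statements.S6920
import Mathlib

set_option autoImplicit false
universe u
open CategoryTheory CategoryTheory.Limits MonoidalCategory
open DRing

namespace Groth.Agent.S6920

/-- For an epimorphism of rings `φ : R → S` and a complex `I•` of `S`-modules, if the underlying complex
of `R`-modules of `I•` is K-injective, then `I•` itself is K-injective over `S`. -/
theorem result (R S : Type u) [CommRing R] [CommRing S] (φ : R →+* S)
    (hφ : Epi (CommRingCat.ofHom φ)) (I : DRing.Cx S)
    [CochainComplex.IsKInjective ((DRing.restrictCx φ).obj I)] : CochainComplex.IsKInjective I := by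
  algebraize [φ]
  haveI : Algebra.IsEpi R S := CommRingCat.epi_iff_epi.1 hφ
  have hlin : ∀ (X Y : ModuleCat.{u} S) (g : (ModuleCat.restrictScalars φ).obj X ⟶ (ModuleCat.restrictScalars φ).obj Y)
      (s : S) (x : X), g.hom (s • x : X) = @id Y (s • @id Y (g.hom x)) := by
    intro X Y g s x
    letI : Module R X := Module.compHom X φ
    letI : Module R Y := Module.compHom Y φ
    haveI : IsScalarTower R S X := ⟨fun r a m => show (φ r * a) • m = φ r • a • m from mul_smul _ _ _⟩
    haveI : IsScalarTower R S Y := ⟨fun r a m => show (φ r * a) • m = φ r • a • m from mul_smul _ _ _⟩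
    let g' : X →ₗ[R] Y :=
      { toFun := fun m => g.hom m
        map_add' := fun a b => g.hom.map_add a b
        map_smul' := fun r m => g.hom.map_smul r m }
    let B : S →ₗ[R] S →ₗ[R] Y := LinearMap.mk₂ R (fun a b => a • g' (b • x))
      (fun a a' b => add_smul _ _ _) (fun r a b => smul_assoc _ _ _)
      (fun a b b' => by simp only [add_smul, map_add, smul_add])
      (fun r a b => by simp only [smul_assoc, map_smul, smul_comm a r])
    have h := congrArg (TensorProduct.lift B) ((Algebra.isEpi_iff_forall_one_tmul_eq R S).1 inferInstance s)
    simp only [TensorProduct.lift.tmul, B, LinearMap.mk₂_apply, one_smul] at h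
    exact h
  refine ⟨fun {K} f hK => ?_⟩
  let G := ModuleCat.restrictScalars φ
  obtain ⟨h⟩ := CochainComplex.IsKInjective.nonempty_homotopy_zero
    ((DRing.restrictCx φ).map f) (fun i => (hK i).map G)
  refine ⟨{ hom := fun i j => ModuleCat.ofHom
              { toFun := fun x => (h.hom i j).hom x
                map_add' := fun a b => (h.hom i j).hom.map_add a b
                map_smul' := fun s x => hlin _ _ (h.hom i j) s x }
            zero := fun i j hij => by
              ext x
              exact congrArg (fun e => e.hom x) (h.zero i j hij)
            comm := fun i => by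
              ext x
              exact congrArg (fun e => e.hom x) (h.comm i) }⟩

end Groth.Agent.S6920
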