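import Groth.Statements.S6922
import Groth.Agent.EtMilFP.Core
-- import your own Groth.Agent.* helpers here

set_option autoImplicit false
set_option linter.style.haveILetI false
set_option backward.isDefEq.respectTransparency false
set_option backward.isDefEq.respectTransparency.types false
universe u
open TensorProduct
open EtAlg

namespace Groth.Agent.S6922


attribute [local instance] Algebra.TensorProduct.rightAlgebra

open Groth.Agent.EtMil7

/-- In the relative situation (`B' = B ×_A A'` with `A' → A` surjective, `B' → D'`, `D = D' ⊗_{B'} B`,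
`C' = D' ⊗_{B'} A'`, `C = D' ⊗_{B'} A`), let `N` be a flat `B`-module that is finitely presented as
a `D`-module and `M'` a flat `A'`-module that is finitely presented as a `C'`-module, with a
`C`-isomorphism `φ : N ⊗_D C ≅ M' ⊗_{C'} C`, and suppose `B' → D'` is the composite of a flat ring
map `B' → D''` and a ring map `D'' → D'` of finite presentation. Then `N ×_φ M'` is finitely
presented over `D'`. -/
theorem result (B' B A' A : Type u) [CommRing B'] [CommRing B] [CommRing A'] [CommRing A]
    [Algebra B' B] [Algebra B' A'] [Algebra B A] [Algebra A' A] [Algebra B' A] [IsScalarTower B' B A] [IsScalarTower B' A' A]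
    (hsq : EtMil.IsFibreSquare B' B A' A)
    (D' D C' C : Type u) [CommRing D'] [CommRing D] [CommRing C'] [CommRing C]
    [Algebra B' D'] [Algebra B D] [Algebra A' C'] [Algebra A C]
    [Algebra D' D] [Algebra B' D] [IsScalarTower B' B D] [IsScalarTower B' D' D] [Algebra.IsPushout B' B D' D]
    [Algebra D' C'] [Algebra B' C'] [IsScalarTower B' A' C'] [IsScalarTower B' D' C'] [Algebra.IsPushout B' A' D' C']
    [Algebra D' C] [Algebra B' C] [IsScalarTower B' A C] [IsScalarTower B' D' C] [Algebra.IsPushout B' A D' C]
    [Algebra D C] [IsScalarTower D' D C] [Algebra B C] [IsScalarTower B A C] [IsScalarTower B D C]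
    [Algebra C' C] [IsScalarTower D' C' C] [Algebra A' C] [IsScalarTower A' A C] [IsScalarTower A' C' C]
    {N M' : Type u} [AddCommGroup N] [Module D N] [Module D' N] [IsScalarTower D' D N]
    [AddCommGroup M'] [Module C' M'] [Module D' M'] [IsScalarTower D' C' M'] (φ : C ⊗[D] N ≃ₗ[C] C ⊗[C'] M')
    [Module B N] [IsScalarTower B D N] [Module A' M'] [IsScalarTower A' C' M']
    [Module.FinitePresentation D N] [Module.Flat B N] [Module.FinitePresentation C' M'] [Module.Flat A' M']
    (D'' : Type u) [CommRing D''] [Algebra B' D''] [Algebra D'' D'] [IsScalarTower B' D'' D'] [Module.Flat B' D'']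
    [Algebra.FinitePresentation D'' D'] :
    Module.FinitePresentation D' ↥(EtMil.glue D' φ) := by
  classical
  let L : Submodule D' (N × M') := EtMil.glue D' φ
  have hw := isWeakSquare_of_isPushout hsq D' D C' C
  let e₁ : D ⊗[D'] L ≃ₗ[D] N := LinearEquiv.ofBijective _ (bijective_liftBaseChange_glueFst φ hw)
  let e₂ : C' ⊗[D'] L ≃ₗ[C'] M' := LinearEquiv.ofBijective _ (bijective_liftBaseChange_glueSnd φ hw)
  letI : Module B' L := Module.compHom L (algebraMap B' D')
  haveI : IsScalarTower B' D' L := IsScalarTower.of_algebraMap_smul fun _ _ => rfl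
  haveI : Algebra.IsPushout B' D' B D := Algebra.IsPushout.symm ‹_›
  haveI : Module.Flat B (B ⊗[B'] L) :=
    Module.Flat.of_linearEquiv ((Algebra.IsPushout.cancelBaseChange B' B D' D L).symm.trans (e₁.restrictScalars B))
  haveI : Module.Flat A' (A' ⊗[B'] L) :=
    Module.Flat.of_linearEquiv ((Algebra.IsPushout.cancelBaseChange B' A' D' C' L).symm.trans (e₂.restrictScalars A'))
  haveI : Module.Flat B' L := flat_of_flat_baseChange_pair hsq L
  haveI : Module.FinitePresentation D (D ⊗[D'] L) := Module.FinitePresentation.of_equiv e₁.symm
  haveI : Module.FinitePresentation C' (C' ⊗[D'] L) := Module.FinitePresentation.of_equiv e₂.symm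
  obtain ⟨n, ψ, hψ, hker⟩ := (inferInstance : Algebra.FinitePresentation D'' D')
  let P := MvPolynomial (Fin n) D''
  letI : Algebra P D' := ψ.toRingHom.toAlgebra
  haveI : IsScalarTower D'' P D' := IsScalarTower.of_algebraMap_eq fun x => (ψ.commutes x).symm
  haveI : IsScalarTower B' P D' := IsScalarTower.of_algebraMap_eq fun x => by
    rw [IsScalarTower.algebraMap_apply B' D'' D', IsScalarTower.algebraMap_apply D'' P D',
      ← IsScalarTower.algebraMap_apply B' D'' P]
  haveI : Module.Flat B' P := Module.Flat.trans B' D'' P
  haveI : Module.FinitePresentation P D' :=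
    Module.finitePresentation_of_surjective (Algebra.linearMap P D') hψ hker
  letI : Module P L := Module.compHom L (algebraMap P D')
  haveI : IsScalarTower P D' L := IsScalarTower.of_algebraMap_smul fun _ _ => rfl
  haveI : IsScalarTower B' P L := IsScalarTower.of_algebraMap_smul fun b x => by
    show algebraMap P D' (algebraMap B' P b) • x = algebraMap B' D' b • x
    rw [← IsScalarTower.algebraMap_apply B' P D']
  haveI hfinL : Module.Finite D' L := finite_glue φ hw
  exact Groth.Agent.EtMilFP.finitePresentation_of_sides (B' := B') (B := B) (A' := A') (A := A) (P := P) (D' := D')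
    (D := D) (C' := C') (L := L) hsq hψ

end Groth.Agent.S6922
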