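import Groth.Statements.S6925
import Groth.Agent.FlatLeast6925.Core
-- import your own Groth.Agent.* helpers here

set_option autoImplicit false
set_option linter.style.haveILetI false
universe u
open TensorProduct
open FlatMor

namespace Groth.Agent.S6925

/-- Let `(R, 𝔪)` be a complete Noetherian local ring, `R → S` a ring map with `S` Noetherian and `M` a
finite `S`-module. Then among ideals contained in `𝔪`, there is a smallest one `I` with the
following property: whenever `𝔮` is a prime of `S` lying over `𝔪`, the module `(M/IM)_𝔮` is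
`R/I`-flat. Namely, `I ⊆ 𝔪` has this property, and every ideal `J` with the property contains `I`. -/
theorem result (R S : Type u) [CommRing R] [IsLocalRing R]
    [IsNoetherianRing R] [IsAdicComplete (IsLocalRing.maximalIdeal R) R] [CommRing S] [Algebra R S] [IsNoetherianRing S]
    (M : Type u) [AddCommGroup M] [Module S M] [Module R M] [IsScalarTower R S M] [Module.Finite S M] :
    ∃ I : Ideal R, I ≤ IsLocalRing.maximalIdeal R ∧
      (∀ (q : Ideal S) [q.IsPrime], q.comap (algebraMap R S) = IsLocalRing.maximalIdeal R →
        Module.Flat (R ⧸ I) ((R ⧸ I) ⊗[R] LocalizedModule q.primeCompl M)) ∧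
      ∀ J : Ideal R, (∀ (q : Ideal S) [q.IsPrime], q.comap (algebraMap R S) = IsLocalRing.maximalIdeal R →
        Module.Flat (R ⧸ J) ((R ⧸ J) ⊗[R] LocalizedModule q.primeCompl M)) → I ≤ J := by
  refine Groth.Agent.FlatLeast6925.exists_least (fun J => ∀ (q : Ideal S) [q.IsPrime],
    q.comap (algebraMap R S) = IsLocalRing.maximalIdeal R →
      Module.Flat (R ⧸ J) ((R ⧸ J) ⊗[R] LocalizedModule q.primeCompl M))
    (fun q _ _ => ?_)
    (fun J K h hJ q _ hq => haveI := hJ q hq; Groth.Agent.CAlgOdd.FlatDesc.flat_quot_of_le _ h)
    (fun J K hJ hK q _ hq => haveI := hJ q hq; haveI := hK q hq; Groth.Agent.FlatLeast6925.flat_quot_inf)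
    (fun I h q _ hq => ?_)
  · letI := Ideal.Quotient.field (IsLocalRing.maximalIdeal R)
    infer_instance
  · haveI : IsLocalHom (algebraMap R (Localization.AtPrime q)) := ⟨fun r hr => by
      by_contra h0
      rw [IsScalarTower.algebraMap_apply R S (Localization.AtPrime q),
        IsLocalization.AtPrime.isUnit_to_map_iff (Localization.AtPrime q) q] at hr
      exact hr (show r ∈ q.comap (algebraMap R S) from hq.ge ((IsLocalRing.mem_maximalIdeal r).2 h0))⟩
    haveI : Module.Finite (Localization.AtPrime q) (LocalizedModule q.primeCompl M) :=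
      Module.Finite.of_isLocalizedModule q.primeCompl (LocalizedModule.mkLinearMap q.primeCompl M)
    exact Groth.Agent.FlatLeast6925.flat_quot_of_sup_pow (S := Localization.AtPrime q) I fun n hn => h n hn q hq

end Groth.Agent.S6925
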