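import Groth.Statements.S6926
import Groth.Agent.H4RG.FlatIdeal
import Groth.Agent.H4RG.FlatPtsPrime
import Groth.Agent.FlatId6926.Core
import Mathlib
-- import your own Groth.Agent.* helpers here

set_option autoImplicit false
set_option linter.style.haveILetI false
set_option backward.isDefEq.respectTransparency.types false
universe u
open TensorProduct
open FlatMor

namespace Groth.Agent.S6926

/-- Let `(R, 𝔪)` be a complete Noetherian local ring, `R → S` with `S` Noetherian, `M` a finite
`S`-module, and `I ⊆ 𝔪` the least ideal with the property that, at each prime `𝔮` of `S` lying above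
`𝔪`, the localization `(M/IM)_𝔮` is an `R/I`-flat module. Let `φ : R → R'` be a local homomorphism
to a Noetherian local ring `(R', 𝔪')`, `S' = S ⊗_R R'`, `M' = M ⊗_R R'`. Then `M'_{𝔮'}` is flat over
`R'` for every prime `𝔮'` of `S'` lying over `𝔪'` if and only if `φ(I) = 0`. -/
theorem result {R S R' S' : Type u} [CommRing R] [IsLocalRing R]
    [IsNoetherianRing R] [IsAdicComplete (IsLocalRing.maximalIdeal R) R] [CommRing S] [IsNoetherianRing S]
    [CommRing R'] [IsLocalRing R'] [IsNoetherianRing R'] [CommRing S']
    [Algebra R S] [Algebra R R'] [IsLocalHom (algebraMap R R')] [Algebra S S'] [Algebra R' S'] [Algebra R S']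
    [IsScalarTower R S S'] [IsScalarTower R R' S'] [Algebra.IsPushout R S R' S']
    {M M' : Type u} [AddCommGroup M] [Module S M] [Module R M] [IsScalarTower R S M] [Module.Finite S M]
    [AddCommGroup M'] [Module S' M'] [Module R' M'] [IsScalarTower R' S' M'] [Module S M'] [IsScalarTower S S' M']
    (f : M →ₗ[S] M') (hf : IsBaseChange S' f) (I : Ideal R) (hIm : I ≤ IsLocalRing.maximalIdeal R)
    (hI : (∀ (q : Ideal S) [q.IsPrime], q.comap (algebraMap R S) = IsLocalRing.maximalIdeal R →
        Module.Flat (R ⧸ I) ((R ⧸ I) ⊗[R] LocalizedModule q.primeCompl M)))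
    (hmin : ∀ J : Ideal R, (∀ (q : Ideal S) [q.IsPrime], q.comap (algebraMap R S) = IsLocalRing.maximalIdeal R →
        Module.Flat (R ⧸ J) ((R ⧸ J) ⊗[R] LocalizedModule q.primeCompl M)) → I ≤ J) :
    (∀ (q' : Ideal S') [q'.IsPrime], q'.comap (algebraMap R' S') = IsLocalRing.maximalIdeal R' → FlatCA.FlatAt R' q' M') ↔
      I ≤ RingHom.ker (algebraMap R R') := by
  classical
  haveI : IsLocalization.AtPrime R' (IsLocalRing.maximalIdeal R') :=
    IsLocalization.of_le_isUnit_of_bijective (fun x hx => by obtain ⟨y, hy, rfl⟩ := hx; exact IsLocalRing.notMem_maximalIdeal.1 hy) Function.bijective_id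
  have hloc : (IsLocalRing.maximalIdeal R').comap (algebraMap R R') = IsLocalRing.maximalIdeal R :=
    ((IsLocalRing.local_hom_TFAE (algebraMap R R')).out 0 4).mp ‹_›
  constructor
  · intro h x hx
    haveI : Algebra.IsPushout R R' S S' := Algebra.IsPushout.symm ‹_›
    let e : M' ≃ₗ[R'] R' ⊗[R] M :=
      (hf.equiv.symm.restrictScalars R').trans (Algebra.IsPushout.cancelBaseChange R R' S S' M)
    have hkey : ∀ n : ℕ, n ≠ 0 → algebraMap R R' x ∈ IsLocalRing.maximalIdeal R' ^ n := by
      intro n hn
      let 𝔞 := IsLocalRing.maximalIdeal R' ^ n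
      have h𝔞 : 𝔞 ≤ IsLocalRing.maximalIdeal R' := Ideal.pow_le_self hn
      let C := R' ⧸ 𝔞
      haveI : Nontrivial C := Ideal.Quotient.nontrivial_iff.2 (fun ht => (IsLocalRing.maximalIdeal.isMaximal R').ne_top
        (top_le_iff.1 (ht ▸ h𝔞)))
      haveI : IsLocalRing C := IsLocalRing.of_surjective' (Ideal.Quotient.mk 𝔞) Ideal.Quotient.mk_surjective
      haveI hflat' : Module.Flat C (C ⊗[R'] M') := Groth.Agent.FlatId6926.flat_baseChange_of_localized fun Q hQ => by
        by_cases hQm : Q.comap (algebraMap R' S') = IsLocalRing.maximalIdeal R'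
        · exact Or.inl (h Q hQm)
        · obtain ⟨r, hrm, hrQ⟩ : ∃ r ∈ IsLocalRing.maximalIdeal R', r ∉ Q.comap (algebraMap R' S') := by
            by_contra hne
            push_neg at hne
            exact hQm ((IsLocalRing.maximalIdeal.isMaximal R').eq_of_le (Ideal.IsPrime.comap _).ne_top hne).symm
          refine Or.inr ⟨r ^ n, fun hmem => hrQ (Ideal.mem_comap.2 ?_), ?_⟩
          · rw [map_pow] at hmem
            exact (hQ.isPrime).mem_of_pow_mem n hmem
          · exact Ideal.Quotient.eq_zero_iff_mem.2 (Ideal.pow_mem_pow hrm n)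
      haveI : Module.Flat C (C ⊗[R] M) :=
        Module.Flat.of_linearEquiv ((AlgebraTensorModule.congr (LinearEquiv.refl C C) e).trans
          (AlgebraTensorModule.cancelBaseChange R R' C C M)).symm
      let J : Ideal R := RingHom.ker (algebraMap R C)
      let A := R ⧸ J
      letI : Algebra A C := (Ideal.Quotient.lift J (algebraMap R C) fun _ ha => ha).toAlgebra
      haveI : IsScalarTower R A C := IsScalarTower.of_algebraMap_eq fun _ => rfl
      haveI : Nontrivial A := Ideal.Quotient.nontrivial_iff.2 (RingHom.ker_ne_top _)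
      haveI : IsLocalRing A := IsLocalRing.of_surjective' (Ideal.Quotient.mk J) Ideal.Quotient.mk_surjective
      have hinj : Function.Injective (algebraMap A C) :=
        RingHom.lift_injective_of_ker_le_ideal J (fun _ ha => ha) le_rfl
      haveI : IsLocalHom (algebraMap A C) := ⟨fun a ha => by
        obtain ⟨a, rfl⟩ := Ideal.Quotient.mk_surjective a
        refine IsUnit.map _ (isUnit_of_map_unit (algebraMap R R') a ?_)
        by_contra hu
        have hm : algebraMap R R' a ∈ IsLocalRing.maximalIdeal R' := (IsLocalRing.mem_maximalIdeal _).2 hu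
        obtain ⟨b, hb⟩ := isUnit_iff_exists_inv.1 ha
        obtain ⟨b, rfl⟩ := Ideal.Quotient.mk_surjective b
        change Ideal.Quotient.mk 𝔞 (algebraMap R R' a) * Ideal.Quotient.mk 𝔞 b = 1 at hb
        rw [← map_mul, ← map_one (Ideal.Quotient.mk 𝔞), Ideal.Quotient.eq] at hb
        have h1 := sub_mem (Ideal.mul_mem_right b _ hm) (h𝔞 hb)
        rw [sub_sub_cancel] at h1
        exact (IsLocalRing.maximalIdeal.isMaximal R').ne_top ((Ideal.eq_top_iff_one _).2 h1)⟩
      have hnil : IsLocalRing.maximalIdeal A ^ n = ⊥ := by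
        have hmap : IsLocalRing.maximalIdeal A = (IsLocalRing.maximalIdeal R).map (Ideal.Quotient.mk J) :=
          (IsLocalRing.map_maximalIdeal_of_surjective _ Ideal.Quotient.mk_surjective).symm
        rw [hmap, ← Ideal.map_pow, Ideal.map_eq_bot_iff_le_ker, Ideal.mk_ker]
        intro a ha
        refine Ideal.Quotient.eq_zero_iff_mem.2 ?_
        have h2 := Ideal.mem_map_of_mem (algebraMap R R') ha
        rw [Ideal.map_pow] at h2
        exact Ideal.pow_right_mono (Ideal.map_le_iff_le_comap.2 hloc.ge) n h2
      haveI : Module.Flat C (C ⊗[A] (A ⊗[R] M)) :=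
        Module.Flat.of_linearEquiv (AlgebraTensorModule.cancelBaseChange R A C C M)
      haveI hA : Module.Flat A (A ⊗[R] M) := Groth.Agent.FlatId6926.flat_of_flat_baseChange hinj hnil
      have hJ : I ≤ J := hmin J fun q _ _ => by
        refine Module.Flat.iff_rTensor_preserves_injective_linearMap.mpr fun P P' _ _ _ _ g hg => ?_
        letI : Module R P := Module.compHom P (algebraMap R A)
        letI : Module R P' := Module.compHom P' (algebraMap R A)
        haveI : IsScalarTower R A P := IsScalarTower.of_algebraMap_smul fun _ _ => rfl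
        haveI : IsScalarTower R A P' := IsScalarTower.of_algebraMap_smul fun _ _ => rfl
        have h1 : Function.Injective ((g.restrictScalars R).rTensor M) :=
          (Groth.Agent.FlatId6926.rTensor_cancel_injective_iff g).1
            (Module.Flat.rTensor_preserves_injective_linearMap (M := A ⊗[R] M) g hg)
        exact (Groth.Agent.FlatId6926.rTensor_cancel_injective_iff g).2
          ((LinearMap.lTensor_inj_iff_rTensor_inj _ _).1 (Groth.Agent.FlatId6926.lTensor_localized_injective
            q.primeCompl (LocalizedModule.mkLinearMap q.primeCompl M) _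
            ((LinearMap.lTensor_inj_iff_rTensor_inj _ _).2 h1)))
      exact Ideal.Quotient.eq_zero_iff_mem.1 (hJ hx)
    have hmem : algebraMap R R' x ∈ ⨅ i : ℕ, IsLocalRing.maximalIdeal R' ^ i := by
      rw [Submodule.mem_iInf]
      intro i
      rcases Nat.eq_zero_or_pos i with rfl | hi
      · simp
      · exact hkey i hi.ne'
    rw [Ideal.iInf_pow_eq_bot_of_isLocalRing _ (IsLocalRing.maximalIdeal.isMaximal R').ne_top] at hmem
    exact hmem
  · intro hker Q _ hQ
    let q := Q.comap (algebraMap S S')
    have hq : q.comap (algebraMap R S) = IsLocalRing.maximalIdeal R := by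
      rw [Ideal.comap_comap, ← IsScalarTower.algebraMap_eq, IsScalarTower.algebraMap_eq R R' S', ← Ideal.comap_comap,
        hQ, hloc]
    haveI := hI q hq
    exact (Groth.Agent.H4RG.flatPts_atPrime_iff (A := R) (C := R') (Ct := R') q (IsLocalRing.maximalIdeal R') f hf).2
      (Groth.Agent.H4RG.flatPts_of_flat_quot (LocalizedModule q.primeCompl M) I R' hker) Q rfl hQ

end Groth.Agent.S6926
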