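import Groth.Statements.S6927
import Groth.Agent.H4RG.FlatIdeal
import Groth.Agent.H4RG.FlatPtsPrime
-- import your own Groth.Agent.* helpers here

set_option autoImplicit false
set_option backward.isDefEq.respectTransparency.types false
universe u
open TensorProduct
open FlatMor

namespace Groth.Agent.S6927

/-- Let `(R, 𝔪)` be a complete Noetherian local ring, `R → S` of finite type, `M` a finite `S`-module,
and `I ⊆ 𝔪` the least ideal for which, at every prime `𝔮` of `S` lying over `𝔪`, the localization
`(M/IM)_𝔮` is an `R/I`-flat module. Then for every local homomorphism `φ : R → R'` of local rings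
(`R'` arbitrary), with `S' = S ⊗_R R'` and `M' = M ⊗_R R'`: `M'_{𝔮'}` is flat over `R'` for every
prime `𝔮'` of `S'` over `𝔪'` if and only if `φ(I) = 0`. -/
theorem result {R S R' S' : Type u} [CommRing R] [IsLocalRing R]
    [IsNoetherianRing R] [IsAdicComplete (IsLocalRing.maximalIdeal R) R] [CommRing S]
    [CommRing R'] [IsLocalRing R'] [CommRing S']
    [Algebra R S] [Algebra.FiniteType R S] [Algebra R R'] [IsLocalHom (algebraMap R R')] [Algebra S S'] [Algebra R' S']
    [Algebra R S'] [IsScalarTower R S S'] [IsScalarTower R R' S'] [Algebra.IsPushout R S R' S']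
    {M M' : Type u} [AddCommGroup M] [Module S M] [Module R M] [IsScalarTower R S M] [Module.Finite S M]
    [AddCommGroup M'] [Module S' M'] [Module R' M'] [IsScalarTower R' S' M'] [Module S M'] [IsScalarTower S S' M']
    (f : M →ₗ[S] M') (hf : IsBaseChange S' f) (I : Ideal R) (hIm : I ≤ IsLocalRing.maximalIdeal R)
    (hI : (∀ (q : Ideal S) [q.IsPrime], q.comap (algebraMap R S) = IsLocalRing.maximalIdeal R →
        Module.Flat (R ⧸ I) ((R ⧸ I) ⊗[R] LocalizedModule q.primeCompl M)))
    (hmin : ∀ J : Ideal R, (∀ (q : Ideal S) [q.IsPrime], q.comap (algebraMap R S) = IsLocalRing.maximalIdeal R →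
        Module.Flat (R ⧸ J) ((R ⧸ J) ⊗[R] LocalizedModule q.primeCompl M)) → I ≤ J) :
    (∀ (q' : Ideal S') [q'.IsPrime], q'.comap (algebraMap R' S') = IsLocalRing.maximalIdeal R' → FlatCA.FlatAt R' q' M') ↔
      I ≤ RingHom.ker (algebraMap R R') := by
  classical
  haveI : HenselianLocalRing R :=
    { is_henselian := fun f hf a₀ h₁ h₂ =>
        HenselianRing.is_henselian (I := IsLocalRing.maximalIdeal R) f hf a₀ h₁ (h₂.map _) }
  haveI : IsLocalization.AtPrime R' (IsLocalRing.maximalIdeal R') :=
    IsLocalization.of_le_isUnit_of_bijective (fun x hx => by obtain ⟨y, hy, rfl⟩ := hx; exact IsLocalRing.notMem_maximalIdeal.1 hy) Function.bijective_id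
  have hloc : (IsLocalRing.maximalIdeal R').comap (algebraMap R R') = IsLocalRing.maximalIdeal R :=
    ((IsLocalRing.local_hom_TFAE (algebraMap R R')).out 0 4).mp ‹_›
  constructor
  · intro h
    have hq : ∀ (q : Ideal S) [q.IsPrime], q.comap (algebraMap R S) = IsLocalRing.maximalIdeal R →
        ∃ Iq : Ideal R, Iq ≤ RingHom.ker (algebraMap R R') ∧
          Module.Flat (R ⧸ Iq) ((R ⧸ Iq) ⊗[R] LocalizedModule q.primeCompl M) := by
      intro q _ hq
      let Bq := Localization.AtPrime q
      haveI : Algebra.EssFiniteType R Bq := Algebra.EssFiniteType.comp R S Bq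
      haveI : IsLocalHom (algebraMap R Bq) := ⟨fun r hr => by
        by_contra h0
        rw [IsScalarTower.algebraMap_apply R S Bq, IsLocalization.AtPrime.isUnit_to_map_iff Bq q] at hr
        exact hr (show r ∈ q.comap (algebraMap R S) from hq.ge ((IsLocalRing.mem_maximalIdeal r).2 h0))⟩
      haveI : Module.Finite Bq (LocalizedModule q.primeCompl M) :=
        Module.Finite.of_isLocalizedModule q.primeCompl (LocalizedModule.mkLinearMap q.primeCompl M)
      obtain ⟨Iq, -, hflat, hle⟩ :=
        Groth.Agent.H4RG.exists_flattening_ideal (A := R) (B := Bq) (LocalizedModule q.primeCompl M)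
      exact ⟨Iq, hle R' ((Groth.Agent.H4RG.flatPts_atPrime_iff (A := R) (C := R') (Ct := R') q
        (IsLocalRing.maximalIdeal R') f hf).1 fun Q _ _ hQ => h Q hQ), hflat⟩
    choose Iq hle hflat using hq
    let J : Ideal R := ⨆ (q : Ideal S) (hp : q.IsPrime) (hq : q.comap (algebraMap R S) = IsLocalRing.maximalIdeal R),
      @Iq q hp hq
    refine (hmin J fun q _ hq => ?_).trans (iSup_le fun q => iSup_le fun hp => iSup_le fun hq => @hle q hp hq)
    have hJ : Iq q hq ≤ J := le_iSup_of_le q (le_iSup_of_le ‹_› (le_iSup_of_le hq le_rfl))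
    haveI := hflat q hq
    exact Groth.Agent.H4RG.flat_quot_mono hJ
  · intro hker Q _ hQ
    let q := Q.comap (algebraMap S S')
    have hq : q.comap (algebraMap R S) = IsLocalRing.maximalIdeal R := by
      rw [Ideal.comap_comap, ← IsScalarTower.algebraMap_eq, IsScalarTower.algebraMap_eq R R' S', ← Ideal.comap_comap,
        hQ, hloc]
    haveI := hI q hq
    exact (Groth.Agent.H4RG.flatPts_atPrime_iff (A := R) (C := R') (Ct := R') q (IsLocalRing.maximalIdeal R') f hf).2
      (Groth.Agent.H4RG.flatPts_of_flat_quot (LocalizedModule q.primeCompl M) I R' hker) Q rfl hQ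

end Groth.Agent.S6927
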