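import Groth.Statements.S6977
import Groth.Agent.PushAmp.FibrewiseAmp
import Groth.Agent.PushAmp.SmoothFibre

set_option autoImplicit false
set_option backward.isDefEq.respectTransparency false
set_option backward.isDefEq.respectTransparency.types false
set_option linter.style.haveILetI false
universe u
open CategoryTheory CategoryTheory.Limits
attribute [local instance] HasDerivedCategory.standard
open DRing

namespace Groth.Agent.S6977

/-- Let A → B be a flat local homomorphism of local commutative rings such that B/m_A B is a regular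
local ring of dimension d, and assume the derived base change D(A) → D(κ_A) to the residue field of
A exists. Let a, b be integers and K a pseudo-coherent object of D(B) such that H^i((K regarded in
D(A)) ⊗^L_A κ_A) = 0 for every i outside [a, b]. Then K is perfect as an object of D(B) and has tor
amplitude in [a - d, b] over B. -/
theorem result {A B : Type u} [CommRing A] [CommRing B] [IsLocalRing A]
    [IsLocalRing B] [Algebra A B] [IsLocalHom (algebraMap A B)] [Module.Flat A B] (d : ℕ)
    [IsRegularLocalRing (B ⧸ (IsLocalRing.maximalIdeal A).map (algebraMap A B))]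
    (hd : ringKrullDim (B ⧸ (IsLocalRing.maximalIdeal A).map (algebraMap A B)) = d)
    [DRing.HasLBaseChange (IsLocalRing.residue A)] (a b : ℤ) (K : Dual.D B) (hK : DRing.IsPseudoCoherent' B K)
    (h : ∀ i : ℤ, (i < a ∨ b < i) → Subsingleton (Dual.HD (IsLocalRing.ResidueField A)
      ((DRing.LBaseChange (IsLocalRing.residue A)).obj ((DRing.restrictD (algebraMap A B)).obj K)) i)) :
    DRing.IsPerfect B K ∧ DRing.HasTorAmplitudeIn B (a - d) b K := by
  obtain ⟨E, b₀, hz, hE, ⟨e⟩⟩ := id hK
  let κ := IsLocalRing.ResidueField A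
  let R := ModuleCat.restrictScalars.{u} (algebraMap A B)
  let EA := (R.mapHomologicalComplex (ComplexShape.up ℤ)).obj E
  have hflat : DRing.TermwiseFlat EA := fun n => by
    haveI := (hE n).2
    letI : Module A (E.X n) := Module.compHom _ (algebraMap A B)
    haveI : IsScalarTower A B (E.X n) := IsScalarTower.of_algebraMap_smul fun _ _ => rfl
    exact Module.Flat.trans A B (E.X n)
  obtain ⟨eL⟩ := Groth.Agent.H9Misc.DRingLBase.nonempty_lbase_iso (IsLocalRing.residue A)
    (Groth.Agent.H9Misc.DRingTor.isKF_of_flat hflat (fun n hn => R.map_isZero (hz n hn)))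
  let eK : DerivedCategory.Q.obj ((Groth.Agent.H9Misc.DRingLTensor.extC' (IsLocalRing.residue A)).obj EA) ≅
      (DRing.LBaseChange (IsLocalRing.residue A)).obj ((DRing.restrictD (algebraMap A B)).obj K) :=
    eL.symm ≪≫ (DRing.LBaseChange (IsLocalRing.residue A)).mapIso
      ((R.mapDerivedCategoryFactors.app E).symm ≪≫ (DRing.restrictD (algebraMap A B)).mapIso e)
  have hexact : ∀ n : ℤ, (n < a ∨ b < n) →
      Function.Exact ((EA.d (n - 1) n).hom.lTensor κ) ((EA.d n (n + 1)).hom.lTensor κ) := fun n hn => by
    haveI := h n hn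
    exact Groth.Agent.H9Misc.DRingFibre.exact_of_extC (B := κ) n
      ((HomologicalComplex.exactAt_iff_isZero_homology _ _).2 ((ModuleCat.isZero_of_subsingleton
        (ModuleCat.of κ (Dual.HD κ ((DRing.LBaseChange (IsLocalRing.residue A)).obj
          ((DRing.restrictD (algebraMap A B)).obj K)) n))).of_iso
        (((DerivedCategory.homologyFunctor _ n).mapIso eK.symm ≪≫
          (DerivedCategory.homologyFunctorFactors _ n).app _).symm)))
  have hmax : ∀ m : Ideal B, m.IsMaximal → Ideal.comap (algebraMap A B) m = IsLocalRing.maximalIdeal A := by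
    intro m hm
    rw [IsLocalRing.eq_maximalIdeal hm]
    have h : IsLocalHom (algebraMap A B) ↔ (IsLocalRing.maximalIdeal B).comap (algebraMap A B) =
        IsLocalRing.maximalIdeal A := (IsLocalRing.local_hom_TFAE _).out 0 4
    exact h.1 inferInstance
  have hgl : ∀ (p : Ideal A) [p.IsPrime], p = IsLocalRing.maximalIdeal A →
      ∀ M : ModuleCat.{u} (TensorProduct A p.ResidueField B), HasProjectiveDimensionLT M (d + 1) := by
    intro p _ hp
    subst hp
    intro M
    obtain ⟨e⟩ := Groth.Agent.PushAmp.nonempty_residueField_tensor_equiv (A := A) (B := B) (IsLocalRing.maximalIdeal A)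
    haveI : IsRegularLocalRing (TensorProduct A (IsLocalRing.maximalIdeal A).ResidueField B) :=
      IsRegularLocalRing.of_ringEquiv e
    haveI := Groth.Agent.CplFib6.isRegularRing_of_local (TensorProduct A (IsLocalRing.maximalIdeal A).ResidueField B)
    exact Groth.Agent.H9Misc.DRingGlobalDim.pd_le
      (fun q => IsRegularRing.isRegularLocalRing_localization q.asIdeal) d
      ((ringKrullDim_eq_of_ringEquiv e).symm.trans_le hd.le) M
  have hfib : ∀ (p : Ideal A) [p.IsPrime], p = IsLocalRing.maximalIdeal A → ∀ n : ℤ, (n < a ∨ b < n) →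
      Function.Exact ((EA.d (n - 1) n).hom.lTensor p.ResidueField) ((EA.d n (n + 1)).hom.lTensor p.ResidueField) := by
    intro p _ hp
    subst hp
    intro n hn
    let l : κ ≃ₗ[A] (IsLocalRing.maximalIdeal A).ResidueField :=
      (AlgEquiv.ofBijective (IsScalarTower.toAlgHom A κ (IsLocalRing.maximalIdeal A).ResidueField)
        (Ideal.bijective_algebraMap_quotient_residueField (IsLocalRing.maximalIdeal A))).toLinearEquiv
    exact Function.Exact.of_ladder_linearEquiv_of_exact (e₁ := l.rTensor _) (e₂ := l.rTensor _)
      (e₃ := l.rTensor _) (TensorProduct.ext' fun _ _ => rfl) (TensorProduct.ext' fun _ _ => rfl) (hexact n hn)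
  have hamp : DRing.HasTorAmplitudeIn B (a - d) b K :=
    Groth.Agent.PushAmp.amp_of_fibre_exact (A := A) (B := B) d (fun m hm => hgl _ (hmax m hm)) hE hz e
      fun m hm n hn => hfib _ (hmax m hm) n hn
  exact ⟨Groth.Agent.H9Misc.DRingFibre.isPerfect_of_amp hK hamp, hamp⟩

end Groth.Agent.S6977
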