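import Groth.Statements.S6978
import Groth.Agent.H9Misc.DRingThick
import Groth.Agent.DQGen.Compact
import Groth.Agent.HDULib.SmallDerived
import Groth.Agent.FlatCxLib.HomologyColim
import Groth.Agent.KFlatLib.Ring.LTenLinear
import Groth.Agent.KFlatLib.Ring.DualizingLocalExt
import Mathlib.Algebra.Category.ModuleCat.AB

set_option linter.style.haveILetI false
set_option backward.isDefEq.respectTransparency false

set_option autoImplicit false
universe u
open CategoryTheory CategoryTheory.Limits
attribute [local instance] HasDerivedCategory.standard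
open DRing

namespace Groth.Agent.S6978

open CategoryTheory CategoryTheory.Limits CategoryTheory.Pretriangulated

attribute [local instance] HasDerivedCategory.standard

section
open Groth.Agent Groth.Agent.KFlatLib

variable {R : Type u} [CommRing R]

instance hasSums (J : Type u) : HasColimitsOfShape (Discrete J) (Dual.D R) :=
  TriCat.hasColimitsOfShape_derivedCategory

instance hasNatSums : HasColimitsOfShape (Discrete ℕ) (Dual.D R) :=
  hasColimitsOfShape_of_equivalence (Discrete.equivalence (Equiv.ulift.{u} : ULift.{u} ℕ ≃ ℕ))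

/-- A generator sees only finitely many summands. -/
lemma fixAt_gen {J : Type u} (M : J → Dual.D R) (n : ℤ) :
    FixAt M (DerivedCategory.Q.obj (H9Misc.BrownGroth.gen R n)) := by
  classical
  intro φ
  let Q : CochainComplex (ModuleCat.{u} R) ℤ ⥤ Dual.D R := DerivedCategory.Q
  let H := DerivedCategory.homologyFunctor (ModuleCat.{u} R) n
  let K := fun j => Q.objPreimage (M j)
  let e := fun j => Q.objObjPreimageIso (M j)
  haveI : PreservesColimit (Discrete.functor K) Q := preservesColimit_Q K
  haveI : PreservesColimitsOfShape (Discrete J)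
      (HomologicalComplex.homologyFunctor (ModuleCat.{u} R) (ComplexShape.up ℤ) n) :=
    FlatCxLib.preservesColimitsOfShape_complexHomology _ _
  haveI : PreservesColimit (Discrete.functor K) (Q ⋙ H) :=
    preservesColimit_of_natIso _ (DerivedCategory.homologyFunctorFactors (ModuleCat.{u} R) n).symm
  have hQ : IsColimit (Cofan.mk (Q.obj (∐ K)) fun j => Q.map (Sigma.ι K j)) :=
    Cofan.isColimitMapCoconeEquiv Q _ _ (isColimitOfPreserves Q (coproductIsCoproduct K))
  have hHQ : IsColimit (Cofan.mk ((Q ⋙ H).obj (∐ K)) fun j => (Q ⋙ H).map (Sigma.ι K j)) :=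
    Cofan.isColimitMapCoconeEquiv (Q ⋙ H) _ _ (isColimitOfPreserves (Q ⋙ H) (coproductIsCoproduct K))
  let b : Q.obj (∐ K) ⟶ ∐ M := hQ.desc (Cofan.mk _ fun j => (e j).hom ≫ Sigma.ι M j)
  let c : (∐ M) ⟶ Q.obj (∐ K) := Sigma.desc fun j => (e j).inv ≫ Q.map (Sigma.ι K j)
  have hb : ∀ j, Q.map (Sigma.ι K j) ≫ b = (e j).hom ≫ Sigma.ι M j := fun j => hQ.fac _ ⟨j⟩
  have hcb : c ≫ b = 𝟙 _ := Sigma.hom_ext _ _ fun j => by simp [c, hb]
  let S : Submodule R (H.obj (Q.obj (∐ K))) := ⨆ j, LinearMap.range ((Q ⋙ H).map (Sigma.ι K j)).hom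
  have hS : ∀ z, z ∈ S := fun z => by
    have h0 : ModuleCat.ofHom S.mkQ = 0 := Cofan.IsColimit.hom_ext hHQ _ _ fun j => by
      ext x
      exact (Submodule.Quotient.mk_eq_zero S).2 (Submodule.mem_iSup_of_mem j ⟨x, rfl⟩)
    exact (Submodule.Quotient.mk_eq_zero S).1 (congrArg (fun f => ModuleCat.Hom.hom f z) h0)
  have hfin : ∀ z, ∃ s : Finset J, ((H.map φ) ≫ H.map (partProj M s)).hom z = (H.map φ).hom z := fun z => by
    have hx : ∀ w ∈ S, ∃ s : Finset J, (H.map (partProj M s)).hom ((H.map b).hom w) = (H.map b).hom w := by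
      intro w hw
      refine Submodule.iSup_induction _ (motive := fun w => ∃ s : Finset J,
        (H.map (partProj M s)).hom ((H.map b).hom w) = (H.map b).hom w) hw ?_ ⟨∅, by simp⟩ ?_
      · rintro j _ ⟨y, rfl⟩
        refine ⟨{j}, ?_⟩
        have : H.map (Q.map (Sigma.ι K j)) ≫ H.map b ≫ H.map (partProj M {j}) =
            H.map (Q.map (Sigma.ι K j)) ≫ H.map b := by
          simp only [← Functor.map_comp]
          rw [reassoc_of% hb j, ι_partProj_mem M (Finset.mem_singleton_self j), hb j]
        exact congrArg (fun f => ModuleCat.Hom.hom f y) this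
      · rintro w w' ⟨s, hs⟩ ⟨t, ht⟩
        refine ⟨s ∪ t, ?_⟩
        have hmono : ∀ {r : Finset J} {v}, r ⊆ s ∪ t → (H.map (partProj M r)).hom v = v →
            (H.map (partProj M (s ∪ t))).hom v = v := fun {r v} hr hv => by
          conv_lhs => rw [← hv]
          refine Eq.trans (congrArg (fun f => ModuleCat.Hom.hom f v)
            (show H.map (partProj M r) ≫ H.map (partProj M (s ∪ t)) = H.map (partProj M r) by
              rw [← H.map_comp, partProj_comp M hr])) hv
        simp only [map_add]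
        rw [hmono Finset.subset_union_left hs, hmono Finset.subset_union_right ht]
    obtain ⟨s, hs⟩ := hx ((H.map c).hom ((H.map φ).hom z)) (hS _)
    refine ⟨s, ?_⟩
    have e1 : (H.map b).hom ((H.map c).hom ((H.map φ).hom z)) = (H.map φ).hom z := by
      have : H.map c ≫ H.map b = 𝟙 _ := by rw [← H.map_comp, hcb, CategoryTheory.Functor.map_id]
      exact congrArg (fun f => ModuleCat.Hom.hom f ((H.map φ).hom z)) this
    rw [e1] at hs
    exact hs
  let eG : H.obj (Q.obj (H9Misc.BrownGroth.gen R n)) ≅ ModuleCat.of R R :=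
    (DerivedCategory.homologyFunctorFactors _ n).app (H9Misc.BrownGroth.gen R n) ≪≫
      HomologicalComplex.singleObjHomologySelfIso (ComplexShape.up ℤ) n (ModuleCat.of R R)
  obtain ⟨s, hs⟩ := hfin (eG.inv.hom (1 : R))
  refine ⟨s, sub_eq_zero.1 (eq_zero_of_homologyMap_eq_zero n _ ?_)⟩
  rw [Functor.map_sub, sub_eq_zero, Functor.map_comp, ← cancel_epi eG.inv]
  refine ModuleCat.hom_ext (LinearMap.ext_ring ?_)
  exact hs

/-- Perfect complexes see only finitely many summands. -/
lemma fix_of_isPerfect {J : Type u} (M : J → Dual.D R) {K : Dual.D R} (hK : DRing.IsPerfect R K) : Fix M K := by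
  haveI : ObjectProperty.IsClosedUnderIsomorphisms (fun K : Dual.D R => Fix M K) := ⟨fun e h => h.of_iso e⟩
  refine H9Misc.DRingThick.perfect_induction (fun K => Fix M K) (fun n => ?_) (fun K n h => h.shift n)
    (fun T hT h₁ h₃ => fix_obj₂ hT h₁ h₃) (fun X Y _ h n φ => ?_) K hK
  · obtain ⟨eU⟩ := nonempty_unit_shift_iso (A := R) n
    exact (fixAt_gen M (-n)).of_iso (eU.symm ≪≫ (shiftFunctor (Dual.D R) n).mapIso
      ((DerivedCategory.singleFunctorIsoCompQ (ModuleCat.{u} R) 0).app (ModuleCat.of R R)).symm)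
  · obtain ⟨s, hs⟩ := h n ((shiftFunctor (Dual.D R) n).map biprod.fst ≫ φ)
    refine ⟨s, ?_⟩
    have := congrArg ((shiftFunctor (Dual.D R) n).map biprod.inl ≫ ·) hs
    simpa only [← Category.assoc, ← Functor.map_comp, biprod.inl_fst, CategoryTheory.Functor.map_id,
      Category.id_comp] using this

/-- Retracts of perfect objects are perfect. -/
lemma isPerfect_of_retract {K L : Dual.D R} (i : K ⟶ L) (r : L ⟶ K) (h : i ≫ r = 𝟙 K)
    (hL : DRing.IsPerfect R L) : DRing.IsPerfect R K := by
  obtain ⟨C, b, c, hT⟩ := distinguished_cocone_triangle i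
  have hc : c = 0 := by
    have h0 : c ≫ i⟦(1 : ℤ)⟧' = 0 := comp_distTriang_mor_zero₃₁ _ hT
    have := congrArg (· ≫ r⟦(1 : ℤ)⟧') h0
    simp only [Category.assoc, zero_comp, ← Functor.map_comp, h] at this
    simpa using this
  obtain ⟨e, -, -⟩ := exists_iso_binaryBiproduct_of_distTriang _ hT hc
  exact (H9Misc.DRingPC.isPerfect_summand (H9Misc.DRingPC.isPerfect_of_iso e hL)).1

/-- Perfect objects. -/
def perf : ObjectProperty (Dual.D R) := fun K => DRing.IsPerfect R K

instance : (perf (R := R)).IsClosedUnderIsomorphisms := ⟨fun e h => H9Misc.DRingPC.isPerfect_of_iso e h⟩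

instance : (perf (R := R)).IsTriangulated :=
  haveI : (perf (R := R)).ContainsZero := ⟨⟨_, isZero_zero _, H9Misc.DRingPC.isPerfect_of_isZero (isZero_zero _)⟩⟩
  haveI : (perf (R := R)).IsStableUnderShift ℤ := ⟨fun n => ⟨fun _ h => H9Misc.DRingPC.isPerfect_shift h n⟩⟩
  haveI : (perf (R := R)).IsTriangulatedClosed₂ :=
    ObjectProperty.IsTriangulatedClosed₂.mk' fun T hT h₁ h₃ => H9Misc.DRingPC.isPerfect₂ T hT h₁ h₃
  { }

instance : (⊤ : ObjectProperty (Dual.D R)).IsTriangulated :=
  haveI : (⊤ : ObjectProperty (Dual.D R)).ContainsZero := ⟨⟨_, isZero_zero _, trivial⟩⟩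
  haveI : (⊤ : ObjectProperty (Dual.D R)).IsStableUnderShift ℤ := ⟨fun n => ⟨fun _ _ => trivial⟩⟩
  haveI : (⊤ : ObjectProperty (Dual.D R)).IsTriangulatedClosed₂ :=
    ObjectProperty.IsTriangulatedClosed₂.mk' fun _ _ _ _ => trivial
  { }

lemma isPerfect_unit_shift (n : ℤ) : DRing.IsPerfect R ((DTen.unit R)⟦n⟧) := by
  refine H9Misc.DRingPC.isPerfect_shift ?_ n
  refine H9Misc.DRingPC.isPerfect_of_iso ((DerivedCategory.singleFunctorIsoCompQ (ModuleCat.{u} R) 0).app (ModuleCat.of R R)) ?_
  refine ⟨(HomologicalComplex.single (ModuleCat.{u} R) (ComplexShape.up ℤ) 0).obj (ModuleCat.of R R), 0, 0,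
    fun i hi => HomologicalComplex.isZero_single_obj_X _ _ _ _ (by omega), fun i => ?_,
    ⟨((DerivedCategory.singleFunctorIsoCompQ (ModuleCat.{u} R) 0).app (ModuleCat.of R R)).symm⟩⟩
  by_cases hi : i = 0
  · subst hi
    let e := (HomologicalComplex.singleObjXSelf (ComplexShape.up ℤ) 0 (ModuleCat.of R R)).toLinearEquiv.symm
    exact ⟨Module.Finite.equiv e, Module.Projective.of_equiv e⟩
  · haveI := ModuleCat.subsingleton_of_isZero
      (HomologicalComplex.isZero_single_obj_X (ComplexShape.up ℤ) 0 (ModuleCat.of R R) i hi)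
    exact ⟨inferInstance, inferInstance⟩

end

/-- Let R be a commutative ring and K an object of D(R). Then K is perfect if and only if K is a compact
object of D(R): for every family (E_i) of objects of D(R) indexed by a small type, the canonical map
from the direct sum of the Hom(K, E_i) to Hom(K, ⊕ E_i) is bijective. -/
theorem result (R : Type u) [CommRing R] (K : Dual.D R) :
    DRing.IsPerfect R K ↔
      ∀ (I : Type u) (E : I → Dual.D R) [HasCoproduct fun i : ULift.{u + 1} I => E i.down],
        Function.Bijective (CohDer.homSumToHomCoprod K (fun i : ULift.{u + 1} I => E i.down)) := by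
  constructor
  · intro hK I E _
    haveI : HasColimitsOfShape (Discrete I) (Dual.D R) := hasSums I
    exact Groth.Agent.KFlatLib.bijective_homSumToHomCoprod _
      (((fix_of_isPerfect E hK).at_zero).reindex Equiv.ulift.symm fun _ => Iso.refl _)
  · intro hK
    have hfix : ∀ {J : Type u} (M : J → Dual.D R) [HasCoproduct M], Groth.Agent.KFlatLib.FixAt M K := by
      intro J M _
      haveI : HasColimitsOfShape (Discrete (ULift.{u + 1} J)) (Dual.D R) :=
        hasColimitsOfShape_of_equivalence (Discrete.equivalence (Equiv.ulift.{u + 1} : ULift.{u + 1} J ≃ J).symm)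
      exact (Groth.Agent.DQGen.fixAt_of_bijective_homSum _ (hK J M)).reindex Equiv.ulift fun _ => Iso.refl _
    have hcf : Groth.Agent.DQGen.CompactFor.{u} (𝟭 (Dual.D R)) (⊤ : ObjectProperty (Dual.D R)) K :=
      ⟨fun J M _ _ φ => hfix M φ, fun M _ _ φ =>
        (hfix fun j : ULift.{u} ℕ => M j.down).reindex Equiv.ulift (fun _ => Iso.refl _) φ⟩
    haveI : LocallySmall.{u} (Dual.D R) := Groth.Agent.HDULib.locallySmall_derived.{u} (ModuleCat.{u} R)
    obtain ⟨P, ψ, g, hP, hψ⟩ := Groth.Agent.DQGen.exists_factor (F := 𝟭 (Dual.D R))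
      (⊤ : ObjectProperty (Dual.D R)) perf (fun _ _ _ => trivial) (fun _ _ => trivial) (fun _ _ => trivial)
      (fun C hC => ⟨fun J M _ _ φ => (fix_of_isPerfect M hC).at_zero φ, fun M _ _ φ =>
        ((fix_of_isPerfect (fun j : ULift.{u} ℕ => M j.down) hC).at_zero).reindex Equiv.ulift
          (fun _ => Iso.refl _) φ⟩)
      (fun n : ULift.{u} ℤ => (DTen.unit R)⟦n.down⟧) (fun n => isPerfect_unit_shift n.down)
      (fun E _ h => Groth.Agent.H9Misc.DRingNakayama.isZero_of_homology fun i => by
        obtain ⟨l⟩ := Groth.Agent.KFlatLib.exists_homUnitLEquiv E (-i) i (by omega)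
        haveI : Subsingleton ((DTen.unit R)⟦-i⟧ ⟶ E) := subsingleton_of_forall_eq 0 fun f => h ⟨-i⟩ f
        haveI : Subsingleton (Dual.HD R E i) := l.symm.toEquiv.subsingleton
        exact ModuleCat.isZero_of_subsingleton _)
      hcf (T := K) trivial (𝟙 K)
    exact isPerfect_of_retract ψ g hψ.symm hP

end Groth.Agent.S6978
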