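import Groth.Statements.S7074
import Groth.Agent.H6RelPerf.Basic
import Groth.Agent.FlatSyz5.PC

set_option linter.style.haveILetI false
set_option backward.isDefEq.respectTransparency false

set_option autoImplicit false
universe u
attribute [local instance] HasDerivedCategory.standard
open CategoryTheory
open Dual2

namespace Groth.Agent.S7074

/-- For a flat homomorphism of finite presentation R → A of commutative rings and an object K of D(A), K
is R-perfect (pseudo-coherent over A and of finite tor dimension over R) if and only if K is
isomorphic in D(A) to a bounded complex whose terms are finitely presented A-modules that are flat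
as R-modules. -/
theorem result (R A : Type u) [CommRing R] [CommRing A] [Algebra R A]
    [Module.Flat R A] [Algebra.FinitePresentation R A] (K : Dual.D A) :
    Dual2.IsRelPerfect R A K ↔
      ∃ (E : DRing.Cx A) (a b : ℤ), DRing.VanishesOutside E a b ∧
        (∀ i : ℤ, Module.FinitePresentation A (E.X i) ∧
          Module.Flat R ((ModuleCat.restrictScalars (algebraMap R A)).obj (E.X i))) ∧
        Nonempty (DRing.toD E ≅ K) := by
  refine ⟨fun hK => Groth.Agent.H6RelPerf.exists_rep hK, ?_⟩
  rintro ⟨E, a, b, hz, hE, ⟨e⟩⟩
  refine ⟨Groth.Agent.H9Misc.DRingPC.of_iso' e ((Groth.Agent.H9Misc.DRingPC.pc'_iff _).2 fun m =>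
    Groth.Agent.H9Misc.DRingPC.of_terms E b (fun i hi => hz i (Or.inr hi)) fun i => ?_),
    Groth.Agent.H6RelPerf.finiteTor_of_rep hz (fun i => (hE i).2) e⟩
  letI : Module R (E.X i) := Module.compHom _ (algebraMap R A)
  haveI : IsScalarTower R A (E.X i) := IsScalarTower.of_algebraMap_smul fun r x => rfl
  haveI : Module.Flat R (E.X i) := (hE i).2
  haveI := (hE i).1
  exact (Groth.Agent.H9Misc.DRingPC.pc'_iff _).1 (Groth.Agent.FlatSyz5.pc' R A (E.X i)) (m - i)

end Groth.Agent.S7074
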