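import Groth.Statements.S7075
import Groth.Agent.H6RelPerf.Basic
import Groth.Agent.H9Misc.DRingLBase
import Groth.Agent.KFlatLib.Ring.BaseChangePushout

set_option linter.style.haveILetI false
set_option backward.isDefEq.respectTransparency false

set_option autoImplicit false
universe u
attribute [local instance] HasDerivedCategory.standard
open TensorProduct
open Dual2

namespace Groth.Agent.S7075

/-- Let R → A be a flat homomorphism of finite presentation of commutative rings, R → R' any ring map
and A' = R' ⊗_R A. If K in D(A) is R-perfect then its derived base change K ⊗^L_A A' (the total left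
derived functor of extension of scalars, assumed to exist) is R'-perfect in D(A'). -/
theorem result (R A R' : Type u) [CommRing R] [CommRing A] [Algebra R A] [CommRing R'] [Algebra R R']
    [Module.Flat R A] [Algebra.FinitePresentation R A]
    [DRing.HasLBaseChange (Algebra.TensorProduct.includeRight.toRingHom : A →+* R' ⊗[R] A)]
    (K : Dual.D A) (hK : Dual2.IsRelPerfect R A K) :
    Dual2.IsRelPerfect R' (R' ⊗[R] A)
      ((DRing.LBaseChange (Algebra.TensorProduct.includeRight.toRingHom : A →+* R' ⊗[R] A)).obj K) := by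
  obtain ⟨⟨P, b, hz, hP, ⟨e⟩⟩, a, b', hamp⟩ := hK
  open Groth.Agent Groth.Agent.H9Misc in
  let α : A →+* R' ⊗[R] A := Algebra.TensorProduct.includeRight.toRingHom
  open Groth.Agent Groth.Agent.H9Misc in
  have hPKF : DRingLTensor.IsKF P := DRingTor.isKF_of_flat (fun i => have := (hP i).2; inferInstance) hz
  open Groth.Agent Groth.Agent.H9Misc in
  obtain ⟨eα⟩ := DRingLBase.nonempty_lbase_iso α hPKF
  open Groth.Agent Groth.Agent.H9Misc in
  let e' : DRing.toD ((DRingLTensor.extC' α).obj P) ≅ (DRing.LBaseChange α).obj K :=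
    eα.symm ≪≫ (DRing.LBaseChange α).mapIso e
  open Groth.Agent Groth.Agent.H9Misc in
  refine ⟨⟨(DRingLTensor.extC' α).obj P, b,
    fun i hi => (ModuleCat.extendScalars.{u, u, u} α).map_isZero (hz i hi),
    fun i => DRingRestrict.finFree_extendScalars α (P.X i) (hP i).1 (hP i).2, ⟨e'⟩⟩, a, b', ?_⟩
  open Groth.Agent Groth.Agent.H9Misc in
  let ρ := algebraMap R R'
  open Groth.Agent Groth.Agent.H9Misc in
  haveI : DRing.HasLBaseChange ρ := DRingLBase.hasLBaseChange ρ
  open Groth.Agent Groth.Agent.H9Misc in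
  have hflat : ∀ n, Module.Flat R ((H6RelPerf.resC (R := R) P).X n) := fun n => by
    haveI := (hP n).2
    exact H6RelPerf.flat_res_free (P.X n)
  open Groth.Agent Groth.Agent.H9Misc in
  obtain ⟨eρ⟩ := DRingLBase.nonempty_lbase_iso ρ (K := H6RelPerf.resC (R := R) P)
    (DRingTor.isKF_of_flat hflat fun i hi => (ModuleCat.restrictScalars _).map_isZero (hz i hi))
  letI : Algebra A (R' ⊗[R] A) := α.toAlgebra
  haveI : IsScalarTower R A (R' ⊗[R] A) :=
    IsScalarTower.of_algebraMap_eq fun r => ((Algebra.TensorProduct.includeRight : A →ₐ[R] R' ⊗[R] A).commutes r).symm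
  haveI : Algebra.IsPushout R R' A (R' ⊗[R] A) := TensorProduct.isPushout
  have hsq : α.comp (algebraMap R A) = (algebraMap R' (R' ⊗[R] A)).comp ρ := RingHom.ext fun r =>
    (((Algebra.TensorProduct.includeRight : A →ₐ[R] R' ⊗[R] A).commutes r).trans
      (IsScalarTower.algebraMap_apply R R' (R' ⊗[R] A) r))
  open Groth.Agent Groth.Agent.H9Misc in
  haveI : ∀ i, CategoryTheory.IsIso ((KFlatLib.sqCx hsq P).f i) := fun i => KFlatLib.isIso_sqMod hsq rfl rfl rfl rfl (P.X i)
  open Groth.Agent Groth.Agent.H9Misc in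
  haveI : CategoryTheory.IsIso (KFlatLib.sqCx hsq P) := HomologicalComplex.Hom.isIso_of_components _
  open Groth.Agent Groth.Agent.H9Misc in
  exact DRingTor.of_iso
    ((DRing.LBaseChange ρ).mapIso ((DRing.restrictD (algebraMap R A)).mapIso e.symm ≪≫ H6RelPerf.resIso P) ≪≫
      eρ ≪≫ DerivedCategory.Q.mapIso (CategoryTheory.asIso (KFlatLib.sqCx hsq P)) ≪≫
      (H6RelPerf.resIso (R := R') ((DRingLTensor.extC' α).obj P)).symm ≪≫
      (DRing.restrictD (algebraMap R' (R' ⊗[R] A))).mapIso e')
    (DRingLBase.hasTorAmplitudeIn_lbase ρ hamp)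

end Groth.Agent.S7075
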