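import Groth.Statements.S7076
import Groth.Agent.H6RelPerf.BaseChange
import Groth.Agent.H9Misc.DRingNilpPC

set_option linter.style.haveILetI false
set_option backward.isDefEq.respectTransparency false

set_option autoImplicit false
universe u
attribute [local instance] HasDerivedCategory.standard
open TensorProduct
open Dual2

namespace Groth.Agent.S7076

/-- Let R' → A' be a flat homomorphism of finite presentation of commutative rings, R' → R a surjective
homomorphism of rings with nilpotent kernel, A = R ⊗_{R'} A', and K' an object of D(A'). If the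
derived base change K' ⊗^L_{A'} A (total left derived functor of extension of scalars, assumed to
exist) is R-perfect in D(A), then K' is R'-perfect in D(A'). -/
theorem result (R' A' R : Type u) [CommRing R'] [CommRing A'] [Algebra R' A']
    [CommRing R] [Algebra R' R] [Module.Flat R' A'] [Algebra.FinitePresentation R' A']
    (hs : Function.Surjective (algebraMap R' R)) (hn : IsNilpotent (RingHom.ker (algebraMap R' R)))
    [DRing.HasLBaseChange (Algebra.TensorProduct.includeRight.toRingHom : A' →+* R ⊗[R'] A')]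
    (K' : Dual.D A')
    (hK : Dual2.IsRelPerfect R (R ⊗[R'] A')
      ((DRing.LBaseChange (Algebra.TensorProduct.includeRight.toRingHom : A' →+* R ⊗[R'] A')).obj K')) :
    Dual2.IsRelPerfect R' A' K' := by
  obtain ⟨hp, a, b, hamp⟩ := hK
  let α : A' →+* R ⊗[R'] A' := Algebra.TensorProduct.includeRight.toRingHom
  let I : Ideal R' := RingHom.ker (algebraMap R' R)
  have hα : Function.Surjective α := fun z => by
    induction z using TensorProduct.induction_on with
    | zero => exact ⟨0, map_zero _⟩
    | add x y hx hy =>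
      obtain ⟨p, rfl⟩ := hx
      obtain ⟨q, rfl⟩ := hy
      exact ⟨p + q, map_add _ _ _⟩
    | tmul r x =>
      obtain ⟨r', rfl⟩ := hs r
      refine ⟨r' • x, ?_⟩
      show (1 : R) ⊗ₜ[R'] (r' • x) = algebraMap R' R r' ⊗ₜ[R'] x
      rw [← TensorProduct.smul_tmul, Algebra.algebraMap_eq_smul_one]
  have hker : RingHom.ker α ≤ I.map (algebraMap R' A') := fun x hx => by
    let J := I.map (algebraMap R' A')
    let f : R →ₐ[R'] A' ⧸ J :=
      ((Ideal.Quotient.liftₐ I ((Ideal.Quotient.mkₐ R' J).comp (Algebra.ofId R' A')) fun r hr =>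
        Ideal.Quotient.eq_zero_iff_mem.2 (Ideal.mem_map_of_mem _ hr))).comp
        (Ideal.quotientKerAlgEquivOfSurjective (f := Algebra.ofId R' R) hs).symm.toAlgHom
    let g : R ⊗[R'] A' →ₐ[R'] A' ⧸ J := Algebra.TensorProduct.lift f (Ideal.Quotient.mkₐ R' J) fun _ _ => Commute.all _ _
    have hg : g (α x) = Ideal.Quotient.mk J x := by
      show g ((1 : R) ⊗ₜ[R'] x) = _
      rw [Algebra.TensorProduct.lift_tmul, map_one, one_mul]
      rfl
    rw [RingHom.mem_ker.1 hx, map_zero] at hg
    exact Ideal.Quotient.eq_zero_iff_mem.1 hg.symm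
  have hnil : IsNilpotent (RingHom.ker α) := by
    obtain ⟨k, hk⟩ := hn
    refine ⟨k, ?_⟩
    rw [Ideal.zero_eq_bot, eq_bot_iff]
    refine (Ideal.pow_right_mono hker k).trans (le_of_eq ?_)
    rw [← Ideal.map_pow, hk, Ideal.zero_eq_bot, Ideal.map_bot]
  have hp' := (Groth.Agent.H9Misc.DRingNilp.pc'_lbase_iff α hα hnil K').1 hp
  haveI : DRing.HasLBaseChange (algebraMap R' R) := Groth.Agent.H9Misc.DRingLBase.hasLBaseChange _
  obtain ⟨e⟩ := Groth.Agent.H6RelPerf.nonempty_lbase_res (R := R') (R' := R) hp'
  exact ⟨hp', a, b, (Groth.Agent.H9Misc.DRingNilp.amp_lbase_iff (algebraMap R' R) hs hn _ a b).1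
    (Groth.Agent.H9Misc.DRingTor.of_iso e hamp)⟩

end Groth.Agent.S7076
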