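import Groth.Statements.S7084
import Groth.Agent.H9Misc.DRingRightExact

set_option autoImplicit false
universe u
attribute [local instance] HasDerivedCategory.standard
open CategoryTheory
open LocCoh

namespace Groth.Agent.S7084

open Groth.Agent.H9Misc Groth.Agent.H9Misc.DRingNakayama CategoryTheory.Limits in
lemma exactAt_pow {R : Type u} [CommRing R] (I : Ideal R) {P : CochainComplex (ModuleCat.{u} R) ℤ}
    (hK : DRingLTensor.IsKF P) (hflat : ∀ n, Module.Flat R (P.X n))
    (h : ∀ i, 0 < i → ((G P).obj (ModuleCat.of R (R ⧸ I))).ExactAt i) :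
    ∀ (n : ℕ) (N : ModuleCat.{u} R), I ^ n • (⊤ : Submodule R N) = ⊥ → ∀ i : ℤ, 0 < i → ((G P).obj N).ExactAt i := by
  intro n
  induction n with
  | zero =>
    intro N hN i _
    rw [pow_zero, Ideal.one_eq_top, Submodule.top_smul] at hN
    haveI : Subsingleton N := Submodule.subsingleton_iff R |>.1 (subsingleton_of_top_le_bot hN.le)
    exact (HomologicalComplex.exactAt_iff_isZero_homology _ i).2 ((HomologicalComplex.homologyFunctor _ _ i).map_isZero
      ((G P).map_isZero (ModuleCat.isZero_of_subsingleton N)))
  | succ n ih =>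
    intro N hN i hi
    let W : Submodule R N := I • ⊤
    let S : ShortComplex (ModuleCat.{u} R) :=
      ShortComplex.mk (ModuleCat.ofHom W.subtype) (ModuleCat.ofHom W.mkQ)
        (ModuleCat.hom_ext (LinearMap.ext fun x => (Submodule.Quotient.mk_eq_zero _).2 x.2))
    have hS : S.ShortExact :=
      { exact := (ShortComplex.ShortExact.moduleCat_exact_iff_function_exact _).2 fun y =>
          ⟨fun hy => ⟨⟨y, (Submodule.Quotient.mk_eq_zero _).1 hy⟩, rfl⟩, by
            rintro ⟨x, rfl⟩; exact (Submodule.Quotient.mk_eq_zero _).2 x.2⟩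
        mono_f := (ModuleCat.mono_iff_injective _).2 Subtype.val_injective
        epi_g := (ModuleCat.epi_iff_surjective _).2 W.mkQ_surjective }
    have h₁ : ((G P).obj S.X₁).ExactAt i := by
      refine ih _ ?_ i hi
      apply Submodule.map_injective_of_injective (f := W.subtype) Subtype.val_injective
      rw [Submodule.map_smul'', Submodule.map_top, Submodule.range_subtype, Submodule.map_bot,
        ← Submodule.mul_smul, ← pow_succ, hN]
    have h₃ : ((G P).obj S.X₃).ExactAt i := DRingRightExact.exactAt_G I hK h _ (fun f hf x => by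
      obtain ⟨x, rfl⟩ := W.mkQ_surjective x
      exact (Submodule.Quotient.mk_eq_zero W).2 (Submodule.smul_mem_smul hf trivial)) i hi
    exact (HomologicalComplex.exactAt_iff_isZero_homology _ i).2
      (((shortExact_map P hflat hS).homology_exact₂ i).isZero_of_both_zeros
        (((HomologicalComplex.exactAt_iff_isZero_homology _ i).1 h₁).eq_of_src _ _)
        (((HomologicalComplex.exactAt_iff_isZero_homology _ i).1 h₃).eq_of_tgt _ _))

/-- Parts (1)–(2) in the case of a module killed by a power of the ideal: let R be a commutative ring, I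
an ideal and K an object of D(R) such that K ⊗^L_R R/I has no cohomology in positive degrees. Then
for every R-module N annihilated by some power of I, K ⊗^L_R N has no cohomology in positive
degrees. (The published statement allows any I-power torsion module N; this row takes N annihilated
by a single power of I, the case the published argument carries out in full, which contains the case
N = R/I^n.) The derived tensor products with modules are total left derived functors, assumed to
exist. -/
theorem result {R : Type u} [CommRing R] (I : Ideal R)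
    [DRing.HasLTensor R (ModuleCat.of R (R ⧸ I))] (K : Dual.D R)
    (hK : ∀ i : ℤ, 0 < i → Subsingleton (Dual.HD R ((DRing.LTensor R (ModuleCat.of R (R ⧸ I))).obj K) i))
    (N : Type u) [AddCommGroup N] [Module R N] (n : ℕ) (hN : I ^ n • (⊤ : Submodule R N) = ⊥)
    [DRing.HasLTensor R (ModuleCat.of R N)] (i : ℤ) (hi : 0 < i) :
    Subsingleton (Dual.HD R ((DRing.LTensor R (ModuleCat.of R N)).obj K) i) := by
  obtain ⟨P, hP, hflat, ⟨e⟩⟩ := Groth.Agent.H9Misc.DRingLTensor.exists_rep K
  have iso : ∀ (M : ModuleCat.{u} R) [DRing.HasLTensor R M] (j : ℤ),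
      Nonempty ((DerivedCategory.homologyFunctor (ModuleCat.{u} R) j).obj ((DRing.LTensor R M).obj K) ≅
        ((Groth.Agent.H9Misc.DRingLTensor.tensC M).obj P).homology j) := fun M _ j => by
    obtain ⟨eT⟩ := Groth.Agent.H9Misc.DRingLTensor.nonempty_ltensor_iso M hP
    exact ⟨(DerivedCategory.homologyFunctor (ModuleCat.{u} R) j).mapIso ((DRing.LTensor R M).mapIso e.symm ≪≫ eT) ≪≫
      (DerivedCategory.homologyFunctorFactors (ModuleCat.{u} R) j).app _⟩
  obtain ⟨e'⟩ := iso (ModuleCat.of R N) i
  refine ModuleCat.subsingleton_of_isZero (((HomologicalComplex.exactAt_iff_isZero_homology _ i).1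
    (exactAt_pow I hP hflat (fun j hj => ?_) n (ModuleCat.of R N) hN i hi)).of_iso e')
  obtain ⟨ej⟩ := iso (ModuleCat.of R (R ⧸ I)) j
  exact (HomologicalComplex.exactAt_iff_isZero_homology _ j).2
    ((Groth.Agent.H9Misc.DRingCompl.isZ (hK j hj)).of_iso ej.symm)

end Groth.Agent.S7084
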