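import Groth.Statements.S7093
import Groth.Agent.H9Misc.DRingPC
import Groth.Agent.H9Misc.DRingTorDevissage
import Groth.Agent.H9Misc.DRingTorTriangle
import Groth.Agent.H9Misc.DRingRestrict

set_option linter.style.haveILetI false
set_option linter.unusedSectionVars false

set_option autoImplicit false
universe u
attribute [local instance] HasDerivedCategory.standard
open CategoryTheory CategoryTheory.Limits
open Dual2

namespace Groth.Agent.S7093

open CategoryTheory CategoryTheory.Limits
attribute [local instance] HasDerivedCategory.standard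

section
open Groth.Agent.H9Misc

variable {R A : Type u} [CommRing R] [CommRing A] [Algebra R A]

lemma torAmp_shift {K : Dual.D R} {a b : ℤ} (h : DRing.HasTorAmplitudeIn R a b K) (n : ℤ) :
    DRing.HasTorAmplitudeIn R (a - n) (b - n) (K⟦n⟧) := by
  obtain ⟨E, hz, hf, ⟨e⟩⟩ := h
  exact ⟨E⟦n⟧, fun i hi => hz (i + n) (by omega), fun i => hf (i + n),
    ⟨(DerivedCategory.Q.commShiftIso n).app E ≪≫ (shiftFunctor (Dual.D R) n).mapIso e⟩⟩

lemma rel_iso {K L : Dual.D A} (e : K ≅ L) (h : Dual2.IsRelPerfect R A K) : Dual2.IsRelPerfect R A L := by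
  obtain ⟨hp, a, b, hk⟩ := h
  exact ⟨DRingPC.of_iso' e hp, a, b, DRingTor.of_iso ((DRing.restrictD (algebraMap R A)).mapIso e) hk⟩

lemma rel_shift {K : Dual.D A} (h : Dual2.IsRelPerfect R A K) (n : ℤ) : Dual2.IsRelPerfect R A (K⟦n⟧) := by
  obtain ⟨hp, a, b, hk⟩ := h
  exact ⟨DRingPC.shift' hp n, a - n, b - n,
    DRingTor.of_iso (((DRing.restrictD (algebraMap R A)).commShiftIso n).app K).symm (torAmp_shift hk n)⟩

lemma rel_ext {T : Pretriangulated.Triangle (Dual.D A)} (hT : T ∈ Pretriangulated.distinguishedTriangles)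
    (h₁ : Dual2.IsRelPerfect R A T.obj₁) (h₃ : Dual2.IsRelPerfect R A T.obj₃) : Dual2.IsRelPerfect R A T.obj₂ := by
  obtain ⟨p₁, a₁, b₁, k₁⟩ := h₁
  obtain ⟨p₃, a₃, b₃, k₃⟩ := h₃
  exact ⟨DRingPC.obj₂' T hT p₁ p₃, min a₁ a₃, max b₁ b₃,
    DRingTor.obj₂_of _ ((DRing.restrictD (algebraMap R A)).map_distinguished T hT)
      (DRingTor.mono (by omega) (by omega) k₁) (DRingTor.mono (by omega) (by omega) k₃)⟩

end

/-- For a flat homomorphism of finite presentation R → A of commutative rings, the R-perfect objects of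
D(A) (pseudo-coherent over A, finite tor dimension over R) form a strictly full, saturated
triangulated subcategory: the property is a triangulated object property (contains zero, stable
under shifts and under extensions in distinguished triangles), is closed under isomorphisms, and
passes to direct summands. -/
theorem result (R A : Type u) [CommRing R] [CommRing A] [Algebra R A]
    [Module.Flat R A] [Algebra.FinitePresentation R A] :
    ObjectProperty.IsTriangulated (C := Dual.D A) (fun K => Dual2.IsRelPerfect R A K) ∧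
      ObjectProperty.IsClosedUnderIsomorphisms (C := Dual.D A) (fun K => Dual2.IsRelPerfect R A K) ∧
      ∀ X Y : Dual.D A, Dual2.IsRelPerfect R A (X ⊞ Y) → Dual2.IsRelPerfect R A X ∧ Dual2.IsRelPerfect R A Y := by
  refine ⟨?_, ⟨fun e h => rel_iso e h⟩, fun X Y h => ?_⟩
  · let P : ObjectProperty (Dual.D A) := fun K => Dual2.IsRelPerfect R A K
    haveI : P.IsClosedUnderIsomorphisms := ⟨fun e h => rel_iso e h⟩
    haveI : P.ContainsZero := ⟨⟨_, isZero_zero _,
      (Groth.Agent.H9Misc.DRingPerfect.isPerfect_iff _).1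
        (Groth.Agent.H9Misc.DRingPC.isPerfect_of_isZero (isZero_zero _)) |>.1, 0, 0,
      Groth.Agent.H9Misc.DRingTor.of_isZero ((DRing.restrictD (algebraMap R A)).map_isZero (isZero_zero _))⟩⟩
    haveI : P.IsStableUnderShift ℤ := ⟨fun n => ⟨fun _ h => rel_shift h n⟩⟩
    haveI : P.IsTriangulatedClosed₂ := ObjectProperty.IsTriangulatedClosed₂.mk' fun T hT h₁ h₃ => rel_ext hT h₁ h₃
    show P.IsTriangulated
    exact { }
  · obtain ⟨hp, a, b, hk⟩ := h
    have hsum := Groth.Agent.H9Misc.DRingPC.summand' hp
    exact ⟨⟨hsum.1, a, b, Groth.Agent.H9Misc.DRingTor.of_retract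
        ((DRing.restrictD (algebraMap R A)).map biprod.inl) ((DRing.restrictD (algebraMap R A)).map biprod.fst)
        (by rw [← Functor.map_comp, biprod.inl_fst, CategoryTheory.Functor.map_id]) hk⟩,
      hsum.2, a, b, Groth.Agent.H9Misc.DRingTor.of_retract
        ((DRing.restrictD (algebraMap R A)).map biprod.inr) ((DRing.restrictD (algebraMap R A)).map biprod.snd)
        (by rw [← Functor.map_comp, biprod.inr_snd, CategoryTheory.Functor.map_id]) hk⟩

end Groth.Agent.S7093
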