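import Groth.Statements.S7094
import Groth.Agent.PushAmp.FibrePerfectAlg
import Groth.Agent.PushAmp.FibrewiseAmp
set_option backward.isDefEq.respectTransparency false
open Groth.Agent.H9Misc

set_option autoImplicit false
universe u
attribute [local instance] HasDerivedCategory.standard
open CategoryTheory
open Dual2

namespace Groth.Agent.S7094

/-- Let R → A be a flat homomorphism of finite presentation of commutative rings and K a pseudo-coherent
object of D(A). Then K is R-perfect if and only if H^i(K) = 0 for all sufficiently negative i and,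
for each prime p of R, H^i(K ⊗^L_R κ(p)) = 0 for all sufficiently negative i; here K is viewed in
D(R) by restriction of scalars and the derived tensor product with the residue field κ(p) is the
total left derived functor, assumed to exist. -/
theorem result (R A : Type u) [CommRing R] [CommRing A] [Algebra R A]
    [Module.Flat R A] [Algebra.FinitePresentation R A]
    [∀ p : PrimeSpectrum R, DRing.HasLTensor R (ModuleCat.of R p.asIdeal.ResidueField)]
    (K : Dual.D A) (hK : DRing.IsPseudoCoherent' A K) :
    Dual2.IsRelPerfect R A K ↔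
      (∃ a : ℤ, ∀ i : ℤ, i < a → Subsingleton (Dual.HD A K i)) ∧
        ∀ p : PrimeSpectrum R, ∃ a : ℤ, ∀ i : ℤ, i < a →
          Subsingleton (Dual.HD R ((DRing.LTensor R (ModuleCat.of R p.asIdeal.ResidueField)).obj
            ((DRing.restrictD (algebraMap R A)).obj K)) i) := by
  haveI : ∀ M : ModuleCat.{u} R, DRing.HasLTensor R M := fun M => DRingTor.hasLTensor M
  constructor
  · rintro ⟨-, a, b, h⟩
    refine ⟨⟨a, fun i hi => ?_⟩, fun p => ⟨a, fun i hi => (DRingTor.iff_ltensor _ a b).1 h (ModuleCat.of R p.asIdeal.ResidueField) i (Or.inl hi)⟩⟩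
    obtain ⟨E, hz, hf, ⟨e⟩⟩ := h
    obtain ⟨eH⟩ := DRingTor.hd_iso e i
    have hz' : Limits.IsZero ((DerivedCategory.homologyFunctor (ModuleCat.{u} R) i).obj
        ((DRing.restrictD (algebraMap R A)).obj K)) :=
      (ShortComplex.isZero_homology_of_isZero_X₂ _ (hz i (Or.inl hi))).of_iso eH
    have hs : Subsingleton ((ModuleCat.restrictScalars (algebraMap R A)).obj
        ((DerivedCategory.homologyFunctor (ModuleCat.{u} A) i).obj K)) := ModuleCat.subsingleton_of_isZero
      (hz'.of_iso ((Groth.Agent.KFlatLib.mapDCHomologyIso (ModuleCat.restrictScalars (algebraMap R A)) i).app K).symm)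
    exact hs
  · rintro ⟨⟨a₀, ha₀⟩, hfib⟩
    refine ⟨hK, ?_⟩
    obtain ⟨Mc, b, hb, hM, ⟨eM⟩⟩ := id hK
    have hH : ∀ i < a₀, Limits.IsZero (Mc.homology i) := fun i hi => by
      obtain ⟨eH⟩ := DRingTor.hd_iso eM i
      haveI := ha₀ i hi
      exact (ModuleCat.isZero_of_subsingleton (ModuleCat.of A (Dual.HD A K i))).of_iso eH.symm
    have hKF : DRingLTensor.IsKF ((DRing.restrictCx (algebraMap R A)).obj Mc) :=
      DRingTor.isKF_of_flat (Groth.Agent.PushAmp.termwiseFlat_restrict (algebraMap R A)
        (RingHom.flat_algebraMap_iff.2 inferInstance) Mc hM)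
        (fun i hi => (ModuleCat.restrictScalars (algebraMap R A)).map_isZero (hb i hi))
    let eR : DRing.toD ((DRing.restrictCx (algebraMap R A)).obj Mc) ≅ (DRing.restrictD (algebraMap R A)).obj K :=
      ((ModuleCat.restrictScalars (algebraMap R A)).mapDerivedCategoryFactors.app Mc).symm ≪≫
        (DRing.restrictD (algebraMap R A)).mapIso eM
    obtain ⟨a, a', hamp⟩ := Groth.Agent.PushAmp.exists_amp_of_bounded_fibres (R := R) Mc
      ⟨Mc, b, hb, hM, ⟨Iso.refl _⟩⟩ a₀ hH fun q _ => by
        let p : PrimeSpectrum R := ⟨q.comap (algebraMap R A), inferInstance⟩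
        obtain ⟨a, ha⟩ := hfib p
        let σ := Localization.localRingHom p.asIdeal q (algebraMap R A) rfl
        let Ay := Localization.AtPrime p.asIdeal
        let Bx := Localization.AtPrime q
        letI : Algebra Ay Bx := σ.toAlgebra
        haveI : IsScalarTower R Ay Bx := IsScalarTower.of_algebraMap_eq fun r => by
          rw [IsScalarTower.algebraMap_apply R A Bx]
          exact (Localization.localRingHom_to_map _ _ _ rfl r).symm
        haveI : Module.Flat A Bx := IsLocalization.flat _ q.primeCompl
        have hflat : (algebraMap R A).Flat := RingHom.flat_algebraMap_iff.2 inferInstance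
        have hN : DRing.TermwiseFiniteFree ((DRingLTensor.extC' (algebraMap A Bx)).obj Mc) := fun i =>
          DRingRestrict.finFree_extendScalars _ _ (hM i).1 (hM i).2
        refine ⟨a, Ay, Bx, inferInstance, inferInstance, inferInstance, inferInstance, inferInstance, inferInstance,
          inferInstance, σ, RingHom.ext fun r => Localization.localRingHom_to_map _ _ _ rfl r, _, ?_, Iso.refl _, ?_⟩
        · exact DRingTor.isKF_of_flat (Groth.Agent.PushAmp.termwiseFlat_restrict σ
            (RingHom.Flat.localRingHom hflat q p.asIdeal rfl) _ hN) (fun i hi =>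
              (ModuleCat.restrictScalars σ).map_isZero ((ModuleCat.extendScalars (algebraMap A Bx)).map_isZero (hb i hi)))
        · intro i hi
          refine Groth.Agent.PushAmp.exactAt_residue_of_fibre (R := R) p.asIdeal.primeCompl rfl rfl rfl Mc i ?_
          exact Groth.Agent.PushAmp.exactAt_extC_of_exact (A := R) (B := p.asIdeal.ResidueField) i
            (Groth.Agent.PushAmp.exact_lTensor_of_tensC _ i
              ((DRingTor.exactAt_tensC_iff _ hKF eR i).1 (ha i hi)))
    exact ⟨a, a', DRingTor.of_iso eR hamp⟩

end Groth.Agent.S7094
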