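import Groth.Statements.S7102
import Groth.Agent.H6RelPerf.Basic
import Groth.Agent.H9Misc.DRingLTensorCx

set_option linter.style.haveILetI false
set_option backward.isDefEq.respectTransparency false

set_option autoImplicit false
universe u
attribute [local instance] HasDerivedCategory.standard
open Dual2

namespace Groth.Agent.S7102

open CategoryTheory CategoryTheory.Limits MonoidalCategory
attribute [local instance] HasDerivedCategory.standard

section
variable {R A : Type u} [CommRing R] [CommRing A] [Algebra R A]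

open TensorProduct in
lemma flat_tensor_proj (X N : Type u) [AddCommGroup X] [Module A X] [Module R X] [IsScalarTower R A X]
    [Module.Flat R X] [AddCommGroup N] [Module A N] [Module.Finite A N] [Module.Projective A N] :
    Module.Flat R (X ⊗[A] N) := by
  classical
  obtain ⟨n, f, s, -, -, hfs⟩ := Module.Finite.exists_comp_eq_id_of_projective A N
  let e : (X ⊗[A] (Fin n → A)) ≃ₗ[R] (Fin n → X) := (TensorProduct.piScalarRight A A X (Fin n)).restrictScalars R
  haveI : Module.Flat R (Fin n → X) :=
    Module.Flat.of_linearEquiv (DirectSum.linearEquivFunOnFintype R (Fin n) (fun _ => X)).symm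
  haveI : Module.Flat R (X ⊗[A] (Fin n → A)) := (Module.Flat.equiv_iff e).2 inferInstance
  refine Module.Flat.of_retract ((s.lTensor X).restrictScalars R) ((f.lTensor X).restrictScalars R) ?_
  refine LinearMap.ext fun x => ?_
  exact LinearMap.congr_fun ((LinearMap.lTensor_comp X f s).symm.trans ((congrArg (LinearMap.lTensor X) hfs).trans (LinearMap.lTensor_id X N))) x

end

/-- Let R → A be a flat homomorphism of finite presentation of commutative rings, E a bounded cochain
complex of finite projective A-modules (a perfect object of D(A)) for which the derived functor −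
⊗^L_A E exists, and M an R-perfect object of D(A). Then M ⊗^L_A E is R-perfect. -/
theorem result (R A : Type u) [CommRing R] [CommRing A] [Algebra R A]
    [Module.Flat R A] [Algebra.FinitePresentation R A] (E : DRing.Cx A) (a b : ℤ)
    (hEb : DRing.VanishesOutside E a b) (hEp : DRing.TermwiseFiniteProjective E) [DRing.HasLTensorCx A E]
    (M : Dual.D A) (hM : Dual2.IsRelPerfect R A M) :
    Dual2.IsRelPerfect R A ((DRing.LTensorCx A E).obj M) := by
  open Groth.Agent.H9Misc Groth.Agent.KFlatLib in
  obtain ⟨X, c, d, hXz, hX, ⟨e⟩⟩ := Groth.Agent.H6RelPerf.exists_rep hM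
  have hEKF : DRingLTensor.IsKF E := DRingTor.isKF_of_flat
    (fun i => have := (hEp i).2; inferInstance) fun i hi => hEb i (Or.inr hi)
  refine ⟨DRingLTensorCx.isPseudoCoherent M hM.1 E
    ((DRingPerfect.isPerfect_iff _).1 ⟨E, a, b, hEb, hEp, ⟨Iso.refl _⟩⟩).1, ?_⟩
  let P := (ringCover A).P.obj X
  let ψ : P ⟶ X := (ringCover A).ψ.app X
  haveI : QuasiIso ψ := (ringCover A).quasiIso_ψ X
  haveI : IsIso (DerivedCategory.Q.map ψ) := (DerivedCategory.isIso_Q_map_iff_quasiIso _ _).2 inferInstance
  obtain ⟨e₁⟩ := DRingLTensorCx.nonempty_iso E (P := P) (kFlat_ringRes X)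
    (asIso (DerivedCategory.Q.map ψ) ≪≫ e)
  haveI h1 : QuasiIso (ψ ▷ E) := by
    have h := (quasiIso_iff_of_arrow_mk_iso _ _
      (((Functor.mapArrowFunctor _ _).mapIso (symmIso curriedTensorFlipIso E)).app (Arrow.mk ψ)))
    have hq := quasiIso_tensorHom_id ψ hEKF
    first
      | exact h.2 hq
      | exact h.1 hq
  haveI : IsIso (DerivedCategory.Q.map (ψ ▷ E)) := (DerivedCategory.isIso_Q_map_iff_quasiIso _ _).2 h1
  refine Groth.Agent.H6RelPerf.finiteTor_of_rep (X := X ⊗ E) (a := c + a) (b := d + b) (fun i hi => ?_) (fun i => ?_)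
    ((asIso (DerivedCategory.Q.map (ψ ▷ E))).symm ≪≫ e₁.symm)
  · rcases hi with hi | hi
    · exact DRingLTensorCx.vanishesBelow_tensor (fun i hi => hXz i (Or.inl hi)) (fun i hi => hEb i (Or.inl hi)) i hi
    · exact DRingLTensorCx.vanishesAbove_tensor (fun i hi => hXz i (Or.inr hi)) (fun i hi => hEb i (Or.inr hi)) i hi
  · obtain ⟨l⟩ := DRingLTensorCx.nonempty_linearEquiv_X X E i _
      (DRingLTensorCx.exists_finset i (fun i hi => hXz i (Or.inr hi)) (fun i hi => hEb i (Or.inr hi)))
    letI : ∀ p, Module R (X.X p ⊗ E.X (i - p) : ModuleCat.{u} A) := fun p => Module.compHom _ (algebraMap R A)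
    haveI : ∀ p : Finset.Icc (i - b) d, Module.Flat R (X.X p ⊗ E.X (i - p) : ModuleCat.{u} A) := fun p => by
      letI : Module R (X.X p) := Module.compHom _ (algebraMap R A)
      haveI : IsScalarTower R A (X.X p) := IsScalarTower.of_algebraMap_smul fun r x => rfl
      haveI : Module.Flat R (X.X p) := (hX p).2
      haveI := (hEp (i - p)).1
      haveI := (hEp (i - p)).2
      let l' : (X.X p ⊗ E.X (i - p) : ModuleCat.{u} A) ≃ₗ[R] TensorProduct A (X.X p) (E.X (i - p)) :=
        { toFun := fun x => x, invFun := fun x => x, map_add' := fun _ _ => rfl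
          map_smul' := fun r (x : TensorProduct A (X.X p) (E.X (i - p))) => IsScalarTower.algebraMap_smul A r x
          left_inv := fun _ => rfl, right_inv := fun _ => rfl }
      exact (Module.Flat.equiv_iff l').2 (flat_tensor_proj (X.X p) (E.X (i - p)))
    haveI : Module.Flat R ((p : Finset.Icc (i - b) d) → (X.X p ⊗ E.X (i - p) : ModuleCat.{u} A)) :=
      Module.Flat.of_linearEquiv (DirectSum.linearEquivFunOnFintype R (Finset.Icc (i - b) d)
        (fun p => ((X.X p ⊗ E.X (i - p) : ModuleCat.{u} A) : Type u))).symm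
    exact (Module.Flat.equiv_iff
      ({ l with map_smul' := fun r x => l.map_smul (algebraMap R A r) x } :
        ((ModuleCat.restrictScalars (algebraMap R A)).obj ((X ⊗ E).X i)) ≃ₗ[R]
          ((p : Finset.Icc (i - b) d) → (X.X p ⊗ E.X (i - p) : ModuleCat.{u} A)))).2 inferInstance

end Groth.Agent.S7102
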