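import Groth.Statements.S7104
import Groth.Agent.PushAmp.PolyFibre
import Groth.Agent.Codepth5.SkPoly
import Groth.Agent.FlatSyz5.PC

set_option autoImplicit false
set_option linter.style.haveILetI false
set_option synthInstance.maxHeartbeats 20000
set_option maxHeartbeats 400000
universe u
attribute [local instance] HasDerivedCategory.standard
open CategoryTheory
open Dual2

namespace Groth.Agent.S7104

/-- Let R be a commutative ring and A an R-algebra which is flat, of finite presentation, and a quotient
of the polynomial ring R[x_1, …, x_d]. Let q be a prime of A lying over the prime p of R, and K a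
pseudo-coherent object of D(A). Write K_q for the derived base change of K to A_q (assumed to exist)
and view it in D(R_p) and in D(R) by restriction of scalars. If the cohomology of K_q ⊗^L_{R_p} κ(p)
(derived tensor with the residue field, assumed to exist) vanishes outside the degrees in [a, b],
then K_q has tor amplitude in [a - d, b] as a complex of R-modules. -/
theorem result (R A : Type u) [CommRing R] [CommRing A] [Algebra R A]
    [Module.Flat R A] [Algebra.FinitePresentation R A] (d : ℕ)
    (ψ : MvPolynomial (Fin d) R →ₐ[R] A) (hψ : Function.Surjective ψ)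
    (q : Ideal A) [q.IsPrime] (p : Ideal R) [p.IsPrime] (hpq : p = Ideal.comap (algebraMap R A) q)
    [DRing.HasLBaseChange (algebraMap A (Localization.AtPrime q))]
    [DRing.HasLTensor (Localization.AtPrime p) (ModuleCat.of (Localization.AtPrime p) p.ResidueField)]
    (K : Dual.D A) (hK : DRing.IsPseudoCoherent' A K) (a b : ℤ)
    (hfib : ∀ i : ℤ, i < a ∨ b < i → Subsingleton (Dual.HD (Localization.AtPrime p)
      ((DRing.LTensor (Localization.AtPrime p) (ModuleCat.of (Localization.AtPrime p) p.ResidueField)).obj
        ((DRing.restrictD (Localization.localRingHom p q (algebraMap R A) hpq)).obj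
          ((DRing.LBaseChange (algebraMap A (Localization.AtPrime q))).obj K))) i)) :
    DRing.HasTorAmplitudeIn R (a - d) b
      ((DRing.restrictD (algebraMap R (Localization.AtPrime q))).obj
        ((DRing.LBaseChange (algebraMap A (Localization.AtPrime q))).obj K)) := by
  have hq' : p = (q.comap ψ.toRingHom).comap (algebraMap R (MvPolynomial (Fin d) R)) := by
    rw [hpq, Ideal.comap_comap]
    exact congrArg (fun t => Ideal.comap t q) ψ.comp_algebraMap.symm
  have hcomp : (Localization.localRingHom p q (algebraMap R A) hpq) =
      (Localization.localRingHom (q.comap ψ.toRingHom) q ψ.toRingHom rfl).comp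
        (Localization.localRingHom p (q.comap ψ.toRingHom) (algebraMap R (MvPolynomial (Fin d) R)) hq') := by
    rw [← Localization.localRingHom_comp]
    congr 1
    exact ψ.comp_algebraMap.symm
  letI : Algebra (MvPolynomial (Fin d) R) A := ψ.toRingHom.toAlgebra
  haveI : IsScalarTower R (MvPolynomial (Fin d) R) A := IsScalarTower.of_algebraMap_eq fun r => (ψ.commutes r).symm
  haveI : Module.FinitePresentation (MvPolynomial (Fin d) R) A := Module.finitePresentation_of_surjective
    (Algebra.linearMap (MvPolynomial (Fin d) R) A) hψ (Algebra.FinitePresentation.ker_fG_of_surjective ψ hψ)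
  have hA := Groth.Agent.FlatSyz5.pc' R (MvPolynomial (Fin d) R) A
  have hS : Algebra.algebraMapSubmonoid A (q.comap ψ.toRingHom).primeCompl = q.primeCompl := by
    ext a
    constructor
    · rintro ⟨x, hx, rfl⟩
      exact hx
    · intro ha
      obtain ⟨x, rfl⟩ := hψ a
      exact ⟨x, ha, rfl⟩
  haveI : IsLocalization (Algebra.algebraMapSubmonoid A (q.comap ψ.toRingHom).primeCompl)
      (Localization.AtPrime q) := hS.symm ▸ inferInstance
  have hθ := Groth.Agent.PushAmp.pcHom_localization (B := Localization.AtPrime (q.comap ψ.toRingHom))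
    (Aq := Localization.AtPrime q) hA (q.comap ψ.toRingHom).primeCompl
    (Localization.localRingHom (q.comap ψ.toRingHom) q ψ.toRingHom rfl)
    (RingHom.ext fun x => Localization.localRingHom_to_map (q.comap ψ.toRingHom) q ψ.toRingHom rfl x)
  obtain ⟨d', hd', hdim, -⟩ :=
    Groth.Agent.Codepth5.exists_dim_fibLocRing (⟨q.comap ψ.toRingHom, inferInstance⟩ : PrimeSpectrum _)
  haveI := Groth.Agent.Codepth5.isRegularLocalRing_fibLocRing
    (⟨q.comap ψ.toRingHom, inferInstance⟩ : PrimeSpectrum (MvPolynomial (Fin d) R))
  have hflatP : (algebraMap R (MvPolynomial (Fin d) R)).Flat := RingHom.flat_algebraMap_iff.2 inferInstance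
  let σB := Localization.localRingHom p (q.comap ψ.toRingHom) (algebraMap R (MvPolynomial (Fin d) R)) hq'
  letI : Algebra (Localization.AtPrime p) (Localization.AtPrime (q.comap ψ.toRingHom)) := σB.toAlgebra
  haveI : IsLocalHom (algebraMap (Localization.AtPrime p) (Localization.AtPrime (q.comap ψ.toRingHom))) :=
    Localization.isLocalHom_localRingHom p (q.comap ψ.toRingHom) _ hq'
  have hσflat : σB.Flat := RingHom.Flat.localRingHom hflatP (q.comap ψ.toRingHom) p hq'
  haveI : Module.Flat (Localization.AtPrime p) (Localization.AtPrime (q.comap ψ.toRingHom)) := hσflat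
  have hβ : σB.comp (algebraMap R (Localization.AtPrime p)) =
      (algebraMap (MvPolynomial (Fin d) R) (Localization.AtPrime (q.comap ψ.toRingHom))).comp
        (algebraMap R (MvPolynomial (Fin d) R)) :=
    RingHom.ext fun r => Localization.localRingHom_to_map p _ _ hq' r
  have hmap : (IsLocalRing.maximalIdeal (Localization.AtPrime p)).map σB =
      ((q.comap ψ.toRingHom).comap (algebraMap R (MvPolynomial (Fin d) R))).map
        (algebraMap R (Localization.AtPrime (q.comap ψ.toRingHom))) := by
    rw [← Localization.AtPrime.map_eq_maximalIdeal, Ideal.map_map, hβ, ← IsScalarTower.algebraMap_eq, ← hq']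
  obtain ⟨hreg, hdimF⟩ : IsRegularLocalRing ((Localization.AtPrime (q.comap ψ.toRingHom)) ⧸
        (IsLocalRing.maximalIdeal (Localization.AtPrime p)).map
          (algebraMap (Localization.AtPrime p) (Localization.AtPrime (q.comap ψ.toRingHom)))) ∧
      ringKrullDim ((Localization.AtPrime (q.comap ψ.toRingHom)) ⧸
        (IsLocalRing.maximalIdeal (Localization.AtPrime p)).map
          (algebraMap (Localization.AtPrime p) (Localization.AtPrime (q.comap ψ.toRingHom)))) = d' := by
    have key : ∀ I J : Ideal (Localization.AtPrime (q.comap ψ.toRingHom)), I = J →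
        IsRegularLocalRing (_ ⧸ I) → ringKrullDim (_ ⧸ I) = d' →
        IsRegularLocalRing (_ ⧸ J) ∧ ringKrullDim (_ ⧸ J) = d' := by
      rintro I J rfl h1 h2
      exact ⟨h1, h2⟩
    exact key _ _ hmap.symm ‹_› hdim
  haveI := hreg
  refine Groth.Agent.PushAmp.amp_base_of_fibre d d' hd' hdimF
    (Localization.localRingHom (q.comap ψ.toRingHom) q ψ.toRingHom rfl) hθ
    (Localization.localRingHom p q (algebraMap R A) hpq) hcomp
    ((algebraMap (MvPolynomial (Fin d) R) (Localization.AtPrime (q.comap ψ.toRingHom))).comp
      (algebraMap R (MvPolynomial (Fin d) R))) (hflatP.comp (RingHom.flat_algebraMap_iff.2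
        (IsLocalization.flat _ (q.comap ψ.toRingHom).primeCompl)))
    _ (RingHom.ext fun r => ?_) _ (Iso.refl _) _ (Groth.Agent.PushAmp.pc'_lbase _ hK) a b hfib
  show algebraMap R (Localization.AtPrime q) r = Localization.localRingHom (q.comap ψ.toRingHom) q ψ.toRingHom rfl
    (algebraMap (MvPolynomial (Fin d) R) _ (algebraMap R (MvPolynomial (Fin d) R) r))
  rw [Localization.localRingHom_to_map, IsScalarTower.algebraMap_apply R A (Localization.AtPrime q)]
  exact congrArg _ (ψ.commutes r).symm

end Groth.Agent.S7104
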