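import Groth.Statements.S7139
-- import your own Groth.Agent.* helpers here
import Groth.Agent.H4Inertia.Etale

set_option autoImplicit false
set_option linter.style.haveILetI false
universe u
open EtAlg

namespace Groth.Agent.S7139

/-- A is a discrete valuation ring, K its field of fractions, and L/K is finite Galois with Galois group
G. Write B for the integral closure of A in L, equipped with the induced G-action, m a maximal ideal
of B and I ⊆ G its inertia group. Denote by B' the integral closure of A inside the fixed field L^I,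
with a map to B compatible with L^I ⊆ L. Then the image of B' in B is the ring of invariants B^I,
and A → B'_{m'} is étale, where m' = m ∩ B'. -/
theorem result (A K L B : Type u) [CommRing A] [IsDomain A]
    [IsDiscreteValuationRing A] [Field K] [Field L] [Algebra A K] [IsFractionRing A K] [Algebra K L]
    [Algebra A L] [IsScalarTower A K L] [FiniteDimensional K L] [IsGalois K L]
    [CommRing B] [Algebra A B] [Algebra B L] [IsScalarTower A B L] [IsIntegralClosure B A L]
    [MulSemiringAction (L ≃ₐ[K] L) B]
    (hact : ∀ (σ : L ≃ₐ[K] L) (b : B), algebraMap B L (σ • b) = σ (algebraMap B L b))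
    (m : Ideal B) [m.IsMaximal]
    (B' : Type u) [CommRing B'] [Algebra A B'] [Algebra B' B] [IsScalarTower A B' B] [Algebra B' L]
    [IsScalarTower B' B L]
    [Algebra B' (IntermediateField.fixedField (m.inertia (L ≃ₐ[K] L)))]
    [IsScalarTower B' (IntermediateField.fixedField (m.inertia (L ≃ₐ[K] L))) L]
    [IsIntegralClosure B' A (IntermediateField.fixedField (m.inertia (L ≃ₐ[K] L)))] :
    (∀ b : B, (∀ σ ∈ m.inertia (L ≃ₐ[K] L), σ • b = b) ↔ b ∈ Set.range (algebraMap B' B)) ∧
      Algebra.Etale A (Localization.AtPrime (m.comap (algebraMap B' B))) := by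
  have hBL : Function.Injective (algebraMap B L) := IsIntegralClosure.algebraMap_injective B A L
  haveI : IsDomain B := hBL.isDomain
  haveI : IsDedekindDomain B := IsIntegralClosure.isDedekindDomain A K L B
  haveI : Module.Finite A B := IsIntegralClosure.finite A K L B
  haveI : IsFractionRing B L := IsIntegralClosure.isFractionRing_of_finite_extension A K L B
  haveI : SMulDistribClass (L ≃ₐ[K] L) B L := ⟨fun σ b x => by
    rw [Algebra.smul_def, Algebra.smul_def, hact]
    exact map_mul σ _ _⟩
  have hB'E : Function.Injective (algebraMap B' (IntermediateField.fixedField (m.inertia (L ≃ₐ[K] L)))) := IsIntegralClosure.algebraMap_injective B' A (IntermediateField.fixedField (m.inertia (L ≃ₐ[K] L)))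
  haveI : IsDomain B' := hB'E.isDomain
  haveI : IsScalarTower A B' (IntermediateField.fixedField (m.inertia (L ≃ₐ[K] L))) := IsScalarTower.of_algebraMap_eq fun a =>
    (algebraMap (IntermediateField.fixedField (m.inertia (L ≃ₐ[K] L))) L).injective (by
      rw [IsScalarTower.algebraMap_apply A K (IntermediateField.fixedField (m.inertia (L ≃ₐ[K] L))),
        ← IsScalarTower.algebraMap_apply K (IntermediateField.fixedField (m.inertia (L ≃ₐ[K] L))) L, ← IsScalarTower.algebraMap_apply A K L,
        ← IsScalarTower.algebraMap_apply B' (IntermediateField.fixedField (m.inertia (L ≃ₐ[K] L))) L,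
        IsScalarTower.algebraMap_apply B' B L, ← IsScalarTower.algebraMap_apply A B' B,
        ← IsScalarTower.algebraMap_apply A B L])
  haveI : IsDedekindDomain B' := IsIntegralClosure.isDedekindDomain A K (IntermediateField.fixedField (m.inertia (L ≃ₐ[K] L))) B'
  haveI : Module.Finite A B' := IsIntegralClosure.finite A K (IntermediateField.fixedField (m.inertia (L ≃ₐ[K] L))) B'
  haveI : IsFractionRing B' (IntermediateField.fixedField (m.inertia (L ≃ₐ[K] L))) := IsIntegralClosure.isFractionRing_of_finite_extension A K (IntermediateField.fixedField (m.inertia (L ≃ₐ[K] L))) B'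
  have hB'B : Function.Injective (algebraMap B' B) := fun x y h => hB'E ((algebraMap (IntermediateField.fixedField (m.inertia (L ≃ₐ[K] L))) L).injective (by
    rw [← IsScalarTower.algebraMap_apply, ← IsScalarTower.algebraMap_apply,
      IsScalarTower.algebraMap_apply B' B L, IsScalarTower.algebraMap_apply B' B L, h]))
  haveI : FaithfulSMul B' B := (faithfulSMul_iff_algebraMap_injective B' B).2 hB'B
  have hAB' : Function.Injective (algebraMap A B') := fun x y h => by
    have := congrArg (fun z => algebraMap B L (algebraMap B' B z)) h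
    simp only [← IsScalarTower.algebraMap_apply] at this
    rw [IsScalarTower.algebraMap_apply A K L, IsScalarTower.algebraMap_apply A K L] at this
    exact IsFractionRing.injective A K ((algebraMap K L).injective this)
  haveI : FaithfulSMul A B' := (faithfulSMul_iff_algebraMap_injective A B').2 hAB'
  haveI : FaithfulSMul A B := (faithfulSMul_iff_algebraMap_injective A B).2 (by
    rw [IsScalarTower.algebraMap_eq A B' B]
    exact hB'B.comp hAB')
  haveI : Module.IsTorsionFree A B' := Module.isTorsionFree_iff_faithfulSMul.2 inferInstance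
  haveI : Module.IsTorsionFree A B := Module.isTorsionFree_iff_faithfulSMul.2 inferInstance
  haveI : Module.IsTorsionFree B' B := Module.isTorsionFree_iff_faithfulSMul.2 inferInstance
  haveI : Module.Finite B' B := Module.Finite.of_restrictScalars_finite A B' B
  haveI : IsGaloisGroup (L ≃ₐ[K] L) A B := IsGaloisGroup.of_isFractionRing _ A B K L
  haveI : IsGaloisGroup (m.inertia (L ≃ₐ[K] L)) (IntermediateField.fixedField (m.inertia (L ≃ₐ[K] L))) L := IsGaloisGroup.subgroup (L ≃ₐ[K] L) K L (m.inertia (L ≃ₐ[K] L))
  haveI hI : IsGaloisGroup (m.inertia (L ≃ₐ[K] L)) B' B := IsGaloisGroup.of_isFractionRing _ B' B (IntermediateField.fixedField (m.inertia (L ≃ₐ[K] L))) L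
  refine ⟨fun b => ⟨fun h => ?_, ?_⟩, ?_⟩
  · obtain ⟨b', hb'⟩ := Algebra.IsInvariant.isInvariant (A := B') (G := (m.inertia (L ≃ₐ[K] L))) b fun σ => h σ.1 σ.2
    exact ⟨b', hb'⟩
  · rintro ⟨b', rfl⟩ σ hσ
    exact smul_algebraMap (⟨σ, hσ⟩ : (m.inertia (L ≃ₐ[K] L))) b'
  · haveI : (m.comap (algebraMap B' B)).IsMaximal := Ideal.isMaximal_comap_of_isIntegral_of_isMaximal m
    haveI : m.LiesOver (m.comap (algebraMap B' B)) := ⟨rfl⟩
    haveI : (m.comap (algebraMap B' B)).LiesOver (IsLocalRing.maximalIdeal A) :=
      ⟨(IsLocalRing.eq_maximalIdeal (Ideal.isMaximal_comap_of_isIntegral_of_isMaximal _)).symm⟩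
    haveI : m.LiesOver (IsLocalRing.maximalIdeal A) :=
      Ideal.LiesOver.trans m (m.comap (algebraMap B' B)) _
    obtain ⟨he, hsep⟩ := H4Inertia.ramificationIdx_eq_one_and_isSeparable A B' B (L ≃ₐ[K] L) (m.inertia (L ≃ₐ[K] L))
      (IsLocalRing.maximalIdeal A) (m.comap (algebraMap B' B)) m rfl
    exact H4Inertia.etale_localization A B' _ he hsep

end Groth.Agent.S7139
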