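import Groth.Statements.S7143
import Groth.Agent.WEtLib.Domain
import Mathlib
-- import your own Groth.Agent.* helpers here

set_option autoImplicit false
universe u
open CategoryTheory
open EtAlg

namespace Groth.Agent.S7143

/-- Every normal domain A with fraction field K is the fibre product V ×_L K for suitable rings V and L
with maps A → V, V → L, K → L (together with the given A → K), where every ideal of V is flat (weak
dimension at most one) and V → L is flat, injective and an epimorphism of rings. -/
theorem result (A K : Type u) [CommRing A] [IsDomain A] [Field K] [Algebra A K]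
    [IsFractionRing A K] [IsIntegrallyClosed A] :
    ∃ (V L : Type u) (_ : CommRing V) (_ : CommRing L) (f : A →+* V) (g : V →+* L) (h : K →+* L),
      g.comp f = h.comp (algebraMap A K) ∧
      (∀ I : Ideal V, Module.Flat V I) ∧ g.Flat ∧ Function.Injective g ∧ Epi (CommRingCat.ofHom g) ∧
      ∀ (v : V) (k : K), g v = h k → ∃! a : A, f a = v ∧ algebraMap A K a = k := by
  classical
  let ι := {V : ValuationSubring K // ∀ a, algebraMap A K a ∈ V}
  let P := ∀ i : ι, i.1
  let f : A →+* P := Pi.ringHom fun i => (algebraMap A K).codRestrict i.1 i.2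
  let Mn := (nonZeroDivisors A).map f
  have hf : ∀ a ∈ nonZeroDivisors A, ∀ i, f a i ≠ 0 := fun a ha i h =>
    nonZeroDivisors.ne_zero ha (IsFractionRing.injective A K
      ((congrArg Subtype.val h).trans (map_zero (algebraMap A K)).symm))
  have hMn : Mn ≤ nonZeroDivisors P := by
    rintro _ ⟨a, ha, rfl⟩
    rw [mem_nonZeroDivisors_iff_right]
    intro x hx
    funext i
    exact (mul_eq_zero.1 (congrFun hx i)).resolve_right (hf a ha i)
  let L := Localization Mn
  have hu : ∀ a : nonZeroDivisors A, IsUnit ((algebraMap P L).comp f (a : A)) := fun a =>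
    IsLocalization.map_units L (⟨f a, a.1, a.2, rfl⟩ : Mn)
  let h : K →+* L := IsLocalization.lift hu
  have hha : ∀ a, h (algebraMap A K a) = algebraMap P L (f a) := fun a => IsLocalization.lift_eq hu a
  have hg : Function.Injective (algebraMap P L) := IsLocalization.injective L hMn
  refine ⟨P, L, inferInstance, inferInstance, f, algebraMap P L, h,
    RingHom.ext fun a => (hha a).symm, fun I => (WEtLib.gcdSplit_pi fun i : ι => i.1).flat_submodule (M := P) I,
    ?_, hg, ?_, fun v k hvk => ?_⟩
  · rw [RingHom.flat_algebraMap_iff]
    exact IsLocalization.flat L Mn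
  · refine ⟨fun {Z} a b hab => ?_⟩
    exact CommRingCat.hom_ext (IsLocalization.ringHom_ext Mn (congrArg CommRingCat.Hom.hom hab))
  · obtain ⟨a, s, hs, rfl⟩ := IsFractionRing.div_surjective (A := A) k
    have hs0 : algebraMap A K s ≠ 0 := fun h0 =>
      nonZeroDivisors.ne_zero hs (IsFractionRing.injective A K (h0.trans (map_zero _).symm))
    have hv : v * f s = f a := hg (by
      rw [map_mul, hvk, ← hha, ← map_mul, div_mul_cancel₀ _ hs0, hha])
    have hk : ∀ i : ι, (v i : K) = algebraMap A K a / algebraMap A K s := fun i => by
      rw [eq_div_iff hs0]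
      exact congrArg Subtype.val (congrFun hv i)
    have hmem : algebraMap A K a / algebraMap A K s ∈ (algebraMap A K).range := by
      have h1 : algebraMap A K a / algebraMap A K s ∈ (⨅ V : {V : ValuationSubring K //
          Set.range (algebraMap A K) ⊆ (V.toSubring : Set K)}, V.1.toSubring) := by
        rw [Subring.mem_iInf]
        intro V
        exact hk ⟨V.1, fun a => V.2 ⟨a, rfl⟩⟩ ▸ (v ⟨V.1, fun a => V.2 ⟨a, rfl⟩⟩).2
      rw [iInf_valuationSubring_superset] at h1
      have h2 : IsIntegral A (algebraMap A K a / algebraMap A K s) := by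
        obtain ⟨q, hq, hq0⟩ := h1
        have hcl : Subring.closure (Set.range (algebraMap A K)) = (algebraMap A K).range := by
          rw [← RingHom.coe_range, Subring.closure_eq]
        have hlift : q.map (Subring.closure (Set.range (algebraMap A K))).subtype ∈
            Polynomial.lifts (algebraMap A K) := by
          refine (Polynomial.lifts_iff_coeff_lifts _).2 fun n => ?_
          rw [Polynomial.coeff_map]
          exact hcl.le (q.coeff n).2
        obtain ⟨r, hr, -, hrm⟩ := Polynomial.lifts_and_degree_eq_and_monic hlift (hq.map _)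
        refine ⟨r, hrm, ?_⟩
        rw [← Polynomial.eval_map, hr, Polynomial.eval_map]
        exact hq0
      exact IsIntegrallyClosed.isIntegral_iff.1 h2
    obtain ⟨b, hb⟩ := hmem
    exact ⟨b, ⟨funext fun i => Subtype.ext (hb.trans (hk i).symm), hb⟩,
      fun b' hb' => IsFractionRing.injective A K (hb'.2.trans hb.symm)⟩

end Groth.Agent.S7143
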