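import Groth.Statements.S7152
import Mathlib


set_option autoImplicit false
universe u
open EtAlg

namespace Groth.Agent.S7152

theorem exists_conductor (A' A : Type u) [CommRing A'] [CommRing A] [Algebra A' A] [Module.Finite A' A] (f : A')
    (hf : algebraMap A' A f ∈ nonZeroDivisors A)
    (hloc : Function.Surjective (IsLocalization.Away.map (Localization.Away f)
      (Localization.Away (algebraMap A' A f)) (algebraMap A' A) f)) :
    ∃ c : ℕ, ∀ a : A, ∃ i : A', algebraMap A' A i = algebraMap A' A f ^ c * a := by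
  classical
  set F := algebraMap A' A f with hF
  have key : ∀ a : A, ∃ k : ℕ, ∃ i : A', algebraMap A' A i = F ^ k * a := fun a => by
    obtain ⟨w, hw⟩ := hloc (algebraMap A (Localization.Away F) a)
    obtain ⟨k, r, hr⟩ := IsLocalization.Away.surj f w
    refine ⟨k, r, ?_⟩
    have h1 := congrArg (IsLocalization.Away.map (Localization.Away f) (Localization.Away F) (algebraMap A' A) f) hr
    rw [map_mul, map_pow, hw, IsLocalization.Away.map, IsLocalization.map_eq, IsLocalization.map_eq, ← map_pow,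
      ← map_mul] at h1
    have hinj : Function.Injective (algebraMap A (Localization.Away F)) :=
      IsLocalization.injective (Localization.Away F) (Submonoid.powers_le.2 hf)
    rw [← hinj h1, mul_comm]
  obtain ⟨s, hs⟩ := (Module.Finite.fg_top : (⊤ : Submodule A' A).FG)
  choose k hk using key
  refine ⟨∑ x ∈ s, k x, fun a => ?_⟩
  have ha : a ∈ Submodule.span A' (s : Set A) := by rw [hs]; trivial
  induction ha using Submodule.span_induction with
  | mem x hx =>
    obtain ⟨i, hi⟩ := hk x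
    refine ⟨f ^ (∑ y ∈ s.erase x, k y) * i, ?_⟩
    rw [map_mul, map_pow, hi, ← mul_assoc, ← pow_add, Finset.sum_erase_add s k hx]
  | zero => exact ⟨0, by simp⟩
  | add x y _ _ hx hy =>
    obtain ⟨i, hi⟩ := hx
    obtain ⟨j, hj⟩ := hy
    exact ⟨i + j, by rw [map_add, hi, hj, mul_add]⟩
  | smul r x _ hx =>
    obtain ⟨i, hi⟩ := hx
    exact ⟨r * i, by rw [map_mul, hi, Algebra.smul_def]; ring⟩

theorem core (A' A : Type u) [CommRing A'] [CommRing A] [Algebra A' A]
    (hinj : Function.Injective (algebraMap A' A)) [Module.Finite A' A] (f : A')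
    (hf : algebraMap A' A f ∈ nonZeroDivisors A) (c : ℕ)
    (hc : ∀ a : A, ∃ i : A', algebraMap A' A i = algebraMap A' A f ^ c * a) (n : ℕ) (hn : 2 * c + 1 ≤ n)
    (B' : Type u) [CommRing B'] (g : B') (hg : g ∈ nonZeroDivisors B')
    (φ' : (A' ⧸ Ideal.span {f ^ n}) ≃+* (B' ⧸ Ideal.span {g ^ n}))
    (hφ : φ' (Ideal.Quotient.mk (Ideal.span {f ^ n}) f) = Ideal.Quotient.mk (Ideal.span {g ^ n}) g) :
    ∃ (B : Type u) (_ : CommRing B) (_ : Algebra B' B),
      Function.Injective (algebraMap B' B) ∧ Module.Finite B' B ∧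
      ∃ φ : (A ⧸ Ideal.span {algebraMap A' A f}) ≃+* (B ⧸ Ideal.span {algebraMap B' B g}),
        ∀ (a' : A') (b' : B'),
          φ' (Ideal.Quotient.mk (Ideal.span {f ^ n}) a') = Ideal.Quotient.mk (Ideal.span {g ^ n}) b' →
          φ (Ideal.Quotient.mk (Ideal.span {algebraMap A' A f}) (algebraMap A' A a')) =
            Ideal.Quotient.mk (Ideal.span {algebraMap B' B g}) (algebraMap B' B b') := by
  classical
  obtain ⟨r, hr⟩ : ∃ r, n = c + c + (r + 1) := ⟨n - (2 * c + 1), by omega⟩
  set F := algebraMap A' A f with hF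
  let πA := Ideal.Quotient.mk (Ideal.span {f ^ n})
  let πB := Ideal.Quotient.mk (Ideal.span {g ^ n})
  let L := Localization.Away g
  let ι : B' →+* L := algebraMap B' L
  have hι : Function.Injective ι := IsLocalization.injective L (Submonoid.powers_le.2 hg)
  have hgL : IsUnit (ι g ^ c) := (IsLocalization.Away.algebraMap_isUnit g).pow c
  have hpow : ∀ k, φ' (πA (f ^ k)) = πB (g ^ k) := fun k => by
    rw [map_pow, map_pow, hφ, ← map_pow]
  have hres : ∀ i : A', ∃ j : B', φ' (πA i) = πB j := fun i => by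
    obtain ⟨j, hj⟩ := Ideal.Quotient.mk_surjective (φ' (πA i))
    exact ⟨j, hj.symm⟩
  have hlift : ∀ j : B', ∃ i : A', φ' (πA i) = πB j := fun j => by
    obtain ⟨i, hi⟩ := Ideal.Quotient.mk_surjective (φ'.symm (πB j))
    exact ⟨i, by show φ' (Ideal.Quotient.mk _ i) = _; rw [hi, RingEquiv.apply_symm_apply]⟩
  let Rel : A → L → Prop := fun a x => ∃ (i : A') (j : B'),
    algebraMap A' A i = F ^ c * a ∧ φ' (πA i) = πB j ∧ x * ι g ^ c = ι j
  have hrel : ∀ a, ∃ x, Rel a x := fun a => by
    obtain ⟨i, hi⟩ := hc a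
    obtain ⟨j, hj⟩ := hres i
    exact ⟨ι j * ↑hgL.unit⁻¹, i, j, hi, hj, by rw [mul_assoc, IsUnit.val_inv_mul hgL, mul_one]⟩
  have hadd : ∀ {a b x y}, Rel a x → Rel b y → Rel (a + b) (x + y) := by
    rintro a b x y ⟨i, j, hi, hij, hx⟩ ⟨i', j', hi', hij', hy⟩
    exact ⟨i + i', j + j', by rw [map_add, hi, hi', mul_add], by rw [map_add, map_add, hij, hij', map_add],
      by rw [add_mul, hx, hy, map_add]⟩
  have hsc : ∀ {a x} (s : A') (t : B'), φ' (πA s) = πB t → Rel a x → Rel (algebraMap A' A s * a) (ι t * x) := by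
    rintro a x s t hst ⟨i, j, hi, hij, hx⟩
    exact ⟨s * i, t * j, by rw [map_mul, hi]; ring, by rw [map_mul, map_mul, hij, hst, map_mul],
      by rw [mul_assoc, hx, map_mul]⟩
  have hbase : ∀ (s : A') (t : B'), φ' (πA s) = πB t → Rel (algebraMap A' A s) (ι t) := fun s t hst =>
    ⟨f ^ c * s, g ^ c * t, by rw [map_mul, map_pow], by rw [map_mul, map_mul, hpow, hst, map_mul],
      by rw [map_mul, map_pow, mul_comm]⟩
  have hdiv : ∀ z : B', ∀ i : A', φ' (πA i) = πB z → πB z = 0 → ∃ w, i = f ^ n * w := fun z i h h0 => by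
    rw [h0, map_eq_zero_iff φ' φ'.injective, Ideal.Quotient.eq_zero_iff_mem, Ideal.mem_span_singleton] at h
    exact h
  -- the `A`-coordinate of an element is well defined modulo `f`
  have huniq : ∀ {a b x}, Rel a x → Rel b x → a - b ∈ Ideal.span {F} := by
    rintro a b x ⟨i, j, hi, hij, hx⟩ ⟨i', j', hi', hij', hx'⟩
    have hj : j = j' := hι (hx ▸ hx')
    obtain ⟨w, hw⟩ := hdiv (j - j') (i - i') (by rw [map_sub, map_sub, hij, hij', map_sub]) (by rw [hj, sub_self, map_zero])
    have h1 := congrArg (algebraMap A' A) hw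
    rw [map_sub, hi, hi', map_mul, map_pow, ← mul_sub, hr, add_assoc, pow_add _ c, mul_assoc] at h1
    have h2 := (mul_cancel_left_mem_nonZeroDivisors (pow_mem hf c)).1 h1
    refine Ideal.mem_span_singleton.2 ⟨F ^ (c + r) * algebraMap A' A w, ?_⟩
    rw [h2, ← add_assoc, pow_succ']; ring
  -- elements related to multiples of `g ^ (n - c)`
  have hsmall : ∀ w : B', ∃ a : A, Rel (F * a) (ι (g ^ (c + r + 1) * w)) := fun w => by
    obtain ⟨v, hv⟩ := hlift w
    refine ⟨F ^ (c + r) * algebraMap A' A v, ?_⟩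
    have := hbase (f ^ (c + r + 1) * v) (g ^ (c + r + 1) * w) (by rw [map_mul, map_mul, hpow, hv, map_mul])
    rw [map_mul, map_pow, ← hF, pow_succ', mul_assoc] at this
    exact this
  have hclose : ∀ {a x y}, Rel a x → (∃ i j, algebraMap A' A i = F ^ c * a ∧ φ' (πA i) = πB j ∧ y * ι g ^ c = ι j) →
      ∃ w, x - y = ι (g ^ (c + r + 1) * w) := by
    rintro a x y ⟨i, j, hi, hij, hx⟩ ⟨i', j', hi', hij', hy⟩
    have hii : i = i' := hinj (hi.trans hi'.symm)
    subst hii
    obtain ⟨w, hw⟩ := Ideal.mem_span_singleton.1 (Ideal.Quotient.eq.1 (hij.symm.trans hij'))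
    refine ⟨w, hgL.mul_left_injective ?_⟩
    show (x - y) * ι g ^ c = _ * ι g ^ c
    rw [sub_mul, hx, hy, ← map_sub, hw, hr, ← map_pow, ← map_mul]
    congr 1
    ring
  let B : Subalgebra B' L :=
    { carrier := {x | ∃ a, Rel a x}
      add_mem' := fun ⟨a, ha⟩ ⟨b, hb⟩ => ⟨a + b, hadd ha hb⟩
      mul_mem' := by
        rintro x y ⟨a, i, j, hi, hij, hx⟩ ⟨b, i', j', hi', hij', hy⟩
        obtain ⟨i₂, hi₂⟩ := hc (a * b)
        obtain ⟨j₂, hj₂⟩ := hres i₂
        have he : f ^ c * i₂ = i * i' := hinj (by rw [map_mul, map_mul, map_pow, hi₂, hi, hi']; ring)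
        have h2 : πB (g ^ c * j₂) = πB (j * j') := by
          rw [map_mul, map_mul, ← hpow, ← hj₂, ← hij, ← hij', ← map_mul, ← map_mul, ← map_mul, ← map_mul, he]
        obtain ⟨w, hw⟩ := Ideal.mem_span_singleton.1 (Ideal.Quotient.eq.1 h2.symm)
        obtain ⟨a', ha'⟩ := hsmall (0 : B')
        obtain ⟨v, hv⟩ := hlift w
        refine ⟨a * b + F ^ (r + 1) * algebraMap A' A v, i₂ + f ^ (c + r + 1) * v, j₂ + g ^ (c + r + 1) * w,
          by rw [map_add, map_mul, map_pow, hi₂]; ring, by rw [map_add, map_mul, map_add, map_mul, hpow, hj₂, hv, map_add, map_mul],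
          hgL.mul_left_injective ?_⟩
        show x * y * ι g ^ c * ι g ^ c = ι _ * ι g ^ c
        rw [show x * y * ι g ^ c * ι g ^ c = (x * ι g ^ c) * (y * ι g ^ c) by ring, hx, hy, ← map_mul, ← map_pow,
          ← map_mul]
        congr 1
        rw [hr] at hw
        linear_combination hw
      algebraMap_mem' := fun t => by
        obtain ⟨s, hs⟩ := hlift t
        exact ⟨_, hbase s t hs⟩ }
  have hgB : algebraMap B' B g = ⟨ι g, B.algebraMap_mem g⟩ := rfl
  choose aOf haOf using fun x : B => x.2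
  let q := Ideal.Quotient.mk (Ideal.span {F})
  have hq : ∀ {a} (x : B), Rel a x → q (aOf x) = q a := fun x ha => Ideal.Quotient.eq.2 (huniq (haOf x) ha)
  let Ψ : B →+* A ⧸ Ideal.span {F} :=
    { toFun := fun x => q (aOf x)
      map_one' := (hq 1 (by
        have := hbase 1 1 (by rw [map_one, map_one, map_one])
        rw [map_one, map_one] at this
        exact this)).trans (map_one q)
      map_mul' := fun x y => by
        obtain ⟨a, i, j, hi, hij, hx⟩ := x.2
        obtain ⟨b, i', j', hi', hij', hy⟩ := y.2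
        obtain ⟨p, i₂, j₂, hi₂, hij₂, hxy⟩ := (x * y).2
        rw [hq x ⟨i, j, hi, hij, hx⟩, hq y ⟨i', j', hi', hij', hy⟩, hq (x * y) ⟨i₂, j₂, hi₂, hij₂, hxy⟩, ← map_mul]
        refine Ideal.Quotient.eq.2 ?_
        have h1 : g ^ c * j₂ = j * j' := hι (by
          rw [map_mul, map_mul, map_pow, ← hxy, ← hx, ← hy, Subalgebra.coe_mul]; ring)
        obtain ⟨w, hw⟩ := hdiv (g ^ c * j₂ - j * j') (f ^ c * i₂ - i * i')
          (by rw [map_sub, map_mul, map_mul, map_sub, map_mul, map_mul, hpow, hij₂, hij, hij', map_sub, map_mul, map_mul])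
          (by rw [h1, sub_self, map_zero])
        have h3 := congrArg (algebraMap A' A) hw
        rw [map_sub, map_mul, map_mul, map_mul, map_pow, map_pow, hi₂, hi, hi', hr, pow_add _ (c + c)] at h3
        have h4 : F ^ (c + c) * (p - a * b) = F ^ (c + c) * (F ^ (r + 1) * algebraMap A' A w) := by
          rw [← mul_assoc, ← h3]; ring
        refine Ideal.mem_span_singleton.2 ⟨F ^ r * algebraMap A' A w, ?_⟩
        rw [(mul_cancel_left_mem_nonZeroDivisors (pow_mem hf (c + c))).1 h4, pow_succ']; ring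
      map_zero' := (hq 0 (by
        have := hbase 0 0 (by rw [map_zero, map_zero, map_zero])
        rw [map_zero, map_zero] at this
        exact this)).trans (map_zero q)
      map_add' := fun x y => (hq (x + y) (hadd (haOf x) (haOf y))).trans (map_add q _ _) }
  have hΨ : Function.Surjective Ψ := fun z => by
    obtain ⟨a, rfl⟩ := Ideal.Quotient.mk_surjective z
    obtain ⟨x, hx⟩ := hrel a
    exact ⟨⟨x, a, hx⟩, hq _ hx⟩
  have hker : RingHom.ker Ψ = Ideal.span {algebraMap B' B g} := by
    refine le_antisymm (fun x hx => ?_) ((Ideal.span_singleton_le_iff_mem _).2 ?_)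
    · have hx' : aOf x ∈ Ideal.span {F} := Ideal.Quotient.eq_zero_iff_mem.1 hx
      obtain ⟨a₁, ha₁⟩ := Ideal.mem_span_singleton.1 hx'
      obtain ⟨x₁, hx₁⟩ := hrel a₁
      have h2 : Rel (aOf x) (ι g * x₁) := ha₁ ▸ hsc f g hφ hx₁
      obtain ⟨w, hw⟩ := hclose (haOf x) h2
      refine Ideal.mem_span_singleton.2 ⟨⟨x₁, a₁, hx₁⟩ + algebraMap B' B (g ^ (c + r) * w), Subtype.ext ?_⟩
      show (x : L) = ι g * (x₁ + ι (g ^ (c + r) * w))
      rw [mul_add, ← map_mul, ← mul_assoc, ← pow_succ', ← hw]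
      ring
    · show Ψ _ = 0
      refine (hq _ (hbase f g hφ)).trans (Ideal.Quotient.eq_zero_iff_mem.2 (Ideal.mem_span_singleton_self _))
  obtain ⟨s, hs⟩ := (Module.Finite.fg_top : (⊤ : Submodule A' A).FG)
  choose xs hxs using hrel
  have hfin : Module.Finite B' B := by
    refine ⟨⟨insert 1 (s.image fun a => (⟨xs a, a, hxs a⟩ : B)), eq_top_iff.2 ?_⟩⟩
    rintro x -
    let M := Submodule.span B' (↑(insert (1 : B) (s.image fun a => (⟨xs a, a, hxs a⟩ : B))) : Set B)
    have hM : ∀ a : A, ∃ y : B, y ∈ M ∧ Rel a y := fun a => by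
      have ha : a ∈ Submodule.span A' (s : Set A) := by rw [hs]; trivial
      induction ha using Submodule.span_induction with
      | mem z hz => exact ⟨⟨xs z, z, hxs z⟩, Submodule.subset_span (by simp [Finset.coe_insert, Finset.coe_image]; exact Or.inr ⟨z, hz, rfl⟩), hxs z⟩
      | zero =>
        refine ⟨0, zero_mem _, ?_⟩
        have := hbase 0 0 (by rw [map_zero, map_zero, map_zero])
        rw [map_zero, map_zero] at this
        exact this
      | add z w _ _ hz hw =>
        obtain ⟨y, hy, hzy⟩ := hz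
        obtain ⟨y', hy', hwy⟩ := hw
        exact ⟨y + y', add_mem hy hy', hadd hzy hwy⟩
      | smul t z _ hz =>
        obtain ⟨y, hy, hzy⟩ := hz
        obtain ⟨t', ht'⟩ := hres t
        refine ⟨t' • y, M.smul_mem _ hy, ?_⟩
        rw [Algebra.smul_def, Algebra.smul_def]
        exact hsc t t' ht' hzy
    obtain ⟨y, hy, hay⟩ := hM (aOf x)
    obtain ⟨w, hw⟩ := hclose (haOf x) hay
    have : x = y + (g ^ (c + r + 1) * w) • (1 : B) := Subtype.ext (by
      rw [Subalgebra.coe_add, Subalgebra.coe_smul, Subalgebra.coe_one, Algebra.smul_def, mul_one]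
      rw [← hw]; ring)
    rw [this]
    exact add_mem hy (M.smul_mem _ (Submodule.subset_span (Finset.mem_insert_self _ _)))
  refine ⟨B, inferInstance, inferInstance, fun a b h => hι (congrArg Subtype.val h), hfin,
    ((Ideal.quotEquivOfEq hker.symm).trans (RingHom.quotientKerEquivOfSurjective hΨ)).symm, fun a' b' h => ?_⟩
  rw [RingEquiv.symm_apply_eq]
  exact ((hq (algebraMap B' B b') (hbase a' b' h))).symm

end Groth.Agent.S7152

namespace Groth.Agent.S7152

/-- Let A' ⊆ A be an extension of rings and f an element of A'. Assume A is finite over A', f is a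
nonzerodivisor on A, and A'_f = A_f. Then there is n₀ > 0 such that for all n ≥ n₀ the following
holds: given a ring B', a nonzerodivisor g of B' and an isomorphism φ' : A'/fⁿA' → B'/gⁿB' sending
the class of f to the class of g, one can find a ring B containing B' as a subring and finite as a
B'-module, together with a ring isomorphism φ : A/fA → B/gB that agrees with φ' (i.e. the square
formed by the maps A'/fⁿA' → A/fA and B'/gⁿB' → B/gB commutes). -/
theorem result (A' A : Type u) [CommRing A'] [CommRing A] [Algebra A' A]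
    (hinj : Function.Injective (algebraMap A' A)) [Module.Finite A' A] (f : A')
    (hf : algebraMap A' A f ∈ nonZeroDivisors A)
    (hloc : Function.Bijective (IsLocalization.Away.map (Localization.Away f)
      (Localization.Away (algebraMap A' A f)) (algebraMap A' A) f)) :
    ∃ n₀ : ℕ, 0 < n₀ ∧ ∀ n : ℕ, n₀ ≤ n →
      ∀ (B' : Type u) [CommRing B'] (g : B'), g ∈ nonZeroDivisors B' →
        ∀ φ' : (A' ⧸ Ideal.span {f ^ n}) ≃+* (B' ⧸ Ideal.span {g ^ n}),
        φ' (Ideal.Quotient.mk (Ideal.span {f ^ n}) f) = Ideal.Quotient.mk (Ideal.span {g ^ n}) g →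
        ∃ (B : Type u) (_ : CommRing B) (_ : Algebra B' B),
          Function.Injective (algebraMap B' B) ∧ Module.Finite B' B ∧
          ∃ φ : (A ⧸ Ideal.span {algebraMap A' A f}) ≃+* (B ⧸ Ideal.span {algebraMap B' B g}),
            ∀ (a' : A') (b' : B'),
              φ' (Ideal.Quotient.mk (Ideal.span {f ^ n}) a') = Ideal.Quotient.mk (Ideal.span {g ^ n}) b' →
              φ (Ideal.Quotient.mk (Ideal.span {algebraMap A' A f}) (algebraMap A' A a')) =
                Ideal.Quotient.mk (Ideal.span {algebraMap B' B g}) (algebraMap B' B b') := by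
  obtain ⟨c, hc⟩ := exists_conductor A' A f hf hloc.2
  exact ⟨2 * c + 1, Nat.succ_pos _, fun n hn B' _ g hg φ' hφ => core A' A hinj f hf c hc n hn B' g hg φ' hφ⟩

end Groth.Agent.S7152
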