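import Groth.Statements.S7157
import Mathlib
-- import your own Groth.Agent.* helpers here

set_option autoImplicit false
universe u
open Polynomial
open EtAlg

namespace Groth.Agent.S7157

theorem totallyRamified_of_uniformizer {A : Type u} [CommRing A] [IsLocalRing A] (π : A)
    (hπ : IsLocalRing.maximalIdeal A = Ideal.span {π}) {B : Type u} [CommRing B] [IsDomain B]
    [IsDiscreteValuationRing B] [Algebra A B] (r : B) (hr : IsLocalRing.maximalIdeal B = Ideal.span {r})
    (n : ℕ) (hn : n ≠ 0) (u : Bˣ) (hrn : r ^ n = algebraMap A B π * u) [Algebra.IsIntegral A B]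
    (hsplit : ∀ b : B, ∃ a : A, ∃ b' : B, b = algebraMap A B a + r * b')
    (K₁ : Type u) [Field K₁] [Algebra B K₁] [IsFractionRing B K₁] :
    EtRam.IsTotallyRamified A ((algebraMap B K₁).comp (algebraMap A B)) := by
  set g := (algebraMap B K₁).comp (algebraMap A B)
  have hrπ : algebraMap B K₁ r ^ n * algebraMap B K₁ (↑u⁻¹ : B) = g π := by
    rw [← map_pow, ← map_mul, hrn, Units.mul_inv_cancel_right]; rfl
  have hr0 : algebraMap B K₁ r ≠ 0 := by
    rw [Ne, IsFractionRing.to_map_eq_zero_iff]
    intro h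
    exact IsDiscreteValuationRing.not_a_field B (by rw [hr, h]; simp)
  have inj := IsFractionRing.injective B K₁
  let V₀ : ValuationSubring K₁ :=
    ⟨(algebraMap B K₁).range, fun x => by
      rcases ValuationRing.isInteger_or_isInteger B x with ⟨b, hb⟩ | ⟨b, hb⟩
      · exact Or.inl ⟨b, hb⟩
      · exact Or.inr ⟨b, hb⟩⟩
  have hmem : ∀ x, x ∈ V₀ ↔ ∃ b, algebraMap B K₁ b = x := fun x => Iff.rfl
  -- everything dominating `A` is `V₀`
  have huniq : ∀ V : ValuationSubring K₁, EtRam.Dominates A g V →
      V.valuation (algebraMap B K₁ r) < 1 ∧ V = V₀ := by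
    intro V hV
    have hπV := hV.2 π (hπ ▸ Ideal.mem_span_singleton_self π)
    have hB : ∀ b, algebraMap B K₁ b ∈ V := by
      intro b
      obtain ⟨P, hP, hPb⟩ := Algebra.IsIntegral.isIntegral (R := A) b
      let g' : A →+* V := g.codRestrict V hV.1
      have : IsIntegral V (algebraMap B K₁ b) := by
        refine ⟨P.map g', hP.map g', ?_⟩
        rw [eval₂_map]
        have : (algebraMap V K₁).comp g' = (algebraMap B K₁).comp (algebraMap A B) := RingHom.ext fun _ => rfl
        rw [this, ← hom_eval₂, hPb, map_zero]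
      obtain ⟨v, hv⟩ := IsIntegrallyClosed.isIntegral_iff.1 this
      rw [← hv]; exact v.2
    have hrV : V.valuation (algebraMap B K₁ r) < 1 := by
      by_contra hlt
      rw [not_lt] at hlt
      have h1 : V.valuation (algebraMap B K₁ r) ^ n =
          V.valuation (g π) * V.valuation (algebraMap B K₁ (u : B)) := by
        rw [← hrπ, ← map_mul, mul_assoc, ← map_mul, Units.inv_mul, map_one, mul_one, map_pow]
      have h2 := one_le_pow₀ (n := n) hlt
      rw [h1] at h2
      exact (mul_lt_one_of_lt_of_le hπV ((V.valuation_le_one_iff _).2 (hB u))).not_ge h2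
    refine ⟨hrV, ?_⟩
    ext x
    refine ⟨fun hx => ?_, fun ⟨b, hb⟩ => hb ▸ hB b⟩
    rcases ValuationRing.isInteger_or_isInteger B x with ⟨b, hb⟩ | ⟨b, hb⟩
    · exact ⟨b, hb⟩
    rcases eq_or_ne x 0 with rfl | hx0
    · exact zero_mem V₀
    by_cases hu : IsUnit b
    · obtain ⟨u, rfl⟩ := hu
      refine ⟨↑u⁻¹, ?_⟩
      rw [map_units_inv, hb, inv_inv]
    · exfalso
      have hbm : b ∈ Ideal.span {r} := hr ▸ (IsLocalRing.mem_maximalIdeal b).2 hu
      obtain ⟨c, rfl⟩ := Ideal.mem_span_singleton.1 hbm
      have h1 : algebraMap B K₁ r * (algebraMap B K₁ c * x) = 1 := by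
        rw [← mul_assoc, ← map_mul, hb, inv_mul_cancel₀ hx0]
      have h2 := congrArg V.valuation h1
      rw [map_mul, map_one] at h2
      have h3 : V.valuation (algebraMap B K₁ c * x) ≤ 1 :=
        (V.valuation_le_one_iff _).2 (mul_mem (hB c) hx)
      exact absurd h2 (ne_of_lt (mul_lt_one_of_lt_of_le hrV h3))
  refine ⟨⟨V₀, fun a => ⟨algebraMap A B a, rfl⟩, fun a ha => ?_⟩, fun V V' h h' =>
    (huniq V h).2.trans (huniq V' h').2.symm, fun V hV x => ?_⟩
  · rw [hπ, Ideal.mem_span_singleton] at ha
    obtain ⟨c, rfl⟩ := ha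
    have hrlt : V₀.valuation (algebraMap B K₁ r) < 1 := by
      let r' : V₀ := ⟨_, r, rfl⟩
      refine (V₀.valuation_lt_one_iff r').1 ((IsLocalRing.mem_maximalIdeal _).2 fun hu => ?_)
      obtain ⟨⟨y, b, rfl⟩, hy⟩ := hu.exists_left_inv
      have : algebraMap B K₁ (b * r) = algebraMap B K₁ 1 := by
        rw [map_mul, map_one]; exact congrArg Subtype.val hy
      exact (IsLocalRing.mem_maximalIdeal r).1 (hr ▸ Ideal.mem_span_singleton_self r)
        (IsUnit.of_mul_eq_one_right _ (inj this))
    rw [map_mul, map_mul, ← hrπ, map_mul, map_pow]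
    exact mul_lt_one_of_lt_of_le (mul_lt_one_of_lt_of_le (pow_lt_one₀ zero_le hrlt hn)
      ((V₀.valuation_le_one_iff _).2 ⟨_, rfl⟩)) ((V₀.valuation_le_one_iff _).2 ⟨algebraMap A B c, rfl⟩)
  · obtain ⟨hrV, e⟩ := huniq V hV
    obtain ⟨⟨v, hv⟩, rfl⟩ := IsLocalRing.residue_surjective x
    obtain ⟨b, rfl⟩ := (hmem v).1 (e ▸ hv)
    obtain ⟨a, b', rfl⟩ := hsplit b
    refine ⟨a, ?_⟩
    have hmemV : ∀ c, algebraMap B K₁ c ∈ V := fun c => by
      rw [e]; exact ⟨c, rfl⟩
    symm
    rw [← sub_eq_zero, ← map_sub, IsLocalRing.residue_eq_zero_iff, V.valuation_lt_one_iff]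
    have : ((⟨_, hv⟩ - RingHom.codRestrict g V hV.1 a : V) : K₁) = algebraMap B K₁ r * algebraMap B K₁ b' := by
      push_cast
      simp [g, RingHom.codRestrict]
    rw [this, map_mul]
    exact mul_lt_one_of_lt_of_le hrV ((V.valuation_le_one_iff _).2 (hmemV b'))

/-- Let A be a discrete valuation ring, π a uniformizer, K its field of fractions, and suppose the
residue field of A has characteristic p > 0. For every n > 1 and every power q of p there is a
separable degree-q extension L/K that is totally ramified with respect to A and whose ring of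
integers B (the integral closure of A in L) contains elements π_B, b, b' with π_B^q = π + πⁿ·b and
π_B^q = π + π_B^(nq)·b' (π_B is then a uniformizer of B and the ramification index is q). -/
theorem result (p : ℕ) (hp : p.Prime) (A K : Type u)
    [CommRing A] [IsDomain A] [IsDiscreteValuationRing A] [Field K] [Algebra A K] [IsFractionRing A K]
    [CharP (IsLocalRing.ResidueField A) p] (π : A) (hπ : IsLocalRing.maximalIdeal A = Ideal.span {π})
    (n : ℕ) (hn : 1 < n) (k : ℕ) :
    ∃ (L : Type u) (_ : Field L) (_ : Algebra K L) (_ : Algebra A L) (_ : IsScalarTower A K L),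
      Module.finrank K L = p ^ k ∧ Algebra.IsSeparable K L ∧ EtRam.IsTotallyRamified A (algebraMap A L) ∧
      ∃ πB b b' : L, πB ∈ integralClosure A L ∧ b ∈ integralClosure A L ∧ b' ∈ integralClosure A L ∧
        πB ^ (p ^ k) = algebraMap A L π + algebraMap A L π ^ n * b ∧
        πB ^ (p ^ k) = algebraMap A L π + πB ^ (n * p ^ k) * b' := by
  classical
  have hπirr : Irreducible π := (IsDiscreteValuationRing.irreducible_iff_uniformizer π).2 hπ
  rcases Nat.eq_zero_or_pos k with rfl | hk
  · refine ⟨K, inferInstance, inferInstance, inferInstance, inferInstance, by rw [pow_zero]; exact Module.finrank_self K,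
      inferInstance, ?_, algebraMap A K π, 0, 0, isIntegral_algebraMap, zero_mem _, zero_mem _, by simp, by simp⟩
    have h := totallyRamified_of_uniformizer (A := A) π hπ (B := A) π hπ 1 one_ne_zero 1 (by simp)
      (fun b => ⟨b, 0, by simp⟩) K
    simpa using h
  set q := p ^ k with hq
  have hq2 : 2 ≤ q := hp.two_le.trans (Nat.le_self_pow hk.ne' p)
  have hπm : π ∈ IsLocalRing.maximalIdeal A := hπ ▸ Ideal.mem_span_singleton_self π
  set f : A[X] := X ^ q + (C (π ^ n) * X - C π) with hf
  have hcoeff : ∀ i, i ≠ q → f.coeff i = (if i = 1 then π ^ n else 0) - (if i = 0 then π else 0) := by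
    intro i hi
    rw [hf, coeff_add, coeff_X_pow, if_neg hi, zero_add, coeff_sub, coeff_C, coeff_C_mul, coeff_X]
    simp [eq_comm]
  have hdeg1 : (C (π ^ n) * X - C π).natDegree ≤ 1 := by compute_degree
  have hlt : (C (π ^ n) * X - C π).degree < (q : WithBot ℕ) :=
    (degree_le_natDegree.trans (WithBot.coe_le_coe.2 hdeg1)).trans_lt (by exact_mod_cast (show 1 < q by omega))
  have hmonic : f.Monic := monic_X_pow_add hlt
  have hdeg : f.natDegree = q := natDegree_eq_of_degree_eq_some (by
    rw [hf, degree_add_eq_left_of_degree_lt (by rwa [degree_X_pow]), degree_X_pow])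
  have heis : f.IsEisensteinAt (IsLocalRing.maximalIdeal A) := by
    refine hmonic.isEisensteinAt_of_mem_of_notMem (Ideal.IsPrime.ne_top inferInstance) (fun {i} hi => ?_) ?_
    · rw [hcoeff i (by omega)]
      refine sub_mem ?_ ?_
      · split
        · exact Ideal.pow_mem_of_mem _ hπm n (by omega)
        · exact zero_mem _
      · split
        · exact hπm
        · exact zero_mem _
    · rw [hcoeff 0 (by omega), if_neg (by omega), if_pos rfl, zero_sub, neg_mem_iff, hπ,
        Ideal.span_singleton_pow, Ideal.mem_span_singleton]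
      intro ⟨c, hc⟩
      have h1 : π * (π * c) = π * 1 := by rw [mul_one, ← mul_assoc, ← sq]; exact hc.symm
      exact hπirr.not_isUnit (IsUnit.of_mul_eq_one _ (mul_left_cancel₀ hπirr.ne_zero h1))
  have hirr : Irreducible f := heis.irreducible inferInstance hmonic.isPrimitive (by omega)
  let B := AdjoinRoot f
  have : IsDomain B := AdjoinRoot.isDomain_of_prime hirr.prime
  have : Module.Finite A B := hmonic.finite_adjoinRoot
  have : IsNoetherianRing B := IsNoetherianRing.of_finite A B
  set r : B := AdjoinRoot.root f with hr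
  have hr0 : r ^ q + (algebraMap A B π ^ n * r - algebraMap A B π) = 0 := by
    have := AdjoinRoot.eval₂_root f
    simp only [hf, eval₂_add, eval₂_sub, eval₂_mul, eval₂_pow, eval₂_X, eval₂_C, map_pow] at this
    exact this
  have hπM : ∀ M : Ideal B, M.IsMaximal → algebraMap A B π ∈ M := fun M hM => by
    have hint : Algebra.IsIntegral A B := Algebra.IsIntegral.of_finite A B
    have hc : (M.comap (algebraMap A B)).IsMaximal := Ideal.isMaximal_comap_of_isIntegral_of_isMaximal M
    rw [← Ideal.mem_comap, IsLocalRing.eq_maximalIdeal hc]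
    exact hπm
  have hu : IsUnit (1 - algebraMap A B π ^ (n - 1) * r) := by
    by_contra h
    obtain ⟨M, hM, hmem⟩ := exists_max_ideal_of_mem_nonunits h
    refine hM.ne_top ((Ideal.eq_top_iff_one M).2 ?_)
    have h2 := M.add_mem hmem (M.mul_mem_right r (Ideal.pow_mem_of_mem M (hπM M hM) (n - 1) (by omega)))
    rwa [sub_add_cancel] at h2
  obtain ⟨u, hu⟩ := hu
  have hrn : r ^ q = algebraMap A B π * u := by
    rw [hu, mul_sub, mul_one, ← mul_assoc, ← pow_succ', Nat.sub_add_cancel (by omega)]
    linear_combination hr0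
  have hsplit : ∀ b : B, ∃ a : A, ∃ b' : B, b = algebraMap A B a + r * b' := by
    intro b
    obtain ⟨P, rfl⟩ := AdjoinRoot.mk_surjective b
    refine ⟨P.coeff 0, AdjoinRoot.mk f P.divX, ?_⟩
    conv_lhs => rw [← X_mul_divX_add P, map_add, map_mul, AdjoinRoot.mk_X, AdjoinRoot.mk_C]
    rw [add_comm]; rfl
  have hint : Algebra.IsIntegral A B := Algebra.IsIntegral.of_finite A B
  have hmax : ∀ M : Ideal B, M.IsMaximal → M = Ideal.span {r} := by
    intro M hM
    have hrM : r ∈ M := hM.isPrime.mem_of_pow_mem q (by rw [hrn]; exact M.mul_mem_right _ (hπM M hM))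
    refine le_antisymm (fun b hb => ?_) ((Ideal.span_singleton_le_iff_mem _).2 hrM)
    obtain ⟨a, b', rfl⟩ := hsplit b
    have hc : (M.comap (algebraMap A B)).IsMaximal := Ideal.isMaximal_comap_of_isIntegral_of_isMaximal M
    have ha : a ∈ IsLocalRing.maximalIdeal A := IsLocalRing.eq_maximalIdeal hc ▸
      Ideal.mem_comap.2 ((Ideal.add_mem_iff_left M (Ideal.mul_mem_right _ _ hrM)).1 hb)
    rw [hπ, Ideal.mem_span_singleton] at ha
    obtain ⟨c, rfl⟩ := ha
    refine add_mem ?_ (Ideal.mul_mem_right _ _ (Ideal.mem_span_singleton_self r))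
    rw [map_mul, show algebraMap A B π = r ^ q * (↑u⁻¹ : B) by rw [hrn, Units.mul_inv_cancel_right],
      Ideal.mem_span_singleton]
    exact ((dvd_pow_self r (by omega)).mul_right _).mul_right _
  have : IsLocalRing B := by
    obtain ⟨M, hM⟩ := Ideal.exists_maximal B
    exact IsLocalRing.of_unique_max_ideal ⟨M, hM, fun M' hM' => (hmax M' hM').trans (hmax M hM).symm⟩
  have hmaxB : IsLocalRing.maximalIdeal B = Ideal.span {r} := hmax _ inferInstance
  -- the fraction field
  let φ := algebraMap A K
  have hirrK : Irreducible (f.map φ) := (hmonic.irreducible_iff_irreducible_map_fraction_map).1 hirr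
  have := Fact.mk hirrK
  let L := AdjoinRoot (f.map φ)
  let θ : L := AdjoinRoot.root (f.map φ)
  let ι : B →+* L := AdjoinRoot.lift (algebraMap A L) θ (by
    rw [IsScalarTower.algebraMap_eq A K L, ← eval₂_map]
    exact AdjoinRoot.eval₂_root _)
  letI : Algebra B L := ι.toAlgebra
  have : IsScalarTower A B L := IsScalarTower.of_algebraMap_eq fun a => (AdjoinRoot.lift_of _).symm
  have hιmk : ∀ P : A[X], algebraMap B L (AdjoinRoot.mk f P) = AdjoinRoot.mk (f.map φ) (P.map φ) := by
    intro P
    show ι _ = _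
    rw [AdjoinRoot.lift_mk, ← AdjoinRoot.aeval_eq, aeval_def, eval₂_map, ← IsScalarTower.algebraMap_eq A K L]
  have hinj : Function.Injective (algebraMap B L) := by
    rw [injective_iff_map_eq_zero]
    intro b hb
    obtain ⟨P, rfl⟩ := AdjoinRoot.mk_surjective b
    rw [hιmk, AdjoinRoot.mk_eq_zero] at hb
    exact AdjoinRoot.mk_eq_zero.2 ((Polynomial.map_dvd_map φ (IsFractionRing.injective A K) hmonic).1 hb)
  have : FaithfulSMul B L := (faithfulSMul_iff_algebraMap_injective B L).2 hinj
  have : IsFractionRing B L := by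
    refine IsFractionRing.of_field (R := B) (K := L) fun z => ?_
    obtain ⟨Q, rfl⟩ := AdjoinRoot.mk_surjective z
    obtain ⟨⟨c, hc⟩, hQ⟩ := IsLocalization.integerNormalization_map_to_map (nonZeroDivisors A) (S := K) Q
    refine ⟨AdjoinRoot.mk f (IsLocalization.integerNormalization (nonZeroDivisors A) Q),
      algebraMap A B c, ?_⟩
    rw [hιmk, hQ, ← IsScalarTower.algebraMap_apply, eq_div_iff, IsScalarTower.algebraMap_apply A K L]
    · show _ = AdjoinRoot.mk (f.map φ) (c • Q)
      rw [algebra_compatible_smul K c Q, Polynomial.smul_eq_C_mul, map_mul, AdjoinRoot.mk_C,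
        mul_comm]
      rfl
    · intro h
      rw [IsScalarTower.algebraMap_apply A K L, map_eq_zero, IsFractionRing.to_map_eq_zero_iff] at h
      exact nonZeroDivisors.ne_zero hc h
  have hnf : ¬ IsField B := by
    rw [IsLocalRing.isField_iff_maximalIdeal_eq, hmaxB, Ideal.span_singleton_eq_bot]
    intro h
    have h1 : algebraMap A L π = 0 := by
      rw [IsScalarTower.algebraMap_apply A B L, show algebraMap A B π = r ^ q * (↑u⁻¹ : B) by
        rw [hrn, Units.mul_inv_cancel_right], h, zero_pow (by omega), zero_mul, map_zero]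
    rw [IsScalarTower.algebraMap_apply A K L, map_eq_zero, IsFractionRing.to_map_eq_zero_iff] at h1
    exact hπirr.ne_zero h1
  have hdvr : IsDiscreteValuationRing B :=
    (((IsDiscreteValuationRing.TFAE B hnf).out 4 0 :) :
      (IsLocalRing.maximalIdeal B).IsPrincipal ↔ IsDiscreteValuationRing B).1 ⟨⟨r, hmaxB⟩⟩
  have hθ : algebraMap B L r = θ := AdjoinRoot.lift_root _
  refine ⟨L, inferInstance, inferInstance, inferInstance, inferInstance, ?_, ?_, ?_,
    θ, -θ, algebraMap B L (-((↑(u⁻¹ ^ n) : B) * r)), ?_, ?_, ?_, ?_, ?_⟩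
  · rw [(AdjoinRoot.powerBasis hirrK.ne_zero).finrank, AdjoinRoot.powerBasis_dim,
      hmonic.natDegree_map, hdeg]
  · have hsep : (f.map φ).Separable := by
      rw [separable_iff_derivative_ne_zero hirrK, derivative_map]
      intro h
      have h1 := congrArg (fun P : K[X] => P.coeff 0) h
      simp only [coeff_map, coeff_zero] at h1
      rw [IsFractionRing.to_map_eq_zero_iff, coeff_derivative, zero_add, Nat.cast_zero, zero_add, mul_one,
        hcoeff 1 (by omega), if_pos rfl, if_neg one_ne_zero, sub_zero] at h1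
      exact pow_ne_zero n hπirr.ne_zero h1
    have hθs : IsSeparable K θ := hsep.of_dvd (minpoly.dvd K θ (by
      rw [aeval_def]; exact AdjoinRoot.eval₂_root _))
    rw [← separableClosure.eq_top_iff, ← top_le_iff, ← IntermediateField.adjoin_root_eq_top (f.map φ),
      IntermediateField.adjoin_le_iff]
    exact Set.singleton_subset_iff.2 (mem_separableClosure_iff.2 hθs)
  · rw [IsScalarTower.algebraMap_eq A B L]
    exact totallyRamified_of_uniformizer π hπ r hmaxB q (by omega) u hrn hsplit L
  · rw [← hθ]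
    exact (Algebra.IsIntegral.isIntegral r).algebraMap
  · rw [← hθ]
    exact neg_mem (Algebra.IsIntegral.isIntegral r).algebraMap
  · exact (Algebra.IsIntegral.isIntegral _).algebraMap
  · rw [← hθ, IsScalarTower.algebraMap_apply A B L, ← map_neg, ← map_pow, ← map_pow, ← map_mul, ← map_add]
    congr 1
    linear_combination hr0
  · rw [← hθ, IsScalarTower.algebraMap_apply A B L, ← map_pow, ← map_pow, ← map_mul, ← map_add]
    congr 1
    have h1 : r ^ (n * q) * (↑(u⁻¹ ^ n) : B) = algebraMap A B π ^ n := by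
      rw [mul_comm n q, pow_mul, hrn, Units.val_pow_eq_pow_val, ← mul_pow, Units.mul_inv_cancel_right]
    linear_combination hr0 + r * h1

end Groth.Agent.S7157
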