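import Groth.Statements.S7177
import Groth.Agent.S7126
import Groth.Agent.WEtLib.Stalks
-- import your own Groth.Agent.* helpers here

set_option backward.isDefEq.respectTransparency.types false

set_option autoImplicit false
universe u
open FlatMor

namespace Groth.Agent.S7177

open AlgebraicGeometry CategoryTheory Limits in
/-- Let f : X → Y have flat diagonal and let F be an O_X-module flat over Y. Then F is flat as an
O_X-module. -/
theorem result {X Y : Scheme.{u}} (f : X ⟶ Y) [Flat (pullback.diagonal f)] (F : X.Modules)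
    (hF : FlatMod.IsFlatOver f F) : FlatMod.IsFlat F := by
  intro x
  obtain ⟨V, hV, hyV, -⟩ := exists_isAffineOpen_mem_and_subset (X := Y) (x := f x) (U := ⊤) trivial
  obtain ⟨U, hU, hxU, hUV⟩ := exists_isAffineOpen_mem_and_subset (X := X) (x := x) (U := f ⁻¹ᵁ V) hyV
  let φ := f.appLE V U hUV
  have hcomp : Spec.map φ ≫ hV.fromSpec = hU.fromSpec ≫ f := IsAffineOpen.SpecMap_appLE_fromSpec f hV hU hUV
  have hd : MorphismProperty.diagonal (@AlgebraicGeometry.Flat.{u} : MorphismProperty Scheme.{u}) (hU.fromSpec ≫ f) := by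
    refine MorphismProperty.comp_mem _ _ _ ?_ ?_
    · show Flat (pullback.diagonal hU.fromSpec)
      infer_instance
    · exact ‹Flat (pullback.diagonal f)›
  rw [← hcomp] at hd
  have hpb : IsPullback (𝟙 _) (Spec.map φ) (Spec.map φ ≫ hV.fromSpec) hV.fromSpec :=
    IsPullback.mk' (by simp) (fun _ _ _ h₁ _ => by simpa using h₁) fun _ a b h =>
      ⟨a, Category.comp_id a, (cancel_mono hV.fromSpec).1 (by simpa using h)⟩
  have hd' : MorphismProperty.diagonal (@AlgebraicGeometry.Flat.{u} : MorphismProperty Scheme.{u}) (Spec.map φ) :=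
    MorphismProperty.of_isPullback hpb hd
  letI : Algebra Γ(Y, V) Γ(X, U) := φ.hom.toAlgebra
  have hmul : (Algebra.TensorProduct.lmul' Γ(Y, V) (S := Γ(X, U))).Flat := by
    have hd'' : Flat (pullback.diagonal (Spec.map (CommRingCat.ofHom (algebraMap Γ(Y, V) Γ(X, U))))) := hd'
    rw [AlgebraicGeometry.diagonal_SpecMap, MorphismProperty.cancel_right_of_respectsIso (P := @Flat),
      HasRingHomProperty.Spec_iff (P := @Flat)] at hd''
    exact hd''
  letI := TopCat.Presheaf.algebra_section_stalk Y.presheaf (⟨f x, hyV⟩ : V)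
  letI := TopCat.Presheaf.algebra_section_stalk X.presheaf (⟨x, hxU⟩ : U)
  haveI := hV.isLocalization_stalk ⟨f x, hyV⟩
  haveI := hU.isLocalization_stalk ⟨x, hxU⟩
  letI := (f.stalkMap x).hom.toAlgebra
  letI := FlatMod.moduleStalkOver f F x
  letI : Module Γ(X, U) (F.presheaf.stalk x) :=
    Module.compHom _ (algebraMap Γ(X, U) (X.presheaf.stalk x))
  haveI : IsScalarTower Γ(X, U) (X.presheaf.stalk x) (F.presheaf.stalk x) :=
    IsScalarTower.of_algebraMap_smul fun _ _ => rfl
  letI : Module Γ(Y, V) (F.presheaf.stalk x) :=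
    Module.compHom _ (algebraMap Γ(Y, V) (Y.presheaf.stalk (f x)))
  haveI : IsScalarTower Γ(Y, V) (Y.presheaf.stalk (f x)) (F.presheaf.stalk x) :=
    IsScalarTower.of_algebraMap_smul fun _ _ => rfl
  haveI : IsScalarTower Γ(Y, V) Γ(X, U) (F.presheaf.stalk x) := IsScalarTower.of_algebraMap_smul fun a m => by
    show (algebraMap Γ(X, U) (X.presheaf.stalk x) (φ.hom a)) • m =
      (f.stalkMap x).hom (algebraMap Γ(Y, V) (Y.presheaf.stalk (f x)) a) • m
    congr 1
    show (X.presheaf.germ U x hxU).hom ((f.app V ≫ X.presheaf.map (homOfLE hUV).op).hom a) =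
      (f.stalkMap x).hom ((Y.presheaf.germ V (f x) hyV).hom a)
    have hVx : x ∈ f ⁻¹ᵁ V := hyV
    exact (X.presheaf.germ_res_apply (homOfLE (show U ≤ f ⁻¹ᵁ V from hUV)) x hxU
      ((f.app V).hom a)).trans (Scheme.Hom.germ_stalkMap_apply f V x hVx a).symm
  have hflat : Module.Flat (Y.presheaf.stalk (f x)) (F.presheaf.stalk x) := hF x
  have h1 : Module.Flat Γ(Y, V) (F.presheaf.stalk x) :=
    (Module.flat_iff_of_isLocalization (Y.presheaf.stalk (f x))
      (hV.primeIdealOf ⟨f x, hyV⟩).asIdeal.primeCompl (M := F.presheaf.stalk x)).1 hflat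
  have h2 : Module.Flat Γ(X, U) (F.presheaf.stalk x) :=
    Groth.Agent.S7126.result Γ(Y, V) Γ(X, U) hmul (F.presheaf.stalk x)
  exact (Module.flat_iff_of_isLocalization (X.presheaf.stalk x)
    (hU.primeIdealOf ⟨x, hxU⟩).asIdeal.primeCompl (M := F.presheaf.stalk x)).2 h2

end Groth.Agent.S7177
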