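import Groth.Statements.S7180
-- import your own Groth.Agent.* helpers here
import Mathlib
import Groth.Agent.WEtLib.Stalks
import Groth.Agent.WEtLib.Normal
import Groth.Agent.WEtLib.Basic

set_option autoImplicit false
universe u
open FlatMor

namespace Groth.Agent.S7180

open TensorProduct in
/-- A local weakly étale algebra over a normal domain is a normal domain. -/
theorem normal_of_weaklyEtale (A B : Type u) [CommRing A] [IsDomain A] [IsIntegrallyClosed A]
    [CommRing B] [IsLocalRing B] [Algebra A B] [Algebra.WeaklyEtale A B] :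
    IsDomain B ∧ IsIntegrallyClosed B := by
  let K := FractionRing A
  let T := B ⊗[A] K
  have hicl : IsIntegrallyClosedIn B T := WEtLib.isIntegrallyClosedIn_tensor K B
  have hinj : Function.Injective (algebraMap B T) := WEtLib.includeLeft_injective_of_flat K B
  have : Nontrivial T := hinj.nontrivial
  have hvnr : ∀ t : T, ∃ r, t = t * t * r := by
    intro t
    let e : T ≃ₐ[A] K ⊗[A] B := Algebra.TensorProduct.comm A B K
    obtain ⟨r, hr⟩ := WEtLib.exists_mul_eq (K := K) (R := K ⊗[A] B) (e t)
    refine ⟨e.symm r, e.injective ?_⟩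
    rw [map_mul, map_mul, e.apply_symm_apply, ← hr]
  have hid : ∀ t : T, IsIdempotentElem t → t = 0 ∨ t = 1 := by
    intro t ht
    have hint : IsIntegral B t := by
      refine ⟨Polynomial.X ^ 2 - Polynomial.X, Polynomial.monic_X_pow_sub (by simp), ?_⟩
      simp [pow_two, ht.eq]
    obtain ⟨b, rfl⟩ := (isIntegrallyClosedIn_iff.mp hicl).2 hint
    have hb : b * b = b := hinj (by rw [map_mul]; exact ht.eq)
    rcases IsLocalRing.isUnit_or_isUnit_one_sub_self b with h | h
    · refine Or.inr ?_
      rw [h.mul_left_cancel (hb.trans (mul_one b).symm), map_one]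
    · refine Or.inl ?_
      have h0 : (1 - b) * b = 0 := by rw [sub_mul, one_mul, hb, sub_self]
      rw [h.mul_right_eq_zero.mp h0, map_zero]
  have hT : IsField T := WEtLib.isField_of_forall_exists hvnr hid
  let := hT.toField
  have hdom : IsDomain B := hinj.isDomain (algebraMap B T)
  refine ⟨hdom, ?_⟩
  have hfrac : IsFractionRing B T := by
    have : FaithfulSMul B T := (faithfulSMul_iff_algebraMap_injective _ _).mpr hinj
    refine IsFractionRing.of_field _ _ fun z => ?_
    obtain ⟨b, s, hs, hz⟩ : ∃ (b : B) (s : A), s ∈ nonZeroDivisors A ∧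
        z * algebraMap B T (algebraMap A B s) = algebraMap B T b := by
      induction z using TensorProduct.induction_on with
      | zero => exact ⟨0, 1, Submonoid.one_mem _, by simp⟩
      | tmul b κ =>
        obtain ⟨a, s, hs, rfl⟩ := IsFractionRing.div_surjective (A := A) κ
        refine ⟨algebraMap A B a * b, s, hs, ?_⟩
        have hs0 : algebraMap A K s ≠ 0 := IsFractionRing.to_map_ne_zero_of_mem_nonZeroDivisors hs
        rw [Algebra.TensorProduct.algebraMap_apply, Algebra.TensorProduct.algebraMap_apply,
          Algebra.TensorProduct.tmul_mul_tmul, mul_one, Algebra.algebraMap_self, RingHom.id_apply,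
          RingHom.id_apply, mul_comm b, ← Algebra.smul_def, ← Algebra.smul_def, smul_tmul, smul_tmul,
          Algebra.smul_def, mul_div_cancel₀ _ hs0, Algebra.smul_def, mul_one]
      | add x y hx hy =>
        obtain ⟨b, s, hs, hx⟩ := hx
        obtain ⟨c, t, ht, hy⟩ := hy
        refine ⟨b * algebraMap A B t + c * algebraMap A B s, s * t, mul_mem hs ht, ?_⟩
        simp only [map_add, map_mul, ← hx, ← hy]
        ring
    refine ⟨b, algebraMap A B s, ?_⟩
    have hs' : algebraMap B T (algebraMap A B s) ≠ 0 := by
      intro h0
      have h1 : (1 : K) * algebraMap A K s = 0 → False := fun h => by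
        rw [one_mul] at h
        exact IsFractionRing.to_map_ne_zero_of_mem_nonZeroDivisors hs h
      have hne : (Algebra.TensorProduct.includeRight : K →ₐ[A] T) (algebraMap A K s) ≠ 0 :=
        (map_ne_zero_iff _ (RingHom.injective (Algebra.TensorProduct.includeRight : K →ₐ[A] T).toRingHom)).mpr
          (IsFractionRing.to_map_ne_zero_of_mem_nonZeroDivisors hs)
      rw [AlgHom.commutes, IsScalarTower.algebraMap_apply A B T] at hne
      exact hne h0
    rw [eq_div_iff hs', hz]
  exact (isIntegrallyClosed_iff T).mpr fun {x} hx => (isIntegrallyClosedIn_iff.mp hicl).2 hx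

open AlgebraicGeometry CategoryTheory Limits in
/-- The source of a weakly étale morphism with normal target (all local rings integrally closed domains)
is normal. -/
theorem result {X Y : Scheme.{u}} (f : X ⟶ Y) [WeaklyEtale f] (hY : Pi1.IsNormalScheme Y) :
    Pi1.IsNormalScheme X := by
  intro x
  obtain ⟨hd, hc⟩ := hY (f x)
  let := (f.stalkMap x).hom.toAlgebra
  have := (WEtLib.weaklyEtale_iff_stalkMap f).mp inferInstance x
  exact normal_of_weaklyEtale (Y.presheaf.stalk (f x)) (X.presheaf.stalk x)

end Groth.Agent.S7180
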