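import Groth.Statements.S7196
-- import your own Groth.Agent.* helpers here
import Groth.Agent.H4Weil.Cover
import Groth.Agent.AlgSpDec.FinsetAffine

set_option autoImplicit false
universe u
open CategoryTheory AlgebraicGeometry
open FlatMor

namespace Groth.Agent.S7196

/-- For Z → S finite locally free and X → S separated, locally of finite type and with discrete fibres
(locally quasi-finite), the functor T ↦ {S-morphisms T ×_S Z → X} on S-schemes is represented by
some S-scheme. -/
theorem result {Z X S : Scheme.{u}} (g : Z ⟶ S) (f : X ⟶ S) (hg : Mor2.IsFinLocFree g)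
    [IsSeparated f] [LocallyQuasiFinite f] [LocallyOfFiniteType f] :
    (Flatn.morS g f).IsRepresentable := by
  refine Groth.Agent.H4Weil.isRepresentable_of_AF hg fun s d x hx => ?_
  obtain ⟨V, hV, hs, -⟩ := exists_isAffineOpen_mem_and_subset (x := s) (U := (⊤ : S.Opens)) trivial
  haveI : IsAffine (V : Scheme.{u}) := hV
  haveI : IsSeparated (f ∣_ V) :=
    MorphismProperty.of_isPullback (P := @IsSeparated) (isPullback_morphismRestrict f V).flip inferInstance
  haveI : LocallyQuasiFinite (f ∣_ V) :=
    MorphismProperty.of_isPullback (P := @LocallyQuasiFinite) (isPullback_morphismRestrict f V).flip inferInstance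
  haveI : LocallyOfFiniteType (f ∣_ V) :=
    MorphismProperty.of_isPullback (P := @LocallyOfFiniteType) (isPullback_morphismRestrict f V).flip inferInstance
  let y : Fin d → (f ⁻¹ᵁ V : X.Opens).toScheme := fun k => ⟨x k, show f (x k) ∈ V by rw [hx k]; exact hs⟩
  obtain ⟨U, hU, hyU⟩ := Groth.Agent.AlgSpDec.exists_affineOpen_of_finite (f ∣_ V) (Set.finite_range y)
  exact ⟨(f ⁻¹ᵁ V).ι ''ᵁ U, hU.image_of_isOpenImmersion _, fun k => ⟨y k, hyU (Set.mem_range_self k), rfl⟩⟩

end Groth.Agent.S7196
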