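import Groth.Statements.S7197
import Groth.Agent.S1500
import Groth.Agent.AmpleFamGen.BlowAmple
import Groth.Agent.AmpleX.RelAffine
import Groth.Agent.BlowUpX.Admissible
import Groth.Agent.BlowSep.Basic
import Groth.Agent.MorLib.Birat

set_option backward.isDefEq.respectTransparency false
set_option backward.isDefEq.respectTransparency.types false

set_option autoImplicit false
universe u
open FlatMor

namespace Groth.Agent.S7197

open AlgebraicGeometry CategoryTheory Limits TopologicalSpace in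
theorem exists_affine_dense' {X : Scheme.{u}} (hfin : (irreducibleComponents ↥X).Finite) (x : X) :
    ∃ U : X.Opens, IsAffineOpen U ∧ x ∈ U ∧ genericPoints X ⊆ (U : Set X) := by
  obtain ⟨_, ⟨W, hW, rfl⟩, hxW, -⟩ :=
    X.isBasis_affineOpens.exists_subset_of_mem_open (Set.mem_univ x) isOpen_univ
  let O : genericPoints X → X.Opens := fun η =>
    ⟨(⋃₀ (irreducibleComponents X \ {closure {(η : X)}}))ᶜ, by
      rw [Set.sUnion_eq_biUnion]
      exact (hfin.diff.isClosed_biUnion fun C hC => isClosed_of_mem_irreducibleComponents C hC.1).isOpen_compl⟩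
  have hO : ∀ η, (η : X) ∈ O η := by
    rintro η ⟨C, ⟨hC, hne⟩, hηC⟩
    have hsub : closure {(η : X)} ⊆ C :=
      closure_minimal (Set.singleton_subset_iff.2 hηC) (isClosed_of_mem_irreducibleComponents C hC)
    exact hne (Set.Subset.antisymm (η.2.2 hC.1 hsub) hsub)
  have hcomp : ∀ η z, z ∈ O η → irreducibleComponent z = closure {(η : X)} := fun η z hz => by
    by_contra hc
    exact hz ⟨_, ⟨irreducibleComponent_mem_irreducibleComponents z, hc⟩, mem_irreducibleComponent⟩
  have hdisj : ∀ η η', η ≠ η' → Disjoint (O η) (O η') := fun η η' hne => by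
    refine disjoint_iff.2 (Opens.ext (Set.eq_empty_of_forall_notMem fun z ⟨h1, h2⟩ => ?_))
    exact hne (Subtype.ext (inseparable_iff_closure_eq.2 ((hcomp η z h1).symm.trans (hcomp η' z h2))).eq)
  have hspec : ∀ η z, z ∈ O η → (η : X) ⤳ z := fun η z hz =>
    specializes_iff_mem_closure.2 (hcomp η z hz ▸ mem_irreducibleComponent)
  let F := {η : genericPoints X // (η : X) ∉ W}
  haveI : Finite (genericPoints X) := (genericPoints.finite hfin).to_subtype
  have hV : ∀ η : F, ∃ V : X.Opens, IsAffineOpen V ∧ (η.1 : X) ∈ V ∧ V ≤ O η.1 := fun η => by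
    obtain ⟨_, ⟨V, hV, rfl⟩, hηV, hVO⟩ :=
      X.isBasis_affineOpens.exists_subset_of_mem_open (hO η.1) (O η.1).isOpen
    exact ⟨V, hV, hηV, hVO⟩
  choose V hVa hηV hVO using hV
  let P : Option F → X.Opens := fun o => o.elim W V
  have hWV : ∀ η : F, Disjoint W (V η) := fun η => disjoint_iff.2 (Opens.ext
    (Set.eq_empty_of_forall_notMem fun z ⟨hz1, hz2⟩ =>
      η.2 ((hspec η.1 z (hVO η hz2)).mem_open W.isOpen hz1)))
  refine ⟨iSup P, IsAffineOpen.iSup_of_disjoint (fun o => ?_) ?_, Opens.mem_iSup.2 ⟨none, hxW⟩, fun η hη => ?_⟩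
  · rcases o with _ | η
    exacts [hW, hVa η]
  · rintro (_ | η) (_ | η') hne
    · exact absurd rfl hne
    · exact hWV η'
    · exact (hWV η).symm
    · exact (hdisj η.1 η'.1 fun e => hne (congrArg some (Subtype.ext e))).mono (hVO η) (hVO η')
  · by_cases h : η ∈ W
    · exact Opens.mem_iSup.2 ⟨none, h⟩
    · exact Opens.mem_iSup.2 ⟨some ⟨⟨η, hη⟩, h⟩, hηV _⟩

open AlgebraicGeometry CategoryTheory Limits TopologicalSpace in
theorem isAmple_exceptional_restrict {X Y : Scheme.{u}} {b : Y ⟶ X} {C : X.IdealSheafData}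
    (hb : BlowUp.IsBlowUp b C) (hC : BlowUp.IsFiniteTypeIdeal C) {V : X.Opens} (hV : IsAffineOpen V) :
    CohB1.IsAmple ((ClSub.idealMod (C.comap b)).restrict (b ⁻¹ᵁ V).ι) := by
  let g : (b ⁻¹ᵁ V).toScheme ⟶ Spec Γ(X, V) := (b ∣_ V) ≫ hV.isoSpec.hom
  let I := C.ideal ⟨V, hV⟩
  have hgb : g ≫ hV.fromSpec = (b ⁻¹ᵁ V).ι ≫ b := by
    rw [Category.assoc, IsAffineOpen.isoSpec_hom_fromSpec, morphismRestrict_ι]
  have hcen : BlowUpLib.centre I = C.comap hV.fromSpec := (BlowUpLib.comap_fromSpec C ⟨V, hV⟩).symm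
  have hg : BlowUp.IsBlowUp g (BlowUpLib.centre I) := by
    refine BlowUpLib.isBlowUp_comp_iso _ ?_
    rw [hcen, ← Scheme.IdealSheafData.comap_comp, IsAffineOpen.isoSpec_hom_fromSpec]
    exact BlowUpLib.isBlowUp_of_isPullback (isPullback_morphismRestrict b V) hb
  have hE : (C.comap b).comap (b ⁻¹ᵁ V).ι = (BlowUpLib.centre I).comap g := by
    rw [hcen, ← Scheme.IdealSheafData.comap_comp, ← Scheme.IdealSheafData.comap_comp, hgb]
  obtain ⟨e⟩ := CurveAlgEquiv.nonempty_pullback_idealMod (b ⁻¹ᵁ V).ι (C.comap b) ((S8914.result _).2 hb.1)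
    _ ((S8914.result _).2 hg.1) hE
  exact AmpleX.isAmple_of_iso
    ((Scheme.Modules.restrictFunctorIsoPullback (b ⁻¹ᵁ V).ι).app _ ≪≫ e).symm
    (AmpleFamGen.isAmple_exceptional hg (hC ⟨V, hV⟩))

open AlgebraicGeometry CategoryTheory Limits in
/-- A quasi-compact quasi-separated scheme X with finitely many irreducible components admits a
quasi-compact dense open U together with a blowing up X' → X which is U-admissible and whose source
X' carries an ample family of invertible modules. -/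
theorem result (X : Scheme.{u}) [CompactSpace ↥X] [QuasiSeparatedSpace ↥X]
    (hirr : (irreducibleComponents ↥X).Finite) :
    ∃ (U : X.Opens) (𝓘 : X.IdealSheafData) (X' : Scheme.{u}) (b : X' ⟶ X),
      IsCompact (U : Set ↥X) ∧ Dense (U : Set ↥X) ∧ BlowUp.IsAdmissibleFor U 𝓘 ∧ BlowUp.IsBlowUp b 𝓘 ∧
      MoreMor.HasAmpleFamily X' := by
  classical
  choose V hV hxV hgen using fun x : X => exists_affine_dense' hirr x
  obtain ⟨S, hS⟩ := isCompact_univ.elim_finite_subcover (fun x => (V x : Set X)) (fun x => (V x).2)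
    (fun x _ => Set.mem_iUnion.2 ⟨x, hxV x⟩)
  have hU : ∀ T : Finset X, IsCompact ((T.inf V : X.Opens) : Set X) ∧ genericPoints X ⊆ ((T.inf V : X.Opens) : Set X) := by
    intro T
    induction T using Finset.induction with
    | empty => rw [Finset.inf_empty]; exact ⟨isCompact_univ, Set.subset_univ _⟩
    | @insert a T _ ih =>
      rw [Finset.inf_insert, TopologicalSpace.Opens.coe_inf]
      exact ⟨QuasiSeparatedSpace.inter_isCompact _ _ (V a).2 (hV a).isCompact (T.inf V).2 ih.1, Set.subset_inter (hgen a) ih.2⟩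
  choose I hIft hIs using fun x : X => BlowSep.exists_fg_support (V x) (hV x).isCompact
  let C : X.IdealSheafData := ∏ i : S, I i.1
  have hadm : BlowUp.IsAdmissibleFor (S.inf V) C :=
    Finset.prod_induction _ (BlowUp.IsAdmissibleFor (S.inf V)) (fun _ _ => BlowUpX.isAdmissible_mul)
      BlowUpX.isAdmissible_top fun i _ => ⟨hIft _, by
        rw [hIs]
        exact Set.disjoint_left.2 fun p hp hpU => hp ((Finset.inf_le (f := V) i.2) hpU)⟩
  obtain ⟨X', b, hb⟩ := BlowUpLib.exists_blowUp (C := C)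
  refine ⟨S.inf V, C, X', b, (hU S).1, MorLib.Birat.dense_of_genericPoints (hU S).2, hadm, hb, ?_⟩
  let e := (Fintype.equivFin S).symm
  have hD : ∀ i : S, BlowUp.IsEffCartierIdeal ((I i.1).comap b) := fun i => by
    have h := hb.1
    rw [show C = I i.1 * ∏ j ∈ Finset.univ.erase i, I j.1 from
      (Finset.mul_prod_erase Finset.univ (fun j : S => I j.1) (Finset.mem_univ i)).symm, FComplLib.comap_mul] at h
    exact BlowUpX.isEffCartier_left_of_mul h
  have hsupp : ∀ i : S, ((I i.1).comap b).support.compl = b ⁻¹ᵁ V i.1 := fun i => TopologicalSpace.Opens.ext <| by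
    show (((I i.1).comap b).support : Set X')ᶜ = b ⁻¹' (V i.1 : Set X)
    rw [Scheme.IdealSheafData.support_comap]
    show (b ⁻¹' ((I i.1).support : Set X))ᶜ = _
    rw [hIs, Set.preimage_compl, compl_compl]
  refine S1500.result (fun i => (I (e i).1).comap b) (fun i => hD _) ?_ (fun _ => ClSub.idealMod (C.comap b))
    (fun _ => (S8914.result _).2 hb.1) fun i => ?_
  · refine Set.eq_empty_iff_forall_notMem.2 fun y hy => ?_
    obtain ⟨x, hx, hyx⟩ := Set.mem_iUnion₂.1 (hS (Set.mem_univ (b y)))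
    obtain ⟨i, hi⟩ := e.surjective ⟨x, hx⟩
    have hy' : y ∈ (b ⁻¹ᵁ V x : X'.Opens) := hyx
    rw [show x = (e i).1 by rw [hi], ← hsupp] at hy'
    exact hy' (Set.mem_iInter.1 hy i)
  · rw [hsupp]
    exact isAmple_exceptional_restrict hb hadm.1 (hV _)

end Groth.Agent.S7197
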