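import Groth.Statements.S7204
import Mathlib.AlgebraicGeometry.Sites.Fpqc
import Mathlib.CategoryTheory.Sites.Subcanonical
-- import your own Groth.Agent.* helpers here

set_option autoImplicit false
universe w u
open FlatMor

namespace Groth.Agent.S7204

open AlgebraicGeometry CategoryTheory Limits in
/-- Let (X_i)_{i ∈ I} be a diagram of schemes and (W, X_i → W) a cocone under it. If there is an fpqc
covering {W_a → W} such that each W_a is the colimit (in schemes) of the base-changed diagram (X_i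
×_W W_a), and each W_a ×_W W_b is the colimit of (X_i ×_W W_a ×_W W_b), then W is the colimit of
(X_i) in the category of schemes. -/
theorem result {J : Type u} [SmallCategory J] (D : J ⥤ Scheme.{u}) (c : Cocone D)
    (F : PreZeroHypercover.{w} c.pt) (hF : F.presieve₀ ∈ Scheme.fpqcPrecoverage c.pt)
    (h1 : ∀ a : F.I₀, Nonempty (IsColimit ((Over.forgetCocone (F.X a)).whisker
      (D.toOver c.pt (fun j => c.ι.app j) (fun g => c.w g) ⋙ Over.pullback (F.f a)))))
    (h2 : ∀ a b : F.I₀, Nonempty (IsColimit ((Over.forgetCocone (pullback (F.f a) (F.f b))).whisker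
      (D.toOver c.pt (fun j => c.ι.app j) (fun g => c.w g) ⋙ Over.pullback (pullback.fst (F.f a) (F.f b) ≫ F.f a))))) :
    Nonempty (IsColimit c) := by
  have hgen : Sieve.generate F.presieve₀ ∈ Scheme.fpqcTopology c.pt := Precoverage.generate_mem_toGrothendieck hF
  have hsheaf : ∀ Z : Scheme.{u}, Presieve.IsSheaf Scheme.fpqcTopology (yoneda.obj Z) := fun Z =>
    GrothendieckTopology.Subcanonical.isSheaf_of_isRepresentable _
  -- morphisms out of a base change of the cover are determined locally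
  have hext : ∀ {Y Z : Scheme.{u}} (m : Y ⟶ c.pt) (g₁ g₂ : Y ⟶ Z),
      (∀ a, pullback.fst m (F.f a) ≫ g₁ = pullback.fst m (F.f a) ≫ g₂) → g₁ = g₂ := by
    intro Y Z m g₁ g₂ h
    refine ((hsheaf Z _ (Scheme.fpqcTopology.pullback_stable m hgen)).isSeparatedFor.ext (t₁ := g₁) (t₂ := g₂)
      fun W g hg => ?_)
    obtain ⟨V, l, _, ⟨a⟩, hl⟩ := hg
    show g ≫ g₁ = g ≫ g₂
    rw [← pullback.lift_fst g l hl.symm, Category.assoc, Category.assoc, h a]
  have hex : ∀ (Z : Scheme.{u}) (x : ∀ a, F.X a ⟶ Z),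
      (∀ a b, pullback.fst (F.f a) (F.f b) ≫ x a = pullback.snd (F.f a) (F.f b) ≫ x b) →
      ∃ t : c.pt ⟶ Z, ∀ a, F.f a ≫ t = x a := by
    intro Z x hx
    have hs : Presieve.IsSheafFor (yoneda.obj Z) F.presieve₀ := by
      rw [Presieve.isSheafFor_iff_generate]
      exact hsheaf Z _ hgen
    obtain ⟨t, ht, -⟩ := (Presieve.isSheafFor_arrows_iff (P := yoneda.obj Z) F.f).1 hs x fun a b W ga gb hab => by
      show ga ≫ x a = gb ≫ x b
      exact (pullback.lift_fst_assoc ga gb hab (x a)).symm.trans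
        ((congrArg (pullback.lift ga gb hab ≫ ·) (hx a b)).trans (pullback.lift_snd_assoc ga gb hab (x b)))
    exact ⟨t, ht⟩
  let E : ∀ {Y : Scheme.{u}} (_ : Y ⟶ c.pt), J ⥤ Over Y := fun g =>
    D.toOver c.pt (fun j => c.ι.app j) (fun φ => c.w φ) ⋙ Over.pullback g
  -- the cocone induced on a base change
  let coc : ∀ (s : Cocone D) {Y : Scheme.{u}} (g : Y ⟶ c.pt), Cocone (E g ⋙ Over.forget Y) := fun s Y g =>
    { pt := s.pt
      ι :=
        { app := fun j => pullback.fst (c.ι.app j) g ≫ s.ι.app j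
          naturality := fun i j φ => by
            simp [E, Over.pullback]
            erw [pullback.lift_fst_assoc]
            exact congrArg (pullback.fst (c.ι.app i) g ≫ ·) (s.w φ) } }
  have hcompat : ∀ (s : Cocone D) (a b : F.I₀), pullback.fst (F.f a) (F.f b) ≫ (h1 a).some.desc (coc s (F.f a)) =
      pullback.snd (F.f a) (F.f b) ≫ (h1 b).some.desc (coc s (F.f b)) := by
    intro s a b
    refine (h2 a b).some.hom_ext fun j => ?_
    let g₀ := pullback.fst (F.f a) (F.f b) ≫ F.f a
    let la : pullback (c.ι.app j) g₀ ⟶ pullback (c.ι.app j) (F.f a) :=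
      pullback.lift (pullback.fst _ _) (pullback.snd _ _ ≫ pullback.fst (F.f a) (F.f b)) (by
        rw [pullback.condition, Category.assoc])
    let lb : pullback (c.ι.app j) g₀ ⟶ pullback (c.ι.app j) (F.f b) :=
      pullback.lift (pullback.fst _ _) (pullback.snd _ _ ≫ pullback.snd (F.f a) (F.f b)) (by
        rw [pullback.condition]; simp [g₀, pullback.condition])
    have ea : pullback.snd (c.ι.app j) (F.f a) ≫ (h1 a).some.desc (coc s (F.f a)) =
        pullback.fst (c.ι.app j) (F.f a) ≫ s.ι.app j := (h1 a).some.fac (coc s (F.f a)) j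
    have eb : pullback.snd (c.ι.app j) (F.f b) ≫ (h1 b).some.desc (coc s (F.f b)) =
        pullback.fst (c.ι.app j) (F.f b) ≫ s.ι.app j := (h1 b).some.fac (coc s (F.f b)) j
    show pullback.snd (c.ι.app j) g₀ ≫ _ = pullback.snd (c.ι.app j) g₀ ≫ _
    have h3 := congrArg (la ≫ ·) ea
    have h4 := congrArg (lb ≫ ·) eb
    simp only [la, lb, pullback.lift_fst_assoc, pullback.lift_snd_assoc, Category.assoc] at h3 h4
    exact h3.trans h4.symm
  refine ⟨{ desc := fun s => (hex s.pt (fun a => (h1 a).some.desc (coc s (F.f a))) (hcompat s)).choose, fac := ?_, uniq := ?_ }⟩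
  · intro s j
    refine hext (c.ι.app j) _ _ fun a => ?_
    rw [pullback.condition_assoc, Exists.choose_spec (hex s.pt _ (hcompat s)) a]
    exact (h1 a).some.fac (coc s (F.f a)) j
  · intro s m hm
    have key : ∀ a, F.f a ≫ m = (h1 a).some.desc (coc s (F.f a)) := fun a => by
      refine (h1 a).some.hom_ext fun j => ?_
      show pullback.snd (c.ι.app j) (F.f a) ≫ F.f a ≫ m = pullback.snd (c.ι.app j) (F.f a) ≫ _
      refine Eq.trans ?_ ((h1 a).some.fac (coc s (F.f a)) j).symm
      show _ = pullback.fst (c.ι.app j) (F.f a) ≫ s.ι.app j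
      rw [← pullback.condition_assoc, hm]
    refine hext (𝟙 _) _ _ fun a => ?_
    have e : pullback.fst (𝟙 c.pt) (F.f a) = pullback.snd (𝟙 c.pt) (F.f a) ≫ F.f a := by
      rw [← pullback.condition, Category.comp_id]
    rw [e, Category.assoc, Category.assoc, key a, Exists.choose_spec (hex s.pt _ (hcompat s)) a]

end Groth.Agent.S7204
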