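import Groth.Statements.S7232
import Groth.Agent.PushAmp.ThickTor
import Groth.Agent.ThickFin.Scheme
import Groth.Agent.PushAmp.PushPC

set_option autoImplicit false
universe u
open CategoryTheory CategoryTheory.Limits AlgebraicGeometry Opposite TopologicalSpace
attribute [local instance] HasDerivedCategory.standard
open FlatMor

namespace Groth.Agent.S7232

/-- Consider a cartesian square of schemes with sides f : X ⟶ Y, f' : X' ⟶ Y', i : X ⟶ X' and j : Y ⟶ Y'
(so i ≫ f' = f ≫ j and X = X' ×_{Y'} Y), where f' is flat and locally of finite presentation and j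
is a finite order thickening. Let E' be an object of D(O_{X'}) and assume the derived pullback Li^*
exists. Suppose Li^* E' is perfect relative to Y: it is represented by a cochain complex whose class
is pseudo-coherent and which, locally on X, has finite tor amplitude stalkwise over the local rings
of Y. Then E' is perfect relative to Y': it is pseudo-coherent and, locally on X', every cochain
complex representing it has finite tor amplitude stalkwise over the local rings of Y'. -/
theorem result {X X' Y Y' : Scheme.{u}} (f : X ⟶ Y) (f' : X' ⟶ Y')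
    (i : X ⟶ X') (j : Y ⟶ Y') (sq : IsPullback i f f' j) [Flat f'] [LocallyOfFinitePresentation f']
    (hj : MoreMor.IsFiniteOrderThickening j) [DCoh.HasLpull i] (E' : DCoh.D X')
    (hE : ∃ F : CochainComplex X.Modules ℤ, Nonempty (DCoh.toD X F ≅ (DCoh.Lpull i).obj E') ∧
      (∀ m : ℤ, DCoh.IsPseudoCoherentD m (DCoh.toD X F)) ∧ DerSch.LocFiniteTorAmplitude f F) :
    (∀ m : ℤ, DCoh.IsPseudoCoherentD m E') ∧ DerSch.LocFiniteTorAmplitudeD f' E' := by
  haveI := hj.1.1
  haveI := hj.1.2
  have hi := ThickFin.isFiniteOrderThickening_baseChange hj sq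
  haveI := hi.1.1
  haveI := hi.1.2
  obtain ⟨F, ⟨eF⟩, hF, hT⟩ := hE
  refine ⟨fun m => (KFlatLib.isPseudoCoherentD_iff _ _).2 (PushAmp.locPC_of_lpull i
    (PushAmp.nilpStalks_of_isNilpotent_ker i hi.2)
    (((KFlatLib.isPseudoCoherentD_iff _ _).1 (hF m)).of_iso eF)), fun G ⟨eG⟩ => ?_⟩
  obtain ⟨R, hR, ⟨eR⟩⟩ := KFlatLib.exists_kFlat_rep E'
  let e : DCoh.toD X F ≅ DCoh.toD X ((KFlatLib.pullCx i).obj R) :=
    eF ≪≫ (DCoh.Lpull i).mapIso eR.symm ≪≫ KFlatLib.lpullIso i hR
  intro x'
  obtain ⟨x, rfl⟩ := i.surjective x'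
  obtain ⟨V, a, b, hxV, hV⟩ := hT x
  obtain ⟨O, hO⟩ := PushAmp.exists_open_preimage i V
  refine ⟨O, a, b, show x ∈ i ⁻¹ᵁ O from hO ▸ hxV, fun y hy => ?_⟩
  obtain ⟨z, rfl⟩ := i.surjective y
  have hz : z ∈ V := hO ▸ (show z ∈ i ⁻¹ᵁ O from hy)
  exact PushAmp.hasTorAmplitudeAt_of_iso f' (eR ≪≫ eG.symm)
    (PushAmp.hasTorAmplitudeAt_of_pullCx (PushAmp.nilpStalks_of_isNilpotent_ker j hj.2) sq hR z a b
      (PushAmp.hasTorAmplitudeAt_of_iso f e (hV z hz)))

end Groth.Agent.S7232
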