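import Groth.Statements.S7233
import Groth.Agent.PushAmp.JacobsonFibres
import Groth.Agent.PushAmp.ThickTor

set_option autoImplicit false
universe u
open CategoryTheory CategoryTheory.Limits AlgebraicGeometry Opposite TopologicalSpace
attribute [local instance] HasDerivedCategory.standard
open FlatMor

namespace Groth.Agent.S7233

/-- Let R be a ring and I an ideal of R contained in the Jacobson radical of R. Let f : X ⟶ Spec R be
proper, flat and of finite presentation, and let X₀ = X ×_{Spec R} Spec(R/I) with projections i : X₀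
⟶ X and f₀ : X₀ ⟶ Spec(R/I). Let E be a pseudo-coherent object of D(O_X) (m-pseudo-coherent for
every m) and assume the derived pullback Li^* exists. Suppose Li^* E is perfect relative to
Spec(R/I): it is represented by a cochain complex whose class is pseudo-coherent and which, locally
on X₀, has finite tor amplitude stalkwise over the local rings of Spec(R/I). Then E is perfect
relative to Spec R: locally on X, every cochain complex representing E has finite tor amplitude
stalkwise over the local rings of Spec R. -/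
theorem result (R : Type u) [CommRing R] (I : Ideal R)
    (hI : I ≤ Ideal.jacobson ⊥) {X : Scheme.{u}} (f : X ⟶ Spec (CommRingCat.of R)) [IsProper f] [Flat f]
    [LocallyOfFinitePresentation f]
    [DCoh.HasLpull (pullback.fst f (Spec.map (CommRingCat.ofHom (Ideal.Quotient.mk I))))]
    (E : DCoh.D X) (hpc : ∀ m : ℤ, DCoh.IsPseudoCoherentD m E)
    (h₀ : ∃ F₀ : CochainComplex (pullback f (Spec.map (CommRingCat.ofHom (Ideal.Quotient.mk I)))).Modules ℤ,
      Nonempty (DCoh.toD _ F₀ ≅ (DCoh.Lpull (pullback.fst f (Spec.map (CommRingCat.ofHom (Ideal.Quotient.mk I))))).obj E) ∧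
        (∀ m : ℤ, DCoh.IsPseudoCoherentD m (DCoh.toD _ F₀)) ∧
        DerSch.LocFiniteTorAmplitude (pullback.snd f (Spec.map (CommRingCat.ofHom (Ideal.Quotient.mk I)))) F₀) :
    DerSch.LocFiniteTorAmplitudeD f E := by
  let i := pullback.fst f (Spec.map (CommRingCat.ofHom (Ideal.Quotient.mk I)))
  let f₀ := pullback.snd f (Spec.map (CommRingCat.ofHom (Ideal.Quotient.mk I)))
  haveI : IsClosedImmersion (Spec.map (CommRingCat.ofHom (Ideal.Quotient.mk I))) :=
    IsClosedImmersion.spec_of_surjective _ Ideal.Quotient.mk_surjective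
  have hc := IsPullback.of_hasPullback f (Spec.map (CommRingCat.ofHom (Ideal.Quotient.mk I)))
  haveI : CompactSpace X := QuasiCompact.compactSpace_of_compactSpace f
  haveI : CompactSpace (pullback f (Spec.map (CommRingCat.ofHom (Ideal.Quotient.mk I))) : Scheme.{u}) :=
    QuasiCompact.compactSpace_of_compactSpace f₀
  obtain ⟨F₀, ⟨e₀⟩, -, hT⟩ := h₀
  obtain ⟨R', hR, ⟨eR⟩⟩ := KFlatLib.exists_kFlat_rep E
  let e : DCoh.toD _ F₀ ≅ DCoh.toD _ ((KFlatLib.pullCx i).obj R') :=
    e₀ ≪≫ (DCoh.Lpull i).mapIso eR.symm ≪≫ KFlatLib.lpullIso i hR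
  choose V a b hV hamp using hT
  obtain ⟨t, ht⟩ := (isCompact_univ (X := (pullback f (Spec.map (CommRingCat.ofHom (Ideal.Quotient.mk I))) : Scheme.{u}))).elim_finite_subcover
    (fun x => ((V x) : Set (pullback f (Spec.map (CommRingCat.ofHom (Ideal.Quotient.mk I))) : Scheme.{u}))) (fun x => (V x).2)
    (fun x _ => Set.mem_iUnion.2 ⟨x, hV x⟩)
  obtain ⟨A, hA⟩ : ∃ A : ℤ, ∀ x ∈ t, A ≤ a x := Finset.exists_le (α := ℤᵒᵈ) (t.image fun x => OrderDual.toDual (a x))
    |>.imp fun A hA x hx => hA _ (Finset.mem_image_of_mem _ hx)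
  obtain ⟨a', b', h⟩ := PushAmp.exists_amp_of_closed_residue f E hpc R' hR eR A fun x hx n hn => by
    have hfx : IsClosed ({f x} : Set (Spec (CommRingCat.of R))) := by
      simpa using f.isClosedMap _ hx
    have hmem : f x ∈ Set.range (Spec.map (CommRingCat.ofHom (Ideal.Quotient.mk I))) := by
      rw [show Set.range (Spec.map (CommRingCat.ofHom (Ideal.Quotient.mk I))) = PrimeSpectrum.zeroLocus (RingHom.ker (Ideal.Quotient.mk I) : Set R) from
        range_comap_of_surjective (R ⧸ I) (Ideal.Quotient.mk I) Ideal.Quotient.mk_surjective]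
      haveI := (PrimeSpectrum.isClosed_singleton_iff_isMaximal _).1 hfx
      rw [Ideal.mk_ker]
      exact hI.trans (sInf_le ⟨bot_le, inferInstance⟩)
    obtain ⟨y, rfl⟩ : x ∈ Set.range i := by
      rw [Scheme.Pullback.range_fst]; exact hmem
    obtain ⟨z, hz, hyz⟩ := Set.mem_iUnion₂.1 (ht (Set.mem_univ y))
    refine PushAmp.exactAt_residue_of_pullCx hc R' y n ?_
    exact PushAmp.exactAt_residue_of_amp _
      (PushAmp.isKF_stalkCxOver (inferInstance : Flat f₀) _ (KFlatLib.isKFlat_pullback i hR) y) _ _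
      (PushAmp.hasTorAmplitudeAt_of_iso f₀ e (hamp z y hyz)) n (lt_of_lt_of_le hn (hA z hz))
  exact fun G ⟨eG⟩ x => ⟨⊤, a', b', trivial, fun x' _ => PushAmp.hasTorAmplitudeAt_of_iso f (eR ≪≫ eG.symm) (h x')⟩

end Groth.Agent.S7233
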