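import Groth.Statements.S7247
import Groth.Agent.DQGen.PCHocolim
-- import your own Groth.Agent.* helpers here

set_option autoImplicit false
universe u
open CategoryTheory CategoryTheory.Limits AlgebraicGeometry
attribute [local instance] HasDerivedCategory.standard
open Perf

namespace Groth.Agent.S7247

/-- Let X be a quasi-compact and quasi-separated scheme, T ⊆ X a closed subset whose complement is
quasi-compact, and K ∈ D(O_X) supported on T (every cohomology sheaf of K has support contained in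
T). Assuming countable direct sums exist in D(O_X) (they do), K is pseudo-coherent if and only if K
is a homotopy colimit of a sequence of perfect objects Kₙ supported on T whose structure maps Kₙ ⟶ K
induce isomorphisms τ_{≥ -n}Kₙ ⟶ τ_{≥ -n}K for every n. -/
theorem result (X : Scheme.{u}) [CompactSpace ↥X] [QuasiSeparatedSpace ↥X]
    [HasColimitsOfShape (Discrete ℕ) (DCoh.D X)] (T : Set ↥X) (hT : IsClosed T) (hTc : IsCompact Tᶜ)
    (K : DCoh.D X) (hK : ∀ i : ℤ, CohB1.support (DCoh.HD K i) ⊆ T) :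
    (∀ m : ℤ, DCoh.IsPseudoCoherentD m K) ↔
    ∃ (E : ℕ → DCoh.D X) (f : ∀ n, E n ⟶ E (n + 1)) (i : ∀ n, E n ⟶ K),
      (∀ n, DCoh.IsPerfect (E n)) ∧ (∀ (n : ℕ) (j : ℤ), CohB1.support (DCoh.HD (E n) j) ⊆ T) ∧
      DerLim.IsHocolim E f K i ∧
      ∀ n : ℕ, IsIso (((DerivedCategory.TStructure.t : CategoryTheory.Triangulated.TStructure (DCoh.D X)).truncGE (-(n : ℤ))).map (i n)) := by
  let W : X.Opens := ⟨Tᶜ, hT.isOpen_compl⟩
  have hW : ((W : X.Opens) : Set X)ᶜ = T := compl_compl T
  constructor
  · intro h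
    obtain ⟨E, f, i, hE, hL, hi⟩ := Groth.Agent.DQGen.exists_hocolim_of_locPC W hTc K
      (fun m => (Groth.Agent.KFlatLib.isPseudoCoherentD_iff m K).1 (h m)) (fun j => by rw [hW]; exact hK j)
    refine ⟨E, f, i, fun n => (hE n).1, fun n j => ?_, hL, hi⟩
    have := (Groth.Agent.DQGen.isZero_rho_iff_support W (E n)).1 (hE n).2 j
    rwa [hW] at this
  · rintro ⟨E, f, i, hE, -, -, hi⟩ m
    exact (Groth.Agent.KFlatLib.isPseudoCoherentD_iff m K).2 (Groth.Agent.DQGen.locPC_of_approx K E i hE hi m)


end Groth.Agent.S7247
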