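import Groth.Statements.S7250
import Groth.Agent.PushAmp.RelPerf

set_option autoImplicit false
universe u
open CategoryTheory CategoryTheory.Limits AlgebraicGeometry
attribute [local instance] HasDerivedCategory.standard
open Perf

namespace Groth.Agent.S7250

/-- Let f : X ⟶ S be flat and locally of finite presentation. The S-perfect objects of D(O_X)
(pseudo-coherent and locally of finite tor dimension over f⁻¹O_S, the latter in the form: locally
represented by a bounded complex of O_X-modules flat over S) form a saturated triangulated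
subcategory: the property contains zero, is stable under all shifts, is closed under the middle term
of distinguished triangles, and is stable under retracts. -/
theorem result {X S : Scheme.{u}} (f : X ⟶ S) [Flat f] [LocallyOfFinitePresentation f] :
    ObjectProperty.IsTriangulated (fun E : DCoh.D X => (∀ m : ℤ, DCoh.IsPseudoCoherentD m E) ∧ DCoh.LocHasFiniteRelTorDim f E) ∧
    ObjectProperty.IsStableUnderRetracts (fun E : DCoh.D X => (∀ m : ℤ, DCoh.IsPseudoCoherentD m E) ∧ DCoh.LocHasFiniteRelTorDim f E) := by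
  open Groth.Agent.KFlatLib Groth.Agent.PushAmp in
  let P : ObjectProperty (DCoh.D X) := fun E =>
    (∀ m : ℤ, DCoh.IsPseudoCoherentD m E) ∧ DCoh.LocHasFiniteRelTorDim f E
  haveI : P.ContainsZero := ⟨_, Limits.isZero_zero _, fun m => (Groth.Agent.KFlatLib.isPseudoCoherentD_iff _ _).2
      (Groth.Agent.KFlatLib.locPC_of_isZero _ _ fun i _ => Functor.map_isZero _ (Limits.isZero_zero _)),
    (Groth.Agent.PushAmp.locFin_iff f _).2 (Groth.Agent.PushAmp.LocFin.of_isZero f (Limits.isZero_zero _))⟩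
  haveI : P.IsClosedUnderIsomorphisms := ⟨fun {K L} e hK => ⟨fun m => (Groth.Agent.KFlatLib.isPseudoCoherentD_iff _ _).2
      (((Groth.Agent.KFlatLib.isPseudoCoherentD_iff m K).1 (hK.1 m)).of_iso e),
    (Groth.Agent.PushAmp.locFin_iff f _).2 (Groth.Agent.PushAmp.LocFin.retract f ⟨e.inv, e.hom, e.inv_hom_id⟩
      ((Groth.Agent.PushAmp.locFin_iff f _).1 hK.2))⟩⟩
  haveI : P.IsStableUnderShift ℤ := ⟨fun n => ⟨fun E hE => ⟨fun m => (Groth.Agent.KFlatLib.isPseudoCoherentD_iff _ _).2 (by
      have h := ((Groth.Agent.KFlatLib.isPseudoCoherentD_iff (m + n) E).1 (hE.1 _)).shift n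
      rwa [add_sub_cancel_right] at h),
    (Groth.Agent.PushAmp.locFin_iff f _).2 (((Groth.Agent.PushAmp.locFin_iff f E).1 hE.2).shift f n)⟩⟩⟩
  haveI : P.IsTriangulatedClosed₂ := .mk' fun T hT h₁ h₃ =>
    ⟨fun m => (Groth.Agent.KFlatLib.isPseudoCoherentD_iff _ _).2
      ((Groth.Agent.KFlatLib.locPC_two_of_three m T hT).2.1 ((Groth.Agent.KFlatLib.isPseudoCoherentD_iff _ _).1 (h₁.1 m))
        ((Groth.Agent.KFlatLib.isPseudoCoherentD_iff _ _).1 (h₃.1 m))),
    (Groth.Agent.PushAmp.locFin_iff f _).2 (Groth.Agent.PushAmp.LocFin.obj₂ f hT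
      ((Groth.Agent.PushAmp.locFin_iff f _).1 h₁.2) ((Groth.Agent.PushAmp.locFin_iff f _).1 h₃.2))⟩
  refine ⟨{}, ⟨fun {K L} r hL => ⟨fun m => ?_,
    (Groth.Agent.PushAmp.locFin_iff f _).2 (Groth.Agent.PushAmp.LocFin.retract f r
      ((Groth.Agent.PushAmp.locFin_iff f _).1 hL.2))⟩⟩⟩
  obtain ⟨C, g, h, hT⟩ := Pretriangulated.distinguished_cocone_triangle r.i
  haveI : IsSplitMono r.i := ⟨⟨⟨r.r, r.retract⟩⟩⟩
  haveI : Limits.HasBinaryBiproducts (DCoh.D X) := inferInstance
  obtain ⟨e, -⟩ := Pretriangulated.exists_iso_binaryBiproduct_of_distTriang _ hT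
    ((Pretriangulated.Triangle.mor₃_eq_zero_iff_mono₁ _ hT).2 (inferInstanceAs (Mono r.i)))
  exact (Groth.Agent.KFlatLib.isPseudoCoherentD_iff _ _).2 (Groth.Agent.KFlatLib.locPC_summand m K C
    (((Groth.Agent.KFlatLib.isPseudoCoherentD_iff _ _).1 (hL.1 m)).of_iso e)).1

end Groth.Agent.S7250
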