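import Groth.Statements.S7251
import Groth.Agent.KFlatLib.Scheme.QCohDerived

set_option autoImplicit false
universe u
open CategoryTheory CategoryTheory.Limits AlgebraicGeometry
attribute [local instance] HasDerivedCategory.standard
open Perf

namespace Groth.Agent.S7251

/-- Let f : X ⟶ Y be a quasi-compact and quasi-separated morphism of schemes. Assume Rf_* exists and
sends D_QCoh(O_X) into D_QCoh(O_Y), let an adjunction Lf^* ⊣ Rf_* be given as data, and assume the
inclusion functors D_QCoh ⥤ D have (chosen) right adjoints DQ_X and DQ_Y. Then Rf_* ∘ DQ_X = DQ_Y ∘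
Rf_*: for every K ∈ D(O_X) the comparison map Rf_*(DQ_X K) ⟶ DQ_Y(Rf_* K) in D_QCoh(O_Y),
corresponding under the adjunction to Rf_* applied to the counit DQ_X K ⟶ K, is an isomorphism. -/
theorem result {X Y : Scheme.{u}} (f : X ⟶ Y) [QuasiCompact f] [QuasiSeparated f]
    [DCoh.HasRpush f] (h : DCoh.RpushPreservesQCoh f) [DCoh.HasLpull f] (adj : DCoh.Lpull f ⊣ DCoh.Rpush f)
    [(ObjectProperty.ι (DCoh.IsQCohD (X := X))).IsLeftAdjoint] [(ObjectProperty.ι (DCoh.IsQCohD (X := Y))).IsLeftAdjoint]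
    (K : DCoh.D X) :
    IsIso ((Adjunction.ofIsLeftAdjoint (ObjectProperty.ι (DCoh.IsQCohD (X := Y)))).homEquiv
      (⟨(DCoh.Rpush f).obj (((ObjectProperty.ι (DCoh.IsQCohD (X := X))).rightAdjoint.obj K).obj),
        h _ (((ObjectProperty.ι (DCoh.IsQCohD (X := X))).rightAdjoint.obj K).property)⟩ : DCoh.DQCoh Y)
      ((DCoh.Rpush f).obj K)
      ((DCoh.Rpush f).map ((Adjunction.ofIsLeftAdjoint (ObjectProperty.ι (DCoh.IsQCohD (X := X)))).counit.app K))) := by
  refine isIso_of_yoneda_map_bijective _ fun M => ?_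
  let aX := Adjunction.ofIsLeftAdjoint (ObjectProperty.ι (DCoh.IsQCohD (X := X)))
  let aY := Adjunction.ofIsLeftAdjoint (ObjectProperty.ι (DCoh.IsQCohD (X := Y)))
  let DX := (ObjectProperty.ι (DCoh.IsQCohD (X := X))).rightAdjoint.obj K
  let M' : DCoh.DQCoh X := ⟨(DCoh.Lpull f).obj M.obj, Groth.Agent.KFlatLib.isQCohD_lpull f M.property⟩
  have h1 : Function.Bijective fun g : (DCoh.Lpull f).obj M.obj ⟶ DX.obj => g ≫ aX.counit.app K := by
    refine ⟨fun a b e => ?_, fun y => ?_⟩
    · have := (aX.homEquiv M' K).symm.injective.comp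
        (fun a b (e : a = b) => e : Function.Injective (id : (M' ⟶ DX) → _))
      exact congrArg InducedCategory.Hom.hom (this (a₁ := ⟨a⟩) (a₂ := ⟨b⟩)
        (by simp only [Function.comp, id, Adjunction.homEquiv_counit]; exact e))
    · refine ⟨((aX.homEquiv M' K) y).hom, ?_⟩
      exact (Adjunction.homEquiv_counit (adj := aX) _ _ _).symm.trans ((aX.homEquiv M' K).symm_apply_apply y)
  have h2 : Function.Bijective fun g : M.obj ⟶ (DCoh.Rpush f).obj DX.obj =>
      g ≫ (DCoh.Rpush f).map (aX.counit.app K) := by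
    refine (Function.Bijective.of_comp_iff _ (adj.homEquiv _ _).bijective).1 ?_
    convert (adj.homEquiv _ _).bijective.comp h1 using 1
    funext g
    exact (adj.homEquiv_naturality_right g _).symm
  let N : DCoh.DQCoh Y := ⟨(DCoh.Rpush f).obj DX.obj, h _ DX.property⟩
  have h3 : Function.Bijective fun g : M ⟶ N => g.hom ≫ (DCoh.Rpush f).map (aX.counit.app K) :=
    h2.comp ⟨fun a b e => InducedCategory.Hom.ext e, fun y => ⟨⟨y⟩, rfl⟩⟩
  convert (aY.homEquiv M ((DCoh.Rpush f).obj K)).bijective.comp h3 using 1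
  funext g
  exact (aY.homEquiv_naturality_left g _).symm

end Groth.Agent.S7251
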