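import Groth.Statements.S7261
import Groth.Agent.DQGen.Approx
-- import your own Groth.Agent.* helpers here

set_option autoImplicit false
universe u
open CategoryTheory CategoryTheory.Limits AlgebraicGeometry
attribute [local instance] HasDerivedCategory.standard
open Perf

namespace Groth.Agent.S7261

/-- Let X be an affine scheme, T = V(f_1, …, f_r) the common zero locus of r global functions, m ∈ ℤ,
and E an m-pseudo-coherent object of D(O_X) with quasi-coherent cohomology sheaves such that Hⁱ(E)
is supported on T for i ≥ m - r + 1. Then approximation holds for (T, E, m): there are a perfect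
object P of D(O_X) supported on T and a morphism α : P ⟶ E inducing isomorphisms Hⁱ(P) ⟶ Hⁱ(E) for i
> m and an epimorphism Hᵐ(P) ⟶ Hᵐ(E). (The published hypothesis asks that X ∖ T be a union of r
affine opens; the published proof begins by writing T as the zero locus of r functions, and this row
takes that as the hypothesis.) -/
theorem result (X : Scheme.{u}) [IsAffine X] (fs : Finset Γ(X, ⊤))
    (m : ℤ) (E : DCoh.D X) (hq : DCoh.IsQCohD E) (hpc : DCoh.IsPseudoCoherentD m E)
    (hsupp : ∀ i : ℤ, m - (fs.card : ℤ) + 1 ≤ i → CohB1.support (DCoh.HD E i) ⊆ X.zeroLocus (U := ⊤) (↑fs : Set Γ(X, ⊤))) :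
    ∃ (P : DCoh.D X) (α : P ⟶ E), DCoh.IsPerfect P ∧
      (∀ i : ℤ, CohB1.support (DCoh.HD P i) ⊆ X.zeroLocus (U := ⊤) (↑fs : Set Γ(X, ⊤))) ∧
      (∀ i : ℤ, m < i → IsIso ((DerivedCategory.homologyFunctor X.Modules i).map α)) ∧
      Epi ((DerivedCategory.homologyFunctor X.Modules m).map α) := by
  classical
  let Z : Set X := X.zeroLocus (U := ⊤) (↑fs : Set Γ(X, ⊤))
  let W : X.Opens := ⟨Zᶜ, (X.zeroLocus_isClosed _).isOpen_compl⟩
  have hW : ((W : X.Opens) : Set X)ᶜ = Z := compl_compl Z
  obtain ⟨P, α, hP, hα⟩ := (Groth.Agent.DQGen.killed_affine X fs.toList W (fun x => by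
      show x ∉ Z ↔ _
      simp only [Z, Scheme.mem_zeroLocus_iff, SetLike.mem_coe, Finset.mem_toList]
      push Not
      rfl) m E hq
    ((Groth.Agent.KFlatLib.isPseudoCoherentD_iff m E).1 hpc)
    (fun i hi => by rw [hW]; exact hsupp i (by rw [Finset.length_toList] at hi; exact hi))).exists_pcMap
  refine ⟨P, α, hP.1, fun i => ?_, hα.1, hα.2⟩
  have h := (Groth.Agent.DQGen.isZero_rho_iff_support W P).1 hP.2 i
  rwa [hW] at h


end Groth.Agent.S7261
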