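import Groth.Statements.S7264
import Groth.Agent.PushAmp.TildeTor
import Groth.Agent.PushAmp.RelFlatRep
import Groth.Agent.PushAmp.FinitePC

set_option autoImplicit false
universe u
open CategoryTheory CategoryTheory.Limits AlgebraicGeometry
attribute [local instance] HasDerivedCategory.standard
open Perf

namespace Groth.Agent.S7264

/-- (1) ⇔ (2) in the affine case to which the proof reduces: let R → A be flat and of finite
presentation, f : X = Spec A ⟶ S = Spec R, M ∈ D(A) and E = M~ ∈ D(O_X) (tilde recorded as exact),
so that RΓ(X, E) = M. Then E is S-perfect (pseudo-coherent, and locally on X represented by a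
bounded complex of O_X-modules flat over S) if and only if M is R-perfect (pseudo-coherent as a
complex of A-modules and of finite tor dimension as a complex of R-modules). -/
theorem result (R A : Type u) [CommRing R] [CommRing A] [Algebra R A]
    [Module.Flat R A] [Algebra.FinitePresentation R A]
    [PreservesFiniteLimits (tilde.functor (CommRingCat.of A))] (M : Dual.D A) :
    ((∀ m : ℤ, DCoh.IsPseudoCoherentD m ((DCoh.tildeD (CommRingCat.of A)).obj M)) ∧
      DCoh.LocHasFiniteRelTorDim (Spec.map (CommRingCat.ofHom (algebraMap R A))) ((DCoh.tildeD (CommRingCat.of A)).obj M)) ↔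
    Dual2.IsRelPerfect R A M := by
  let φ := CommRingCat.ofHom (algebraMap R A)
  haveI : Flat (Spec.map φ) := (HasRingHomProperty.Spec_iff (P := @Flat) (φ := φ)).2
    (RingHom.flat_algebraMap_iff.2 inferInstance)
  let E := (DCoh.tildeD (CommRingCat.of A)).obj M
  let F := DerivedCategory.Q.objPreimage E
  let e : DCoh.toD (Spec (CommRingCat.of A)) F ≅ E := DerivedCategory.Q.objObjPreimageIso E
  rw [Groth.Agent.PushAmp.locHasFiniteRelTorDim_iff (Spec.map φ) F e]
  refine and_congr ?_ ?_
  · rw [Groth.Agent.H9Misc.DRingPC.pc'_iff]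
    refine forall_congr' fun m => ?_
    rw [Groth.Agent.KFlatLib.isPseudoCoherentD_iff]
    exact Groth.Agent.PushAmp.locPC_tildeD_iff (R := CommRingCat.of A) m M
  · constructor
    · intro h
      obtain ⟨a, b, hab⟩ := Groth.Agent.PushAmp.hasFiniteTorAmplitude_of_loc _ h
      exact ⟨a, b, (Groth.Agent.PushAmp.hasTorAmplitude_tildeD_iff φ M F e a b).1 hab⟩
    · rintro ⟨a, b, hab⟩ x
      exact ⟨⊤, a, b, trivial, fun y _ => (Groth.Agent.PushAmp.hasTorAmplitude_tildeD_iff φ M F e a b).2 hab y⟩

end Groth.Agent.S7264
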