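import Groth.Statements.S7265
import Groth.Agent.DQGen.Approx
-- import your own Groth.Agent.* helpers here

set_option autoImplicit false
universe u
open CategoryTheory CategoryTheory.Limits AlgebraicGeometry
attribute [local instance] HasDerivedCategory.standard
open Perf

namespace Groth.Agent.S7265

/-- Let X be a scheme, U ⊆ X an open subscheme, T ⊆ U a subset closed in X, E ∈ D(O_X) with
quasi-coherent cohomology sheaves and m ∈ ℤ. If approximation holds for (T, E|_U, m) on U (there are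
a perfect P ∈ D(O_U) supported on T and P ⟶ E|_U inducing isomorphisms on Hⁱ for i > m and a
surjection on Hᵐ) and the sheaves Hⁱ(E), i ≥ m, are supported on T, then approximation holds for (T,
E, m) on X. -/
theorem result {X : Scheme.{u}} (U : X.Opens) (T : Set ↥X) (hT : IsClosed T)
    (hTU : T ⊆ (U : Set ↥X)) (E : DCoh.D X) (hE : DCoh.IsQCohD E) (m : ℤ)
    (happ : ∃ (P : DCoh.D (U : Scheme.{u})) (α : P ⟶ (DCoh.restrictD U.ι).obj E), DCoh.IsPerfect P ∧
      (∀ i : ℤ, CohB1.support (DCoh.HD P i) ⊆ {v : ↥(U : Scheme.{u}) | U.ι.base v ∈ T}) ∧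
      (∀ i : ℤ, m < i → IsIso ((DerivedCategory.homologyFunctor _ i).map α)) ∧
      Epi ((DerivedCategory.homologyFunctor _ m).map α))
    (hsupp : ∀ i : ℤ, m ≤ i → CohB1.support (DCoh.HD E i) ⊆ T) :
    ∃ (P : DCoh.D X) (α : P ⟶ E), DCoh.IsPerfect P ∧ (∀ i : ℤ, CohB1.support (DCoh.HD P i) ⊆ T) ∧
      (∀ i : ℤ, m < i → IsIso ((DerivedCategory.homologyFunctor X.Modules i).map α)) ∧
      Epi ((DerivedCategory.homologyFunctor X.Modules m).map α) := by
  obtain ⟨P, α, hP, hPs, hα⟩ := happ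
  let O : X.Opens := ⟨Tᶜ, hT.isOpen_compl⟩
  have hO : ((O : X.Opens) : Set X)ᶜ = T := compl_compl T
  have hcov : U ⊔ O = ⊤ := top_unique fun x _ => by
    by_cases hx : x ∈ T
    · exact TopologicalSpace.Opens.mem_sup.2 (Or.inl (hTU hx))
    · exact TopologicalSpace.Opens.mem_sup.2 (Or.inr hx)
  have hPO : Groth.Agent.DQGen.PP (U.ι ⁻¹ᵁ O) P :=
    ⟨hP, (Groth.Agent.DQGen.isZero_rho_iff_support _ P).2 fun i v hv hvO => hvO (hPs i hv)⟩
  obtain ⟨P', α', hP', hα'⟩ := (Groth.Agent.DQGen.killed_extend U.ι O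
    (by rw [Scheme.Opens.opensRange_ι]; exact hcov)
    (fun Q hQ => Groth.Agent.DQGen.isPerfect_rpush_cover U O hcov Q hQ)
    (fun i hi => by rw [hO]; exact hsupp i hi)
    (Groth.Agent.DQGen.killed_of_pcMap α hPO hα)).exists_pcMap
  refine ⟨P', α', hP'.1, fun i => ?_, hα'.1, hα'.2⟩
  have h := (Groth.Agent.DQGen.isZero_rho_iff_support O P').1 hP'.2 i
  rwa [hO] at h


end Groth.Agent.S7265
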