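import Groth.Statements.S7266
import Groth.Agent.DQGen.Approx
-- import your own Groth.Agent.* helpers here

set_option autoImplicit false
universe u
open CategoryTheory CategoryTheory.Limits AlgebraicGeometry
attribute [local instance] HasDerivedCategory.standard
open Perf

namespace Groth.Agent.S7266

/-- Let X be a scheme written as X = U ∪ V with U, V open, where V is affine and both U and the
intersection U ∩ V are quasi-compact. Suppose approximation by perfect complexes is valid on U; it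
is then also valid on X. Here 'approximation by perfect complexes holds on Y' means: for every
closed T ⊆ Y with retrocompact complement there is an integer r such that for every m ∈ ℤ and every
(m - r)-pseudo-coherent E ∈ D(O_Y) with quasi-coherent cohomology sheaves and Hⁱ(E) supported on T
for i ≥ m - r, there are a perfect P ∈ D(O_Y) supported on T and P ⟶ E inducing isomorphisms on Hⁱ
for i > m and a surjection on Hᵐ. -/
theorem result {X : Scheme.{u}} (U V : X.Opens)
    (hU : IsCompact (U : Set ↥X)) (hV : IsAffineOpen V) (hUV : IsCompact ((U ⊓ V : X.Opens) : Set ↥X)) (hcov : U ⊔ V = ⊤)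
    (hAU : (∀ (T : Set ↥(U : Scheme.{u})), IsClosed T → IsRetrocompact Tᶜ → ∃ r : ℤ, ∀ (m : ℤ) (E : DCoh.D (U : Scheme.{u})), DCoh.IsQCohD E →
        DCoh.IsPseudoCoherentD (m - r) E → (∀ i : ℤ, m - r ≤ i → CohB1.support (DCoh.HD E i) ⊆ T) →
        ∃ (P : DCoh.D (U : Scheme.{u})) (α : P ⟶ E), DCoh.IsPerfect P ∧ (∀ i : ℤ, CohB1.support (DCoh.HD P i) ⊆ T) ∧
          (∀ i : ℤ, m < i → IsIso ((DerivedCategory.homologyFunctor _ i).map α)) ∧
          Epi ((DerivedCategory.homologyFunctor _ m).map α))) :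
    (∀ (T : Set ↥X), IsClosed T → IsRetrocompact Tᶜ → ∃ r : ℤ, ∀ (m : ℤ) (E : DCoh.D X), DCoh.IsQCohD E →
        DCoh.IsPseudoCoherentD (m - r) E → (∀ i : ℤ, m - r ≤ i → CohB1.support (DCoh.HD E i) ⊆ T) →
        ∃ (P : DCoh.D X) (α : P ⟶ E), DCoh.IsPerfect P ∧ (∀ i : ℤ, CohB1.support (DCoh.HD P i) ⊆ T) ∧
          (∀ i : ℤ, m < i → IsIso ((DerivedCategory.homologyFunctor _ i).map α)) ∧
          Epi ((DerivedCategory.homologyFunctor _ m).map α)) := by
  intro T hT hTr
  have hAU' : Groth.Agent.DQGen.HasApprox (U : Scheme.{u}) := by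
    intro W hW
    obtain ⟨r, hr⟩ := hAU (W : Set ↥(U : Scheme.{u}))ᶜ W.2.isClosed_compl (by rw [compl_compl]; exact hW)
    refine ⟨r, fun m E hE hpc hs => ?_⟩
    obtain ⟨P, α, hP, hPs, hα⟩ := hr m E hE ((Groth.Agent.KFlatLib.isPseudoCoherentD_iff _ E).2 hpc) hs
    exact Groth.Agent.DQGen.killed_of_pcMap α
      ⟨hP, (Groth.Agent.DQGen.isZero_rho_iff_support W P).2 hPs⟩ hα
  let W : X.Opens := ⟨Tᶜ, hT.isOpen_compl⟩
  have hW : ((W : X.Opens) : Set X)ᶜ = T := compl_compl T
  obtain ⟨r, hr⟩ := Groth.Agent.DQGen.hasApprox_step U V hU hV hUV hcov hAU' W hTr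
  refine ⟨r, fun m E hE hpc hs => ?_⟩
  obtain ⟨P, α, hP, hα⟩ := (hr m E hE ((Groth.Agent.KFlatLib.isPseudoCoherentD_iff _ E).1 hpc)
    (fun i hi => by rw [hW]; exact hs i hi)).exists_pcMap
  refine ⟨P, α, hP.1, fun i => ?_, hα.1, hα.2⟩
  have h := (Groth.Agent.DQGen.isZero_rho_iff_support W P).1 hP.2 i
  rwa [hW] at h


end Groth.Agent.S7266
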