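import Groth.Statements.S7280
import Groth.Agent.DQGen.GammaZ
import Groth.Agent.DQGen.Compact
import Groth.Agent.KFlatLib.Scheme.RpushCoprodQCoh
-- import your own Groth.Agent.* helpers here

set_option autoImplicit false
universe u
open CategoryTheory CategoryTheory.Limits AlgebraicGeometry
attribute [local instance] HasDerivedCategory.standard
open Perf

namespace Groth.Agent.S7280

open CategoryTheory Limits AlgebraicGeometry Pretriangulated KFlatLib DQGen

lemma isIso_of_isIso_rho {U X : Scheme.{u}} (j : U ⟶ X) [IsOpenImmersion j] {A B : DCoh.D U}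
    (θ : (DCoh.Rpush j).obj A ⟶ (DCoh.Rpush j).obj B) [IsIso ((rho j).map θ)] : IsIso θ := by
  have hf := (adj j).fullyFaithfulROfIsIsoCounit
  obtain ⟨g, rfl⟩ := hf.map_surjective θ
  haveI : IsIso ((adj j).counit.app A ≫ g) := by
    have h : (rho j).map ((DCoh.Rpush j).map g) ≫ (adj j).counit.app B =
        (adj j).counit.app A ≫ g := (adj j).counit.naturality g
    rw [← h]
    infer_instance
  haveI : IsIso g := IsIso.of_isIso_comp_left ((adj j).counit.app A) g
  infer_instance

/-- Let X be a scheme, j : U ⟶ X an open immersion which is quasi-compact, and T = X ∖ U (a closed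
subset with retrocompact complement). Assuming the unbounded derived functor RΓ_T = i_* RH_T of
sections with support in T exists on D(O_X): for every family Eᵢ of objects of D_QCoh(O_X) indexed
by a small type whose direct sums ∐ Eᵢ and ∐ RΓ_T(Eᵢ) exist in D(O_X), the canonical map ∐ RΓ_T(Eᵢ)
⟶ RΓ_T(∐ Eᵢ) is an isomorphism. (The published statement is RH_T(⊕ Eᵢ) = ⊕ RH_T(Eᵢ) in D(i⁻¹O_X) for
the inclusion i : T → X; since i_* identifies D(i⁻¹O_X) with the objects of D(O_X) supported on T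
and commutes with direct sums, this is the same assertion for i_* RH_T = RΓ_T.) -/
theorem result {U X : Scheme.{u}} (j : U ⟶ X) [IsOpenImmersion j] [QuasiCompact j]
    [CxOX.HasRgammaZ j] {ι : Type u} (E : ι → DCoh.D X) (hE : ∀ i, DCoh.IsQCohD (E i)) [HasCoproduct E]
    [HasCoproduct (fun i => (CxOX.RgammaZ j).obj (E i))] :
    IsIso (Sigma.desc (fun i => (CxOX.RgammaZ j).map (Sigma.ι E i))) := by
  haveI : HasColimitsOfShape (Discrete ι) (DCoh.D X) := TriCat.hasColimitsOfShape_derivedCategory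
  haveI : HasColimitsOfShape (Discrete ι) (DCoh.D U) := TriCat.hasColimitsOfShape_derivedCategory
  choose F eF b c hT h0 using fun i => exists_gammaZ_triangle j (E i)
  obtain ⟨G, -, bT, cT, hTG, h0G⟩ := exists_gammaZ_triangle j (∐ E)
  let RΓ := CxOX.RgammaZ j
  let ε := CxOX.RgammaZToId j
  let Rp := DCoh.Rpush j
  let φ := Sigma.desc (fun i => RΓ.map (Sigma.ι E i))
  let S : Triangle (DCoh.D X) := Triangle.mk (Limits.Sigma.map fun i => ε.app (E i))
    (Limits.Sigma.map b) (Sigma.desc fun i => c i ≫ (Sigma.ι (fun i => RΓ.obj (E i)) i)⟦(1 : ℤ)⟧')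
  have hS : S ∈ distTriang (DCoh.D X) := TriCat.distinguished_of_isSum
    (fun i => Triangle.mk (ε.app (E i)) (b i) (c i)) hT S
    (fun i =>
      { hom₁ := Sigma.ι (fun i => RΓ.obj (E i)) i
        hom₂ := Sigma.ι E i
        hom₃ := Sigma.ι (fun i => Rp.obj (F i)) i
        comm₁ := (Limits.Sigma.ι_map (fun i => ε.app (E i)) i).symm
        comm₂ := (Limits.Sigma.ι_map b i).symm
        comm₃ := (Sigma.ι_desc (fun i => c i ≫ (Sigma.ι (fun i => RΓ.obj (E i)) i)⟦(1 : ℤ)⟧') i).symm })
    (TriCat.isSum_sigma _) (TriCat.isSum_sigma E) (TriCat.isSum_sigma _)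
  have hcomm : S.mor₁ ≫ 𝟙 _ = φ ≫ ε.app (∐ E) := by
    rw [Category.comp_id]
    refine Sigma.hom_ext _ _ fun i => ?_
    refine (Limits.Sigma.ι_map (fun i => ε.app (E i)) i).trans ?_
    refine ((ε.naturality (Sigma.ι E i)).symm).trans ?_
    exact (congrArg (· ≫ ε.app (∐ E))
      (Sigma.ι_desc (fun i => RΓ.map (Sigma.ι E i)) i).symm).trans (Category.assoc _ _ _)
  obtain ⟨θ, hθ₁, hθ₂⟩ := complete_distinguished_triangle_morphism S
    (Triangle.mk (ε.app (∐ E)) bT cT) hS hTG φ (𝟙 _) hcomm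
  have hz : IsZero ((rho j).obj S.obj₁) := by
    haveI := preservesColimit_restrictD j (fun i => RΓ.obj (E i))
    refine IsZero.of_iso ?_ (PreservesCoproduct.iso (rho j) fun i => RΓ.obj (E i))
    exact (IsZero.iff_id_eq_zero _).2 (Sigma.hom_ext _ _ fun i => (h0 i).eq_of_src _ _)
  haveI h2 : IsIso ((rho j).map S.mor₂) :=
    (Triangle.isZero₁_iff_isIso₂ _ ((rho j).map_distinguished _ hS)).1 hz
  haveI h3 : IsIso ((rho j).map bT) :=
    (Triangle.isZero₁_iff_isIso₂ _ ((rho j).map_distinguished _ hTG)).1 h0G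
  haveI hρ : IsIso ((rho j).map θ) := by
    have h : (rho j).map S.mor₂ ≫ (rho j).map θ = (rho j).map bT := by
      exact ((Functor.map_comp _ _ _).symm.trans (congrArg (rho j).map hθ₁)).trans
        (congrArg (rho j).map (Category.id_comp bT))
    haveI : IsIso ((rho j).map S.mor₂ ≫ (rho j).map θ) := h ▸ h3
    exact IsIso.of_isIso_comp_left ((rho j).map S.mor₂) _
  haveI : IsIso θ := by
    have hq : ∀ i, DCoh.IsQCohD (F i) := fun i => isQCohD_of_iso (eF i).symm (isQCohD_rho j (hE i))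
    let cc := Sigma.desc (fun i => Rp.map (Sigma.ι F i))
    haveI hcc : IsIso cc := isIso_sigmaDesc_rpush j F hq
    let θ' : Rp.obj (∐ F) ⟶ Rp.obj G := inv cc ≫ θ
    haveI : IsIso ((rho j).map θ') := by
      rw [Functor.map_comp]
      exact IsIso.comp_isIso' (Functor.map_isIso (rho j) (inv cc)) hρ
    have hθ' : IsIso θ' := isIso_of_isIso_rho j θ'
    have : θ = cc ≫ θ' := (IsIso.hom_inv_id_assoc cc θ).symm
    rw [this]
    exact IsIso.comp_isIso' hcc hθ'
  exact isIso₁_of_isIso₂₃
    (Triangle.homMk S (Triangle.mk (ε.app (∐ E)) bT cT) φ (𝟙 _) θ hcomm hθ₁ hθ₂) hS hTG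
    (inferInstanceAs (IsIso (𝟙 _))) ‹_›


end Groth.Agent.S7280
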