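import Groth.Statements.S7287
import Groth.Agent.FibDim.Minimal

set_option linter.style.haveILetI false
set_option backward.isDefEq.respectTransparency false
set_option backward.isDefEq.respectTransparency.types false


set_option autoImplicit false
open CategoryTheory CategoryTheory.Limits AlgebraicGeometry Opposite
universe u
open RelCyc

namespace Groth.Agent.S7287

/-- Let f from X to S be locally of finite type, r a natural number and g from S' to S a surjective
morphism. Let S'' be the fibre product of S' with itself over S (projections p, q), X' the base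
change of X along g (structure map f', projection g' to X), and X'' the base change of X along S''
with structure map f'' and the two projections p', q' to X' lying over p and q and compatible with
the projections to X. Let x be a point of X whose residue field has transcendence degree r over that
of f(x). If x1 and x2 are points of X' mapping to x whose residue fields have transcendence degree r
over those of their images in S', then there is a point of X'' whose residue field has transcendence
degree r over that of its image in S'' and whose two projections are x1 and x2. -/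
theorem result {X S S' S'' X' X'' : Scheme.{u}}
    (f : X ⟶ S) [LocallyOfFiniteType f] (r : ℕ) (g : S' ⟶ S) [Surjective g]
    (p q : S'' ⟶ S') (hS : IsPullback p q g g)
    (f' : X' ⟶ S') (g' : X' ⟶ X) (hX : IsPullback g' f' f g)
    (f'' : X'' ⟶ S'') (p' q' : X'' ⟶ X') (hp : IsPullback p' f'' f' p) (hq : IsPullback q' f'' f' q)
    (hpq : p' ≫ g' = q' ≫ g')
    (x : ↥X) (hx : Dual3.resTrdeg f x = r)
    (x₁ x₂ : ↥X') (h₁ : g'.base x₁ = x) (h₂ : g'.base x₂ = x)
    (hx₁ : Dual3.resTrdeg f' x₁ = r) (hx₂ : Dual3.resTrdeg f' x₂ = r) :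
    ∃ x'' : ↥X'', Dual3.resTrdeg f'' x'' = r ∧ p'.base x'' = x₁ ∧ q'.base x'' = x₂ := by
  haveI : LocallyOfFiniteType f' := MorphismProperty.of_isPullback hX inferInstance
  haveI : LocallyOfFiniteType f'' := MorphismProperty.of_isPullback hp inferInstance
  have hrd : ∀ {A B : Scheme.{u}} (φ : A ⟶ B) [LocallyOfFiniteType φ] (a : A),
      Dual3.resTrdeg φ a = r ↔ Groth.Agent.FibDim.rd φ a = r := fun φ _ a => by
    rw [show Dual3.resTrdeg φ a = Groth.Agent.VarDim.rdeg φ a from rfl,
      ← Groth.Agent.FibDim.rd_eq_rdeg φ a]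
    exact Nat.cast_inj
  rw [hrd] at hx hx₁ hx₂
  have hout : IsPullback q' (p' ≫ f') (g' ≫ f) g := by
    have h := hq.paste_vert hS.flip
    rwa [← hp.w, ← hX.w] at h
  have hsq : IsPullback q' p' g' g' := IsPullback.of_bot hout hpq.symm hX
  obtain ⟨x₀, h0q, h0p⟩ := Scheme.exists_preimage_of_isPullback hsq x₂ x₁ (h₂.trans h₁.symm)
  let T : Set ℕ := {n | ∃ w, w ⤳ x₀ ∧ p'.base w = x₁ ∧ f''.base w = f''.base x₀ ∧
    Groth.Agent.FibDim.rd f'' w = n}
  have hTle : ∀ n ∈ T, n ≤ r := by
    rintro n ⟨w, -, hpw, -, rfl⟩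
    exact (Groth.Agent.FibDim.rd_baseChange_le hp w).trans_eq ((congrArg _ hpw).trans hx₁)
  obtain ⟨x'', hsp, hp'', hf'', hrd''⟩ := Nat.sSup_mem (s := T) ⟨_, x₀, specializes_refl _, h0p, rfl, rfl⟩
    ⟨r, hTle⟩
  have hmin : ∀ w, w ⤳ x'' → p' w = p' x'' → f'' w = f'' x'' → w = x'' := by
    intro w hw hpw hfw
    by_contra hne
    have hlt := Groth.Agent.FibDim.rd_lt f'' hw hne hfw
    have : Groth.Agent.FibDim.rd f'' w ≤ sSup T :=
      le_csSup ⟨r, hTle⟩ ⟨w, hw.trans hsp, hpw.trans hp'', hfw.trans hf'', rfl⟩
    omega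
  have hr'' : Groth.Agent.FibDim.rd f'' x'' = r := by
    rw [Groth.Agent.FibDim.rd_baseChange_eq_of_minimal hp x'' hmin, hp'', hx₁]
  refine ⟨x'', (hrd f'' x'').2 hr'', hp'', ?_⟩
  by_contra hne
  have hgen : q'.base x'' ⤳ x₂ := h0q ▸ hsp.map q'.continuous
  have hf : f' (q' x'') = f' x₂ := by
    rw [← h0q]
    show (q' ≫ f') x'' = (q' ≫ f') x₀
    rw [hq.w]
    exact congrArg q.base hf''
  have hlt := Groth.Agent.FibDim.rd_lt f' hgen hne hf
  have hge := Groth.Agent.FibDim.rd_baseChange_le hq x''
  have hle := Groth.Agent.FibDim.rd_baseChange_le hX (q' x'')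
  have hgx : g' (q' x'') = x := by
    rw [← h₁, ← hp'']
    show (q' ≫ g') x'' = (p' ≫ g') x''
    rw [hpq]
  rw [hgx, hx] at hle
  rw [hr''] at hge
  omega
end Groth.Agent.S7287
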