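import Groth.Statements.S7292
import Groth.Agent.HTopCov.FpApprox
import Groth.Agent.HTopCov.LimitV
import Groth.Agent.HTopCov.Spec
import Groth.Agent.S8976
-- import your own Groth.Agent.* helpers here

set_option autoImplicit false
open CategoryTheory CategoryTheory.Limits AlgebraicGeometry Opposite
universe w u
open HTop


namespace Groth.Agent.S7292

/-- Let f be a morphism of affine schemes from X to Y. The following are equivalent: (1) the one-member
family given by f is a standard V covering; (2) X (with f) is the limit, as a scheme over Y, of a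
cofiltered system of affine schemes X_i over Y such that each one-member family X_i over Y is a ph
covering; (3) the same with each X_i over Y an h covering. -/
theorem result {X Y : Scheme.{u}} [IsAffine X] [IsAffine Y] (f : X ⟶ Y) :
    List.TFAE
      [HTop.IsStandardV (PreZeroHypercover.singleton.{w} f),
       ∃ (I : Type u) (_ : SmallCategory I) (_ : IsCofiltered I) (D : I ⥤ Over Y) (c : Cone D)
          (_ : IsLimit ((Over.forget Y).mapCone c)) (_ : c.pt ≅ Over.mk f),
          (∀ i, IsAffine (D.obj i).left) ∧ ∀ i, HTop.IsPhCover (PreZeroHypercover.singleton.{w} (D.obj i).hom),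
       ∃ (I : Type u) (_ : SmallCategory I) (_ : IsCofiltered I) (D : I ⥤ Over Y) (c : Cone D)
          (_ : IsLimit ((Over.forget Y).mapCone c)) (_ : c.pt ≅ Over.mk f),
          (∀ i, IsAffine (D.obj i).left) ∧ ∀ i, HTop.IsHCover (PreZeroHypercover.singleton.{w} (D.obj i).hom)] := by
  haveI haff : IsAffine Y := inferInstance
  have transport : ∀ {X' : Scheme.{u}} (f' : X' ⟶ Y) (l : X' ⟶ X), l ≫ f = f' →
      HTop.HasValLift (PreZeroHypercover.singleton.{w} f') → HTop.HasValLift (PreZeroHypercover.singleton.{w} f) := by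
    intro X' f' l hl h V _ _ g
    obtain ⟨W, hW, hW', φ, hφ, j, g', hg'⟩ := h V g
    refine ⟨W, hW, hW', φ, hφ, PUnit.unit, g' ≫ l, ?_⟩
    show (g' ≫ l) ≫ f = _
    exact (Category.assoc _ _ _).trans ((congrArg (g' ≫ ·) hl).trans hg')
  have fwd : HTop.IsStandardV (PreZeroHypercover.singleton.{w} f) →
      ∃ (I : Type u) (_ : SmallCategory I) (_ : IsCofiltered I) (D : I ⥤ Over Y) (c : Cone D)
        (_ : IsLimit ((Over.forget Y).mapCone c)) (_ : c.pt ≅ Over.mk f), (∀ i, IsAffine (D.obj i).left) ∧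
          ∀ i, LocallyOfFinitePresentation (D.obj i).hom ∧ HTop.IsVCover (PreZeroHypercover.singleton.{w} (D.obj i).hom) := by
    intro h
    obtain ⟨I, hI, hI', D, c, hc, e, haff', hlfp⟩ := Groth.Agent.HTopCov.FpApprox.exists_limit f
    refine ⟨I, hI, hI', D, c, hc, e, haff', fun i => ⟨hlfp i, ?_⟩⟩
    haveI := haff' i
    refine Groth.Agent.HTopCov.isVCover_of_hasValLift (D.obj i).hom fun V _ _ g => ?_
    obtain ⟨W, hW, hW', φ, hφ, j, g', hg'⟩ := h.lift V g
    refine ⟨W, hW, hW', φ, hφ, PUnit.unit, g' ≫ e.inv.left ≫ (c.π.app i).left, ?_⟩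
    show (g' ≫ e.inv.left ≫ (c.π.app i).left) ≫ (D.obj i).hom = _
    have e1 : (e.inv.left ≫ (c.π.app i).left) ≫ (D.obj i).hom = f := Over.w (e.inv ≫ c.π.app i)
    exact (Category.assoc _ _ _).trans ((congrArg (g' ≫ ·) e1).trans hg')
  have bwd : ∀ (I : Type u) [SmallCategory I] [IsCofiltered I] (D : I ⥤ Over Y) (c : Cone D),
      IsLimit ((Over.forget Y).mapCone c) → (c.pt ≅ Over.mk f) → (∀ i, IsAffine (D.obj i).left) →
      (∀ i, HTop.IsVCover (PreZeroHypercover.singleton.{w} (D.obj i).hom)) →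
      HTop.IsStandardV (PreZeroHypercover.singleton.{w} f) := by
    intro I _ _ D c hc e haff' hV
    haveI := haff'
    haveI hI : IsConnected I := IsCofiltered.isConnected I
    refine ⟨inferInstance, inferInstanceAs (Finite PUnit), fun _ => inferInstanceAs (IsAffine X),
      transport c.pt.hom e.hom.left (Over.w e.hom) ?_⟩
    exact Groth.Agent.HTopCov.hasValLift_limit D c (isLimitOfReflects (Over.forget Y) hc)
      fun i => Groth.Agent.HTopCov.hasValLift_of_isVCover (hV i)
  have ph2v : ∀ {T : Scheme.{u}} (E : PreZeroHypercover.{w} T), HTop.IsPhCover E → HTop.IsVCover E := by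
    intro T E hE U
    obtain ⟨F, hF, hr⟩ := hE.2 U
    exact ⟨F, Groth.Agent.HTopCov.standardV_of_standardPh F hF, hr⟩
  tfae_have 1 → 2 := fun h => by
    obtain ⟨I, hI, hI', D, c, hc, e, ha, hd⟩ := fwd h
    exact ⟨I, hI, hI', D, c, hc, e, ha, fun i =>
      (Groth.Agent.S8976.result (PreZeroHypercover.singleton.{w} (D.obj i).hom) fun _ => (hd i).1).2 (hd i).2⟩
  tfae_have 1 → 3 := fun h => by
    obtain ⟨I, hI, hI', D, c, hc, e, ha, hd⟩ := fwd h
    exact ⟨I, hI, hI', D, c, hc, e, ha, fun i => ⟨fun _ => (hd i).1, (hd i).2⟩⟩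
  tfae_have 2 → 1 := fun ⟨I, hI, hI', D, c, hc, e, ha, hd⟩ => @bwd I hI hI' D c hc e ha fun i => ph2v _ (hd i)
  tfae_have 3 → 1 := fun ⟨I, hI, hI', D, c, hc, e, ha, hd⟩ => @bwd I hI hI' D c hc e ha fun i => (hd i).2
  tfae_finish

end Groth.Agent.S7292
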