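import Groth.Statements.S7319
import Groth.Agent.ResolveX.PrincipalizeApps

set_option linter.style.haveILetI false
set_option backward.isDefEq.respectTransparency false
set_option backward.isDefEq.respectTransparency.types false
set_option maxHeartbeats 1000000

set_option autoImplicit false
universe u
open CategoryTheory CategoryTheory.Limits AlgebraicGeometry
open Resolve

open Groth.Agent Groth.Agent.ResolveX

namespace Groth.Agent.S7319

/-- Let X be a Noetherian scheme, T ⊂ X a finite set of closed points such that O_{X,x} is regular of
dimension two for x ∈ T, and I a quasi-coherent ideal sheaf with O_X/I supported on T. Then there is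
a sequence of blowings up at closed points lying over T after which I becomes invertible: a morphism
g : X' → X which is a finite composite of blowings up at closed points with regular two-dimensional
local rings, is an isomorphism over the complement of T, and is such that the inverse image ideal
sheaf I O_{X'} is the ideal of an effective Cartier divisor. (The composite is expressed as a finite
composite of contractions of exceptional curves of the first kind.) -/
theorem result (X : Scheme.{u}) [IsNoetherian X] (T : Set X) (hTf : T.Finite)
    (hTc : IsClosed T) (hT : ∀ x ∈ T, IsClosed ({x} : Set X) ∧ IsRegularLocalRing (X.presheaf.stalk x) ∧ ringKrullDim (X.presheaf.stalk x) = 2)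
    (I : X.IdealSheafData) (hI : (I.support : Set X) ⊆ T) :
    ∃ (X' : Scheme.{u}) (g : X' ⟶ X), Models.IsContractionSeq g ∧
      IsIso (g ∣_ (⟨Tᶜ, hTc.isOpen_compl⟩ : X.Opens)) ∧ BlowUp.IsEffCartierIdeal (I.comap g) := by
  have hout : ∀ q : X, q ∉ T → CartierAt I q := fun q hq =>
    ⟨1, one_mem _, by rw [stI_eq_top I fun h => hq (hI h), Ideal.span_singleton_one]⟩
  obtain ⟨X', g, hg, hgiso, hgC⟩ := exists_principalize_of_good I fun p hp => by
    have hpT : p ∈ T := by_contra fun h => hp (hout p h)
    obtain ⟨h1, h2, h3⟩ := hT p hpT
    have hlen := length_stI_ne_top I hI (fun z hz => (hT z hz).1) p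
    obtain ⟨ℓ, hℓ⟩ := WithTop.ne_top_iff_exists.1 hlen
    haveI := h2
    haveI : IsDomain (X.presheaf.stalk p) := RegLoc6.isDomain_of_isRegularLocalRing _
    exact ⟨h1, h2, h3, ℓ, 1, _, one_ne_zero, by rw [Ideal.span_singleton_one, Ideal.top_mul], hℓ.symm.le⟩
  exact ⟨X', g, hg, hgiso _ fun q hq => hout q hq, hgC⟩

end Groth.Agent.S7319
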