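import Groth.Statements.S7321
import Groth.Agent.ResRes.NormN1

set_option autoImplicit false
set_option linter.style.haveILetI false
set_option linter.unusedSectionVars false
set_option backward.isDefEq.respectTransparency false
set_option backward.isDefEq.respectTransparency.types false
set_option maxHeartbeats 1000000
universe u
open CategoryTheory CategoryTheory.Limits AlgebraicGeometry
open Resolve

namespace Groth.Agent.S7321

open Groth.Agent
open Groth.Agent.ResRes
theorem isAlteration_of_resolution {W Y : Scheme.{u}} [IsIntegral Y] [IsIntegral W] (g : W ⟶ Y) [IsProper g]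
    (V : Y.Opens) (hV : (V : Set Y).Nonempty) [IsIso (g ∣_ V)] : Curv2.IsAlteration g := by
  refine ⟨inferInstance, inferInstance, inferInstance, ⟨?_⟩, V, hV, inferInstance⟩
  refine (V.isOpen.dense hV).mono fun y hy => ?_
  obtain ⟨w, hw⟩ := (g ∣_ V).surjective ⟨y, hy⟩
  exact ⟨(g ⁻¹ᵁ V).ι w, by
    rw [← Scheme.Hom.comp_apply, ← morphismRestrict_ι, Scheme.Hom.comp_apply, hw]; rfl⟩

theorem exists_resolution (Y : Scheme.{u}) [IsIntegral Y] [IsLocallyNoetherian Y]
    [QuasiCompact (Y.fromSpecStalk (genericPoint Y))] [QuasiSeparated (Y.fromSpecStalk (genericPoint Y))]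
    (hdim : topologicalKrullDim Y ≤ 1) [IsFinite (Curv2.normalizationι Y)] :
    ∃ (X : Scheme.{u}) (g : X ⟶ Y), IsProper g ∧ IsIntegral X ∧
      (∃ V : Y.Opens, (V : Set Y).Nonempty ∧ IsIso (g ∣_ V)) ∧ ∀ x : X, IsRegularLocalRing (X.presheaf.stalk x) := by
  obtain ⟨V, hV, hiso⟩ := exists_isIso Y fun U hne => isN1_of_isFinite Y U hne
  exact ⟨_, Curv2.normalizationι Y, inferInstance,
    inferInstanceAs (IsIntegral (Y.fromSpecStalk (genericPoint Y)).normalization),
    ⟨V, hV.nonempty, hiso⟩, regular_normalization Y hdim⟩


/-- Let Y be an integral Noetherian scheme of dimension one. Then (1) there is an alteration X → Y with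
X regular, if and only if (2) Y has a resolution of singularities, i.e. a proper morphism X → Y from
an integral regular scheme which is an isomorphism over a nonempty open of Y; and (2) holds if and
only if (4) the normalization morphism of Y is finite. (A further equivalent condition, a finite
sequence of blowings up in closed points ending in a regular scheme, is stated separately. The
quasi-compactness and quasi-separatedness binders on Spec K(Y) → Y always hold; they are needed only
to form the normalization.) -/
theorem result (Y : Scheme.{u}) [IsIntegral Y] [IsNoetherian Y]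
    (hdim : topologicalKrullDim Y = 1)
    [QuasiCompact (Y.fromSpecStalk (genericPoint Y))] [QuasiSeparated (Y.fromSpecStalk (genericPoint Y))] :
    ((∃ (X : Scheme.{u}) (g : X ⟶ Y), Curv2.IsAlteration g ∧ ∀ x : X, IsRegularLocalRing (X.presheaf.stalk x)) ↔
      (∃ (X : Scheme.{u}) (g : X ⟶ Y), IsProper g ∧ IsIntegral X ∧
        (∃ V : Y.Opens, (V : Set Y).Nonempty ∧ IsIso (g ∣_ V)) ∧ ∀ x : X, IsRegularLocalRing (X.presheaf.stalk x))) ∧
    ((∃ (X : Scheme.{u}) (g : X ⟶ Y), IsProper g ∧ IsIntegral X ∧
        (∃ V : Y.Opens, (V : Set Y).Nonempty ∧ IsIso (g ∣_ V)) ∧ ∀ x : X, IsRegularLocalRing (X.presheaf.stalk x)) ↔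
      IsFinite (Curv2.normalizationι Y)) := by
  constructor
  · constructor
    · rintro ⟨W, g, ⟨hp, hW, -, hd, -⟩, hreg⟩
      haveI := hp; haveI := hW; haveI := hd
      haveI := isFinite_normalizationι Y fun U hne => isN1_of_alteration g hreg U hne
      exact exists_resolution Y hdim.le
    · rintro ⟨W, g, hp, hW, ⟨V, hV, hiso⟩, hreg⟩
      exact ⟨W, g, isAlteration_of_resolution g V hV, hreg⟩
  · constructor
    · rintro ⟨W, g, hp, hW, ⟨V, hV, hiso⟩, hreg⟩
      obtain ⟨-, -, -, hd, -⟩ := isAlteration_of_resolution g V hV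
      haveI := hd
      exact isFinite_normalizationι Y fun U hne => isN1_of_alteration g hreg U hne
    · intro hfin
      exact exists_resolution Y hdim.le

end Groth.Agent.S7321
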