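import Groth.Statements.S7322
import Groth.Agent.ResolveX.PrincipalizeApps

set_option linter.style.haveILetI false
set_option backward.isDefEq.respectTransparency false
set_option backward.isDefEq.respectTransparency.types false
set_option maxHeartbeats 1000000

set_option autoImplicit false
universe u
open CategoryTheory CategoryTheory.Limits AlgebraicGeometry
open Resolve

open Groth.Agent Groth.Agent.ResolveX

namespace Groth.Agent.S7322

/-- Let X be an integral Noetherian scheme which is regular of dimension two and Z ⊂ X a closed
subscheme, with ideal sheaf I, different from X. Then there is a sequence of blowings up in closed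
points g : X' → X (a finite composite of blowings up at closed points with regular two-dimensional
local rings, i.e. of contractions of exceptional curves of the first kind) such that the inverse
image of Z in X' is an effective Cartier divisor. (The published statement takes X any regular
scheme of dimension two; for X the disjoint union of a regular surface and a regular curve C and Z =
C no blowing up in closed points makes the inverse image of Z Cartier, so X is taken integral here,
as the proof's largest-Cartier-divisor step requires.) -/
theorem result (X : Scheme.{u}) [IsIntegral X] [IsNoetherian X]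
    (hreg : ∀ x : X, IsRegularLocalRing (X.presheaf.stalk x)) (hdim : topologicalKrullDim X = 2)
    (I : X.IdealSheafData) (hI : I ≠ ⊥) :
    ∃ (X' : Scheme.{u}) (g : X' ⟶ X), Models.IsContractionSeq g ∧ BlowUp.IsEffCartierIdeal (I.comap g) := by
  have hd : ∀ p : X, ringKrullDim (X.presheaf.stalk p) ≤ 2 := fun p => by
    rw [ringKrullDim_stalk_eq_coheight]
    refine (Order.coheight_le_krullDim p).trans ?_
    rw [← Order.krullDim_eq_of_orderIso (irreducibleSetEquivPoints (α := X))]
    exact hdim.le
  have hne : ∀ p : X, Div21Lib.stI I p ≠ ⊥ := fun p h0 => by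
    refine hI (Scheme.IdealSheafData.ext (funext fun V => ?_))
    rw [Scheme.IdealSheafData.ideal_bot]
    refine (le_bot_iff.1 fun s hs => (Ideal.mem_bot).2 ?_)
    rcases isEmpty_or_nonempty ↥V.1 with hV | ⟨⟨v, hv⟩⟩
    · have hVb : (V.1 : X.Opens) = ⊥ := le_bot_iff.1 fun v hv => (IsEmpty.false (⟨v, hv⟩ : V.1)).elim
      haveI : Subsingleton Γ(X, V.1) := by rw [hVb]; infer_instance
      exact Subsingleton.elim _ _
    have hη : genericPoint X ∈ V.1 := ((genericPoint_spec X).specializes (Set.mem_univ v)).mem_open V.1.2 hv
    have hsp : genericPoint X ⤳ p := (genericPoint_spec X).specializes trivial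
    have h1 : Div21Lib.stI I (genericPoint X) = ⊥ := by
      rw [← Div21Lib.stI_generize I hsp, h0, Ideal.map_bot]
    rw [Div21Lib.stI_eq I V hη] at h1
    have h2 : X.presheaf.germ V.1 (genericPoint X) hη s = 0 := Ideal.mem_bot.1 (h1 ▸ Ideal.mem_map_of_mem _ hs)
    exact germ_injective_of_isIntegral X (genericPoint X) hη (h2.trans (map_zero _).symm)
  obtain ⟨X', g, hg, -, hgC⟩ := exists_principalize_of_good I fun p hp => by
    haveI := hreg p
    haveI : IsDomain (X.presheaf.stalk p) := RegLoc6.isDomain_of_isRegularLocalRing _
    haveI : UniqueFactorizationMonoid (X.presheaf.stalk p) := (S2821.result _).2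
    have h2 : ringKrullDim (X.presheaf.stalk p) = 2 :=
      le_antisymm (hd p) (not_lt.1 fun h => hp (cartierAt_of_dim_le_one h (hne p)))
    refine ⟨closure_subset_iff_isClosed.1 fun w hw => ?_, hreg p, h2, ?_⟩
    · by_contra hwp
      have hsp : p ⤳ w := specializes_iff_mem_closure.2 hw
      have hlt : w < p := ⟨hsp, fun h : w ⤳ p => hwp (h.antisymm hsp).eq⟩
      have h6 := Order.coheight_add_one_le hlt
      have h7 := hd w
      rw [ringKrullDim_stalk_eq_coheight] at h7 h2
      have h8 : (2 : ℕ∞) + 1 ≤ 2 :=
        (add_le_add (WithBot.coe_le_coe.1 h2.ge) le_rfl).trans (h6.trans (WithBot.coe_le_coe.1 h7))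
      exact absurd h8 (by norm_num)
    · obtain ⟨g, K, hg, he, hfin⟩ := exists_factor_finite (Div21Lib.stI I p) (hne p)
      obtain ⟨ℓ, hℓ⟩ := WithTop.ne_top_iff_exists.1 (hfin (hd p))
      exact ⟨ℓ, g, K, hg, he, hℓ.symm.le⟩
  exact ⟨X', g, hg, hgC⟩

end Groth.Agent.S7322
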