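import Groth.Statements.S7324
import Groth.Agent.ResolveX.LocalPoint

set_option linter.style.haveILetI false
set_option backward.isDefEq.respectTransparency false
set_option backward.isDefEq.respectTransparency.types false
set_option maxHeartbeats 1000000

set_option autoImplicit false
universe u
open CategoryTheory CategoryTheory.Limits AlgebraicGeometry
open Resolve

attribute [local instance 2000] CategoryTheory.CategoryStruct.toQuiver
open Groth.Agent.H23.PicMul

namespace Groth.Agent.S7324

/-- Let (A, m) be a regular local ring of dimension two and b : X → Spec A the blowing up in m, with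
exceptional divisor E, ideal sheaf I = O_X(-E), and M = O_X(E) an inverse of I for the tensor
product. Then Pic(X) = Z generated by O_X(E): every invertible O_X-module is isomorphic to I^{⊗ n}
or to M^{⊗ n} for some n ≥ 0, and I^{⊗ n} is not isomorphic to O_X for n ≥ 1. -/
theorem result (A : Type u) [CommRing A] [IsRegularLocalRing A] (hA : ringKrullDim A = 2)
    (X : Scheme.{u}) (b : X ⟶ Spec (CommRingCat.of A)) (hb : BlowUp.IsBlowUp b (Curv2.idealSheaf A (IsLocalRing.maximalIdeal A)))
    (M : X.Modules) (hM : ClSub.IsInverseOf M (ClSub.idealMod (BlowUp.exceptional b (Curv2.idealSheaf A (IsLocalRing.maximalIdeal A))))) :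
    (∀ L : X.Modules, PicF.IsInvertible L → ∃ n : ℕ,
      Nonempty (L ≅ CohB1.tensorPow (ClSub.idealMod (BlowUp.exceptional b (Curv2.idealSheaf A (IsLocalRing.maximalIdeal A)))) n) ∨
        Nonempty (L ≅ CohB1.tensorPow M n)) ∧
    ∀ n : ℕ, 1 ≤ n →
      IsEmpty (CohB1.tensorPow (ClSub.idealMod (BlowUp.exceptional b (Curv2.idealSheaf A (IsLocalRing.maximalIdeal A)))) n ≅
        Coh.structureModule X) := by
  obtain ⟨r, -, ⟨τ⟩⟩ := Groth.Agent.ResolveX.exists_projLine_exceptional hA hb
  have hI : PicF.IsInvertible (ClSub.idealMod (BlowUp.exceptional b (Curv2.idealSheaf A (IsLocalRing.maximalIdeal A)))) :=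
    Groth.Agent.Big.isInvertible_ideal hb.1
  have hMI : PicF.cl M * PicF.cl (ClSub.idealMod (BlowUp.exceptional b (Curv2.idealSheaf A (IsLocalRing.maximalIdeal A)))) = 1 :=
    (Groth.Agent.H23.PicMul.cl_tensor _ _).symm.trans ((Groth.Agent.H23.PicMul.cl_eq_iff.2 hM).trans Groth.Agent.H23.PicMul.one_def.symm)
  refine ⟨fun L hL => ?_, fun n hn => ⟨fun φ => ?_⟩⟩
  · obtain ⟨i, j, h⟩ := Groth.Agent.ResolveX.exists_pow_local A hA hb hL
    replace h : PicF.cl L * PicF.cl (ClSub.idealMod (BlowUp.exceptional b (Curv2.idealSheaf A (IsLocalRing.maximalIdeal A)))) ^ i =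
        PicF.cl (ClSub.idealMod (BlowUp.exceptional b (Curv2.idealSheaf A (IsLocalRing.maximalIdeal A)))) ^ j := h
    have hu := (Groth.Agent.H23.PicMul.isUnit_cl hI).pow i
    rcases le_total i j with hij | hij
    · obtain ⟨n, rfl⟩ := Nat.exists_eq_add_of_le hij
      refine ⟨n, Or.inl (Groth.Agent.H23.PicMul.cl_eq_iff.1 ?_)⟩
      rw [Groth.Agent.H23.PicMul.cl_tensorPow]
      rw [pow_add, mul_comm (PicF.cl (ClSub.idealMod _) ^ i)] at h
      exact hu.mul_left_inj.1 h
    · obtain ⟨n, rfl⟩ := Nat.exists_eq_add_of_le hij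
      refine ⟨n, Or.inr (Groth.Agent.H23.PicMul.cl_eq_iff.1 ?_)⟩
      rw [Groth.Agent.H23.PicMul.cl_tensorPow]
      refine ((Groth.Agent.H23.PicMul.isUnit_cl hI).pow (j + n)).mul_left_inj.1 (h.trans ?_)
      rw [pow_add, mul_left_comm, ← mul_pow, hMI, one_pow, mul_one]
  · have h1 := congrArg (PicF.pullCl (r.hom ≫ ((Groth.Agent.BlowUpLib.centre (IsLocalRing.maximalIdeal A)).comap b).subschemeι))
      ((Groth.Agent.H23.PicMul.cl_tensorPow _ n).symm.trans (Groth.Agent.H23.PicMul.cl_eq_iff.2 ⟨φ⟩))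
    rw [Groth.Agent.H23.PicMul.pullCl_pow, ← Groth.Agent.H23.PicMul.one_def, Groth.Agent.H23.PicMul.pullCl_one] at h1
    have h2 : PicF.cl (Twist.twistProjSpace 1 (IsLocalRing.ResidueField A) 1) ^ n = 1 := by
      rw [← Groth.Agent.H23.PicMul.cl_eq_iff.2 ⟨τ⟩]
      exact h1
    have := Groth.Agent.ResolveX.twist_pow_injective (IsLocalRing.ResidueField A) (i := n) (j := 0) (by rw [h2, pow_zero])
    omega

end Groth.Agent.S7324
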