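import Groth.Statements.S7325
import Groth.Agent.ResolveX.Contraction

set_option linter.style.haveILetI false
set_option backward.isDefEq.respectTransparency false
set_option backward.isDefEq.respectTransparency.types false
set_option maxHeartbeats 1000000

set_option autoImplicit false
universe u
open CategoryTheory CategoryTheory.Limits AlgebraicGeometry
open Resolve

attribute [local instance 2000] CategoryTheory.CategoryStruct.toQuiver

namespace Groth.Agent.S7325

/-- Let X be a Noetherian scheme, ι : E → X a closed immersion which is an exceptional curve of the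
first kind, and b : X → X' a contraction of E. Then pullback along b is injective on isomorphism
classes of invertible modules, and an invertible O_X-module L is the pullback of some invertible
O_{X'}-module if and only if ι^* L ≅ O_E. (The published statement is a split short exact sequence 0
→ Pic(X') → Pic(X) → Z → 0 whose second map is the degree on E; this row states the injectivity of
the first map and the description of its image, and does not restate the degree map or the
splitting.) -/
theorem result {E X X' : Scheme.{u}} [IsNoetherian X] (ι : E ⟶ X) [IsClosedImmersion ι]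
    (hE : Models.IsExcCurve ι) (b : X ⟶ X') (hb : Models.IsContractionOf ι b) :
    (∀ L₁ L₂ : X'.Modules, PicF.IsInvertible L₁ → PicF.IsInvertible L₂ →
      Nonempty ((Scheme.Modules.pullback b).obj L₁ ≅ (Scheme.Modules.pullback b).obj L₂) → Nonempty (L₁ ≅ L₂)) ∧
    ∀ L : X.Modules, PicF.IsInvertible L →
      ((∃ L' : X'.Modules, PicF.IsInvertible L' ∧ Nonempty ((Scheme.Modules.pullback b).obj L' ≅ L)) ↔
        Nonempty ((Scheme.Modules.pullback ι).obj L ≅ Coh.structureModule E)) := by
  obtain ⟨hN, hP, y, hy, hr, hreg, hdim, hbl⟩ := hb
  refine ⟨fun L₁ L₂ h₁ h₂ h => Groth.Agent.ResolveX.pullback_injective y hy hdim hbl h₁ h₂ h, fun L hL => ⟨?_, fun h => ?_⟩⟩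
  · rintro ⟨L', hL', ⟨e⟩⟩
    obtain ⟨t⟩ := Groth.Agent.ResolveX.triv_exceptional y hy hdim hbl hL' ι (fun z => hr.le ⟨z, rfl⟩)
    exact ⟨(Scheme.Modules.pullback ι).mapIso e.symm ≪≫ (Scheme.Modules.pullbackComp ι b).app L' ≪≫ t⟩
  · obtain ⟨φ, hφ⟩ := Groth.Agent.ResolveX.exists_iso_exceptional ι y hy hdim hbl hE hr
    refine Groth.Agent.ResolveX.exists_descent y hy hdim hbl hL ?_
    rw [← hφ]
    exact (Groth.Agent.H23.TrivBasic.triv_comp_iff φ.hom ι).1 (Groth.Agent.H23.TrivBasic.Triv.pullback φ.hom h)

end Groth.Agent.S7325
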