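import Groth.Statements.S7326
import Groth.Agent.ArInt.PicKernel

set_option linter.style.haveILetI false
set_option backward.isDefEq.respectTransparency false
set_option backward.isDefEq.respectTransparency.types false
set_option maxHeartbeats 1000000

set_option autoImplicit false
universe u
open CategoryTheory CategoryTheory.Limits AlgebraicGeometry
open Models

open Groth.Agent Groth.Agent.H23.PicMul


namespace Groth.Agent.S7326

/-- Let R be a discrete valuation ring with fraction field K, C a smooth proper curve over K with H^0(C,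
O_C) = K, X a regular proper model of C, Γ_1, …, Γ_n the irreducible components of the closed fibre
with multiplicities m_i, d = gcd(m_i), and D = Σ (m_i/d) Γ_i the effective Cartier divisor with
ideal sheaf I_D = Π I(Γ_i)^{m_i/d}. Then O_X(D) (any L with L ⊗ I_D ≅ O_X) has order dividing d in
Pic(X), i.e. L^{⊗ d} ≅ O_X, and the conormal sheaf I_D|_D, an invertible O_D-module, has order
dividing d in Pic(D). -/
theorem result (R : Type u) [CommRing R] [IsDomain R] [IsDiscreteValuationRing R]
    (C X : Scheme.{u}) (f : C ⟶ Spec (CommRingCat.of (FractionRing R))) (p : X ⟶ Spec (CommRingCat.of R))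
    (hC : Curve.IsSmoothProperCurve (FractionRing R) C f) (hH0 : IsIso f.appTop)
    (hX : Models.IsRegularProperModel R X p C f)
    {n : ℕ} (Γ : Fin n → ArSurf.VertComp R (Over.mk p)) (hΓ : Models.IsComponentList R (Over.mk p) Γ)
    (L : X.Modules)
    (hL : ClSub.IsInverseOf L (ClSub.idealMod (∏ i, (Γ i).ι.ker ^ (Models.mult R (Over.mk p) (Γ i) / Models.multGcd R (Over.mk p) Γ)))) :
    Nonempty (CohB1.tensorPow L (Models.multGcd R (Over.mk p) Γ) ≅ Coh.structureModule X) ∧
      Nonempty (CohB1.tensorPow ((Scheme.Modules.pullback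
          (∏ i, (Γ i).ι.ker ^ (Models.mult R (Over.mk p) (Γ i) / Models.multGcd R (Over.mk p) Γ)).subschemeι).obj
          (ClSub.idealMod (∏ i, (Γ i).ι.ker ^ (Models.mult R (Over.mk p) (Γ i) / Models.multGcd R (Over.mk p) Γ))))
          (Models.multGcd R (Over.mk p) Γ) ≅
        Coh.structureModule (∏ i, (Γ i).ι.ker ^ (Models.mult R (Over.mk p) (Γ i) / Models.multGcd R (Over.mk p) Γ)).subscheme) := by
  classical
  haveI := (ArInt.model_facts hC hX.1).1
  haveI := ArInt.isSurf hC hX Γ hΓ
  haveI : Flat (Over.mk p).hom := hX.1.1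
  let g := Models.multGcd R (Over.mk p) Γ
  let m' : Fin n → ℕ := fun i => Models.mult R (Over.mk p) (Γ i) / g
  let I := ArInt.divOf Γ m'
  have hI : PicF.cl (ClSub.idealMod I) ^ g = 1 := by
    rw [ArInt.cl_divOf, ← Finset.prod_pow]
    refine Eq.trans ?_ (ArInt.cl_divOf_mult Γ hΓ.1 (ArInt.cover _ Γ hΓ))
    rw [ArInt.cl_divOf]
    refine Finset.prod_congr rfl fun i _ => ?_
    rw [← pow_mul]
    exact congrArg _ (Nat.div_mul_cancel (Finset.gcd_dvd (Finset.mem_univ i)))
  let L' : (Over.mk p).left.Modules := L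
  have hL' : PicF.cl L' * PicF.cl (ClSub.idealMod I) = 1 := by
    rw [← H23.PicMul.cl_tensor, H23.PicMul.one_def]; exact H23.PicMul.cl_eq_iff.2 hL
  constructor
  · refine H23.PicMul.cl_eq_iff.1 ?_
    rw [H23.PicMul.cl_tensorPow, ← H23.PicMul.one_def]
    calc PicF.cl L' ^ g = PicF.cl L' ^ g * PicF.cl (ClSub.idealMod I) ^ g := by rw [hI, mul_one]
      _ = 1 := by rw [← mul_pow, hL', one_pow]
  · refine H23.PicMul.cl_eq_iff.1 ?_
    rw [H23.PicMul.cl_tensorPow, ← H23.PicMul.one_def]
    show (PicF.pullCl I.subschemeι (PicF.cl (ClSub.idealMod I))) ^ g = 1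
    show (H23.PicMul.pullHom I.subschemeι (PicF.cl (ClSub.idealMod I))) ^ g = 1
    rw [← map_pow, hI, map_one]

end Groth.Agent.S7326
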