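import Groth.Statements.S7327
import Groth.Agent.ResRes.AnUnramSch

set_option autoImplicit false
set_option linter.style.haveILetI false
set_option linter.unusedSectionVars false
set_option backward.isDefEq.respectTransparency false
set_option backward.isDefEq.respectTransparency.types false
set_option maxHeartbeats 1000000
universe u
open CategoryTheory CategoryTheory.Limits AlgebraicGeometry
open Resolve

namespace Groth.Agent.S7327

open Groth.Agent
open Groth.Agent.ResRes
open scoped TensorProduct

/-- Let (A, m) be a Noetherian local ring with completion A^, f : X → Spec A a morphism locally of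
finite type with X integral, and Y = X ×_{Spec A} Spec(A^). If the complement of the closed fibre in
Y is normal (the local rings of Y at points not over the closed point of Spec(A^) are integrally
closed domains), then the normalization morphism of X is finite. (The published statement also
identifies the base change of the normalization of X to A^ with the normalization of Y; this row
does not restate that part. The quasi-compactness and quasi-separatedness binders on Spec K(X) → X
always hold.) -/
theorem result (A : Type u) [CommRing A] [IsLocalRing A] [IsNoetherianRing A]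
    (X : Scheme.{u}) [IsIntegral X] (f : X ⟶ Spec (CommRingCat.of A)) [LocallyOfFiniteType f]
    [QuasiCompact (X.fromSpecStalk (genericPoint X))] [QuasiSeparated (X.fromSpecStalk (genericPoint X))]
    (hY : ∀ y : ↥(Curv2.bcCpl A f), (Curv2.bcCplSnd A f).base y ≠ IsLocalRing.closedPoint (Curv2.cpl A) →
      IsDomain ((Curv2.bcCpl A f).presheaf.stalk y) ∧ IsIntegrallyClosed ((Curv2.bcCpl A f).presheaf.stalk y)) :
    IsFinite (Curv2.normalizationι X) := by
  refine isFinite_normalizationι_of_reduced f ?_
  letI := (gamGen f).toAlgebra
  by_cases h0 : ∀ a ∈ IsLocalRing.maximalIdeal A, gamGen f a = 0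
  · exact isReduced_generic_cpl_of_closed A X.functionField h0
  push Not at h0
  obtain ⟨a, ha, hane⟩ := h0
  obtain ⟨_, ⟨V, hV, rfl⟩, hηV, -⟩ :=
    X.isBasis_affineOpens.exists_subset_of_mem_open (Set.mem_univ (genericPoint X)) isOpen_univ
  haveI : Nonempty (V : X.Opens) := ⟨⟨_, hηV⟩⟩
  letI := (gamAt f V).toAlgebra
  haveI : IsScalarTower A Γ(X, V) X.functionField :=
    IsScalarTower.of_algebraMap_eq fun a => (germ_gamAt f V a).symm
  haveI := functionField_isFractionRing_of_isAffineOpen X V hV
  obtain ⟨ι, hι, hsnd⟩ := exists_chart f hV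
  haveI := Groth.Agent.FlatLoc6.isLocalRing_cpl A
  refine isReduced_generic_cpl A Γ(X, V) X.functionField fun Q _ hQ => ?_
  let q : PrimeSpectrum (TensorProduct A Γ(X, V) (EGA4.Cpl A)) := ⟨Q, inferInstance⟩
  have hne : (Curv2.bcCplSnd A f).base (ι q) ≠ IsLocalRing.closedPoint (Curv2.cpl A) := by
    intro h
    have h1 : (Spec.map (CommRingCat.ofHom
        (Algebra.TensorProduct.includeRight (R := A) (A := Γ(X, V)) (B := EGA4.Cpl A)).toRingHom)) q =
        IsLocalRing.closedPoint (Curv2.cpl A) := by
      rw [← hsnd, Scheme.Hom.comp_apply]; exact h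
    have h2 : algebraMap A (EGA4.Cpl A) a ∈ IsLocalRing.maximalIdeal (EGA4.Cpl A) := by
      rw [← Groth.Agent.CAlgOdd.NagataFT.cpl_map_max]; exact Ideal.mem_map_of_mem _ ha
    have h3 : (1 : Γ(X, V)) ⊗ₜ[A] algebraMap A (EGA4.Cpl A) a ∈ Q := by
      have h4 := congrArg PrimeSpectrum.asIdeal h1
      exact (SetLike.ext_iff.1 h4 (algebraMap A (EGA4.Cpl A) a)).2 h2
    refine hQ (gamAt f V a) (fun h4 => hane ?_) ?_
    · rw [← germ_gamAt f V a, h4, map_zero]
    · rw [Algebra.algebraMap_eq_smul_one, TensorProduct.tmul_smul, TensorProduct.smul_tmul',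
        ← Algebra.algebraMap_eq_smul_one] at h3
      exact h3
  obtain ⟨hdom, -⟩ := hY (ι q) hne
  haveI := hdom
  let e := (asIso (ι.stalkMap q)).commRingCatIsoToRingEquiv.trans
    (AlgebraicGeometry.Spec.stalkIso (CommRingCat.of (TensorProduct A Γ(X, V) (EGA4.Cpl A))) q).commRingCatIsoToRingEquiv
  exact isReduced_of_injective e.symm.toRingHom e.symm.injective

end Groth.Agent.S7327
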