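import Groth.Statements.S7339
import Groth.Agent.BlowCoh.PnTwist
import Groth.Agent.BlowCoh.PnVanishBase
import Groth.Agent.ResolveX.BlowPic
import Groth.Agent.ExtShX.Divisor
import Groth.Agent.QCoh.AffineCohom
import Groth.Agent.QCoh.HHExact
import Groth.Agent.S0927
import Groth.Agent.ExtShX.Basic
-- import your own Groth.Agent.* helpers here

set_option autoImplicit false
set_option linter.style.haveILetI false
set_option backward.isDefEq.respectTransparency false
set_option backward.isDefEq.respectTransparency.types false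
set_option maxHeartbeats 1000000
universe u
open CategoryTheory CategoryTheory.Limits AlgebraicGeometry
open Resolve

namespace Groth.Agent.S7339

open Groth.Agent Groth.Agent.H23.PicMul in
/-- An isomorphism of projective lines pulls `O(1)` back to a twist of positive degree. -/
theorem exists_pullCl_pos {k k' : Type u} [Field k] [Field k']
    (θ : CohB1.ProjSpace 1 k' ≅ CohB1.ProjSpace 1 k) :
    ∃ d : ℤ, 1 ≤ d ∧ PicF.pullCl θ.hom (BlowCoh.clO 1 k 1) = BlowCoh.clO 1 k' d := by
  have hO : PicF.IsInvertible (Twist.twistProjSpace 1 k (1 : ℤ)) := ArInt.isInvertible_twist k 1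
  obtain ⟨d, ⟨e⟩⟩ := S1697.result k' 1 _ (PicClLib.isInvertible_pullback θ.hom hO)
  refine ⟨d, ?_, cl_eq_iff.2 ⟨e⟩⟩
  by_contra hd
  rcases lt_or_eq_of_le (show d ≤ 0 by omega) with hlt | h0
  · haveI := S0844.result k' 1 d 0 (fun h => absurd h.2 (by omega)) (fun h => absurd h.1 (by omega))
    haveI hs : Subsingleton (Coh.HH _ ((Scheme.Modules.pullback θ.hom).obj (Twist.twistProjSpace 1 k (1 : ℤ))) 0) :=
      QCoh.subsingleton_HH_of_iso e.symm 0 inferInstance
    obtain ⟨p⟩ := QCoh.HH_push_of_isAffineHom θ.hom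
      (ProjUPX.isQCoh_of_isInvertible (PicClLib.isInvertible_pullback θ.hom hO)) 0
    have hu := H23.PullPush.isIso_unit_of_isFinLocFree θ.hom
      (fun U => ConcreteCategory.bijective_of_isIso (θ.hom.app U)) _ (H23.PullPush.isFinLocFree_of_isInvertible hO)
    haveI h1 : Subsingleton (Coh.HH _ (Twist.twistProjSpace 1 k (1 : ℤ)) 0) :=
      QCoh.subsingleton_HH_of_iso (@asIso _ _ _ _ _ hu).symm 0
        p.symm.toEquiv.subsingleton
    obtain ⟨φ⟩ := S0843.result k 1 1
    haveI : Subsingleton ↥(MvPolynomial.homogeneousSubmodule (Fin (1 + 1)) k 1) :=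
      (show Coh.HH (CohB1.ProjSpace 1 k) (Twist.twistProjSpace 1 k ((1 : ℕ) : ℤ)) 0 ≃ₗ[k] _ from φ).toEquiv.symm.subsingleton
    have h2 := CurveEmbed.finrank_binary k 1
    rw [Module.finrank_zero_of_subsingleton] at h2
    omega
  · subst h0
    have h1 : PicF.pullCl θ.hom (BlowCoh.clO 1 k 1) = 1 := by
      rw [← BlowCoh.clO_zero]; exact cl_eq_iff.2 ⟨e⟩
    have h2 := congrArg (PicF.pullCl θ.inv) h1
    rw [PicClLib.pullCl_comp, Iso.inv_hom_id, PicClLib.pullCl_id, pullCl_one] at h2
    exact one_ne_zero (ResolveX.twist_pow_injective k (i := 1) (j := 0) (by rw [pow_one, pow_zero]; exact h2))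

/-- Let X be a Noetherian scheme, ι : E → X a closed immersion which is an exceptional curve of the
first kind, with ideal sheaf I and M = O_X(E) an inverse of I for the tensor product, and L an
invertible O_X-module whose pullback to E ≅ P^1_k (for some field k and isomorphism e : P^1_k ≅ E)
is isomorphic to O(n). If H^1(X, L) = 0 and n ≥ 0, then H^1(X, L(iE)) = 0 for 0 ≤ i ≤ n + 1, where
L(iE) = L ⊗ M^{⊗ i}. (The published statement also asserts, for n ≤ 0, that H^1(X, L) → H^1(X, L(E))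
is injective; this row states only the vanishing for n ≥ 0.) -/
theorem result {E X : Scheme.{u}} [IsNoetherian X] (ι : E ⟶ X) [IsClosedImmersion ι]
    (hE : Models.IsExcCurve ι) (M : X.Modules) (hM : ClSub.IsInverseOf M (ClSub.idealMod ι.ker))
    (L : X.Modules) (hL : PicF.IsInvertible L)
    (k : Type u) [Field k] (e : CohB1.ProjSpace 1 k ≅ E) (n : ℕ)
    (hn : Nonempty ((Scheme.Modules.pullback (e.hom ≫ ι)).obj L ≅ Twist.twistProjSpace 1 k (n : ℤ)))
    (h1 : Subsingleton (Coh.HH X L 1)) (i : ℕ) (hi : i ≤ n + 1) :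
    Subsingleton (Coh.HH X (CohB1.tensorMod L (CohB1.tensorPow M i)) 1) := by
  open Groth.Agent Groth.Agent.H23.PicMul in
  obtain ⟨hI, k', _, e', ⟨τ⟩⟩ := hE
  let J := ι.ker
  let φ := e'.hom ≫ ι
  haveI : IsProper (CohB1.ProjSpace.toSpec 1 k') := PnCoh.Chow.isProper_toSpec 1 k'
  haveI : IsClosedImmersion φ := inferInstanceAs (IsClosedImmersion (e'.hom ≫ ι))
  have hJ : PicF.IsInvertible (ClSub.idealMod J) := Big.isInvertible_ideal hI
  have hMI : PicF.cl M * PicF.cl (ClSub.idealMod J) = 1 := by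
    rw [← cl_tensor, one_def]; exact cl_eq_iff.2 hM
  have hMi : PicF.IsInvertible M := AsympCoh.isInvertible_of_isInverseOf hJ (M := M) (by
    obtain ⟨c⟩ := comm (ClSub.idealMod J) M
    obtain ⟨m⟩ := hM
    exact ⟨c ≪≫ m⟩)
  -- degrees on the line
  obtain ⟨d, hd, hθ⟩ := exists_pullCl_pos (e' ≪≫ e.symm)
  have hL' : PicF.pullCl φ (PicF.cl L) = BlowCoh.clO 1 k' (d * n) := by
    obtain ⟨t⟩ := hn
    have h1 : PicF.pullCl (e.hom ≫ ι) (PicF.cl L) = BlowCoh.clO 1 k 1 ^ n := by
      rw [BlowCoh.pow_clO, one_mul]; exact cl_eq_iff.2 ⟨t⟩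
    have h2 := congrArg (PicF.pullCl (e' ≪≫ e.symm).hom) h1
    rw [PicClLib.pullCl_comp, pullCl_pow, hθ, BlowCoh.pow_clO] at h2
    rw [← h2]
    congr 1
    simp [φ]
  have hM' : PicF.pullCl φ (PicF.cl M) = BlowCoh.clO 1 k' (-1) := by
    have h1 := congrArg (PicF.pullCl φ) hMI
    rw [pullCl_mul, pullCl_one, show PicF.pullCl φ (PicF.cl (ClSub.idealMod J)) = BlowCoh.clO 1 k' 1 from
      cl_eq_iff.2 ⟨τ⟩] at h1
    calc PicF.pullCl φ (PicF.cl M)
        = PicF.pullCl φ (PicF.cl M) * (BlowCoh.clO 1 k' 1 * BlowCoh.clO 1 k' (-1)) := by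
          rw [← BlowCoh.clO_add, add_neg_cancel, BlowCoh.clO_zero, mul_one]
      _ = BlowCoh.clO 1 k' (-1) := by rw [← mul_assoc, h1, one_mul]
  induction i with
  | zero =>
    obtain ⟨u⟩ : Nonempty (CohB1.tensorMod L (CohB1.tensorPow M 0) ≅ L) := cl_eq_iff.1 (by
      rw [cl_tensor, cl_tensorPow, pow_zero, mul_one])
    exact QCoh.subsingleton_HH_of_iso u.symm 1 h1
  | succ i ih =>
    let T := CohB1.tensorMod L (CohB1.tensorPow M (i + 1))
    have hT : PicF.IsInvertible T := isInvertible_tensor hL (isInvertible_tensorPow hMi _)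
    have hA : Subsingleton (Coh.HH X (BlowCoh.Jets.seq T J).X₁ 1) := by
      obtain ⟨u⟩ : Nonempty (CohB1.tensorMod T (ClSub.idealMod J) ≅ CohB1.tensorMod L (CohB1.tensorPow M i)) :=
        cl_eq_iff.1 (by
          rw [cl_tensor, cl_tensor, cl_tensor, cl_tensorPow, cl_tensorPow, pow_succ]
          simp only [mul_assoc]
          rw [hMI, mul_one])
      exact QCoh.subsingleton_HH_of_iso u.symm 1 (ih (by omega))
    have hC : Subsingleton (Coh.HH X (BlowCoh.Jets.seq T J).X₃ 1) := by
      haveI : HasInjectiveResolutions (CohB1.ProjSpace 1 k').Modules := KFlatLib.hasInjectiveResolutions_modules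
      haveI := QCoh.preservesFiniteLimits_push φ
      obtain ⟨p⟩ := S0927.result φ (Coh.structureModule _) T (H23.PullPush.isFinLocFree_of_isInvertible hT) 0
      let z := (Scheme.Modules.pushforward φ).rightDerivedZeroIsoSelf
      obtain ⟨q⟩ := ExtShX.nonempty_push_iso_quotMod φ
      obtain ⟨w⟩ := unit ((Scheme.Modules.pullback φ).obj T)
      obtain ⟨s⟩ : Nonempty ((Scheme.Modules.pullback φ).obj T ≅
          Twist.twistProjSpace 1 k' (d * n + (-1) * ((i + 1 : ℕ) : ℤ))) := cl_eq_iff.1 (by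
        show PicF.pullCl φ (PicF.cl T) = BlowCoh.clO 1 k' _
        rw [cl_tensor, cl_tensorPow, pullCl_mul, pullCl_pow, hL', hM', BlowCoh.pow_clO, ← BlowCoh.clO_add])
      haveI hv := S0844.result k' 1 (d * n + (-1) * ((i + 1 : ℕ) : ℤ)) 1 (fun h => absurd h.1 one_ne_zero)
        (fun h => by
          have : (n : ℤ) ≤ d * n := le_mul_of_one_le_left (by positivity) hd
          push_cast at h
          omega)
      obtain ⟨H⟩ := QCoh.HH_push_of_isAffineHom φ
        (ProjUPX.isQCoh_of_isInvertible (PicClLib.isInvertible_pullback φ hT)) 1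
      haveI : Subsingleton (Coh.HH _ ((Scheme.Modules.pullback φ).obj T) 1) :=
        QCoh.subsingleton_HH_of_iso s.symm 1 hv
      haveI h2 : Subsingleton (Coh.HH X ((Scheme.Modules.pushforward φ).obj ((Scheme.Modules.pullback φ).obj T)) 1) :=
        H.symm.toEquiv.subsingleton
      have hk : φ.ker = J := Scheme.Hom.ker_comp_of_isIso _ _
      let q' : (Coh.Rpush φ 0).obj (Coh.structureModule _) ≅ ClSub.quotMod J :=
        z.app _ ≪≫ q ≪≫ eqToIso (by rw [hk])
      exact QCoh.subsingleton_HH_of_iso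
        ((Scheme.Modules.pushforward φ).mapIso w.symm ≪≫ (z.app _).symm ≪≫ p.symm ≪≫
          ((DCoh.tensorBi.obj T).mapIso q')) 1 h2
    exact QCoh.subsingleton_HH_X₂ (BlowCoh.Jets.shortExact_seq T J hT) 1 hA hC

end Groth.Agent.S7339
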