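import Groth.Statements.S7340
import Groth.Agent.ResolveX.PthTrace

set_option autoImplicit false
universe u
open Polynomial
open Resolve

namespace Groth.Agent.S7340

/-- Let p be a prime number and R an F_p-algebra, a, b ∈ R, S_a = R[x]/(x^p - a) and S_b = R[y]/(y^p -
b). The trace Tr_x : Ω_{S_a/R} → Ω_R is the R-linear map with x^i dx ↦ 0 for 0 ≤ i ≤ p - 2 and
x^{p-1} dx ↦ da (these determine it, Ω_{S_a/R} being free over R on the x^i dx), and similarly Tr_y.
Then for every R-algebra homomorphism φ : S_a → S_b one has Tr_x = Tr_y ∘ φ_*: for all s, t ∈ S_a,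
Tr_x(s dt) = Tr_y(φ(s) dφ(t)). Here Ω_R is the module of absolute differentials Ω_{R/Z}. -/
theorem result (p : ℕ) [Fact p.Prime] (R : Type u) [CommRing R] [CharP R p] (a b : R)
    (φ : AdjoinRoot (X ^ p - C a : R[X]) →ₐ[R] AdjoinRoot (X ^ p - C b : R[X]))
    (Tx : Ω[AdjoinRoot (X ^ p - C a : R[X])⁄R] →ₗ[R] Ω[R⁄ℤ])
    (Ty : Ω[AdjoinRoot (X ^ p - C b : R[X])⁄R] →ₗ[R] Ω[R⁄ℤ])
    (hTx : ∀ i : ℕ, i + 2 ≤ p →
      Tx (AdjoinRoot.root (X ^ p - C a) ^ i • KaehlerDifferential.D R _ (AdjoinRoot.root (X ^ p - C a))) = 0)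
    (hTx' : Tx (AdjoinRoot.root (X ^ p - C a) ^ (p - 1) • KaehlerDifferential.D R _ (AdjoinRoot.root (X ^ p - C a))) =
      KaehlerDifferential.D ℤ R a)
    (hTy : ∀ i : ℕ, i + 2 ≤ p →
      Ty (AdjoinRoot.root (X ^ p - C b) ^ i • KaehlerDifferential.D R _ (AdjoinRoot.root (X ^ p - C b))) = 0)
    (hTy' : Ty (AdjoinRoot.root (X ^ p - C b) ^ (p - 1) • KaehlerDifferential.D R _ (AdjoinRoot.root (X ^ p - C b))) =
      KaehlerDifferential.D ℤ R b)
    (s t : AdjoinRoot (X ^ p - C a : R[X])) :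
    Tx (s • KaehlerDifferential.D R _ t) = Ty (φ s • KaehlerDifferential.D R _ (φ t)) := by
  have hX : ResolveX.IsTrace Tx := ⟨hTx, hTx'⟩
  have hY : ResolveX.IsTrace Ty := ⟨hTy, hTy'⟩
  have key : ∀ i j : ℕ, Tx (AdjoinRoot.root (X ^ p - C a) ^ i •
        KaehlerDifferential.D R _ (AdjoinRoot.root (X ^ p - C a) ^ j)) =
      Ty (φ (AdjoinRoot.root (X ^ p - C a)) ^ i •
        KaehlerDifferential.D R _ (φ (AdjoinRoot.root (X ^ p - C a)) ^ j)) := by
    intro i j
    have hp : p.Prime := Fact.out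
    have hc : ∀ l : ℕ, Tx (AdjoinRoot.root (X ^ p - C a) ^ l •
          KaehlerDifferential.D R _ (AdjoinRoot.root (X ^ p - C a))) =
        Ty (φ (AdjoinRoot.root (X ^ p - C a)) ^ l •
          KaehlerDifferential.D R _ (φ (AdjoinRoot.root (X ^ p - C a)))) := by
      intro l
      have hy : (φ (AdjoinRoot.root (X ^ p - C a))) ^ p = algebraMap R _ a := by
        rw [← map_pow, ResolveX.root_pow_p, AlgHom.commutes]
      rw [← Nat.div_add_mod l p, pow_add, pow_add, pow_mul, pow_mul, ResolveX.root_pow_p, hy,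
        ← map_pow, ← map_pow, mul_smul, mul_smul, algebraMap_smul, algebraMap_smul, Tx.map_smul,
        Ty.map_smul]
      congr 1
      have hlt := Nat.mod_lt l hp.pos
      by_cases hl : l % p = p - 1
      · rw [hl, hTx', hY.apply_top _ a hy.symm]
      · rw [hTx _ (by omega), hY.apply_pow_smul_D _ (by omega)]
    rw [Derivation.leibniz_pow, Derivation.leibniz_pow, smul_comm, smul_comm _ j, smul_smul,
      smul_smul, ← pow_add, ← pow_add, map_nsmul, map_nsmul, hc]
  induction s using AdjoinRoot.induction_on with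
  | ih P =>
    induction t using AdjoinRoot.induction_on with
    | ih Q =>
      simp only [ResolveX.mk_eq_sum, map_sum, map_smul, Finset.smul_sum, Finset.sum_smul,
        Derivation.map_smul, smul_assoc, map_pow]
      refine Finset.sum_congr rfl fun i _ => Finset.sum_congr rfl fun j _ => ?_
      rw [smul_comm _ (Q.coeff _), smul_comm _ (Q.coeff _), Tx.map_smul, Ty.map_smul, key]

end Groth.Agent.S7340
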