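import Groth.Statements.S7381
import Groth.Agent.Graft.EvFinite
-- import your own Groth.Agent.* helpers here

set_option autoImplicit false
set_option linter.style.haveILetI false
universe u
open CategoryTheory AlgebraicGeometry
open Lim

attribute [-instance] CategoryTheory.catToReflQuiver

namespace Groth.Agent.S7381

/-- Let `f : X → S` be finite with `S` quasi-compact and quasi-separated. Then, in the category of
schemes over `S`, `X` is the limit of a nonempty directed inverse system of schemes `X_i → S` that
are finite and locally of finite presentation, with closed immersions as transition morphisms. -/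
theorem result {X S : Scheme.{u}} (f : X ⟶ S) [IsFinite f]
    [CompactSpace S] [QuasiSeparatedSpace S] :
    ∃ (I : Type u) (_ : Preorder I) (_ : IsDirected I (fun a b => a ≤ b)) (_ : Nonempty I)
      (D : Iᵒᵖ ⥤ Over S) (c : Limits.Cone D) (_ : Limits.IsLimit c),
      (∀ i, IsFinite (D.obj i).hom ∧ LocallyOfFinitePresentation (D.obj i).hom) ∧
      (∀ (i j : Iᵒᵖ) (a : i ⟶ j), IsClosedImmersion (D.map a).left) ∧
      Nonempty (c.pt ≅ Over.mk f) := by
  obtain ⟨P, p, k, hfin, hp, hk, hkp⟩ := Graft.exists_finite_hull f
  haveI : CompactSpace P := QuasiCompact.compactSpace_of_compactSpace p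
  haveI : QuasiSeparatedSpace P := quasiSeparatedSpace_of_quasiSeparated p
  obtain ⟨I, _, _, _, D, c, hcl, hD, hmap, he⟩ := Graft.exists_sub_system f p k hkp
  refine ⟨I, inferInstance, inferInstance, inferInstance, D, c, hcl, fun i => ?_, hmap, he⟩
  obtain ⟨m, hm, hmfp, hmp⟩ := hD i
  exact ⟨hmp ▸ inferInstance, hmp ▸ inferInstance⟩

end Groth.Agent.S7381
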