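import Groth.Statements.S7382
import Groth.Agent.AcycFin.IntegralLim
import Groth.Agent.Graft.EvFinite
import Groth.Agent.LimNested.Basic
-- import your own Groth.Agent.* helpers here

set_option autoImplicit false
universe u
open CategoryTheory AlgebraicGeometry
open Lim

attribute [-instance] CategoryTheory.catToReflQuiver
set_option linter.style.haveILetI false

namespace Groth.Agent.S7382

open CategoryTheory.Limits

/-- Let `f : X → S` be integral with `S` quasi-compact and quasi-separated. Then, in the category of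
schemes over `S`, `X` is the limit of a nonempty directed inverse system of schemes `X_i → S` that
are finite and locally of finite presentation. -/
theorem result {X S : Scheme.{u}} (f : X ⟶ S) [IsIntegralHom f]
    [CompactSpace S] [QuasiSeparatedSpace S] :
    ∃ (I : Type u) (_ : Preorder I) (_ : IsDirected I (fun a b => a ≤ b)) (_ : Nonempty I)
      (D : Iᵒᵖ ⥤ Over S) (c : Limits.Cone D) (_ : Limits.IsLimit c),
      (∀ i, IsFinite (D.obj i).hom ∧ LocallyOfFinitePresentation (D.obj i).hom) ∧
      Nonempty (c.pt ≅ Over.mk f) := by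
  obtain ⟨A, _, _, _, Xs, c, hc, e, t, hfin, hπ⟩ := AcycFin.exists_finite_limit_qcqs f
  haveI : ∀ a, IsFinite (t.app a) := hfin
  haveI : IsCofiltered Aᵒᵖ := inferInstance
  haveI : CategoryTheory.IsConnected Aᵒᵖ := IsCofiltered.isConnected _
  have hXs : ∀ {a b : Aᵒᵖ} (h : a ⟶ b), IsAffineHom (Xs.map h) := fun {a b} h => by
    haveI : IsAffineHom (Xs.map h ≫ t.app b) := by
      rw [(t.naturality h).trans (Category.comp_id _)]; infer_instance
    exact IsAffineHom.of_comp (Xs.map h) (t.app b)
  haveI : ∀ a, CompactSpace (Xs.obj a) := fun a => QuasiCompact.compactSpace_of_compactSpace (show Xs.obj a ⟶ S from t.app a)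
  haveI : ∀ a, QuasiSeparatedSpace (Xs.obj a) := fun a => quasiSeparatedSpace_of_quasiSeparated (show Xs.obj a ⟶ S from t.app a)
  -- the outer system over `S`
  let D : Aᵒᵖ ⥤ Over S :=
    { obj := fun a => Over.mk (t.app a)
      map := fun {a b} h => Over.homMk (Xs.map h) ((t.naturality h).trans (Category.comp_id _))
      map_id := fun a => Over.OverMorphism.ext (Xs.map_id a)
      map_comp := fun h h' => Over.OverMorphism.ext (Xs.map_comp h h') }
  let cD : Cone D :=
    { pt := Over.mk (e.hom ≫ f)
      π := { app := fun a => Over.homMk (c.π.app a) (hπ a)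
             naturality := fun a b h => Over.OverMorphism.ext (c.π.naturality h) } }
  have hcD : IsLimit cD := isLimitOfReflects (Over.forget S) hc
  -- the inner systems
  choose P p k hPfin hPfp hk hkp using fun a => Graft.exists_finite_hull (show Xs.obj a ⟶ S from t.app a)
  haveI : ∀ a, IsFinite (p a) := hPfin
  haveI : ∀ a, LocallyOfFinitePresentation (p a) := hPfp
  haveI : ∀ a, IsClosedImmersion (k a) := hk
  haveI : ∀ a, CompactSpace (P a) := fun a => QuasiCompact.compactSpace_of_compactSpace (p a)
  haveI : ∀ a, QuasiSeparatedSpace (P a) := fun a => quasiSeparatedSpace_of_quasiSeparated (p a)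
  let E : ∀ a : Aᵒᵖ, (MorLib.IdealFG.Sub (k a).ker)ᵒᵖ ⥤ Over S := fun a =>
    MorLib.IdealFG.subDiagram (p a) (k a).ker
  let w : ∀ a, D.obj a ≅ (MorLib.IdealFG.subCone (p a) (k a).ker).pt := fun a =>
    haveI : IsClosedImmersion (k a) := hk a
    haveI : IsIso (k a).toImage := inferInstance
    Over.isoMk (@asIso _ _ _ _ (k a).toImage this) (by
      show (k a).toImage ≫ (k a).imageι ≫ p a = t.app a
      rw [Scheme.Hom.toImage_imageι_assoc, hkp])
  let η : ∀ a, (Functor.const _).obj (D.obj a) ⟶ E a := fun a =>
    (Functor.const _).map (w a).hom ≫ (MorLib.IdealFG.subCone (p a) (k a).ker).π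
  have hη : ∀ a, IsLimit ({ pt := D.obj a, π := η a } : Cone (E a)) := fun a =>
    IsLimit.ofIsoLimit (MorLib.IdealFG.isLimitSubCone (p a) (k a).ker) (Cone.ext (w a) fun _ => rfl).symm
  have hEfin : ∀ a b, IsFinite ((E a).obj b).hom ∧ LocallyOfFinitePresentation ((E a).obj b).hom :=
    fun a b => by
      haveI : LocallyOfFinitePresentation b.unop.1.subschemeι := MorLib.IdealFG.lfp_subschemeι b.unop.2.2
      exact ⟨inferInstanceAs (IsFinite (b.unop.1.subschemeι ≫ p a)),
        inferInstanceAs (LocallyOfFinitePresentation (b.unop.1.subschemeι ≫ p a))⟩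
  -- the scheme-level data of one inner system
  let F : ∀ a, (MorLib.IdealFG.Sub (k a).ker)ᵒᵖ ⥤ Scheme.{u} := fun a => E a ⋙ Over.forget S
  let τ : ∀ a, F a ⟶ (Functor.const _).obj S := fun a =>
    { app := fun b => ((E a).obj b).hom
      naturality := fun b b' h => (Over.w ((E a).map h)).trans (Category.comp_id _).symm }
  have hF : ∀ (a) {b b'} (h : b ⟶ b'), IsAffineHom ((F a).map h) := fun a {b b'} h => by
    haveI := MorLib.IdealFG.isClosedImmersion_map (p a) (k a).ker h
    exact inferInstanceAs (IsAffineHom ((E a).map h).left)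
  haveI : ∀ a b, CompactSpace ((F a).obj b) := fun a b => by
    haveI := (hEfin a b).1
    exact QuasiCompact.compactSpace_of_compactSpace ((E a).obj b).hom
  haveI : ∀ a b, QuasiSeparatedSpace ((F a).obj b) := fun a b => by
    haveI := (hEfin a b).1
    exact quasiSeparatedSpace_of_quasiSeparated ((E a).obj b).hom
  let cF : ∀ a, Cone (F a) := fun a => (Over.forget S).mapCone { pt := D.obj a, π := η a }
  have hcF : ∀ a, IsLimit (cF a) := fun a => by
    haveI : CategoryTheory.IsConnected (MorLib.IdealFG.Sub (k a).ker)ᵒᵖ := IsCofiltered.isConnected _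
    exact isLimitOfPreserves (Over.forget S) (hη a)
  obtain ⟨I, _, _, _, D', c', hc', hobj, hpt⟩ :=
    LimNested.exists_directed_limit cD η hcD hη (fun a a' b' g => by
      haveI := (hEfin a' b').2
      haveI : ∀ {b b'} (h : b ⟶ b'), IsAffineHom ((F a).map h) := hF a
      obtain ⟨b, g', hg, hg'⟩ := Scheme.exists_π_app_comp_eq_of_locallyOfFinitePresentation
        (F a) (τ a) ((E a').obj b').hom (cF a) (hcF a) g.left (by
          ext b
          exact (Over.w ((η a).app b)).trans (Over.w g).symm)
      exact ⟨b, Over.homMk g' hg', Over.OverMorphism.ext hg⟩)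
    (fun a a' b b' g h hgh => by
      haveI := (hEfin a' b').2
      haveI : ∀ {b b'} (h : b ⟶ b'), IsAffineHom ((F a).map h) := hF a
      obtain ⟨b₁, q, hq⟩ := Scheme.exists_hom_comp_eq_comp_of_locallyOfFiniteType
        (F a) (τ a) ((E a').obj b').hom (cF a) (hcF a) g.left h.left (Over.w g).symm (Over.w h).symm
        (congrArg CommaMorphism.left hgh)
      exact ⟨b₁, q, Over.OverMorphism.ext hq⟩)
    (fun a a' b' g h hgh => by
      haveI := (hEfin a' b').2
      haveI : ∀ {b b'} (h : b ⟶ b'), IsAffineHom (Xs.map h) := hXs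
      obtain ⟨a₁, q, hq⟩ := Scheme.exists_hom_comp_eq_comp_of_locallyOfFiniteType
        Xs t ((E a').obj b').hom c hc g.left h.left (Over.w g).symm (Over.w h).symm
        (congrArg CommaMorphism.left hgh)
      exact ⟨a₁, q, Over.OverMorphism.ext hq⟩)
  refine ⟨I, inferInstance, inferInstance, inferInstance, D', c', hc', fun i => ?_,
    ⟨eqToIso hpt ≪≫ Over.isoMk e rfl⟩⟩
  obtain ⟨a, b, h⟩ := hobj i
  rw [h]
  exact hEfin a b

end Groth.Agent.S7382
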