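import Groth.Statements.S7384
import Groth.Agent.TTApprox.Arrow
-- import your own Groth.Agent.* helpers here

set_option autoImplicit false
universe u
open CategoryTheory AlgebraicGeometry
open Lim

attribute [-instance] CategoryTheory.catToReflQuiver
set_option linter.style.haveILetI false

namespace Groth.Agent.S7384

open CategoryTheory.Limits

/-- Let `f : X → S` be a morphism of quasi-compact quasi-separated schemes. Then `f` is a limit of
morphisms `f_i : X_i → S_i` indexed by a nonempty directed set: there are inverse systems `X_i`,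
`S_i` of quasi-compact schemes locally of finite type over `ℤ` with affine transition morphisms, a
compatible family of morphisms `f_i`, and limit cones identified with `X` and `S` compatibly with
`f`. -/
theorem result {X S : Scheme.{u}} (f : X ⟶ S) [CompactSpace X]
    [QuasiSeparatedSpace X] [CompactSpace S] [QuasiSeparatedSpace S] :
    ∃ (I : Type u) (_ : Preorder I) (_ : IsDirected I (fun a b => a ≤ b)) (_ : Nonempty I)
      (DX DS : Iᵒᵖ ⥤ Scheme.{u}) (φ : DX ⟶ DS)
      (cX : Limits.Cone DX) (cS : Limits.Cone DS) (_ : Limits.IsLimit cX) (_ : Limits.IsLimit cS)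
      (eX : cX.pt ≅ X) (eS : cS.pt ≅ S),
      (∀ (i j : Iᵒᵖ) (a : i ⟶ j), IsAffineHom (DX.map a) ∧ IsAffineHom (DS.map a)) ∧
      (∀ i, CompactSpace (DX.obj i) ∧ CompactSpace (DS.obj i) ∧
        LocallyOfFiniteType (Limits.IsTerminal.from specULiftZIsTerminal (DX.obj i)) ∧
        LocallyOfFiniteType (Limits.IsTerminal.from specULiftZIsTerminal (DS.obj i))) ∧
      (∀ i, cX.π.app i ≫ φ.app i = eX.hom ≫ f ≫ eS.inv ≫ cS.π.app i) := by
  obtain ⟨I, _, _, _, D, c, hc, hpt, htr, hD⟩ := TTApprox.exists_arrow_limit f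
  let e : c.pt ≅ Arrow.mk f := eqToIso hpt
  refine ⟨I, inferInstance, inferInstance, inferInstance, D ⋙ Arrow.leftFunc, D ⋙ Arrow.rightFunc,
    Functor.whiskerLeft D Arrow.leftToRight, Arrow.leftFunc.mapCone c, Arrow.rightFunc.mapCone c,
    TTApprox.isLimitLeft c hc, TTApprox.isLimitRight c hc, Arrow.leftFunc.mapIso e,
    Arrow.rightFunc.mapIso e, htr, fun i => ?_, fun i => ?_⟩
  · haveI := (hD i).1
    haveI := (hD i).2.2.2.2.2
    have h : Limits.IsTerminal.from specULiftZIsTerminal (D.obj i).left =
        (D.obj i).hom ≫ Limits.IsTerminal.from specULiftZIsTerminal (D.obj i).right :=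
      specULiftZIsTerminal.hom_ext _ _
    refine ⟨(hD i).2.1, (hD i).2.2.2.1, ?_, ‹_›⟩
    show LocallyOfFiniteType (Limits.IsTerminal.from specULiftZIsTerminal (D.obj i).left)
    rw [h]
    infer_instance
  · show (c.π.app i).left ≫ (D.obj i).hom = e.hom.left ≫ f ≫ e.inv.right ≫ (c.π.app i).right
    have h1 : e.hom.left ≫ f = c.pt.hom ≫ e.hom.right := e.hom.w
    rw [← Category.assoc e.hom.left, h1, Category.assoc, ← Category.assoc e.hom.right,
      ← Arrow.comp_right, e.hom_inv_id]
    exact (c.π.app i).w.trans (congrArg (c.pt.hom ≫ ·) (Category.id_comp _).symm)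

end Groth.Agent.S7384
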