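import Groth.Statements.S7388
import Groth.Agent.S15708
import Mathlib.AlgebraicGeometry.Morphisms.Immersion
import Mathlib.AlgebraicGeometry.ProjectiveSpectrum.Basic

set_option autoImplicit false
universe u
open CategoryTheory AlgebraicGeometry
open Mor

namespace Groth.Agent.S7388

/-- Let `X` be a scheme admitting an immersion into `Proj S` for some graded ring `S`. Then any finite
set of points of `X` is contained in an affine open of `X`. -/
theorem result {R A : Type u} [CommRing R] [CommRing A] [Algebra R A]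
    (𝒜 : ℕ → Submodule R A) [GradedAlgebra 𝒜] {X : Scheme.{u}} (ι : X ⟶ Proj 𝒜) [IsImmersion ι]
    (E : Set X) (hE : E.Finite) :
    ∃ U : X.Opens, IsAffineOpen U ∧ E ⊆ U := by
  classical
  haveI := hE.fintype
  let Z : Set (Proj 𝒜) := closure (Set.range ι) \ Set.range ι
  have hZ : IsClosed Z := by
    have h := ι.isLocallyClosed_range.isOpen_coborder.isClosed_compl
    have e : (coborder (Set.range ι))ᶜ = Z := by
      ext p
      simp only [coborder, Set.mem_compl_iff, Z, Set.mem_diff]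
      tauto
    rwa [e] at h
  let J : HomogeneousIdeal 𝒜 := ProjectiveSpectrum.vanishingIdeal Z
  have hJ : ∀ x : X, ¬ J.toIdeal ≤ (ι x).asHomogeneousIdeal.toIdeal := fun x h => by
    have hx : (ι x : ProjectiveSpectrum 𝒜) ∈ closure (Z : Set (ProjectiveSpectrum 𝒜)) := by
      exact (ProjectiveSpectrum.zeroLocus_vanishingIdeal_eq_closure (𝒜 := 𝒜) Z).le fun a ha => h ha
    exact (hZ.closure_subset hx).2 ⟨x, rfl⟩
  let P : Finset (Ideal A) := hE.toFinset.image fun x => (ι x).asHomogeneousIdeal.toIdeal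
  let M := P.filter fun p => ∀ q ∈ P, p ≤ q → p = q
  obtain ⟨z, m, hm, hzm, hzJ, hz⟩ := S15708.exists_avoid 𝒜 J.toIdeal J.isHomogeneous M (fun p hp => by
    obtain ⟨x, -, rfl⟩ := Finset.mem_image.1 (Finset.mem_filter.1 hp).1
    exact ⟨(ι x).isPrime, (ι x).asHomogeneousIdeal.isHomogeneous, (ι x).not_irrelevant_le, hJ x⟩)
    (fun p hp q hq h => ((Finset.mem_filter.1 hq).2 p (Finset.mem_filter.1 hp).1 h).symm)
  let D := Proj.basicOpen 𝒜 z
  have hDZ : ∀ p ∈ D, p ∉ Z := fun p hp hpZ =>
    (ProjectiveSpectrum.mem_basicOpen 𝒜 z p).1 hp ((ProjectiveSpectrum.mem_vanishingIdeal Z z).1 hzJ p hpZ)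
  haveI : IsPreimmersion (ι ∣_ D) :=
    MorphismProperty.of_isPullback (P := @IsPreimmersion) (isPullback_morphismRestrict ι D).flip inferInstance
  haveI : IsClosedImmersion (ι ∣_ D) := by
    refine .of_isPreimmersion _ ?_
    have : Set.range (ι ∣_ D) = D.ι ⁻¹' closure (Set.range ι) := by
      ext p
      constructor
      · rintro ⟨q, rfl⟩
        refine subset_closure ⟨q.1, ?_⟩
        exact (morphismRestrict_base ι D ▸ rfl)
      · intro hp
        by_cases h : D.ι p ∈ Set.range ι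
        · obtain ⟨q, hq⟩ := h
          exact ⟨⟨q, show ι q ∈ D by rw [hq]; exact p.2⟩, Subtype.ext (by
            rw [morphismRestrict_base]; exact hq)⟩
        · exact absurd (show D.ι p ∈ Z from ⟨hp, h⟩) (hDZ _ p.2)
    rw [this]
    exact isClosed_closure.preimage D.ι.continuous
  haveI : IsAffine (D : Scheme.{u}) := Proj.isAffineOpen_basicOpen 𝒜 z hzm hm
  refine ⟨ι ⁻¹ᵁ D, (isAffine_of_isAffineHom (ι ∣_ D) : IsAffine _), fun x hx => ?_⟩
  show z ∉ (ι x).asHomogeneousIdeal
  intro hzx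
  obtain ⟨q, hle, hq⟩ := P.exists_le_maximal (a := (ι x).asHomogeneousIdeal.toIdeal)
    (Finset.mem_image.2 ⟨x, hE.mem_toFinset.2 hx, rfl⟩)
  exact hz q (Finset.mem_filter.2 ⟨hq.prop, fun r hr hqr => hq.eq_of_le hr hqr⟩) (hle hzx)

end Groth.Agent.S7388
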