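import Groth.Statements.S7390
import Groth.Agent.AmpleX.Basis
-- import your own Groth.Agent.* helpers here

set_option autoImplicit false
universe u
open CategoryTheory AlgebraicGeometry
open Mor

namespace Groth.Agent.S7390

/-- Let `X` be a scheme such that every point lies in some affine open `X_s`, the locus where a global
section `s` generates an invertible `O_X`-module `L` (both depending on the point). Then the
diagonal of `X` is an affine morphism. -/
theorem result (X : Scheme.{u})
    (h : ∀ x : X, ∃ (L : X.Modules) (s : Coh.structureModule X ⟶ L), PicF.IsInvertible L ∧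
      x ∈ CohB1.genLocus L s ∧ IsAffineOpen (CohB1.genLocus L s)) :
    IsAffineHom (Limits.pullback.diagonal (Limits.terminal.from X)) := by
  rw [isAffineHom_diagonal_iff]
  intro _ _ V₁ _ V₂ _ h₁ h₂
  have key : ∀ {A P Q : X.Opens}, IsAffineOpen A → IsAffineOpen P → IsAffineOpen Q → P ≤ A → Q ≤ A →
      IsAffineOpen (P ⊓ Q) := by
    intro A P Q hA hP hQ hPA hQA
    haveI : IsAffine A.toScheme := hA
    have hP' := hP.preimage_of_isOpenImmersion A.ι (by simpa using hPA)
    have hQ' := hQ.preimage_of_isOpenImmersion A.ι (by simpa using hQA)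
    have := (hP'.inf hQ').image_of_isOpenImmersion A.ι
    rwa [← Scheme.Hom.preimage_inf, Scheme.Hom.image_preimage_eq_opensRange_inf, Scheme.Opens.opensRange_ι,
      inf_eq_right.2 (inf_le_left.trans hPA)] at this
  have hloc : ∀ x : V₁, ∃ g : Γ(X, V₁), x.1 ∈ X.basicOpen g ∧ IsAffineOpen (X.basicOpen g ⊓ V₂) := by
    intro x
    obtain ⟨L, s, hL, hx, hs⟩ := h x.1
    obtain ⟨g, hgA, hxg⟩ := h₁.exists_basicOpen_le (V := CohB1.genLocus L s) ⟨x.1, hx⟩ x.2
    refine ⟨g, hxg, ?_⟩
    have := key hs (h₁.basicOpen g) (Groth.Agent.AmpleX.isAffineOpen_inf_genLocus hL h₂ s) hgA inf_le_right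
    rwa [← inf_assoc, inf_eq_left.2 (inf_le_left.trans hgA)] at this
  choose g hxg hg using hloc
  have hspan : Ideal.span (Set.range g) = ⊤ := by
    rw [← h₁.iSup_basicOpen_eq_self_iff]
    refine le_antisymm (iSup_le fun r => X.basicOpen_le r.1) fun x hx => ?_
    exact TopologicalSpace.Opens.mem_iSup.2 ⟨⟨g ⟨x, hx⟩, ⟨x, hx⟩, rfl⟩, hxg ⟨x, hx⟩⟩
  let ρ := (X.presheaf.map (homOfLE (inf_le_left : V₁ ⊓ V₂ ≤ V₁)).op).hom
  refine isAffineOpen_of_isAffineOpen_basicOpen _ (ρ '' Set.range g) ?_ ?_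
  · rw [← Ideal.map_span, hspan, Ideal.map_top]
  · rintro _ ⟨_, ⟨x, rfl⟩, rfl⟩
    have e : X.basicOpen (ρ (g x)) = X.basicOpen (g x) ⊓ V₂ := by
      rw [Scheme.basicOpen_res]
      exact le_antisymm (le_inf inf_le_right (inf_le_left.trans inf_le_right))
        (le_inf (le_inf (inf_le_left.trans (X.basicOpen_le _)) inf_le_right) inf_le_left)
    rw [e]
    exact hg x

end Groth.Agent.S7390
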