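import Groth.Statements.S7411
import Groth.Agent.FibVanQCohH4
import Groth.Agent.CohBasic.RpushAbZero

set_option backward.isDefEq.respectTransparency false
set_option backward.isDefEq.respectTransparency.types false
-- import your own Groth.Agent.* helpers here

set_option autoImplicit false
universe u
open Lim

namespace Groth.Agent.S7411

open AlgebraicGeometry CategoryTheory in
/-- Let `f : X → Y` be proper and `y ∈ Y` a point whose fibre `X_y` has dimension at most `d`. Then for
every quasi-coherent `O_X`-module `F` and every `i > d` the stalk `(R^i f_* F)_y` vanishes. (The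
published statement assumes that the fibre has dimension exactly `d`; this row assumes dimension at
most `d`.) -/
theorem result {X Y : Scheme.{u}} (f : X ⟶ Y) [IsProper f]
    (y : Y) (d : ℕ) (hd : topologicalKrullDim ↥(f.fiber y) ≤ d) (M : X.Modules) [Coh.IsQCoh M] (i : ℕ)
    (hi : d < i) :
    Limits.IsZero (TopCat.Presheaf.stalk ((Coh.RpushAb f i).obj (Coh.toAb M)).obj y) := by
  obtain ⟨V, hyV, hV, hvan⟩ := Groth.Agent.FibVanQCohH4.exists_affine_nhd f y d hd
  obtain ⟨q, rfl⟩ := Nat.exists_eq_add_of_le' (Nat.lt_of_le_of_lt (Nat.zero_le d) hi)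
  exact Groth.Agent.CohBasic.isZero_stalk_RpushAb_of_HH f inferInstance q y hV hyV
    (hvan _ (f ⁻¹ᵁ V).ι (Scheme.Opens.range_ι _) _ (Groth.Agent.QCoh.isQCoh_restrict _ inferInstance) _ hi)

end Groth.Agent.S7411
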