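import Groth.Statements.S7413
import Groth.Agent.MorLib.ProjSections
import Groth.Agent.ExistEasy.PP.PullSec

set_option autoImplicit false
universe u
open CategoryTheory AlgebraicGeometry
open Opposite
open Mor

namespace Groth.Agent.S7413

/-- Let `f : X → Y` be a morphism of schemes and `G` a quasi-coherent, locally projective `O_Y`-module
(projective sections over every affine open). Then `f^* G` is locally projective on `X`. -/
theorem result {X Y : Scheme.{u}} (f : X ⟶ Y) (G : Y.Modules) [Coh.IsQCoh G]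
    (hG : ∀ V : Y.Opens, IsAffineOpen V → Module.Projective (Y.ringCatSheaf.obj.obj (op V)) (G.val.obj (op V)))
    (U : X.Opens) (hU : IsAffineOpen U) :
    Module.Projective (X.ringCatSheaf.obj.obj (op U)) (((Scheme.Modules.pullback f).obj G).val.obj (op U)) := by
  haveI : Coh.IsQCoh ((Scheme.Modules.pullback f).obj G) := Groth.Agent.QCoh.isQCoh_pullback f ‹Coh.IsQCoh G›
  let J := {W : X.Opens // IsAffineOpen W ∧ ∃ V : Y.Opens, IsAffineOpen V ∧ W ≤ f ⁻¹ᵁ V}
  refine Groth.Agent.MorLib.projective_sections_of_cover inferInstance (fun W : J => W.1) ?_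
    (fun W => W.2.1) ?_ hU
  · refine top_unique fun x _ => ?_
    obtain ⟨V, hV, hxV, -⟩ := exists_isAffineOpen_mem_and_subset (X := Y) (x := f x) (U := ⊤) trivial
    obtain ⟨W, hW, hxW, hWV⟩ := exists_isAffineOpen_mem_and_subset (X := X) (x := x) (U := f ⁻¹ᵁ V) hxV
    exact TopologicalSpace.Opens.mem_iSup.mpr ⟨⟨W, hW, V, hV, hWV⟩, hxW⟩
  · rintro ⟨W, hW, V, hV, hWV⟩
    letI : Algebra Γ(Y, V) Γ(X, W) := (f.appLE V W hWV).hom.toAlgebra
    letI : Module Γ(Y, V) Γ((Scheme.Modules.pullback f).obj G, W) :=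
      Module.compHom _ (f.appLE V W hWV).hom
    haveI : IsScalarTower Γ(Y, V) Γ(X, W) Γ((Scheme.Modules.pullback f).obj G, W) :=
      ⟨fun a b c => mul_smul ((f.appLE V W hWV).hom a) b c⟩
    obtain ⟨l, -, hb⟩ := Groth.Agent.ExistEasy.exists_pullSec_baseChange f ‹Coh.IsQCoh G› hW hV hWV
    haveI : Module.Projective Γ(Y, V) Γ(G, V) := hG V hV
    exact Module.Projective.of_equiv hb.equiv

end Groth.Agent.S7413
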