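import Groth.Statements.S7428
import Groth.Agent.MorLib.RelWeakNorm

set_option autoImplicit false
universe u
open CategoryTheory AlgebraicGeometry
open Mor

namespace Groth.Agent.S7428

/-- Let `A → B` be a ring map with `Spec B → Spec A` dominant. Then some `A`-subalgebra `B' ⊆ B` has
`Spec B' → Spec A` a universal homeomorphism with trivial residue field extensions and contains the
image of `C → B` for every `A`-algebra `C` with an `A`-algebra map `C → B` such that `Spec C → Spec
A` is a universal homeomorphism with trivial residue field extensions. (Trivial residue field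
extensions: every residue field map of the morphism of spectra is surjective. The test algebras `C`
range over the universe of `A` and `B`.) -/
theorem result {A B : Type u} [CommRing A] [CommRing B] [Algebra A B]
    [IsDominant (Spec.map (CommRingCat.ofHom (algebraMap A B)))] :
    ∃ B' : Subalgebra A B, (FlatMor.IsUnivHomeo (Spec.map (CommRingCat.ofHom (algebraMap A B'))) ∧
      ∀ x : Spec (CommRingCat.of B'),
        Function.Surjective ((Spec.map (CommRingCat.ofHom (algebraMap A B'))).residueFieldMap x)) ∧
      ∀ (C : Type u) [CommRing C] [Algebra A C] (g : C →ₐ[A] B),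
        FlatMor.IsUnivHomeo (Spec.map (CommRingCat.ofHom (algebraMap A C))) →
        (∀ x : Spec (CommRingCat.of C),
          Function.Surjective ((Spec.map (CommRingCat.ofHom (algebraMap A C))).residueFieldMap x)) →
        g.range ≤ B' := by
  have h := Groth.Agent.MorLib.RWN.isSN_iSup (fun S : {S : Subalgebra A B // Groth.Agent.MorLib.RWN.IsSN S} => S.1)
    fun S => S.2
  refine ⟨⨆ S : {S : Subalgebra A B // Groth.Agent.MorLib.RWN.IsSN S}, S.1,
    ⟨Groth.Agent.MorLib.RWN.isUnivHomeo_of_isWN _ h.1, fun x => ?_⟩, fun C _ _ g hC hres => ?_⟩
  · exact (Groth.Agent.MorLib.RUH.residueFieldMap_surjective_iff _ x).2 fun b => h.2 x.asIdeal b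
  · exact le_iSup (fun S : {S : Subalgebra A B // Groth.Agent.MorLib.RWN.IsSN S} => S.1)
      ⟨g.range, Groth.Agent.MorLib.RWN.isSN_range g hC hres⟩

end Groth.Agent.S7428
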