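import Groth.Statements.S7431
-- import your own Groth.Agent.* helpers here
import Mathlib

set_option autoImplicit false
universe u
open CategoryTheory AlgebraicGeometry
open Lim

set_option backward.isDefEq.respectTransparency false
set_option backward.isDefEq.respectTransparency.types false

namespace Groth.Agent.S7431

/-- The localised map of a cartesian square. -/
theorem bijective_awayMap {B B' R R' : Type u} [CommRing B] [CommRing B'] [CommRing R] [CommRing R']
    (s : B →+* R) (t : R' →+* R) (p : B' →+* B) (q : B' →+* R') (hw : ∀ x, s (p x) = t (q x))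
    (hext : ∀ x y, p x = p y → q x = q y → x = y) (hex : ∀ b r, s b = t r → ∃ x, p x = b ∧ q x = r)
    (h : B') (hiso : Function.Bijective (Localization.awayMap s (p h))) :
    Function.Bijective (Localization.awayMap q h) := by
  constructor
  · rw [injective_iff_map_eq_zero]
    intro z hz
    obtain ⟨n, x, hx⟩ := IsLocalization.Away.surj h z
    have h1 : algebraMap R' (Localization.Away (q h)) (q x) = 0 := by
      have := congrArg (Localization.awayMap q h) hx
      rw [map_mul, hz, zero_mul] at this
      rw [this, Localization.awayMap, IsLocalization.Away.map, IsLocalization.map_eq]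
    obtain ⟨⟨_, k, rfl⟩, hk⟩ := (IsLocalization.map_eq_zero_iff (Submonoid.powers (q h)) _ _).1 h1
    have h2 : Localization.awayMap s (p h) (algebraMap B _ (p h ^ k * p x)) = 0 := by
      rw [Localization.awayMap, IsLocalization.Away.map, IsLocalization.map_eq, map_mul, map_pow, hw, hw, ← map_pow, ← map_mul t, hk, map_zero, map_zero]
    obtain ⟨⟨_, m, rfl⟩, hm⟩ := (IsLocalization.map_eq_zero_iff (Submonoid.powers (p h)) _ _).1
      (hiso.1 (h2.trans (map_zero _).symm))
    have h3 : h ^ (m + k) * x = 0 := hext _ _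
      (by rw [map_mul, map_pow, map_zero, pow_add, mul_assoc]; exact hm)
      (by rw [map_mul, map_pow, map_zero, pow_add, mul_assoc]; show q h ^ m * ((q h) ^ k * q x) = 0; rw [hk, mul_zero])
    have hu : IsUnit (algebraMap B' (Localization.Away h) (h ^ (m + k))) :=
      IsLocalization.map_units _ (⟨_, m + k, rfl⟩ : Submonoid.powers h)
    have h4 : algebraMap B' (Localization.Away h) x = 0 := by
      rw [← hu.mul_right_eq_zero, ← map_mul, h3, map_zero]
    rw [h4, ← map_pow] at hx
    exact (IsLocalization.map_units _ (⟨_, n, rfl⟩ : Submonoid.powers h)).mul_left_eq_zero.1 hx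
  · intro z
    obtain ⟨n, r, hr⟩ := IsLocalization.Away.surj (q h) z
    obtain ⟨w, hw'⟩ := hiso.2 (algebraMap R (Localization.Away (s (p h))) (t r))
    obtain ⟨m, b, hb⟩ := IsLocalization.Away.surj (p h) w
    have h1 : algebraMap R (Localization.Away (s (p h))) (t r * s (p h) ^ m) = algebraMap R _ (s b) := by
      have := congrArg (Localization.awayMap s (p h)) hb
      rw [map_mul, map_pow, hw', Localization.awayMap, IsLocalization.Away.map, IsLocalization.map_eq,
        IsLocalization.map_eq] at this
      rw [map_mul, map_pow]; exact this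
    obtain ⟨⟨_, k, rfl⟩, hk⟩ := (IsLocalization.eq_iff_exists (Submonoid.powers (s (p h))) _).1 h1
    obtain ⟨x, hxp, hxq⟩ := hex (p h ^ k * b) (q h ^ (k + m) * r) (by
      have hk' : s (p h) ^ k * (t r * s (p h) ^ m) = s (p h) ^ k * s b := hk
      rw [map_mul, map_pow, ← hk', map_mul, map_pow, ← hw, pow_add]
      ring)
    let j : Localization.Away h := algebraMap B' _ (h ^ (k + m + n))
    obtain ⟨u, hu⟩ : IsUnit j := IsLocalization.map_units _ (⟨_, k + m + n, rfl⟩ : Submonoid.powers h)
    refine ⟨algebraMap B' _ x * (↑u⁻¹ : Localization.Away h), ?_⟩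
    have hj : Localization.awayMap q h j = algebraMap R' _ (q h ^ (k + m + n)) := by
      rw [Localization.awayMap, IsLocalization.Away.map, IsLocalization.map_eq, map_pow]
    have hju : IsUnit (Localization.awayMap q h j) := by rw [← hu]; exact u.isUnit.map _
    refine hju.mul_left_inj.1 ?_
    rw [← map_mul, mul_assoc, ← hu, Units.inv_mul, mul_one, hu, hj, Localization.awayMap, IsLocalization.Away.map, IsLocalization.map_eq, hxq, map_mul, ← hr,
      map_pow, map_pow, pow_add (algebraMap R' (Localization.Away (q h)) (q h)) (k + m) n]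
    ring

/-- Let `B' = B ×_R R'` be a cartesian square of rings with maps `s : B → R`, `t : R' → R`, and let `W'
= D(f_1) ∪ … ∪ D(f_n) ⊆ Spec R'` with `t(f_i) = s(g_i)` for elements `g_i ∈ B` such that `B_{g_i} →
R_{s(g_i)}` is an isomorphism for each `i`. Then the composite `W' → Spec R' → Spec B'`, the second
map coming from `B' → R'`, is an open immersion. -/
theorem result {B B' R R' : Type u} [CommRing B] [CommRing B']
    [CommRing R] [CommRing R'] (s : B →+* R) (t : R' →+* R) (p : B' →+* B) (q : B' →+* R')
    (hsq : IsPullback (CommRingCat.ofHom p) (CommRingCat.ofHom q) (CommRingCat.ofHom s) (CommRingCat.ofHom t))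
    {n : ℕ} (f : Fin n → R') (g : Fin n → B) (hfg : ∀ i, t (f i) = s (g i))
    (hiso : ∀ i, Function.Bijective (Localization.awayMap s (g i))) :
    IsOpenImmersion (Scheme.Opens.ι (X := Spec (CommRingCat.of R')) (⨆ i, PrimeSpectrum.basicOpen (f i)) ≫
      Spec.map (CommRingCat.ofHom q)) := by
  classical
  obtain ⟨hw, hext, hex⟩ := (Limits.Types.isPullback_iff _ _ _ _).1 (hsq.map (forget CommRingCat.{u}))
  have hw' : ∀ x, s (p x) = t (q x) := fun x => congr($(hsq.w) x)
  choose h hp hq using fun i => hex (g i) (f i) (hfg i).symm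
  let Y := Spec (CommRingCat.of B')
  let m := Spec.map (CommRingCat.ofHom q)
  let U : Y.Opens := ⨆ i, PrimeSpectrum.basicOpen (h i)
  have hU : (⨆ i, PrimeSpectrum.basicOpen (f i) : (Spec (CommRingCat.of R')).Opens) = m ⁻¹ᵁ U := by
    rw [Scheme.Hom.preimage_iSup]
    refine iSup_congr fun i => ?_
    rw [← hq i]
    rfl
  haveI : IsIso (m ∣_ U) := by
    show MorphismProperty.isomorphisms Scheme.{u} _
    have hb : ∀ i, IsIso (m ∣_ PrimeSpectrum.basicOpen (h i)) := fun i => by
      have hbij := bijective_awayMap s t p q hw' (fun x y h1 h2 => hext x y ⟨h1, h2⟩) hex (h i)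
        ((hp i).symm ▸ hiso i)
      haveI : IsIso (CommRingCat.ofHom (Localization.awayMap q (h i))) :=
        (RingEquiv.ofBijective _ hbij).toCommRingCatIso.isIso_hom
      exact ((MorphismProperty.isomorphisms Scheme.{u}).arrow_mk_iso_iff
        (SpecMapRestrictBasicOpenIso (CommRingCat.ofHom q) (h i))).2
        (inferInstanceAs (IsIso (Spec.map (CommRingCat.ofHom (Localization.awayMap q (h i))))))
    refine (IsZariskiLocalAtTarget.iff_of_iSup_eq_top (P := MorphismProperty.isomorphisms Scheme.{u})
      (fun i : Fin n => U.ι ⁻¹ᵁ PrimeSpectrum.basicOpen (h i)) ?_).2 fun i => ?_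
    · rw [← Scheme.Hom.preimage_iSup]
      exact Scheme.Opens.ι_preimage_self U
    · refine ((MorphismProperty.isomorphisms Scheme.{u}).arrow_mk_iso_iff (morphismRestrictRestrict m U _)).2 ?_
      refine ((MorphismProperty.isomorphisms Scheme.{u}).arrow_mk_iso_iff (morphismRestrictEq m ?_)).2 (hb i)
      rw [Scheme.Hom.image_preimage_eq_opensRange_inf, Scheme.Opens.opensRange_ι]
      exact inf_eq_right.2 (le_iSup (fun j => PrimeSpectrum.basicOpen (h j)) i)
  have e : Scheme.Opens.ι (X := Spec (CommRingCat.of R')) (⨆ i, PrimeSpectrum.basicOpen (f i)) ≫ m =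
      (Scheme.isoOfEq _ hU).hom ≫ (m ∣_ U) ≫ U.ι := by
    rw [morphismRestrict_ι, Scheme.isoOfEq_hom_ι_assoc]
  show IsOpenImmersion (_ ≫ m)
  rw [e]
  infer_instance

end Groth.Agent.S7431
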