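import Groth.Statements.S7447
import Groth.Agent.TTApprox.RelMain

set_option autoImplicit false
universe u
open CategoryTheory AlgebraicGeometry
open Opposite
open Lim

attribute [-instance] CategoryTheory.catToReflQuiver
set_option linter.style.haveILetI false
set_option backward.isDefEq.respectTransparency false
set_option backward.isDefEq.respectTransparency.types false

namespace Groth.Agent.S7447

/-- Noetherian approximation relative to a quasi-compact open: let `S` be quasi-compact and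
quasi-separated, `V ⊆ S` a quasi-compact open, and `V = lim V_i` the limit of an inverse system,
over a nonempty directed set `I`, of schemes of finite type over `ℤ` with affine transition
morphisms. Then there are a nonempty directed set `J`, an inverse system `(S_j)` of schemes of
finite type over `ℤ` with affine transition morphisms and `S = lim S_j`, an order preserving map `α
: J → I`, opens `V'_j ⊆ S_j` and isomorphisms `V'_j ≅ V_{α(j)}` such that: the transition maps
satisfy `g_{jj'}⁻¹(V'_{j'}) = V'_j`; `V` is the inverse image of each `V'_j` under `S → S_j` (which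
identifies `V` with `lim V'_j`); the composite `V → V'_j → V_{α(j)}` is the projection; and the
squares `V'_j → V_{α(j)} → V_{α(j')}`, `V'_j → V'_{j'} → V_{α(j')}` commute. -/
theorem result (S : Scheme.{u}) [CompactSpace S] [QuasiSeparatedSpace S]
    (V : S.Opens) (hV : IsCompact (V : Set S)) (I : Type u) [Preorder I] [IsDirected I (fun a b => a ≤ b)] [Nonempty I]
    (DV : Iᵒᵖ ⥤ Scheme.{u}) (haff : ∀ (i i' : Iᵒᵖ) (a : i ⟶ i'), IsAffineHom (DV.map a))
    (hft : ∀ i, CompactSpace (DV.obj i) ∧ LocallyOfFiniteType (Limits.IsTerminal.from specULiftZIsTerminal (DV.obj i)))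
    (cV : Limits.Cone DV) (hcV : Limits.IsLimit cV) (eV : cV.pt ≅ (V : Scheme.{u})) :
    ∃ (J : Type u) (_ : Preorder J) (_ : IsDirected J (fun a b => a ≤ b)) (_ : Nonempty J)
      (DS : Jᵒᵖ ⥤ Scheme.{u}) (cS : Limits.Cone DS) (_ : Limits.IsLimit cS) (eS : cS.pt ≅ S)
      (α : J →o I) (V' : ∀ j : J, (DS.obj (op j)).Opens)
      (φ : ∀ j : J, (V' j : Scheme.{u}) ≅ DV.obj (op (α j))),
      (∀ (j j' : Jᵒᵖ) (a : j ⟶ j'), IsAffineHom (DS.map a)) ∧
      (∀ j, CompactSpace (DS.obj j) ∧ LocallyOfFiniteType (Limits.IsTerminal.from specULiftZIsTerminal (DS.obj j))) ∧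
      (∀ (j j' : J) (h : j' ≤ j), (DS.map (homOfLE h).op) ⁻¹ᵁ (V' j') = V' j) ∧
      (∀ j : J, (eS.inv ≫ cS.π.app (op j)) ⁻¹ᵁ (V' j) = V) ∧
      (∀ j : J, ∃ ρ : (V : Scheme.{u}) ⟶ (V' j : Scheme.{u}),
        ρ ≫ (V' j).ι = V.ι ≫ eS.inv ≫ cS.π.app (op j) ∧ ρ ≫ (φ j).hom = eV.inv ≫ cV.π.app (op (α j))) ∧
      (∀ (j j' : J) (h : j' ≤ j), ∃ τ : (V' j : Scheme.{u}) ⟶ (V' j' : Scheme.{u}),
        τ ≫ (V' j').ι = (V' j).ι ≫ DS.map (homOfLE h).op ∧
        (φ j).hom ≫ DV.map (homOfLE (α.mono h)).op = τ ≫ (φ j').hom) := by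
  haveI : ∀ i, CompactSpace (DV.obj i) := fun i => (hft i).1
  let π : (Functor.const Iᵒᵖ).obj (V : Scheme.{u}) ⟶ DV := (Functor.const _).map eV.inv ≫ cV.π
  let P : Groth.Agent.TTApprox.Rel.Approx (V : Scheme.{u}) :=
    { I := I
      D := DV
      π := π
      hc := Limits.IsLimit.ofIsoLimit hcV (Limits.Cone.ext eV fun j => (eV.hom_inv_id_assoc _).symm)
      aff := haff
      cpt := fun i => (hft i).1
      ft := fun i => (hft i).2 }
  obtain ⟨E⟩ := Groth.Agent.TTApprox.Rel.nonempty_ext_opens V hV P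
  haveI := E.isOpen
  refine ⟨E.Q.I, E.Q.pre, E.Q.dir, E.Q.ne, E.Q.D, Limits.Cone.mk S E.Q.π, E.Q.hc, Iso.refl S, E.α,
    fun j => (E.ι j).opensRange, fun j => (E.ι j).isoOpensRange.symm, E.Q.aff,
    fun j => ⟨E.Q.cpt j, E.Q.ft j⟩, ?_, ?_, ?_, ?_⟩
  · intro j j' h
    refine SetLike.coe_injective (Set.Subset.antisymm ?_ ?_)
    · rintro z ⟨u, hu⟩
      obtain ⟨w, -, hw⟩ := Scheme.exists_preimage_of_isPullback (E.sq j j' h) u z hu
      exact ⟨w, hw⟩
    · rintro _ ⟨w, rfl⟩
      refine ⟨DV.map (homOfLE (E.α.mono h)).op w, ?_⟩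
      exact ((Scheme.Hom.comp_apply _ _ w).symm.trans
        (congrArg (fun m : DV.obj (op (E.α j)) ⟶ E.Q.D.obj (op j') => m w) (E.sq j j' h).w)).trans
          (Scheme.Hom.comp_apply _ _ w)
  · intro j
    show (𝟙 S ≫ E.Q.π.app (op j)) ⁻¹ᵁ (E.ι j).opensRange = V
    rw [Category.id_comp]
    refine SetLike.coe_injective (Set.Subset.antisymm ?_ ?_)
    · rintro z ⟨u, hu⟩
      obtain ⟨w, -, hw⟩ := Scheme.exists_preimage_of_isPullback (E.proj j) u z hu
      exact hw ▸ w.2
    · intro z hz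
      refine ⟨π.app (op (E.α j)) ⟨z, hz⟩, ?_⟩
      exact ((Scheme.Hom.comp_apply _ _ _).symm.trans
        (congrArg (fun m : (V : Scheme.{u}) ⟶ E.Q.D.obj (op j) => m ⟨z, hz⟩) (E.proj j).w)).trans
          (Scheme.Hom.comp_apply _ _ _)
  · intro j
    refine ⟨π.app (op (E.α j)) ≫ (E.ι j).isoOpensRange.hom, ?_, ?_⟩
    · rw [Category.assoc, Scheme.Hom.isoOpensRange_hom_ι]
      exact (E.proj j).w.trans (congrArg (V.ι ≫ ·) (Category.id_comp _).symm)
    · exact (Category.assoc _ _ _).trans ((congrArg (π.app (op (E.α j)) ≫ ·) (Iso.hom_inv_id _)).trans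
        (Category.comp_id _))
  · intro j j' h
    refine ⟨(E.ι j).isoOpensRange.inv ≫ DV.map (homOfLE (E.α.mono h)).op ≫ (E.ι j').isoOpensRange.hom, ?_, ?_⟩
    · rw [Category.assoc, Category.assoc, Scheme.Hom.isoOpensRange_hom_ι]
      refine (congrArg (_ ≫ ·) (E.sq j j' h).w).trans ?_
      rw [← Category.assoc, Scheme.Hom.isoOpensRange_inv_comp]
    · show (E.ι j).isoOpensRange.inv ≫ _ = ((E.ι j).isoOpensRange.inv ≫ _ ≫ _) ≫ (E.ι j').isoOpensRange.inv
      rw [Category.assoc, Category.assoc, Iso.hom_inv_id]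
      exact congrArg (_ ≫ ·) (Category.comp_id _).symm

end Groth.Agent.S7447
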