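import Groth.Statements.S7499
import Groth.Agent.GrpdLib.InvOpen
import Groth.Agent.ChevGen.Main

set_option autoImplicit false
universe u
open CategoryTheory CategoryTheory.Limits AlgebraicGeometry
open Grpd

namespace Groth.Agent.S7499

/-- Let (U, R, s, t, c) be a groupoid scheme over S with s and t integral, and g : U' -> U an integral
morphism such that every R-orbit of U meets the image of g. Let R' = (U' x_(g,U,t) R) x_(s pr, U, g)
U' be the restriction of R to U', with t' the projection to the first factor U' and s' the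
projection to the last. If u' is a point of U' contained in an affine open W' of U' with t'^{-1}(W')
= s'^{-1}(W'), then g(u') is contained in an affine open W of U with s^{-1}(W) = t^{-1}(W). (A
groupoid scheme carries U, R, s, t, c, e, i over S with the groupoid axioms on T-points; c is
defined on the fibre product of s and t and sends a pair (a, b) with s(a) = t(b) to a composed with
b.) -/
theorem result (S : Scheme.{u}) (G : Grpd.GroupoidScheme S) [IsIntegralHom G.s] [IsIntegralHom G.t] (U' : Scheme.{u}) (g : U' ⟶ G.U) [IsIntegralHom g] (horb : ∀ u : G.U, ∃ r : G.R, G.s r = u ∧ G.t r ∈ Set.range ⇑g) (u' : U') (W' : U'.Opens) (hW' : IsAffineOpen W') (hu' : u' ∈ W') (hinv : (pullback.fst (pullback.snd g G.t ≫ G.s) g ≫ pullback.fst g G.t) ⁻¹ᵁ W' = (pullback.snd (pullback.snd g G.t ≫ G.s) g) ⁻¹ᵁ W') : ∃ W : G.U.Opens, IsAffineOpen W ∧ g u' ∈ W ∧ G.s ⁻¹ᵁ W = G.t ⁻¹ᵁ W := by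
  -- the relation on `U'` cut out by the restricted groupoid preserves `W'`
  have rel : ∀ (x y : U') (r : G.R), G.t r = g x → G.s r = g y → x ∈ W' → y ∈ W' := by
    intro x y r hx hy hW
    obtain ⟨p, hp₁, hp₂⟩ := Scheme.Pullback.exists_preimage_pullback x r hx.symm
    have hp : (pullback.snd g G.t ≫ G.s) p = g y := by rw [Scheme.Hom.comp_apply, hp₂, hy]
    obtain ⟨q, hq₁, hq₂⟩ := Scheme.Pullback.exists_preimage_pullback p y hp
    rw [← hq₂]
    refine (SetLike.ext_iff.1 hinv q).1 ?_
    show (pullback.fst (pullback.snd g G.t ≫ G.s) g ≫ pullback.fst g G.t) q ∈ W'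
    rw [Scheme.Hom.comp_apply, hq₁, hp₁]
    exact hW
  let W : G.U.Opens :=
    ⟨(G.s '' (G.t ⁻¹' (g '' (W' : Set U')ᶜ)))ᶜ,
      (G.s.isClosedMap _ ((g.isClosedMap _ W'.isOpen.isClosed_compl).preimage G.t.continuous)).isOpen_compl⟩
  have memW : ∀ u : G.U, u ∈ W ↔ ∀ (r : G.R) (x : U'), G.s r = u → G.t r = g x → x ∈ W' := fun u =>
    ⟨fun h r x hr hx => of_not_not fun hn => h ⟨r, ⟨x, hn, hx.symm⟩, hr⟩,
      fun h ⟨r, ⟨x, hn, hx⟩, hr⟩ => hn (h r x hr hx.symm)⟩
  refine ⟨W, ?_, (memW _).2 fun r x hr hx => ?_, ?_⟩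
  · -- `W` is the image of the affine scheme `W' ×_U R` under an integral morphism
    let F : pullback g G.t ⟶ G.U := pullback.snd g G.t ≫ G.s
    have hpre : F ⁻¹ᵁ W = pullback.fst g G.t ⁻¹ᵁ W' := by
      ext p
      have hp : G.t (pullback.snd g G.t p) = g (pullback.fst g G.t p) := by
        rw [← Scheme.Hom.comp_apply, ← Scheme.Hom.comp_apply, pullback.condition]
      constructor
      · exact fun h => (memW _).1 h _ _ rfl hp
      · intro h
        refine (memW _).2 fun r' x' hr' hx' => ?_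
        obtain ⟨r'', h₁, h₂⟩ := GrpdLib.exists_comp G r' (G.i (pullback.snd g G.t p))
          (by rw [← Scheme.Hom.comp_apply, G.i_t, hr']; rfl)
        rw [← Scheme.Hom.comp_apply, G.i_s, hp] at h₂
        -- `r''` goes from `g (fst p)` to `g x'`
        exact rel _ x' (G.i r'') (by rw [← Scheme.Hom.comp_apply, G.i_t]; exact h₂)
          (by rw [← Scheme.Hom.comp_apply, G.i_s, h₁]; exact hx') h
    haveI : IsAffine (F ⁻¹ᵁ W).toScheme := hpre ▸ hW'.preimage (pullback.fst g G.t)
    haveI : Surjective (F ∣_ W) := ⟨fun w => by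
      obtain ⟨r, hr, x, hx⟩ := horb w.1
      obtain ⟨p, -, hp⟩ := Scheme.Pullback.exists_preimage_pullback x r hx
      have hFp : F p = w.1 := by rw [Scheme.Hom.comp_apply, hp, hr]
      have hmem : p ∈ F ⁻¹ᵁ W := by show F p ∈ W; rw [hFp]; exact w.2
      refine ⟨⟨p, hmem⟩, Subtype.ext ?_⟩
      rw [morphismRestrict_base]
      exact hFp⟩
    haveI : IsIntegralHom (F ∣_ W) :=
      IsZariskiLocalAtTarget.restrict (P := @IsIntegralHom) inferInstance W
    exact ChevGen.isAffine_of_universallyClosed_surjective (F ∣_ W)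
  · exact rel u' x (G.i r) (by rw [← Scheme.Hom.comp_apply, G.i_t]; exact hr)
      (by rw [← Scheme.Hom.comp_apply, G.i_s]; exact hx) hu'
  · refine GrpdLib.isInv_of_mem fun r hr => (memW _).2 fun r' x hr' hx => ?_
    obtain ⟨r'', h₁, h₂⟩ := GrpdLib.exists_comp G r' r hr'
    exact (memW _).1 hr r'' x h₂ (h₁.trans hx)

end Groth.Agent.S7499
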