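import Groth.Statements.S7502
import Groth.Agent.ZClosLib.CohDescent
import Groth.Agent.LimMod.Exact
import Groth.Agent.QCoh.Qcqs
-- import your own Groth.Agent.* helpers here

set_option autoImplicit false
universe u
open CategoryTheory CategoryTheory.Limits AlgebraicGeometry
open Coh

namespace Groth.Agent.S7502

/-- Let f : Y -> X be a morphism of schemes which is quasi-compact, quasi-separated, flat and
surjective, with X and Y locally Noetherian. Let F be a quasi-coherent O_X-module, G a coherent
O_Y-module and φ : G -> f^*F an injective map of O_Y-modules. Then the O_X-module F ∩ f_*G, defined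
as the fibre product of the adjunction unit F -> f_*f^*F with f_*φ : f_*G -> f_*f^*F, is coherent.
('Coherent' is quasi-coherent of finite type, the usual notion on locally Noetherian schemes.) -/
theorem result {X Y : Scheme.{u}} (f : Y ⟶ X) [QuasiCompact f] [QuasiSeparated f] [Flat f] [Surjective f] [IsLocallyNoetherian X] [IsLocallyNoetherian Y] (F : X.Modules) (hF : Coh.IsQCoh F) (G : Y.Modules) (hG : Coh.IsCoh G) (φ : G ⟶ (Scheme.Modules.pullback f).obj F) [Mono φ] : Coh.IsCoh (Limits.pullback ((Scheme.Modules.pullbackPushforwardAdjunction f).unit.app F) ((Scheme.Modules.pushforward f).map φ)) := by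
  open Groth.Agent CategoryTheory.Limits in
  let adj := Scheme.Modules.pullbackPushforwardAdjunction f
  let Fp := Scheme.Modules.pushforward f
  let η := adj.unit.app F
  let π := cokernel.π φ
  haveI : PreservesFiniteLimits Fp := by
    haveI := adj.rightAdjoint_preservesLimits
    infer_instance
  let H := Limits.pullback η (Fp.map φ)
  have hCq : Coh.IsQCoh (cokernel φ) := QCoh.isQCoh_cokernel hG.1 (QCoh.isQCoh_pullback f hF) φ
  haveI : Mono (Fp.map φ) := inferInstance
  have hker : IsLimit (KernelFork.ofι (pullback.fst η (Fp.map φ)) (f := η ≫ Fp.map π) (by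
      rw [← Category.assoc, pullback.condition, Category.assoc, ← Fp.map_comp, cokernel.condition,
        Functor.map_zero, comp_zero])) := by
    have hl : IsLimit (KernelFork.ofι (Fp.map φ) (f := Fp.map π) (by rw [← Fp.map_comp, cokernel.condition, Functor.map_zero])) :=
      KernelFork.mapIsLimit _ (Abelian.monoIsKernelOfCokernel _ (cokernelIsCokernel φ)) Fp
    refine KernelFork.IsLimit.ofι' _ _ (fun {A} a ha => ?_)
    refine ⟨pullback.lift a (KernelFork.IsLimit.lift' hl (a ≫ η) (by rw [Category.assoc]; exact ha)).1
      (KernelFork.IsLimit.lift' hl (a ≫ η) (by rw [Category.assoc]; exact ha)).2.symm, pullback.lift_fst _ _ _⟩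
  have hHq : Coh.IsQCoh H := (QCoh.isQCoh_iff_iso ((kernelIsKernel (η ≫ Fp.map π)).conePointUniqueUpToIso hker)).1
    (QCoh.isQCoh_kernel hF (QCoh.isQCoh_pushforward f hCq) _)
  refine ZClosLib.isFT_of_pullback f hHq ?_
  let ψ : (Scheme.Modules.pullback f).obj H ⟶ G := (adj.homEquiv _ _).symm (pullback.snd η (Fp.map φ))
  have hψ : ψ ≫ φ = (Scheme.Modules.pullback f).map (pullback.fst η (Fp.map φ)) := by
    apply (adj.homEquiv _ _).injective
    rw [adj.homEquiv_naturality_right, Equiv.apply_symm_apply, adj.homEquiv_unit]
    exact (pullback.condition (f := η) (g := Fp.map φ)).symm.trans (adj.unit.naturality _)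
  haveI := LimMod.preservesHomology_pullback f
  haveI : PreservesFiniteLimits (Scheme.Modules.pullback f) :=
    Functor.preservesFiniteLimits_of_preservesHomology _
  haveI : Mono ψ := mono_of_mono_fac hψ
  exact QCoh.isCoh_of_mono ψ hG (QCoh.isQCoh_pullback f hHq)

end Groth.Agent.S7502
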