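import Groth.Statements.S7508
import Groth.Agent.GrpdSlice.Main

set_option backward.isDefEq.respectTransparency false
set_option backward.isDefEq.respectTransparency.types false
set_option maxHeartbeats 800000

set_option autoImplicit false
universe u
open CategoryTheory CategoryTheory.Limits AlgebraicGeometry
open Grpd

namespace Groth.Agent.S7508

/-- Let (U, R, s, t, c, e, i) be a groupoid scheme over S with s and t Cohen-Macaulay and locally of
finite presentation, assume the stabilizer G -> U is locally quasi-finite (locally of finite type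
with discrete fibres), and let u be a finite type point of U. Then there exist an affine scheme U',
an immersion g : U' -> U locally of finite presentation and a point u' with g(u') = u such that h =
s ∘ pr_1 : U' x_(g,U,t) R -> U and the source and target s', t' : R' -> U' of the restriction R' =
(U' x_(g,U,t) R) x_(h,U,g) U' are flat, locally of finite presentation and locally quasi-finite.
Here a morphism is Cohen-Macaulay when it is Cohen-Macaulay at every point of its source (flat there
with Cohen-Macaulay fibre local ring, Grpd.IsCMAt), and a finite type point u is one for which Spec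
κ(u) -> U is locally of finite type. (A groupoid scheme carries U, R, s, t, c, e, i over S with the
groupoid axioms on T-points; c is defined on the fibre product of s and t and sends a pair (a, b)
with s(a) = t(b) to a composed with b.) -/
theorem result (S : Scheme.{u}) (G : Grpd.GroupoidScheme S) [LocallyOfFinitePresentation G.s] [LocallyOfFinitePresentation G.t] (hs : ∀ r : G.R, Grpd.IsCMAt G.s r) (ht : ∀ r : G.R, Grpd.IsCMAt G.t r) [LocallyOfFiniteType G.stabilizerToU] [LocallyQuasiFinite G.stabilizerToU] (u : G.U) (hu : LocallyOfFiniteType (G.U.fromSpecResidueField u)) : ∃ (U' : Scheme.{u}) (_ : IsAffine U') (g : U' ⟶ G.U) (u' : U'), IsImmersion g ∧ LocallyOfFinitePresentation g ∧ g u' = u ∧ (Flat (pullback.snd g G.t ≫ G.s) ∧ LocallyOfFinitePresentation (pullback.snd g G.t ≫ G.s) ∧ LocallyOfFiniteType (pullback.snd g G.t ≫ G.s) ∧ LocallyQuasiFinite (pullback.snd g G.t ≫ G.s)) ∧ (Flat (pullback.snd (pullback.snd g G.t ≫ G.s) g) ∧ LocallyOfFinitePresentation (pullback.snd (pullback.snd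 g G.t ≫ G.s) g) ∧ LocallyQuasiFinite (pullback.snd (pullback.snd g G.t ≫ G.s) g)) ∧ (Flat (pullback.fst (pullback.snd g G.t ≫ G.s) g ≫ pullback.fst g G.t) ∧ LocallyOfFinitePresentation (pullback.fst (pullback.snd g G.t ≫ G.s) g ≫ pullback.fst g G.t) ∧ LocallyQuasiFinite (pullback.fst (pullback.snd g G.t ≫ G.s) g ≫ pullback.fst g G.t)) := by
  have hs' : ∀ r : G.R, MoreMor.IsCMAt G.s r := fun r => (Groth.Agent.GrpdSlice.isCMAt_grpd_iff _ r).1 (hs r)
  haveI : Flat G.s := Groth.Agent.GrpdSlice.flat_of_isCMAt _ hs'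
  haveI : Flat G.t := Groth.Agent.GrpdSlice.flat_of_isCMAt _
    fun r => (Groth.Agent.GrpdSlice.isCMAt_grpd_iff _ r).1 (ht r)
  obtain ⟨C, hC⟩ := Groth.Agent.GrpdSlice.exists_slice_min G u hs' hu
  haveI := C.isImmersion
  haveI := C.lfp
  haveI : LocallyOfFinitePresentation (Groth.Agent.GrpdSlice.hmap G C.g) :=
    (Groth.Agent.GrpdSlice.lfp_restrict G C.g).1
  let h := Groth.Agent.GrpdSlice.hmap G C.g
  have hd : topologicalKrullDim ↥(G.stabilizerToU.fiber u) ≤ 0 := by
    haveI : DiscreteTopology ↥(G.stabilizerToU ⁻¹' {u}) :=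
      isDiscrete_iff_discreteTopology.1 (G.stabilizerToU.isDiscrete_preimage_singleton u)
    haveI : DiscreteTopology ↥(G.stabilizerToU.fiber u) :=
      (G.stabilizerToU.fiberHomeo u).isEmbedding.discreteTopology
    exact topologicalKrullDim_zero_of_discreteTopology _
  obtain ⟨V, hV, g, p, φ, hg, hg', hgp, hpe, hφ, hφp, hφh, hO⟩ :=
    Groth.Agent.GrpdSlice.exists_shrink G u C
      ({q | MoreMor.IsCMAt h q} ∩ {q | FlatMor.fibreDimAt h q ≤ ((0 : ℕ) : WithBot ℕ∞)})
      ((Groth.Agent.CMOpen5.isOpen_isCMAt h).inter (Groth.Agent.S0402.result h 0))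
      ⟨C.cm, by rw [Set.mem_setOf_eq, hC]; exact hd⟩
      fun q₁ q₂ e h₁ => ⟨Groth.Agent.GrpdSlice.isCMAt_of_fst_eq G C.g q₁ q₂ e h₁.1, by
        rw [Set.mem_setOf_eq, ← Groth.Agent.GrpdSlice.fibreDimAt_of_fst_eq G C.g q₁ q₂ e]; exact h₁.2⟩
  have hcm : ∀ q, MoreMor.IsCMAt (Groth.Agent.GrpdSlice.hmap G g) q := fun q => by
    rw [← hφh, Groth.Agent.CMOpen5.isCMAt_openImmersion_comp]
    exact (hO q).1
  obtain ⟨hcs, hct⟩ := Groth.Agent.GrpdSlice.isCMAt_restrict G g hcm
  obtain ⟨hl, hls, hlt⟩ := Groth.Agent.GrpdSlice.lfp_restrict G g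
  haveI : LocallyQuasiFinite (Groth.Agent.GrpdSlice.hmap G g) := by
    haveI := hl
    rw [Groth.Agent.AlgSpDec.lqf_iff_fibreDimAt]
    intro q
    rw [← hφh, Groth.Agent.AlgSpDec.fibreDimAt_etale_comp]
    exact Groth.Agent.AlgSpDec.FieldFibre.fibreDimAt_eq_zero_of_le h _ (hO q).2
  obtain ⟨hqs, hqt⟩ := Groth.Agent.GrpdSlice.lqf_restrict G g
  haveI := hl
  exact ⟨V, hV, g, pullback.fst g G.t p, hg, hg', hgp,
    ⟨Groth.Agent.GrpdSlice.flat_of_isCMAt _ hcm, hl, inferInstance, ‹_›⟩,
    ⟨Groth.Agent.GrpdSlice.flat_of_isCMAt _ hcs, hls, hqs⟩,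
    ⟨Groth.Agent.GrpdSlice.flat_of_isCMAt _ hct, hlt, hqt⟩⟩


end Groth.Agent.S7508
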