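import Groth.Statements.S7513
import Groth.Agent.GrpdLib.FitStrat

set_option backward.isDefEq.respectTransparency false
set_option backward.isDefEq.respectTransparency.types false
set_option linter.style.haveILetI false
-- import your own Groth.Agent.* helpers here

set_option autoImplicit false
universe u
open CategoryTheory CategoryTheory.Limits AlgebraicGeometry
open Grpd

namespace Groth.Agent.S7513

/-- Let (U, R, s, t, c) be a groupoid scheme over S with s and t finite. Then there are closed
subschemes U = Z_0 ⊇ Z_1 ⊇ Z_2 ⊇ ..., each invariant under R, (given by quasi-coherent ideal sheaves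
I_0 = 0 ≤ I_1 ≤ I_2 ≤ ...) with empty intersection such that for every r the restriction of s over
the locally closed stratum Z_r minus Z_(r+1) (the open of the subscheme Z_r complementary to the
support of Z_(r+1)) is finite locally free of rank r + 1. R-invariance of Z_r is expressed as an
isomorphism between the pullbacks of s and of t along Z_r -> U compatible with the maps to R;
'finite locally free of rank n' is finite, flat, locally of finite presentation with constant rank
n. (A groupoid scheme carries U, R, s, t, c, e, i over S with the groupoid axioms on T-points; c is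
defined on the fibre product of s and t and sends a pair (a, b) with s(a) = t(b) to a composed with
b.) -/
theorem result (S : Scheme.{u}) (G : Grpd.GroupoidScheme S) [IsFinite G.s] [IsFinite G.t] : ∃ Z : ℕ → G.U.IdealSheafData, Z 0 = ⊥ ∧ Monotone Z ∧ (⋂ r, ((Z r).support : Set G.U)) = ∅ ∧ (∀ r, ∃ φ : pullback G.s (Z r).subschemeι ≅ pullback G.t (Z r).subschemeι, φ.hom ≫ pullback.fst G.t (Z r).subschemeι = pullback.fst G.s (Z r).subschemeι) ∧ ∀ r, Mor2.IsFinLocFreeOfDeg (r + 1) (pullback.snd G.s (((Z r).subschemeι ⁻¹ᵁ (Z (r + 1)).support.compl).ι ≫ (Z r).subschemeι)) := by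
  have hlem : ∀ {Y : Scheme.{u}} (g : Y ⟶ G.U) (r : ℕ),
      (∀ k, k < r → (FittX.finSheaf G.s k).comap g = ⊥) → (∀ k, r ≤ k → (FittX.finSheaf G.s k).comap g = ⊤) →
      Mor2.IsFinLocFreeOfDeg r (pullback.snd G.s g) := by
    intro Y g r h0 h1
    haveI : IsFinite (pullback.snd G.s g) := MorphismProperty.pullback_snd _ _ inferInstance
    refine FittX.isFinLocFreeOfDeg_of_finSheaf _ r (fun k hk => ?_) fun k hk => ?_ <;>
      rw [← FittX.finSheaf_comap (IsPullback.of_hasPullback G.s g)]
    exacts [h0 k hk, h1 k hk]
  refine ⟨FittX.finSheaf G.s, FittX.finSheaf_zero_of_section G.s G.e G.e_s,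
    fun k l h => FittX.finSheaf_mono G.s h, ?_, fun r => GrpdLib.exists_iso_of_comap_eq _ _ _
      (GrpdLib.finSheaf_comap_s_eq_t G r), fun r => hlem _ (r + 1) (fun k hk => ?_) fun k hk => ?_⟩
  · refine Set.eq_empty_of_forall_notMem fun y hy => ?_
    obtain ⟨r, hr⟩ := FittX.exists_finSheaf_not_mem_support G.s y
    exact hr (Set.mem_iInter.1 hy r)
  · rw [Scheme.IdealSheafData.comap_comp]
    have h : (FittX.finSheaf G.s r).comap (FittX.finSheaf G.s r).subschemeι = ⊥ :=
      eq_bot_iff.2 ((Scheme.IdealSheafData.map_gc _).l_le (by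
        rw [Scheme.IdealSheafData.map_bot, Scheme.IdealSheafData.ker_subschemeι]))
    rw [show (FittX.finSheaf G.s k).comap (FittX.finSheaf G.s r).subschemeι = ⊥ from
      eq_bot_iff.2 ((Scheme.IdealSheafData.comap_mono _ (FittX.finSheaf_mono G.s (by omega))).trans h.le),
      Scheme.IdealSheafData.comap_bot]
  · rw [← Scheme.IdealSheafData.support_eq_bot_iff, Scheme.IdealSheafData.support_comap]
    refine SetLike.coe_injective (Set.eq_empty_of_forall_notMem fun z hz => ?_)
    exact z.2 (Scheme.IdealSheafData.support_antitone (FittX.finSheaf_mono G.s hk) hz)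

end Groth.Agent.S7513
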