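import Groth.Statements.S7605
import Groth.Agent.AlgSpLib.Descent2
-- import your own Groth.Agent.* helpers here

set_option autoImplicit false
universe u
open CategoryTheory CategoryTheory.Limits AlgebraicGeometry
open Variety

namespace Groth.Agent.S7605

/-- For a scheme X over a field k and a finitely generated field extension k' of k, local Noetherianity
of X is equivalent to local Noetherianity of its base change X_{k'}. -/
theorem result (k : Type u) [Field k] (X : Scheme.{u}) [X.Over (Spec (CommRingCat.of k))] (k' : Type u) [Field k'] [Algebra k k']
    (hfg : (⊤ : IntermediateField k k').FG) :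
    IsLocallyNoetherian X ↔ IsLocallyNoetherian (Curv2.bc k X k') := by
    haveI : Algebra.EssFiniteType k k' := IntermediateField.fg_top_iff.1 hfg
    let φ : CommRingCat.of k ⟶ CommRingCat.of k' := CommRingCat.ofHom (algebraMap k k')
    have aff : ∀ (R : CommRingCat.{u}) (h : Spec R ⟶ Spec (CommRingCat.of k)),
        IsLocallyNoetherian (Spec R) ↔ IsLocallyNoetherian (Limits.pullback h (Spec.map φ)) := by
      intro R h
      obtain ⟨ψ, rfl⟩ := Spec.map_surjective h
      letI : Algebra k R := ψ.hom.toAlgebra
      let e : Limits.pullback (Spec.map ψ) (Spec.map φ) ≅ Spec (.of (TensorProduct k R k')) :=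
        pullbackSpecIso k R k'
      rw [isLocallyNoetherian_Spec]
      constructor
      · intro hR
        haveI : Algebra.EssFiniteType R (TensorProduct k R k') := inferInstance
        haveI : IsNoetherianRing (TensorProduct k R k') :=
          Algebra.EssFiniteType.isNoetherianRing R (TensorProduct k R k')
        exact isLocallyNoetherian_of_isOpenImmersion e.hom
      · intro hP
        haveI : IsLocallyNoetherian (Spec (.of (TensorProduct k R k'))) :=
          isLocallyNoetherian_of_isOpenImmersion e.inv
        haveI : IsNoetherianRing (TensorProduct k R k') :=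
          isLocallyNoetherian_Spec.1 ‹IsLocallyNoetherian (Spec (.of (TensorProduct k R k')))›
        exact Groth.Agent.AlgSpLib.isNoetherianRing_of_faithfullyFlat R (TensorProduct k R k')
    let 𝒰 := X.affineCover
    let f : X ⟶ Spec (CommRingCat.of k) := X ↘ Spec (CommRingCat.of k)
    rw [isLocallyNoetherian_iff_openCover 𝒰]
    show _ ↔ IsLocallyNoetherian (Limits.pullback f (Spec.map φ))
    rw [isLocallyNoetherian_iff_openCover (Scheme.Pullback.openCoverOfLeft 𝒰 f (Spec.map φ))]
    exact forall_congr' fun i => aff _ (𝒰.f i ≫ f)

end Groth.Agent.S7605
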