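import Groth.Statements.S7619
import Mathlib

set_option autoImplicit false
universe u
open CategoryTheory CategoryTheory.Limits AlgebraicGeometry
open scoped TensorProduct
open Variety

namespace Groth.Agent.S7619

/-- Let A → B be a finite type ring map (a finite type morphism of affine schemes), q a prime of B and r
= dim_{κ(q)} Ω_{B/A} ⊗_B κ(q). Then there is an A-algebra homomorphism A[x_1, …, x_r] → B for which
B is unramified over A[x_1, …, x_r] at q. -/
theorem result (A B : Type u) [CommRing A] [CommRing B] [Algebra A B] [Algebra.FiniteType A B]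
    (q : Ideal B) [q.IsPrime] (r : ℕ) (hr : Module.finrank q.ResidueField (q.ResidueField ⊗[B] Ω[B⁄A]) = r) :
    ∃ φ : MvPolynomial (Fin r) A →ₐ[A] B,
      letI := φ.toRingHom.toAlgebra
      Algebra.IsUnramifiedAt (MvPolynomial (Fin r) A) q := by
  classical
  let k := q.ResidueField
  haveI : Module.Finite k (k ⊗[B] Ω[B⁄A]) := inferInstance
  obtain ⟨b, hb, hspan, hli⟩ := exists_linearIndependent k
    (Set.range fun y : B => (1 : k) ⊗ₜ[B] KaehlerDifferential.D A B y)
  have htop : Submodule.span k (Set.range fun y : B => (1 : k) ⊗ₜ[B] KaehlerDifferential.D A B y) = ⊤ := by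
    have h := Submodule.baseChange_span (R := B) (A := k) (s := Set.range (KaehlerDifferential.D A B))
    rw [KaehlerDifferential.span_range_derivation, Submodule.baseChange_top, ← Set.range_comp] at h
    exact h.symm
  haveI : Finite b := hli.finite
  haveI := Fintype.ofFinite b
  have hcard : Fintype.card b = r := by
    have h : Module.finrank k (Submodule.span k b) = r := by rw [hspan, htop, finrank_top]; exact hr
    rwa [finrank_span_set_eq_card hli, Set.toFinset_card] at h
  let eb := (Fintype.equivFinOfCardEq hcard).symm
  choose y hy using fun i => hb (eb i).2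
  refine ⟨MvPolynomial.aeval y, ?_⟩
  letI := (MvPolynomial.aeval y : MvPolynomial (Fin r) A →ₐ[A] B).toRingHom.toAlgebra
  haveI : IsScalarTower A (MvPolynomial (Fin r) A) B :=
    IsScalarTower.of_algebraMap_eq fun a => ((MvPolynomial.aeval y).commutes a).symm
  haveI : Algebra.FiniteType (MvPolynomial (Fin r) A) B :=
    Algebra.FiniteType.of_restrictScalars_finiteType A _ B
  let π := KaehlerDifferential.map A (MvPolynomial (Fin r) A) B B
  have hπ : Function.Surjective (π.baseChange k) :=
    LinearMap.lTensor_surjective k (KaehlerDifferential.map_surjective A (MvPolynomial (Fin r) A) B)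
  have hzero : π.baseChange k = 0 := by
    apply LinearMap.ext_on (s := b) (hspan.trans htop)
    intro z hz
    obtain ⟨i, hi⟩ := eb.surjective ⟨z, hz⟩
    obtain rfl : (eb i : k ⊗[B] Ω[B⁄A]) = z := congrArg Subtype.val hi
    rw [← hy i]
    simp only [LinearMap.baseChange_tmul, LinearMap.zero_apply, π, KaehlerDifferential.map_D,
      Algebra.algebraMap_self, RingHom.id_apply]
    have : y i = algebraMap (MvPolynomial (Fin r) A) B (MvPolynomial.X i) :=
      (MvPolynomial.aeval_X y i).symm
    rw [this, Derivation.map_algebraMap, TensorProduct.tmul_zero]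
  have hs : Subsingleton (k ⊗[B] Ω[B⁄MvPolynomial (Fin r) A]) := by
    refine subsingleton_of_forall_eq 0 fun z => ?_
    obtain ⟨w, rfl⟩ := hπ z
    rw [hzero]
    rfl
  have hq : (⟨q, ‹_›⟩ : PrimeSpectrum B) ∈ Algebra.unramifiedLocus (MvPolynomial (Fin r) A) B := by
    rw [Algebra.unramifiedLocus_eq_compl_support, Set.mem_compl_iff,
      Module.mem_support_iff_nontrivial_residueField_tensorProduct, not_nontrivial_iff_subsingleton]
    exact hs
  exact hq

end Groth.Agent.S7619
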