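import Groth.Statements.S7636
import Groth.Agent.CohBasic.EulerBC
import Groth.Agent.CurveBC.Coh
import Groth.Agent.QCoh.LocFree

set_option autoImplicit false
set_option backward.isDefEq.respectTransparency false
set_option backward.isDefEq.respectTransparency.types false
universe u
open CategoryTheory CategoryTheory.Limits AlgebraicGeometry
open Variety

namespace Groth.Agent.S7636

/-- Let X be proper of dimension at most one over a field k, let k' be a field extension of k and let E
be a finite locally free module of rank n on X. Then the degree of the pullback of E to the base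
change X_{k'}, computed over k', equals the degree of E over k. -/
theorem result (k : Type u) [Field k] (X : Scheme.{u}) [X.Over (Spec (CommRingCat.of k))] [IsProper (X ↘ (Spec (CommRingCat.of k)))]
    (hdim : topologicalKrullDim X ≤ 1) (k' : Type u) [Field k'] [Algebra k k']
    (n : ℕ) (E : X.Modules) (hE : FlatMod.IsFinLocFreeOfRank n E) :
    @Curv2.deg k' _ (Curv2.bc k X k') ⟨Curv2.bcSnd k X k'⟩
        ((Scheme.Modules.pullback (Curv2.bcFst k X k')).obj E) n = Curv2.deg k X E n := by
  have hq : Coh.IsQCoh E := Groth.Agent.QCoh.isQCoh_of_isFinLocFree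
    (fun x => let ⟨U, hxU, hU⟩ := hE x; ⟨U, n, hxU, hU⟩)
  have h1 : @Curv2.euler k' _ (Curv2.bc k X k') ⟨Curv2.bcSnd k X k'⟩
      (Coh.structureModule (Curv2.bc k X k')) = Curv2.euler k X (Coh.structureModule X) := by
    rw [← Groth.Agent.CohBasic.euler_bc k X k' Groth.Agent.QCoh.isQCoh_structureModule]
    exact finsum_congr fun i => by
      letI : (Curv2.bc k X k').Over (Spec (CommRingCat.of k')) := ⟨Curv2.bcSnd k X k'⟩
      rw [(Groth.Agent.QCoh.HHcongr (Coh.toGlobal (A := k') ((Curv2.bc k X k') ↘ Spec (CommRingCat.of k')))
        (Groth.Agent.CurveBC.unitIso (Curv2.bcFst k X k')).symm i).finrank_eq]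
  unfold Curv2.deg
  rw [Groth.Agent.CohBasic.euler_bc k X k' hq, h1]

end Groth.Agent.S7636
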