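import Groth.Statements.S7638
import Groth.Agent.CurveFinMap.Components
import Groth.Agent.KRRReg.LamPull


set_option autoImplicit false
universe u
open CategoryTheory CategoryTheory.Limits AlgebraicGeometry
open Variety

namespace Groth.Agent.S7638

/-- Let X be proper of dimension at most one over a field k, let E be finite locally free of rank n and
let L be an n-th exterior power of E (its determinant). Then deg(E) = deg(L), the latter computed as
a module of rank one. -/
theorem result (k : Type u) [Field k] (X : Scheme.{u}) [X.Over (Spec (CommRingCat.of k))] [IsProper (X ↘ (Spec (CommRingCat.of k)))]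
    (hdim : topologicalKrullDim X ≤ 1) (n : ℕ) (E : X.Modules) (hE : FlatMod.IsFinLocFreeOfRank n E)
    (L : X.Modules) (hL : ExtPow.IsExtPow n E L) :
    Curv2.deg k X E n = Curv2.deg k X L 1 := by
  haveI := Groth.Agent.CurveCohLib.isNoetherian_of_proper (k := k) (X := X)
  have hEf : FlatMod.IsFinLocFree E := fun y => let ⟨W, hy, he⟩ := hE y; ⟨W, n, hy, he⟩
  have hq := Groth.Agent.QCoh.isQCoh_of_isFinLocFree hEf
  obtain ⟨e⟩ := Groth.Agent.ExtPowSh.nonempty_iso (Groth.Agent.ExtPowSh.isExtPow E n hq) hL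
  have hL1 := Groth.Agent.CurveFinMap.isFinLocFreeOfRank_iso e (Groth.Agent.CurveFinMap.isFinLocFreeOfRank_det hE)
  rw [← Groth.Agent.CurveFinMap.eulerPsi_structure k hE, ← Groth.Agent.CurveFinMap.eulerPsi_structure k hL1]
  refine Groth.Agent.CurveFinMap.psi_ext k hdim _ _ (fun {Z} i _ _ hZ => ?_) Groth.Agent.QCoh.isCoh_structureModule'
  letI : Z.Over (Spec (CommRingCat.of k)) := ⟨i ≫ (X ↘ (Spec (CommRingCat.of k)))⟩
  haveI : IsProper (Z ↘ (Spec (CommRingCat.of k))) :=
    inferInstanceAs (IsProper (i ≫ (X ↘ (Spec (CommRingCat.of k)))))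
  rw [Groth.Agent.CurveFinMap.eulerPsi_push k i rfl hE, Groth.Agent.CurveFinMap.eulerPsi_push k i rfl hL1,
    Groth.Agent.CurveFinMap.deg_eq_det k hZ (Groth.Agent.KRRReg.isFinLocFreeOfRank_pullback i hE)]
  obtain ⟨c⟩ := Groth.Agent.ExtPowSh.nonempty_iso
    (Groth.Agent.ExtPowSh.isExtPow ((Scheme.Modules.pullback i).obj E) n (Groth.Agent.QCoh.isQCoh_pullback i hq))
    (Groth.Agent.ExtPowSh.isExtPow_pullback (i := n) i hq hL)
  exact Groth.Agent.CurveRR.deg_congr k c 1


end Groth.Agent.S7638
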