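import Groth.Statements.S7646
import Groth.Agent.PicGlue.CurveBoundary

set_option autoImplicit false
universe u
open CategoryTheory CategoryTheory.Limits AlgebraicGeometry
open Variety

namespace Groth.Agent.S7646

/-- Let X be separated and of finite type over a field k with dim X ≤ 1, and assume that no irreducible
component of X of dimension one, given its reduced induced structure, is proper over k. Then X is
affine. -/
theorem result (k : Type u) [Field k] (X : Scheme.{u}) [X.Over (Spec (CommRingCat.of k))]
    [IsSeparated (X ↘ (Spec (CommRingCat.of k)))] [LocallyOfFiniteType (X ↘ (Spec (CommRingCat.of k)))]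
    [IsNoetherian X] (hdim : topologicalKrullDim X ≤ 1)
    (h : ∀ (C : Set X) (hC : C ∈ irreducibleComponents (X : Type u)), topologicalKrullDim C = 1 →
      ¬ IsProper ((X.irreducibleComponentIdeal C hC).radical.subschemeι ≫ (X ↘ (Spec (CommRingCat.of k))))) :
    IsAffine X := by
  haveI : QuasiCompact (X ↘ (Spec (CommRingCat.of k))) := inferInstance
  refine Groth.Agent.PicGlue.isAffine_of_no_proper_component (k := k) X hdim fun Y g j hg hj hdense hfac C hC hC1 => ?_
  by_contra hne
  push Not at hne
  haveI := hg
  haveI := hj
  let C₀ : Set X := j.base ⁻¹' C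
  have him : j.base '' C₀ = C := by
    rw [Set.image_preimage_eq_inter_range]
    exact Set.inter_eq_left.2 hne
  have hC₀c : IsClosed C₀ := (isClosed_of_mem_irreducibleComponents _ hC).preimage j.continuous
  have hC₀i : IsIrreducible C₀ := hC.1.preimage j.isOpenEmbedding (hC.1.1.mono fun y hy => ⟨hy, hne y hy⟩)
  have hC₀ : C₀ ∈ irreducibleComponents (X : Type u) := by
    refine ⟨hC₀i, fun T hT hle x hx => ?_⟩
    have h1 : C ⊆ j.base '' T := him ▸ Set.image_mono hle
    have h2 : closure (j.base '' T) ⊆ C :=
      hC.2 (hT.image _ j.continuous.continuousOn).closure (h1.trans subset_closure)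
    exact h2 (subset_closure ⟨x, hx, rfl⟩)
  have hdim₀ : topologicalKrullDim C₀ = 1 := by
    rw [← hC1, ← him]
    exact (j.isOpenEmbedding.isEmbedding.homeomorphImage C₀).isHomeomorph.topologicalKrullDim_eq
  refine h C₀ hC₀ hdim₀ ?_
  let I := (X.irreducibleComponentIdeal C₀ hC₀).radical
  haveI : IsClosedImmersion (I.subschemeι ≫ j) := by
    refine Groth.Agent.PicGlue.isClosedImmersion_comp_of_range I.subschemeι j ?_
    rw [Scheme.Hom.comp_base, TopCat.coe_comp, Set.range_comp, I.range_subschemeι,
      show (I.support : Set X) = C₀ by
        show ((X.irreducibleComponentIdeal C₀ hC₀).radical.support : Set X) = C₀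
        rw [Scheme.IdealSheafData.support_radical]
        rfl, him]
    exact isClosed_of_mem_irreducibleComponents _ hC
  show IsProper (I.subschemeι ≫ (X ↘ (Spec (CommRingCat.of k))))
  rw [← hfac, ← Category.assoc]
  infer_instance

end Groth.Agent.S7646
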