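import Groth.Statements.S7647
import Groth.Agent.Nakai.Criterion

set_option autoImplicit false
universe u
open CategoryTheory CategoryTheory.Limits AlgebraicGeometry
open Variety
open scoped Groth.Agent.H23.PicMul

namespace Groth.Agent.S7647

/-- Let X be proper over a field k, Z ⊆ X a closed subscheme of dimension ≤ 1 and L an invertible
module. Then the intersection number (L · Z), i.e. the coefficient of n in the polynomial computing
χ(X, O_Z ⊗ L^{⊗n}), equals the degree of L|_Z on Z. -/
theorem result (k : Type u) [Field k] (X : Scheme.{u}) [X.Over (Spec (CommRingCat.of k))] [IsProper (X ↘ (Spec (CommRingCat.of k)))]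
    (D : X.IdealSheafData) (hD : topologicalKrullDim (D.support : Set X) ≤ 1)
    (L : X.Modules) (hL : PicF.IsInvertible L) (P : MvPolynomial (Fin 1) ℚ)
    (hP : ∀ n : Fin 1 → ℕ, (Curv2.euler k X (Curv2.tensorPows (ClSub.quotMod D) 1 (fun _ => L) n) : ℚ) = MvPolynomial.eval (fun i => (n i : ℚ)) P) :
    MvPolynomial.coeff (Finsupp.equivFunOnFinite.symm fun _ : Fin 1 => 1) P =
      (@Curv2.deg k _ D.subscheme ⟨D.subschemeι ≫ (X ↘ (Spec (CommRingCat.of k)))⟩
        ((Scheme.Modules.pullback D.subschemeι).obj L) 1 : ℚ) := by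
  classical
  haveI := Groth.Agent.CurveCohLib.isNoetherian_of_proper (k := k) (X := X)
  letI : D.subscheme.Over (Spec (CommRingCat.of k)) := ⟨D.subschemeι ≫ (X ↘ (Spec (CommRingCat.of k)))⟩
  have hsupp : CohB1.support (ClSub.quotMod D) ⊆ (⟨D.support, D.support.isClosed⟩ : TopologicalSpace.Closeds X) :=
    (Groth.Agent.QCoh.support_push_subset D.subschemeι Groth.Agent.QCoh.isQCoh_structureModule).trans
      D.range_subschemeι.le
  obtain ⟨q, hq, hqn⟩ := Groth.Agent.Nakai.exists_poly k hL
    (Groth.Agent.QCoh.isCoh_push_structure D.subschemeι) hsupp (d := 1) hD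
  rw [Groth.Agent.Nakai.coeff_eq k hq hqn P hP]
  have h : ∀ n, Groth.Agent.Snapper.χ k ((Scheme.Modules.pullback D.subschemeι).obj L)
      (Coh.structureModule D.subscheme) n = q.eval (n : ℚ) := fun n =>
    (Groth.Agent.Nakai.χ_push k D.subschemeι rfl hL Groth.Agent.QCoh.isQCoh_structureModule n).symm.trans (hqn n)
  have hL' := Groth.Agent.PicClLib.isInvertible_pullback D.subschemeι hL
  have h1 : Curv2.euler k D.subscheme ((Scheme.Modules.pullback D.subschemeι).obj L) = Curv2.euler k D.subscheme
      (CohB1.tensorMod (Coh.structureModule D.subscheme) (CohB1.tensorPow ((Scheme.Modules.pullback D.subschemeι).obj L) 1)) := by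
    refine Groth.Agent.CurveCohLib.euler_congr (k := k) (Groth.Agent.H23.PicMul.cl_eq_iff.1 ?_).some
    rw [Groth.Agent.H23.PicMul.cl_tensor, Groth.Agent.H23.PicMul.cl_tensorPow]
    rw [pow_one]
    exact (@one_mul _ (Groth.Agent.H23.PicMul.clMonoid _).toMulOneClass _).symm
  have h0 : Curv2.euler k D.subscheme (Coh.structureModule D.subscheme) = Curv2.euler k D.subscheme
      (CohB1.tensorMod (Coh.structureModule D.subscheme) (CohB1.tensorPow ((Scheme.Modules.pullback D.subschemeι).obj L) 0)) := by
    refine Groth.Agent.CurveCohLib.euler_congr (k := k) (Groth.Agent.H23.PicMul.cl_eq_iff.1 ?_).some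
    rw [Groth.Agent.H23.PicMul.cl_tensor, Groth.Agent.H23.PicMul.cl_tensorPow, pow_zero, mul_one]
  have e1 := h 1
  have e0 := h 0
  unfold Groth.Agent.Snapper.χ ShStab.twist at e1 e0
  rw [← h1] at e1
  rw [← h0] at e0
  rw [Polynomial.eval_eq_sum_range' (Nat.lt_succ_of_le hq), Finset.sum_range_succ, Finset.sum_range_one] at e1 e0
  unfold Curv2.deg
  push_cast at e1 e0 ⊢
  simp at e1 e0 ⊢
  linarith

end Groth.Agent.S7647
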