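import Groth.Statements.S7648
import Groth.Agent.Big.Cartier

set_option autoImplicit false
universe u
open CategoryTheory CategoryTheory.Limits AlgebraicGeometry
open Variety

attribute [-instance] CategoryTheory.catToReflQuiver

namespace Groth.Agent.S7648

open Groth.Agent Groth.Agent.H23.PicMul

/-- Let X be proper over a field k of dimension e + 1, let D ⊆ X be an effective Cartier divisor and let
L_0, L_1, …, L_e be invertible modules with L_0 ≅ O_X(D), i.e. L_0 ⊗ I_D ≅ O_X. Then (L_0 ⋯ L_e · X)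
= (L_1 ⋯ L_e · D): the coefficient of n_0⋯n_e in the polynomial computing χ(X, ⊗_j L_j^{⊗n_j})
equals the coefficient of n_1⋯n_e in the polynomial computing χ(X, O_D ⊗ L_1^{⊗n_1} ⊗ ⋯ ⊗
L_e^{⊗n_e}). (The published statement has a closed subscheme Z ⊆ X of dimension d with D ⊆ Z and
L_1|_Z ≅ O_Z(D); this row is its case Z = X.) -/
theorem result (k : Type u) [Field k] (X : Scheme.{u}) [X.Over (Spec (CommRingCat.of k))] [IsProper (X ↘ (Spec (CommRingCat.of k)))]
    (e : ℕ) (hX : topologicalKrullDim X = e + 1) (D : X.IdealSheafData) (hD : FGA.IsEffCartier D)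
    (L : Fin (e + 1) → X.Modules) (hL : ∀ j, PicF.IsInvertible (L j))
    (hLD : ClSub.IsInverseOf (L 0) (ClSub.idealMod D))
    (P : MvPolynomial (Fin (e + 1)) ℚ) (Q : MvPolynomial (Fin e) ℚ)
    (hP : ∀ n : Fin (e + 1) → ℕ, (Curv2.euler k X (Curv2.tensorPows (Coh.structureModule X) (e + 1) L n) : ℚ) = MvPolynomial.eval (fun i => (n i : ℚ)) P)
    (hQ : ∀ n : Fin e → ℕ, (Curv2.euler k X (Curv2.tensorPows (ClSub.quotMod D) e (fun j => L j.succ) n) : ℚ) = MvPolynomial.eval (fun i => (n i : ℚ)) Q) :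
    MvPolynomial.coeff (Finsupp.equivFunOnFinite.symm fun _ : Fin (e + 1) => 1) P = MvPolynomial.coeff (Finsupp.equivFunOnFinite.symm fun _ : Fin e => 1) Q := by
  haveI := CurveCohLib.isNoetherian_of_proper (k := k) (X := X)
  have hOc : Coh.IsCoh (Coh.structureModule X) := QCoh.isCoh_structureModule'
  have hX' : topologicalKrullDim X ≤ ((e + 1 : ℕ) : WithBot ℕ∞) := hX.le
  have hDd := Big.dim_support_le k (D := D) hD hX'
  let M : Fin e → X.Modules := fun j => L j.succ
  have hQc := ParShLib.isCoh_quotMod D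
  have hQd : topologicalKrullDim ↥(CohB1.support (ClSub.quotMod D)) ≤ (e : ℕ) :=
    (H23.TopDim.dim_le_dim_of_subset (Big.support_quotMod_subset D)).trans hDd
  have hOd : topologicalKrullDim ↥(CohB1.support (Coh.structureModule X)) ≤ ((e + 1 : ℕ) : WithBot ℕ∞) :=
    (topologicalKrullDim_subspace_le X _).trans hX'
  have hP' := Big.alt_eq_coeff k hL hOc hOd hP
  have hQ' := Big.alt_eq_coeff k (fun j => hL j.succ) hQc hQd hQ
  have hcons : (Fin.cons (L 0) M : Fin (e + 1) → X.Modules) = L := Fin.cons_self_tail L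
  have hS := Big.shortExact_tw (Big.shortExact_ideal D) (hL 0)
  have h := Big.alt_add k (M := M) (fun j => hL j.succ) hS
    (AmpleVan.isCoh_tensor (AmpleVan.isCoh_invertible (Big.isInvertible_ideal hD)) (AmpleVan.isCoh_invertible (hL 0)))
    (AmpleVan.isCoh_tensor hOc (AmpleVan.isCoh_invertible (hL 0)))
    (AmpleVan.isCoh_tensor hQc (AmpleVan.isCoh_invertible (hL 0)))
  simp only [ShortComplex.map_X₁, ShortComplex.map_X₂, ShortComplex.map_X₃] at h
  have e1 : Big.alt k M ((AmpleVan.tw (L 0)).obj (ClSub.idealMod D)) = Big.alt k M (Coh.structureModule X) :=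
    Big.alt_congr_cl k (fun _ => rfl) (by
      show PicF.cl (CohB1.tensorMod _ _) = _
      rw [cl_tensor, mul_comm, ← cl_tensor]
      exact cl_eq_iff.2 hLD)
  have e2 : Big.alt k M ((AmpleVan.tw (L 0)).obj (ClSub.quotMod D)) = Big.alt k M (ClSub.quotMod D) :=
    Big.alt_twist k (fun j => hL j.succ) hQc (hL 0) hQd
  rw [e1, e2] at h
  have h' : Big.alt k L (Coh.structureModule X) = - Big.alt k M (ClSub.quotMod D) := by
    rw [← hcons, Big.alt_cons]
    have e3 : Big.alt k M ((AmpleVan.tw (L 0)).obj (Coh.structureModule X)) =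
        Big.alt k M (CohB1.tensorMod (Coh.structureModule X) (L 0)) := rfl
    rw [e3] at h
    linarith
  rw [hP', hQ', pow_succ] at h'
  have hne : (-1 : ℚ) ^ e ≠ 0 := pow_ne_zero _ (by norm_num)
  have h'' : (-1 : ℚ) ^ e * MvPolynomial.coeff (Finsupp.equivFunOnFinite.symm fun _ : Fin (e + 1) => 1) P =
      (-1 : ℚ) ^ e * MvPolynomial.coeff (Finsupp.equivFunOnFinite.symm fun _ : Fin e => 1) Q := by linarith
  exact mul_left_cancel₀ hne h''

end Groth.Agent.S7648
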