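import Groth.Statements.S7649
import Groth.Agent.Nakai.Pos

set_option autoImplicit false
universe u
open CategoryTheory CategoryTheory.Limits AlgebraicGeometry
open Variety

namespace Groth.Agent.S7649

/-- Let X be proper over a field k of dimension d and L an ample invertible module. With deg_L(X) the
coefficient of n_1⋯n_d in the polynomial computing χ(X, L^{⊗n_1} ⊗ ⋯ ⊗ L^{⊗n_d}) and c =
deg_L(X)/d!, the constant c is positive and dim_k Γ(X, L^{⊗n}) = c·n^d + lower order terms; here the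
lower-order bound is written as |dim_k H^0(X, L^{⊗n}) − c·n^d| ≤ C·(n+1)^{d−1} for a constant C and
all n ≥ 0. -/
theorem result (k : Type u) [Field k] (X : Scheme.{u}) [X.Over (Spec (CommRingCat.of k))] [IsProper (X ↘ (Spec (CommRingCat.of k)))]
    (d : ℕ) (hX : topologicalKrullDim X = d) (L : X.Modules) (hL : CohB1.IsAmple L)
    (P : MvPolynomial (Fin d) ℚ)
    (hP : ∀ n : Fin d → ℕ, (Curv2.euler k X (Curv2.tensorPows (Coh.structureModule X) d (fun _ => L) n) : ℚ) = MvPolynomial.eval (fun i => (n i : ℚ)) P) :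
    0 < MvPolynomial.coeff (Finsupp.equivFunOnFinite.symm fun _ : Fin d => 1) P ∧
      ∃ C : ℚ, ∀ n : ℕ,
        |(Module.finrank k (Coh.HH X (CohB1.tensorPow L n) 0) : ℚ) -
            MvPolynomial.coeff (Finsupp.equivFunOnFinite.symm fun _ : Fin d => 1) P / (d.factorial : ℚ) * (n : ℚ) ^ d| ≤
          C * ((n : ℚ) + 1) ^ (d - 1) := by
  classical
  haveI := Groth.Agent.CurveCohLib.isNoetherian_of_proper (k := k) (X := X)
  have hO := Groth.Agent.QCoh.isCoh_structureModule' (X := X)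
  obtain ⟨q, hq, hqn⟩ := Groth.Agent.Nakai.exists_poly k hL.1 hO (C := (⊤ : TopologicalSpace.Closeds X))
    (fun _ _ => trivial) (d := d) ((Topology.IsInducing.subtypeVal.topologicalKrullDim_le).trans hX.le)
  have hlead := Groth.Agent.Nakai.coeff_pos_of_isAmple k hL hX hqn
  rw [Groth.Agent.Nakai.coeff_eq k hq hqn P hP]
  have hfac : (0 : ℚ) < d.factorial := Nat.cast_pos.2 d.factorial_pos
  refine ⟨mul_pos hlead hfac, ?_⟩
  rw [mul_div_assoc, div_self hfac.ne', mul_one]
  obtain ⟨n₀, hn₀⟩ := Groth.Agent.AmpleVan.exists_vanishing (A := k) hL hO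
  let E : ℕ → ℚ := fun n => |(Module.finrank k (Coh.HH X (CohB1.tensorPow L n) 0) : ℚ) - q.coeff d * (n : ℚ) ^ d|
  have hE : ∀ n, n₀ ≤ n → E n = |∑ i ∈ Finset.range d, q.coeff i * (n : ℚ) ^ i| := fun n hn => by
    obtain ⟨φ⟩ : Nonempty (CohB1.tensorMod (Coh.structureModule X) (CohB1.tensorPow L n) ≅ CohB1.tensorPow L n) :=
      Groth.Agent.H23.PicMul.cl_eq_iff.1 (by
        rw [Groth.Agent.H23.PicMul.cl_tensor]
        exact (@one_mul _ (Groth.Agent.H23.PicMul.clMonoid X).toMulOneClass _))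
    have hχ : (Module.finrank k (Coh.HH X (CohB1.tensorPow L n) 0) : ℚ) = q.eval (n : ℚ) := by
      rw [← hqn n, ← (Groth.Agent.CurveCohLib.hhEquiv (k := k) φ 0).finrank_eq]
      show _ = ((Curv2.euler k X (CohB1.tensorMod _ _) : ℤ) : ℚ)
      rw [Groth.Agent.Euler.euler_eq_sum k _ 1 fun i hi => by
        obtain ⟨i, rfl⟩ := Nat.exists_eq_add_of_le' hi
        exact hn₀ n hn i]
      simp
    simp only [E]
    rw [hχ, Polynomial.eval_eq_sum_range' (Nat.lt_succ_of_le hq), Finset.sum_range_succ, add_sub_cancel_right]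
  refine ⟨(∑ i ∈ Finset.range d, |q.coeff i|) + ∑ n ∈ Finset.range n₀, E n, fun n => ?_⟩
  show E n ≤ _
  have hone : (1 : ℚ) ≤ ((n : ℚ) + 1) ^ (d - 1) := one_le_pow₀ (by linarith [(Nat.cast_nonneg n : (0 : ℚ) ≤ n)])
  have hA : 0 ≤ ∑ i ∈ Finset.range d, |q.coeff i| := Finset.sum_nonneg fun _ _ => abs_nonneg _
  have hB : 0 ≤ ∑ n ∈ Finset.range n₀, E n := Finset.sum_nonneg fun _ _ => abs_nonneg _
  rcases Nat.lt_or_ge n n₀ with hn | hn
  · refine le_trans ?_ (le_mul_of_one_le_right (add_nonneg hA hB) hone)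
    exact (Finset.single_le_sum (fun i _ => abs_nonneg _) (Finset.mem_range.2 hn)).trans (le_add_of_nonneg_left hA)
  · rw [hE n hn, add_mul]
    refine le_trans ?_ (le_add_of_nonneg_right (mul_nonneg hB (zero_le_one.trans hone)))
    rw [Finset.sum_mul]
    refine (Finset.abs_sum_le_sum_abs _ _).trans (Finset.sum_le_sum fun i hi => ?_)
    rw [abs_mul, abs_pow, Nat.abs_cast]
    refine mul_le_mul_of_nonneg_left ?_ (abs_nonneg _)
    refine (pow_le_pow_left₀ (Nat.cast_nonneg n) (le_add_of_nonneg_right zero_le_one) i).trans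
      (pow_le_pow_right₀ (by linarith [(Nat.cast_nonneg n : (0 : ℚ) ≤ n)]) ?_)
    have := Finset.mem_range.1 hi
    omega

end Groth.Agent.S7649
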