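import Groth.Statements.S7650
import Groth.Agent.Snapper.Push

set_option autoImplicit false
universe u
open CategoryTheory CategoryTheory.Limits AlgebraicGeometry
open Variety

namespace Groth.Agent.S7650

/-- Let X be proper over a field k, F a coherent module with dim Supp(F) = d and L_1, …, L_r invertible
modules. The Euler characteristic of F twisted by L_1^{⊗n_1} ⊗ ⋯ ⊗ L_r^{⊗n_r}, minus the sum over
the d-dimensional irreducible components Z of Supp(F) of the length of F at the generic point of Z
times the Euler characteristic on Z of the restricted twist, agrees with a rational polynomial in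
the exponents each of whose monomials has total degree less than d. Here the sum is written over all
points ξ of X whose closure has dimension d (the term vanishes unless ξ is the generic point of a
d-dimensional component of Supp(F)), and Z_ξ carries its reduced induced structure. (The published
statement lets the exponents range over all integers; this row takes them in ℕ.) -/
theorem result (k : Type u) [Field k] (X : Scheme.{u}) [X.Over (Spec (CommRingCat.of k))] [IsProper (X ↘ (Spec (CommRingCat.of k)))]
    (F : X.Modules) (hF : Coh.IsCoh F) (d : ℕ) (hd : topologicalKrullDim (CohB1.support F) = d)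
    (r : ℕ) (L : Fin r → X.Modules) (hL : ∀ i, PicF.IsInvertible (L i)) :
    ∃ P : MvPolynomial (Fin r) ℚ, (∀ m ∈ P.support, (m.sum fun _ e => e) < d) ∧
      ∀ n : Fin r → ℕ,
        (Curv2.euler k X (Curv2.tensorPows F r L n) : ℚ) -
          ∑ᶠ ξ : X, (if topologicalKrullDim (closure ({ξ} : Set X)) = (d : WithBot ℕ∞) then
            ((Module.length (X.presheaf.stalk ξ) (F.presheaf.stalk ξ)).toNat : ℚ) *
              (@Curv2.euler k _
                (Scheme.IdealSheafData.vanishingIdeal (⟨closure ({ξ} : Set X), isClosed_closure⟩ : TopologicalSpace.Closeds X)).subscheme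
                ⟨(Scheme.IdealSheafData.vanishingIdeal (⟨closure ({ξ} : Set X), isClosed_closure⟩ : TopologicalSpace.Closeds X)).subschemeι ≫ (X ↘ (Spec (CommRingCat.of k)))⟩
                (Curv2.tensorPows
                  (Coh.structureModule (Scheme.IdealSheafData.vanishingIdeal (⟨closure ({ξ} : Set X), isClosed_closure⟩ : TopologicalSpace.Closeds X)).subscheme)
                  r (fun i => (Scheme.Modules.pullback
                    (Scheme.IdealSheafData.vanishingIdeal (⟨closure ({ξ} : Set X), isClosed_closure⟩ : TopologicalSpace.Closeds X)).subschemeι).obj (L i)) n) : ℚ)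
            else 0)
          = MvPolynomial.eval (fun i => (n i : ℚ)) P := by
  classical
  haveI := Groth.Agent.CurveCohLib.isNoetherian_of_proper (k := k) (X := X)
  let C : TopologicalSpace.Closeds X := ⟨_, Groth.Agent.QCoh.isClosed_support_of_isFT hF.1 hF.2⟩
  have hfin := Groth.Agent.Snapper.finite_topPts (C := C) hd.le
  obtain ⟨R, hR, hRn⟩ := Groth.Agent.Snapper.isMPolyLt_sub_components k hL hF hd.le
    (subset_rfl : CohB1.support F ⊆ (C : Set X)) hfin.toFinset (fun _ => hfin.mem_toFinset)
  refine ⟨R, hR, fun n => ?_⟩
  rw [← hRn n, finsum_eq_sum_of_support_subset _ (s := hfin.toFinset) fun ξ hξ => ?_]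
  · refine congrArg (fun t => Groth.Agent.Snapper.χs k L F n - t) (Finset.sum_congr rfl fun ξ hξ => ?_)
    rw [if_pos (hfin.mem_toFinset.1 hξ).2]
    let V := Scheme.IdealSheafData.vanishingIdeal
      (⟨closure ({ξ} : Set X), isClosed_closure⟩ : TopologicalSpace.Closeds X)
    letI : V.subscheme.Over (Spec (CommRingCat.of k)) := ⟨V.subschemeι ≫ (X ↘ (Spec (CommRingCat.of k)))⟩
    exact congrArg (Groth.Agent.Snapper.len F ξ * ·) (congrArg Int.cast
      (Groth.Agent.Snapper.euler_tensorPows_push k V.subschemeι rfl Groth.Agent.QCoh.isQCoh_structureModule L hL n).symm)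
  · by_contra hmem
    refine hξ ?_
    dsimp only
    split_ifs with hdim
    · have hnot : ξ ∉ CohB1.support F := fun hs => hmem (hfin.mem_toFinset.2 ⟨hs, hdim⟩)
      show Groth.Agent.Snapper.len F ξ * _ = 0
      rw [Groth.Agent.Snapper.len_eq_zero hnot, zero_mul]
    · rfl

end Groth.Agent.S7650
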