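import Groth.Statements.S7671
import Groth.Agent.GGFF.PicInj
-- import your own Groth.Agent.* helpers here

set_option autoImplicit false
universe u
open CategoryTheory CategoryTheory.Limits AlgebraicGeometry
open Variety

namespace Groth.Agent.S7671

/-- Let A → B be faithfully flat and X a quasi-compact and quasi-separated scheme over A such that
H^0(X, O_X) is a semi-local ring. Then Pic(X) → Pic(X_B) is injective: an invertible module on X
which becomes trivial on X_B is trivial. -/
theorem result (A B : Type u) [CommRing A]
    [CommRing B] [Algebra A B] [Module.FaithfullyFlat A B]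
    (X : Scheme.{u}) (f : X ⟶ Spec (CommRingCat.of A)) [CompactSpace X] [QuasiSeparatedSpace X]
    (hsl : Finite (MaximalSpectrum Γ(X, ⊤))) (L : X.Modules) (hL : PicF.IsInvertible L)
    (htriv : Nonempty ((Scheme.Modules.pullback
        (pullback.fst f (Spec.map (CommRingCat.ofHom (algebraMap A B))))).obj L ≅
      Coh.structureModule (pullback f (Spec.map (CommRingCat.ofHom (algebraMap A B)))))) :
    Nonempty (L ≅ Coh.structureModule X) := by
    haveI : Flat (Spec.map (CommRingCat.ofHom (algebraMap A B))) := by
      rw [Flat.SpecMap_iff]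
      exact RingHom.flat_algebraMap_iff.mpr inferInstance
    haveI : Surjective (Spec.map (CommRingCat.ofHom (algebraMap A B))) :=
      ⟨PrimeSpectrum.comap_surjective_of_faithfullyFlat⟩
    haveI : QuasiCompact f := quasiCompact_of_compactSpace f
    haveI : QuasiSeparated f := (quasiSeparated_iff_quasiSeparatedSpace _).2 inferInstance
    haveI := hsl
    obtain ⟨θ⟩ := htriv
    exact Groth.Agent.GGFF.nonempty_iso_structureModule_of_baseChange (algebraMap A B) (RingHom.faithfullyFlat_algebraMap_iff.mpr inferInstance) f _ _ (IsPullback.of_hasPullback _ _) hL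
      (Groth.Agent.QCoh.isQCoh_of_isFinLocFree fun x =>
      let ⟨U, hx, hU⟩ := Groth.Agent.InvEnd.isFinLocFreeOfRank_one hL x
      ⟨U, 1, hx, hU⟩) θ

end Groth.Agent.S7671
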