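import Groth.Statements.S7679
import Groth.Agent.AmpleNeg.Basic

set_option autoImplicit false
universe u
open CategoryTheory CategoryTheory.Limits AlgebraicGeometry
open Variety

namespace Groth.Agent.S7679

/-- Let X be proper over a field k, L an ample invertible module and F a coherent module such that
Ass(F) contains no closed point. Then Γ(X, F ⊗ L^{⊗n}) = 0 for n ≪ 0; here negative powers of L are
written as positive powers of an inverse M of L. -/
theorem result (k : Type u) [Field k] (X : Scheme.{u}) [X.Over (Spec (CommRingCat.of k))] [IsProper (X ↘ (Spec (CommRingCat.of k)))]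
    (L : X.Modules) (hL : CohB1.IsAmple L) (M : X.Modules) (hM : ClSub.IsInverseOf L M)
    (F : X.Modules) (hF : Coh.IsCoh F) (hass : ∀ x : X, IsClosed ({x} : Set X) → ¬ Curv2.IsAssPoint F x) :
    ∃ n₀ : ℕ, ∀ n : ℕ, n₀ ≤ n →
      Subsingleton (Coh.HH X (CohB1.tensorMod F (CohB1.tensorPow M n)) 0) := by
  classical
  haveI := CurveCohLib.isNoetherian_of_proper (k := k) (X := X)
  have hfin := AssPtX.finite_assPoints (X := X) hF (U := ⊤) isCompact_univ
  have hx : ∀ x : X, ∃ n₀ : ℕ, Curv2.IsAssPoint F x → ∀ n, n₀ ≤ n →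
      ∀ σ : Γ(CohB1.tensorMod F (CohB1.tensorPow M n), ⊤),
        (CohB1.tensorMod F (CohB1.tensorPow M n)).presheaf.germ ⊤ x trivial σ = 0 := fun x => by
    by_cases h : Curv2.IsAssPoint F x
    · obtain ⟨n₀, hn₀⟩ := AmpleNeg.eventually_germ_eq_zero (k := k) hL hM hF (fun hc => hass x hc h)
      exact ⟨n₀, fun _ => hn₀⟩
    · exact ⟨0, fun h' => absurd h' h⟩
  choose n₀ hn₀ using hx
  have hMi : PicF.IsInvertible M := AmpleNeg.isInvertible_inverse hL.1 hM
  refine ⟨hfin.toFinset.sup n₀, fun n hn => ?_⟩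
  let Q := CohB1.tensorMod F (CohB1.tensorPow M n)
  have hQ : Coh.IsQCoh Q := KFlatLib.isQCoh_tensor hF.1
    (ProjUPX.isQCoh_of_isInvertible (InvX.isInvertible_tensorPow hMi n))
  have hz : ∀ σ : Γ(Q, ⊤), σ = 0 := fun σ => by
    refine AssPtX.eq_zero_of_germ hQ σ fun y hy hya => ?_
    have hya' : Curv2.IsAssPoint F y :=
      AssPtX.isAssPoint_iff.2 (AmpleNeg.isWeakAssPoint_of_tensor (InvX.isInvertible_tensorPow hMi n) hya)
    exact hn₀ y hya' n ((Finset.le_sup (f := n₀) (hfin.mem_toFinset.2 ⟨trivial, hya'⟩)).trans hn) σ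
  exact subsingleton_of_forall_eq 0 fun t => (Sheaf.H.equiv₀ (Coh.toAb Q) isTerminalTop).injective
    ((hz _).trans (map_zero (Sheaf.H.equiv₀ (Coh.toAb Q) isTerminalTop)).symm)


end Groth.Agent.S7679
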