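import Groth.Statements.S7680
import Groth.Agent.PnVan.Pull
-- import your own Groth.Agent.* helpers here

set_option autoImplicit false
universe u
open CategoryTheory CategoryTheory.Limits AlgebraicGeometry
open Variety

namespace Groth.Agent.S7680

/-- Let X be proper over a field k, L an ample invertible module and F a coherent module with depth(F_x)
≥ 2 for every closed point x. Then H^1(X, F ⊗ L^{⊗m}) = 0 for m ≪ 0; negative powers of L are
written as powers of an inverse M of L. -/
theorem result (k : Type u) [Field k] (X : Scheme.{u}) [X.Over (Spec (CommRingCat.of k))] [IsProper (X ↘ (Spec (CommRingCat.of k)))]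
    (L : X.Modules) (hL : CohB1.IsAmple L) (M : X.Modules) (hM : ClSub.IsInverseOf L M)
    (F : X.Modules) (hF : Coh.IsCoh F)
    (hdepth : ∀ x : X, IsClosed ({x} : Set X) → 2 ≤ LocCoh.depth (X.presheaf.stalk x) (F.presheaf.stalk x)) :
    ∃ m₀ : ℕ, ∀ m : ℕ, m₀ ≤ m →
      Subsingleton (Coh.HH X (CohB1.tensorMod F (CohB1.tensorPow M m)) 1) := by
  obtain ⟨n, r, hr, -, hb⟩ := Groth.Agent.AmpleEmbed.exists_closedImmersion_pow (X ↘ (Spec (CommRingCat.of k))) hL
  rcases isEmpty_or_nonempty X with hX | hX
  · exact ⟨0, fun m _ => Groth.Agent.Euler.subsingleton_HH_of_isZero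
      (Groth.Agent.CurveCohLib.isZero_of_subsingleton_stalks fun x => (hX.false x).elim) 1⟩
  obtain ⟨b, hb0, hb⟩ := hb hX
  let r' : X ⟶ Groth.Agent.PnVan.P k n := r
  haveI : IsClosedImmersion r' := hr
  exact Groth.Agent.PnVan.eventually_subsingleton_of_depth (r := n) r' hL.1 hM hb0 hb hF hdepth 1 one_lt_two

end Groth.Agent.S7680
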