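import Groth.Statements.S7682
import Groth.Agent.Nakai.Pullback

set_option autoImplicit false
universe u
open CategoryTheory CategoryTheory.Limits AlgebraicGeometry
open Variety

attribute [-instance] CategoryTheory.catToReflQuiver

namespace Groth.Agent.S7682

/-- Let f : Y → X be a morphism of proper schemes over a field k, Z ⊆ Y an integral closed subscheme of
dimension d and L_1, …, L_d invertible modules on X. Then (f^*L_1 ⋯ f^*L_d · Z) = deg(Z → f(Z)) ·
(L_1 ⋯ L_d · f(Z)), f(Z) being the scheme-theoretic image and deg the degree of the function field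
extension, read as 0 when dim f(Z) < d (equivalently when that extension is infinite). Both
intersection numbers are the n_1⋯n_d-coefficients of the polynomials computing the corresponding
Euler characteristics. -/
theorem result (k : Type u) [Field k] (X Y : Scheme.{u})
    [X.Over (Spec (CommRingCat.of k))] [Y.Over (Spec (CommRingCat.of k))]
    [IsProper (X ↘ (Spec (CommRingCat.of k)))] [IsProper (Y ↘ (Spec (CommRingCat.of k)))]
    (f : Y ⟶ X) (hf : f ≫ (X ↘ (Spec (CommRingCat.of k))) = Y ↘ (Spec (CommRingCat.of k)))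
    (Z : Y.IdealSheafData) [IsIntegral Z.subscheme] (d : ℕ)
    (hZ : topologicalKrullDim (Z.support : Set Y) = d)
    (L : Fin d → X.Modules) (hL : ∀ i, PicF.IsInvertible (L i))
    (PY PX : MvPolynomial (Fin d) ℚ)
    (hPY : ∀ n : Fin d → ℕ, (Curv2.euler k Y (Curv2.tensorPows (ClSub.quotMod Z) d (fun i => (Scheme.Modules.pullback f).obj (L i)) n) : ℚ) = MvPolynomial.eval (fun i => (n i : ℚ)) PY)
    (hPX : ∀ n : Fin d → ℕ, (Curv2.euler k X (Curv2.tensorPows (ClSub.quotMod (Z.subschemeι ≫ f).ker) d L n) : ℚ) = MvPolynomial.eval (fun i => (n i : ℚ)) PX) :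
    MvPolynomial.coeff (Finsupp.equivFunOnFinite.symm fun _ : Fin d => 1) PY =
      ((Z.subschemeι ≫ f).residueDegree (genericPoint Z.subscheme) : ℚ) *
        MvPolynomial.coeff (Finsupp.equivFunOnFinite.symm fun _ : Fin d => 1) PX := by
  let W := Z.subscheme
  let h : W ⟶ X := Z.subschemeι ≫ f
  letI : W.Over (Spec (CommRingCat.of k)) := ⟨Z.subschemeι ≫ (Y ↘ Spec (CommRingCat.of k))⟩
  haveI : IsProper (W ↘ Spec (CommRingCat.of k)) :=
    inferInstanceAs (IsProper (Z.subschemeι ≫ (Y ↘ Spec (CommRingCat.of k))))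
  haveI : IsProper h := by
    haveI : IsProper (h ≫ (X ↘ Spec (CommRingCat.of k))) := by
      show IsProper ((Z.subschemeι ≫ f) ≫ _)
      rw [Category.assoc, hf]; infer_instance
    exact IsProper.of_comp h (X ↘ Spec (CommRingCat.of k))
  let I : X.IdealSheafData := h.ker
  letI : I.subscheme.Over (Spec (CommRingCat.of k)) := ⟨I.subschemeι ≫ (X ↘ Spec (CommRingCat.of k))⟩
  haveI : IsProper (I.subscheme ↘ Spec (CommRingCat.of k)) :=
    inferInstanceAs (IsProper (I.subschemeι ≫ (X ↘ Spec (CommRingCat.of k))))
  haveI : IsIntegral I.subscheme := RatSecExt.isIntegral_image h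
  let g : W ⟶ I.subscheme := h.toImage
  have hgh : g ≫ I.subschemeι = h := h.toImage_imageι
  have hg : g ≫ (I.subscheme ↘ Spec (CommRingCat.of k)) = W ↘ Spec (CommRingCat.of k) := by
    show g ≫ I.subschemeι ≫ _ = Z.subschemeι ≫ _
    rw [← Category.assoc, hgh]
    show (Z.subschemeι ≫ f) ≫ _ = _
    rw [Category.assoc, hf]
  haveI : IsProper g := by
    haveI : IsProper (g ≫ I.subschemeι) := by rw [hgh]; infer_instance
    exact IsProper.of_comp g I.subschemeι
  have hsurj : Function.Surjective g := by
    rw [← Set.range_eq_univ]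
    have h1 : closure (Set.range g) = Set.univ := h.toImage.denseRange.closure_range
    rwa [(g.isClosedMap.isClosed_range).closure_eq] at h1
  have hη : g (genericPoint W) = genericPoint I.subscheme := by
    have h1 := (genericPoint_spec W).image g.continuous
    rw [Set.image_univ, Set.range_eq_univ.2 hsurj, closure_univ] at h1
    exact h1.eq (genericPoint_spec I.subscheme)
  have hWd : topologicalKrullDim W = d :=
    (AmpleDev.dim_eq_one_of_closedImmersion Z.subschemeι Z.range_subschemeι).trans hZ
  let L' : Fin d → I.subscheme.Modules := fun i => (Scheme.Modules.pullback I.subschemeι).obj (L i)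
  have hL' : ∀ i, PicF.IsInvertible (L' i) := fun i => PicClLib.isInvertible_pullback _ (hL i)
  have hW : ∀ n, Snapper.χs k (fun i => (Scheme.Modules.pullback g).obj (L' i)) (Coh.structureModule W) n =
      MvPolynomial.eval (fun i => (n i : ℚ)) PY := fun n => by
    rw [← hPY n, Nakai.χs_quotMod k Z _ (fun i => PicClLib.isInvertible_pullback f (hL i)) n]
    refine Nakai.χs_congr_cl k (fun i => H23.PicMul.cl_eq_iff.2 ⟨?_⟩) _ n
    exact (Scheme.Modules.pullbackComp g I.subschemeι).app (L i) ≪≫ (Scheme.Modules.pullbackCongr hgh).app (L i) ≪≫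
      ((Scheme.Modules.pullbackComp Z.subschemeι f).app (L i)).symm
  have hI : ∀ n, Snapper.χs k L' (Coh.structureModule I.subscheme) n =
      MvPolynomial.eval (fun i => (n i : ℚ)) PX := fun n => by
    rw [← hPX n]
    exact (Nakai.χs_quotMod k I L hL n).symm
  have hα : ((Finsupp.equivFunOnFinite.symm fun _ : Fin d => 1).sum fun _ e => e) = d := by
    rw [Finsupp.sum_fintype _ _ (fun _ => rfl)]; simp
  have hle : topologicalKrullDim I.subscheme ≤ (d : WithBot ℕ∞) :=
    (Nakai.dim_le_of_surjective g g.isClosedMap hsurj).trans hWd.le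
  rcases hle.lt_or_eq with hlt | heq
  · rw [Nakai.coeff_push_zero k g hg hWd hlt hL' hW hα]
    obtain ⟨Q, hQ, hQn⟩ := Snapper.isMPolyLt_of_dim_lt k hL' d ⊤
      (lt_of_le_of_lt (Topology.IsInducing.subtypeVal.topologicalKrullDim_le) hlt) (Coh.structureModule I.subscheme)
      (haveI := CurveCohLib.isNoetherian_of_proper (k := k) (X := I.subscheme); QCoh.isCoh_structureModule')
      (fun x _ => trivial)
    rw [Snapper.eq_of_eval_nat (P := PX) (Q := Q) fun n => (hI n).symm.trans (hQn n),
      Snapper.coeff_eq_zero_of_degLt hQ, mul_zero]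
  · rw [Nakai.coeff_push k g hg hη hWd heq hL' hW hI hα]
    congr 2
    show g.residueDegree (genericPoint W) = h.residueDegree (genericPoint W)
    rw [← H23.FiniteFibreSum.residueDegree_congr' hgh (genericPoint W), CycLib.residueDegree_comp,
      CycLib.residueDegree_preimmersion I.subschemeι, one_mul]

end Groth.Agent.S7682
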