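import Groth.Statements.S7685
import Groth.Agent.CohBasic.SnapperInt

set_option autoImplicit false
universe u
open CategoryTheory CategoryTheory.Limits AlgebraicGeometry
open Variety

namespace Groth.Agent.S7685

/-- Let X be proper over a field k, Z ⊆ X a closed subscheme of dimension d and L_1, …, L_d invertible
modules. Then the intersection number (L_1 ⋯ L_d · Z), the coefficient of n_1⋯n_d in the polynomial
computing χ(X, O_Z ⊗ L_1^{⊗n_1} ⊗ ⋯ ⊗ L_d^{⊗n_d}) for all exponents in ℕ^d, is an integer. -/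
theorem result (k : Type u) [Field k] (X : Scheme.{u}) [X.Over (Spec (CommRingCat.of k))] [IsProper (X ↘ (Spec (CommRingCat.of k)))]
    (D : X.IdealSheafData) (d : ℕ) (hD : topologicalKrullDim (D.support : Set X) = d)
    (L : Fin d → X.Modules) (hL : ∀ i, PicF.IsInvertible (L i)) (P : MvPolynomial (Fin d) ℚ)
    (hP : ∀ n : Fin d → ℕ, (Curv2.euler k X (Curv2.tensorPows (ClSub.quotMod D) d L n) : ℚ) = MvPolynomial.eval (fun i => (n i : ℚ)) P) :
    ∃ z : ℤ, MvPolynomial.coeff (Finsupp.equivFunOnFinite.symm fun _ : Fin d => 1) P = (z : ℚ) := by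
  classical
  haveI := Groth.Agent.CurveCohLib.isNoetherian_of_proper (k := k) (X := X)
  have hsupp : CohB1.support (ClSub.quotMod D) ⊆ (D.support : Set X) := fun x hx =>
    not_not.1 fun h => hx (Groth.Agent.ParShLib.subsingleton_stalk_quotMod D h)
  obtain ⟨Q, hQd, hQ⟩ := Groth.Agent.Snapper.exists_mpoly k hL (M := ClSub.quotMod D)
    (Groth.Agent.ParShLib.isCoh_quotMod D) (d := d)
    ((Groth.Agent.H23.TopDim.dim_le_dim_of_subset hsupp).trans hD.le)
  have hPQ : P = Q := MvPolynomial.funext_set (fun _ => Set.range ((↑) : ℕ → ℚ))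
    (fun _ => Set.infinite_range_of_injective Nat.cast_injective) fun x hx => by
      choose n hn using fun i => hx i (Set.mem_univ i)
      obtain rfl : (fun i => (n i : ℚ)) = x := funext hn
      rw [← hP n, ← hQ n]
  subst hPQ
  refine ⟨∑ S ∈ (Finset.univ : Finset (Fin d)).powerset, (-1) ^ (Finset.univ \ S).card *
    Curv2.euler k X (Curv2.tensorPows (ClSub.quotMod D) d L fun i => if i ∈ S then 1 else 0), ?_⟩
  rw [← Groth.Agent.CohBasic.alt_sum_eval P hQd]
  push_cast
  refine Finset.sum_congr rfl fun S _ => ?_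
  rw [hP]
  refine congrArg ((-1 : ℚ) ^ (Finset.univ \ S).card * ·) (congrArg (fun v => MvPolynomial.eval v P) (funext fun i => ?_))
  by_cases hi : i ∈ S <;> simp [hi]

end Groth.Agent.S7685
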