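import Groth.Statements.S7686
import Groth.Agent.Snapper.Components
import Groth.Agent.ParShLib.ResStalk

set_option autoImplicit false
universe u
open CategoryTheory CategoryTheory.Limits AlgebraicGeometry
open Variety

namespace Groth.Agent.S7686

/-- Let X be proper over a field k, Z ⊆ X a closed subscheme of dimension d with irreducible components
Z_i of dimension d (reduced induced structure, generic points ξ_i, multiplicities m_i = length of
O_{Z,ξ_i} over O_{X,ξ_i}) and L_1, …, L_d invertible modules. Then (L_1 ⋯ L_d · Z) = Σ m_i (L_1 ⋯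
L_d · Z_i). Intersection numbers are the n_1⋯n_d-coefficients of the polynomials computing the Euler
characteristics; the sum is written over all points ξ whose closure has dimension d (other terms
vanish). -/
theorem result (k : Type u) [Field k] (X : Scheme.{u}) [X.Over (Spec (CommRingCat.of k))] [IsProper (X ↘ (Spec (CommRingCat.of k)))]
    (D : X.IdealSheafData) (d : ℕ) (hD : topologicalKrullDim (D.support : Set X) = d)
    (L : Fin d → X.Modules) (hL : ∀ i, PicF.IsInvertible (L i)) (P : MvPolynomial (Fin d) ℚ)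
    (hP : ∀ n : Fin d → ℕ, (Curv2.euler k X (Curv2.tensorPows (ClSub.quotMod D) d L n) : ℚ) = MvPolynomial.eval (fun i => (n i : ℚ)) P)
    (Q : X → MvPolynomial (Fin d) ℚ)
    (hQ : ∀ ξ : X, topologicalKrullDim (closure ({ξ} : Set X)) = (d : WithBot ℕ∞) →
      ∀ n : Fin d → ℕ, (Curv2.euler k X (Curv2.tensorPows (ClSub.quotMod (Scheme.IdealSheafData.vanishingIdeal (⟨closure ({ξ} : Set X), isClosed_closure⟩ : TopologicalSpace.Closeds X))) d L n) : ℚ) = MvPolynomial.eval (fun i => (n i : ℚ)) (Q ξ)) :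
    MvPolynomial.coeff (Finsupp.equivFunOnFinite.symm fun _ : Fin d => 1) P =
      ∑ᶠ ξ : X, (if topologicalKrullDim (closure ({ξ} : Set X)) = (d : WithBot ℕ∞) then
        ((Module.length (X.presheaf.stalk ξ) ((ClSub.quotMod D).presheaf.stalk ξ)).toNat : ℚ) *
          MvPolynomial.coeff (Finsupp.equivFunOnFinite.symm fun _ : Fin d => 1) (Q ξ) else 0) := by
  classical
  haveI := Groth.Agent.CurveCohLib.isNoetherian_of_proper (k := k) (X := X)
  let C : TopologicalSpace.Closeds X := ⟨D.support, D.support.isClosed⟩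
  have hsupp : CohB1.support (ClSub.quotMod D) ⊆ (C : Set X) := fun x hx =>
    not_not.1 fun h => hx (Groth.Agent.ParShLib.subsingleton_stalk_quotMod D h)
  have hfin := Groth.Agent.Snapper.finite_topPts (C := C) hD.le
  obtain ⟨R, hR, hRn⟩ := Groth.Agent.Snapper.isMPolyLt_sub_components k hL
    (Groth.Agent.ParShLib.isCoh_quotMod D) hD.le hsupp hfin.toFinset (fun _ => hfin.mem_toFinset)
  have hsum : ∀ v : X → ℚ, (∀ ξ, ξ ∉ hfin.toFinset → topologicalKrullDim (closure ({ξ} : Set X)) = (d : WithBot ℕ∞) →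
      v ξ = 0) → (∑ᶠ ξ : X, if topologicalKrullDim (closure ({ξ} : Set X)) = (d : WithBot ℕ∞) then v ξ else 0) =
      ∑ ξ ∈ hfin.toFinset, v ξ := fun v hv => by
    rw [finsum_eq_sum_of_support_subset _ (s := hfin.toFinset) fun ξ hξ => ?_]
    · exact Finset.sum_congr rfl fun ξ hξ => if_pos (hfin.mem_toFinset.1 hξ).2
    · by_contra hmem
      refine hξ ?_
      dsimp only
      split_ifs with hd
      · exact hv ξ hmem hd
      · rfl
  have heq : P = R + ∑ ξ ∈ hfin.toFinset,
      MvPolynomial.C (Groth.Agent.Snapper.len (ClSub.quotMod D) ξ) * Q ξ :=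
    Groth.Agent.Snapper.eq_of_eval_nat fun n => by
      rw [map_add, map_sum, ← hP n, ← hRn n]
      show Groth.Agent.Snapper.χs k L (ClSub.quotMod D) n = _
      rw [Finset.sum_congr rfl fun ξ hξ => by
        rw [map_mul, MvPolynomial.eval_C, ← hQ ξ (hfin.mem_toFinset.1 hξ).2 n]]
      exact (sub_add_cancel _ _).symm
  rw [hsum _ fun ξ hξ hd => ?_, heq, MvPolynomial.coeff_add, Groth.Agent.Snapper.coeff_eq_zero_of_degLt hR, zero_add,
    MvPolynomial.coeff_sum]
  · exact Finset.sum_congr rfl fun ξ _ => MvPolynomial.coeff_C_mul _ _ _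
  · have hnot : ξ ∉ CohB1.support (ClSub.quotMod D) := fun hs => hξ (hfin.mem_toFinset.2 ⟨hsupp hs, hd⟩)
    show Groth.Agent.Snapper.len (ClSub.quotMod D) ξ * _ = 0
    rw [Groth.Agent.Snapper.len_eq_zero hnot, zero_mul]

end Groth.Agent.S7686
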