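import Groth.Statements.S8269
import Groth.Agent.SymSh.Spec
import Groth.Agent.S4353
import Groth.Agent.S4354

set_option autoImplicit false
universe u
open CategoryTheory CategoryTheory.Limits AlgebraicGeometry Opposite TopologicalSpace
open EGA2

namespace Groth.Agent.S8269

/-- Let Y be either a quasi-compact separated scheme or a scheme with Noetherian underlying space, and X
affine and of finite type over Y. Then X is Y-isomorphic to a closed subscheme of a vector bundle
V(E) with E a quasi-coherent O_Y-module of finite type: there are such an E, its symmetric algebra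
A, and a closed immersion X → Spec(A) over Y. -/
theorem result {X Y : Scheme.{u}}
    (hY : (CompactSpace Y ∧ Y.IsSeparated) ∨ NoetherianSpace Y) (f : X ⟶ Y) [IsAffineHom f]
    [LocallyOfFiniteType f] :
    ∃ (E : Y.Modules) (_ : Coh.IsCoh E) (A : RelSpec.QCAlg Y) (j : E ⟶ A.toModule)
      (_ : RelSpec.IsSymAlg E A j) (i : X ⟶ A.spec), IsClosedImmersion i ∧ i ≫ A.π = f := by
  have hB : ∀ U : Y.affineOpens,
      ((RelSpec.QCAlg.directImage f).str.app (op (U : Y.Opens))).hom.FiniteType := fun U => by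
    show (f.app U.1).hom.FiniteType
    rw [Scheme.Hom.app_eq_appLE]
    exact LocallyOfFiniteType.finiteType_appLE f U.2 (U.2.preimage f) le_rfl
  have hex : ∃ (E : Y.Modules) (l : E ⟶ (RelSpec.QCAlg.directImage f).toModule), Coh.IsQCoh E ∧ CohB1.IsFT E ∧
      ∀ U : Y.affineOpens,
        Subring.closure (Set.range ((RelSpec.QCAlg.directImage f).str.app (op (U : Y.Opens))).hom ∪
          Set.range (fun e : E.val.obj (op (U : Y.Opens)) ↦
            (show (RelSpec.QCAlg.directImage f).presheaf.obj (op (U : Y.Opens)) from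
              (l.val.app (op (U : Y.Opens))).hom e))) = ⊤ := by
    rcases hY with ⟨h1, h2⟩ | h
    · haveI := h1; haveI := h2
      obtain ⟨E, l, -, h⟩ := Groth.Agent.S4354.result (RelSpec.QCAlg.directImage f) hB
      exact ⟨E, l, h⟩
    · haveI := h
      obtain ⟨E, l, -, h⟩ := Groth.Agent.S4353.result (RelSpec.QCAlg.directImage f) hB
      exact ⟨E, l, h⟩
  obtain ⟨E, l, hE, hft, hgen⟩ := hex
  let A := Groth.Agent.SymSh.Sym E hE
  obtain ⟨ψ, hψ, -⟩ := Groth.Agent.SymSh.isSymAlg E hE (RelSpec.QCAlg.directImage f) l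
  have hcomm : A.π.c ≫ A.gammaMap ≫ ψ.hom = f.c := by
    rw [← Category.assoc, A.π_c_gammaMap]
    exact ψ.comm
  let ω : AffAlg.algHoms A.π f := ⟨A.gammaMap ≫ ψ.hom, hcomm⟩
  let v := Groth.Agent.RelSpecX.ofAlgHom A.π f ω
  have hv : v ≫ A.π = f := Groth.Agent.RelSpecX.ofAlgHom_comp A.π f ω
  refine ⟨E, ⟨hE, hft⟩, A, Groth.Agent.SymSh.j E hE, Groth.Agent.SymSh.isSymAlg E hE, v, ?_, hv⟩
  have hcov : ⨆ U : Y.affineOpens, (⟨A.π ⁻¹ᵁ U.1, U.2.preimage A.π⟩ : A.spec.affineOpens).1 = ⊤ :=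
    eq_top_iff.2 fun z _ => by
      obtain ⟨_, ⟨W, hW, rfl⟩, hzW, -⟩ := Y.isBasis_affineOpens.exists_subset_of_mem_open
        (Set.mem_univ (A.π.base z)) isOpen_univ
      exact Opens.mem_iSup.2 ⟨⟨W, hW⟩, hzW⟩
  refine (HasAffineProperty.iff_of_iSup_eq_top (P := @IsClosedImmersion) _ hcov).2 fun U => ?_
  have hpre : v ⁻¹ᵁ (A.π ⁻¹ᵁ U.1) = f ⁻¹ᵁ U.1 := by
    show (v ≫ A.π) ⁻¹ᵁ U.1 = _
    rw [hv]
  refine ⟨hpre ▸ U.2.preimage f, ?_⟩
  rw [morphismRestrict_appTop]
  have hsurj : Function.Surjective (ψ.hom.app (op U.1)) := by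
    intro b
    have hb : b ∈ (ψ.hom.app (op U.1)).hom.range := by
      refine (Subring.closure_le.2 ?_) (hgen U ▸ Subring.mem_top b)
      rintro _ (⟨r, rfl⟩ | ⟨e, rfl⟩)
      · exact ⟨A.str.app (op U.1) r, congr($(NatTrans.congr_app ψ.comm (op U.1)) r)⟩
      · exact ⟨(show A.presheaf.obj (op U.1) from (Groth.Agent.SymSh.j E hE).val.app (op U.1) e),
          congrArg (fun t : E ⟶ (RelSpec.QCAlg.directImage f).toModule => t.val.app (op U.1) e) hψ⟩
    exact hb
  have h1 : Function.Surjective (v.app (A.π ⁻¹ᵁ U.1)) := by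
    have h2 : Function.Surjective (v.appLE (A.π ⁻¹ᵁ U.1) (f ⁻¹ᵁ U.1) hpre.ge) := by
      rw [Groth.Agent.RelSpecX.appLE_ofAlgHom A.π f ω U]
      haveI := Groth.Agent.RelSpecX.isIso_gammaMap A
      exact hsurj.comp (ConcreteCategory.bijective_of_isIso (A.gammaMap.app (op U.1))).2
    rw [Scheme.Hom.appLE] at h2
    haveI : IsIso (X.presheaf.map (homOfLE hpre.ge).op) := by
      rw [show (homOfLE hpre.ge) = eqToHom hpre.symm from Subsingleton.elim _ _]
      infer_instance
    exact Function.Surjective.of_comp_left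
      (f := ⇑(X.presheaf.map (homOfLE hpre.ge).op).hom) (g := ⇑(v.app (A.π ⁻¹ᵁ U.1)).hom) h2
      (ConcreteCategory.bijective_of_isIso (X.presheaf.map (homOfLE hpre.ge).op)).1
  have h3 : ∀ W : A.spec.Opens, W = A.π ⁻¹ᵁ U.1 → Function.Surjective (v.app W) := fun W hW => by
    subst hW; exact h1
  exact (ConcreteCategory.bijective_of_isIso (X.presheaf.map _)).2.comp
    (h3 _ (Scheme.Opens.ι_image_top _))

end Groth.Agent.S8269
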