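import Groth.Statements.S8282
import Groth.Agent.Proj16.ConeData
import Groth.Agent.Proj16.Points
import Groth.Agent.Proj16.IntGraded

set_option autoImplicit false
universe u
open CategoryTheory CategoryTheory.Limits AlgebraicGeometry
open EGA2

namespace Groth.Agent.S8282

/-- Let T be a positively graded ring which is a T_0-algebra of finite type, and T' = ⊕_n T_1^n → T the
injective graded homomorphism from the subalgebra generated by T_1 (T' presented as a graded ring
with φ : T' → T injective, bijective in degrees 0 and 1, and T'_n = (T'_1)^n for n ≥ 1). If the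
morphism of homogeneous spectra induced by φ is everywhere defined (its domain G(φ) is the whole of
Proj T) and is an isomorphism onto Proj T', then there is n₀ with T_n = T_1^n for all n ≥ n₀. -/
theorem result {R A B : Type u} [CommRing R] [CommRing A] [Algebra R A]
    (𝒜 : ℕ → Submodule R A) [GradedAlgebra 𝒜] [CommRing B] [Algebra R B] (ℬ : ℕ → Submodule R B) [GradedAlgebra ℬ]
    [Algebra.FiniteType (ℬ 0) B] (φ : 𝒜 →+*ᵍ ℬ) (hφ : Function.Injective φ)
    (h0 : Set.BijOn φ (𝒜 0) (ℬ 0)) (h1 : Set.BijOn φ (𝒜 1) (ℬ 1))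
    (hgen : ∀ n : ℕ, 1 ≤ n → 𝒜 n = 𝒜 1 ^ n)
    (hdom : PCone.dom φ = ⊤)
    (p : (PCone.dom φ : Scheme.{u}) ⟶ Proj 𝒜)
    (hp : ∀ (d : ℕ) (f : A) (hd : 0 < d) (hf : f ∈ 𝒜 d),
      PCone.chart φ hf hd ≫ p =
        Spec.map (CommRingCat.ofHom (HomogeneousLocalization.Away.map φ f)) ≫ Proj.awayι 𝒜 f hf hd)
    [IsIso p] :
    ∃ n₀ : ℕ, ∀ n : ℕ, n₀ ≤ n → ℬ n = ℬ 1 ^ n := by
  classical
  let E := φ.toRingHom.range
  have hsurj : ∀ f ∈ 𝒜 1, Function.Surjective (HomogeneousLocalization.Away.map φ f) := by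
    intro f hf
    let D := Groth.Agent.Proj16.pconeData 𝒜 ℬ φ
    haveI : IsIso D.map := by rw [← D.eq_map hp]; infer_instance
    haveI := D.isOpenImmersion hf one_pos
    haveI : IsOpenImmersion (Spec.map (D.toRing f) ≫ Proj.awayι 𝒜 f hf one_pos) := by
      have h := D.chart_map hf one_pos
      rw [Groth.Agent.Proj16.ToProjData.loc] at h
      rw [← h]; infer_instance
    haveI : IsOpenImmersion (Spec.map (D.toRing f)) := IsOpenImmersion.of_comp _ (Proj.awayι 𝒜 f hf one_pos)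
    haveI : IsIso (Spec.map (D.toRing f)) := by
      refine (isIso_iff_isOpenImmersion_and_epi_base _).2 ⟨inferInstance, (TopCat.epi_iff_surjective _).2 fun x => ?_⟩
      let z := inv D.map (Proj.awayι 𝒜 f hf one_pos x)
      have hz : D.map z = Proj.awayι 𝒜 f hf one_pos x := by
        rw [← Scheme.Hom.comp_apply, IsIso.inv_hom_id]; rfl
      have hmem : z ∈ D.map ⁻¹ᵁ Proj.basicOpen 𝒜 f := by
        show D.map z ∈ Proj.basicOpen 𝒜 f
        rw [hz, ← Proj.opensRange_awayι 𝒜 f hf one_pos]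
        exact ⟨x, rfl⟩
      rw [Groth.Agent.Proj16.pconeData_preimage 𝒜 ℬ φ hf one_pos] at hmem
      obtain ⟨w, hw⟩ := hmem
      refine ⟨w, (Proj.awayι 𝒜 f hf one_pos).isOpenEmbedding.injective ?_⟩
      rw [← hz, ← hw, ← Scheme.Hom.comp_apply, ← Scheme.Hom.comp_apply, D.chart_map hf one_pos]
      rfl
    haveI : IsIso (Scheme.Spec.map (D.toRing f).op) := ‹IsIso (Spec.map (D.toRing f))›
    haveI : IsIso (D.toRing f).op := isIso_of_reflects_iso _ Scheme.Spec
    haveI : IsIso (D.toRing f) := isIso_of_op _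
    exact (ConcreteCategory.bijective_of_isIso (D.toRing f)).2
  have hpow : ∀ n, 1 ≤ n → ∀ a ∈ 𝒜 1 ^ n, φ a ∈ ℬ 1 ^ n := by
    intro n hn
    induction n, hn using Nat.le_induction with
    | base => intro a ha; rw [pow_one] at ha ⊢; exact h1.mapsTo ha
    | succ n hn ih =>
      intro a ha
      rw [pow_succ] at ha ⊢
      refine Submodule.mul_induction_on ha (fun x hx y hy => ?_) fun x y hx hy => ?_
      · rw [map_mul]; exact Submodule.mul_mem_mul (ih x hx) (h1.mapsTo hy)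
      · rw [map_add]; exact add_mem hx hy
  have himg : ∀ n, 1 ≤ n → ∀ a ∈ 𝒜 n, φ a ∈ ℬ 1 ^ n := fun n hn a ha => hpow n hn a (hgen n hn ▸ ha)
  have hcomp : ∀ (m : ℕ) (a : A), φ a ∈ ℬ m → φ a = φ (GradedRing.proj 𝒜 m a) := by
    intro m a ha
    conv_lhs => rw [← Groth.Agent.Proj16.proj_of_mem ℬ ha, ← DirectSum.sum_support_decompose 𝒜 a, map_sum, map_sum]
    rw [Finset.sum_eq_single m]
    · exact Groth.Agent.Proj16.proj_of_mem ℬ (φ.2 (SetLike.coe_mem _))
    · exact fun i _ hi => Groth.Agent.Proj16.proj_of_mem_ne ℬ (φ.2 (SetLike.coe_mem _)) hi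
    · intro hm
      rw [DFinsupp.notMem_support_iff.1 hm]; simp
  let Q : Ideal B := Ideal.span (ℬ 1 : Set B)
  have hirr : (HomogeneousIdeal.irrelevant ℬ).toIdeal ≤ Q.radical := by
    refine ((Groth.Agent.Proj16.iSup_basicOpen_eq_top_iff ℬ
      (fun f : {f : A // ∃ d : ℕ, 0 < d ∧ f ∈ 𝒜 d} => φ f.1)
      fun f => let ⟨d, hd, hf⟩ := f.2; ⟨d, hd, φ.2 hf⟩).1 hdom).trans (Ideal.radical_mono (Ideal.span_le.2 ?_))
    rintro _ ⟨⟨f, d, hd, hf⟩, rfl⟩
    show φ f ∈ Q
    have h := himg d hd f hf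
    obtain ⟨d, rfl⟩ : ∃ e, d = e + 1 := ⟨d - 1, by omega⟩
    rw [pow_succ] at h
    exact Submodule.mul_induction_on h (fun x _ y hy => Ideal.mul_mem_left _ _ (Ideal.subset_span hy))
      fun x y hx hy => add_mem hx hy
  obtain ⟨N, g, dg, hdg, hg, hgg⟩ := Groth.Agent.Proj16.exists_generators ℬ
  have hfg : (HomogeneousIdeal.irrelevant ℬ).toIdeal.FG :=
    (Groth.Agent.Proj16.irrelevant_fg_iff ℬ).2 inferInstance
  obtain ⟨M, hM⟩ := Ideal.exists_pow_le_of_le_radical_of_fg hirr hfg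
  obtain ⟨m₀, hm₀⟩ := Groth.Agent.Proj16.exists_mem_irrelevant_pow ℬ M
  have hstep : ∀ n, m₀ ≤ n + 1 → ℬ (n + 1) ≤ ℬ 1 * ℬ n := by
    intro n hn x hx
    have hxQ : x ∈ Q := hM (hm₀ _ hn x hx)
    obtain ⟨c, hc⟩ := (Finsupp.mem_span_iff_linearCombination B _ _).1 hxQ
    rw [Finsupp.linearCombination_apply] at hc
    rw [← Groth.Agent.Proj16.proj_of_mem ℬ hx, ← hc, Finsupp.sum, map_sum]
    refine Submodule.sum_mem _ fun e _ => ?_
    rw [smul_eq_mul, GradedRing.proj_apply, DirectSum.coe_decompose_mul_of_right_mem_of_le ℬ e.2 (by omega),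
      mul_comm, show n + 1 - 1 = n from rfl]
    exact Submodule.mul_mem_mul (SetLike.coe_mem _) e.2
  have hspan : ∀ n, ∃ T : Finset B, (T : Set B) ⊆ (ℬ n : Set B) ∧
      ℬ n ≤ ℬ 0 * Submodule.span R (T : Set B) := fun n => by
    refine ⟨(Finset.univ.filter fun e : Fin N → Fin (n + 1) => ∑ j, (e j : ℕ) * dg j = n).image
      fun e => ∏ j, g j ^ (e j : ℕ), ?_, fun x hx => ?_⟩
    · simp only [Finset.coe_image, Finset.coe_filter, Finset.mem_univ, true_and, Set.image_subset_iff]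
      exact fun e he => Groth.Agent.Proj16.monomial_mem hg _ he
    refine Groth.Agent.Proj16.induction_on_monomials hg hgg (P := fun z => z ∈ ℬ 0 * Submodule.span R _)
      (zero_mem _) (fun _ _ => add_mem) (fun c hc e he => ?_) hx
    refine Submodule.mul_mem_mul hc (Submodule.subset_span ?_)
    have hlt : ∀ j, e j < n + 1 := fun j => Nat.lt_succ_of_le <|
      (Nat.le_mul_of_pos_right _ (hdg j)).trans <| he ▸
        Finset.single_le_sum (f := fun j => e j * dg j) (fun i _ => Nat.zero_le _) (Finset.mem_univ j)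
    exact Finset.mem_coe.mpr (Finset.mem_image.mpr ⟨fun j => ⟨e j, hlt j⟩, by simpa using he, rfl⟩)
  obtain ⟨T₁, hT₁, hB₁⟩ := hspan 1
  obtain ⟨T, hT, hBD⟩ := hspan (m₀ + 1)
  choose pre hpre hpre' using fun t : T₁ => h1.surjOn (hT₁ t.2)
  let F : Finset A := Finset.univ.image pre
  have hF : ∀ y ∈ ℬ 1, ∃ a ∈ Ideal.span (F : Set A), φ a = y := by
    intro y hy
    have hy' : y ∈ ℬ 0 * Submodule.span R (T₁ : Set B) := hB₁ hy
    clear hy
    refine Submodule.mul_induction_on hy' (fun x hx z hz => ?_) fun x z hx hz => ?_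
    · induction hz using Submodule.span_induction generalizing x with
      | mem t ht =>
        obtain ⟨a0, -, rfl⟩ := h0.surjOn hx
        exact ⟨a0 * pre ⟨t, ht⟩, Ideal.mul_mem_left _ _ (Ideal.subset_span
          (Finset.mem_image_of_mem _ (Finset.mem_univ _))), by rw [map_mul, hpre']⟩
      | zero => exact ⟨0, zero_mem _, by simp⟩
      | add _ _ _ _ hu hv =>
        obtain ⟨a, ha, ha'⟩ := hu x hx
        obtain ⟨b, hb, hb'⟩ := hv x hx
        exact ⟨a + b, add_mem ha hb, by rw [map_add, ha', hb', mul_add]⟩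
      | smul r u _ hu =>
        obtain ⟨a, ha, ha'⟩ := hu (r • x) (Submodule.smul_mem _ r hx)
        exact ⟨a, ha, by rw [ha', mul_smul_comm, smul_mul_assoc]⟩
    · obtain ⟨a, ha, rfl⟩ := hx
      obtain ⟨b, hb, rfl⟩ := hz
      exact ⟨a + b, add_mem ha hb, map_add φ a b⟩
  have hFk : ∀ k, ∀ y ∈ ℬ 1 ^ (k + 1), ∃ a ∈ Ideal.span (F : Set A) ^ (k + 1), φ a = y := by
    intro k
    induction k with
    | zero => intro y hy; rw [pow_one] at hy ⊢; exact hF y hy
    | succ k ih =>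
      intro y hy
      rw [pow_succ] at hy
      refine Submodule.mul_induction_on hy (fun x hx z hz => ?_) fun x z hx hz => ?_
      · obtain ⟨a, ha, rfl⟩ := ih x hx
        obtain ⟨b, hb, rfl⟩ := hF z hz
        exact ⟨a * b, by rw [pow_succ]; exact Ideal.mul_mem_mul ha hb, map_mul φ a b⟩
      · obtain ⟨a, ha, rfl⟩ := hx
        obtain ⟨b, hb, rfl⟩ := hz
        exact ⟨a + b, add_mem ha hb, map_add φ a b⟩
  have hk : ∀ c ∈ ℬ (m₀ + 1), ∃ k₀, ∀ k, k₀ ≤ k → ∀ y ∈ ℬ 1 ^ (k + 1), y * c ∈ ℬ 1 ^ (m₀ + 1 + (k + 1)) := by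
    intro c hc
    let J : Ideal A :=
      { carrier := {a | φ a * c ∈ E}
        add_mem' := fun {a b} ha hb => by
          show φ (a + b) * c ∈ E
          rw [map_add, add_mul]; exact add_mem ha hb
        zero_mem' := by show φ 0 * c ∈ E; rw [map_zero, zero_mul]; exact zero_mem _
        smul_mem' := fun r a ha => by
          show φ (r * a) * c ∈ E
          rw [map_mul, mul_assoc]
          exact mul_mem ⟨r, rfl⟩ ha }
    have hFJ : Ideal.span (F : Set A) ≤ J.radical := Ideal.span_le.2 fun f hf => by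
      obtain ⟨t, -, rfl⟩ := Finset.mem_image.1 hf
      obtain ⟨w, hw⟩ := hsurj (pre t) (hpre t)
        (HomogeneousLocalization.Away.mk ℬ (φ.2 (hpre t)) (m₀ + 1) c (by simpa using hc))
      obtain ⟨i, a, ha, rfl⟩ := w.mk_surjective 𝒜 (hpre t)
      rw [HomogeneousLocalization.Away.map_mk, ← (HomogeneousLocalization.val_injective _).eq_iff,
        HomogeneousLocalization.Away.val_mk, HomogeneousLocalization.Away.val_mk, Localization.mk_eq_mk_iff,
        Localization.r_iff_exists] at hw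
      obtain ⟨⟨_, j, rfl⟩, hj⟩ := hw
      refine ⟨j + i, ⟨pre t ^ (j + (m₀ + 1)) * a, ?_⟩⟩
      show φ (pre t ^ (j + (m₀ + 1)) * a) = φ (pre t ^ (j + i)) * c
      simp only [map_mul, map_pow, pow_add] at hj ⊢
      linear_combination hj
    obtain ⟨k₀, hk₀⟩ := Ideal.exists_pow_le_of_le_radical_of_fg hFJ ⟨F, rfl⟩
    refine ⟨k₀, fun k hk y hy => ?_⟩
    obtain ⟨a, ha, rfl⟩ := hFk k y hy
    obtain ⟨b, hb⟩ := hk₀ (Ideal.pow_le_pow_right (by omega) ha)
    have hdeg : φ a * c ∈ ℬ (m₀ + 1 + (k + 1)) := by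
      have := SetLike.mul_mem_graded (Groth.Agent.Proj16.pow_le_graded ℬ 1 (k + 1) (by omega) hy) hc
      rwa [mul_one, add_comm] at this
    have hb' : φ b = φ a * c := hb
    rw [← hb', hcomp _ b (hb' ▸ hdeg)]
    exact himg _ (by omega) _ (SetLike.coe_mem _)
  choose k₀ hk₀ using fun c : T => hk c.1 (hT c.2)
  refine ⟨m₀ + 1 + (Finset.univ.sup k₀ + 1), fun n hn => le_antisymm ?_ (by
    simpa using Groth.Agent.Proj16.pow_le_graded ℬ 1 n (by omega))⟩
  obtain ⟨k, hk', rfl⟩ : ∃ k, Finset.univ.sup k₀ ≤ k ∧ n = m₀ + 1 + (k + 1) :=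
    ⟨n - (m₀ + 1) - 1, by omega, by omega⟩
  have hchain : ∀ i, ℬ (m₀ + 1 + i) ≤ ℬ 1 ^ i * ℬ (m₀ + 1) := by
    intro i
    induction i with
    | zero => simp
    | succ i ih =>
      refine (hstep (m₀ + 1 + i) (by omega)).trans ?_
      rw [pow_succ', mul_assoc]
      exact mul_le_mul' le_rfl ih
  refine (hchain (k + 1)).trans (Submodule.mul_le.2 fun y hy x hx => ?_)
  have hx' : x ∈ ℬ 0 * Submodule.span R (T : Set B) := hBD hx
  clear hx
  refine Submodule.mul_induction_on hx' (fun u hu z hz => ?_) fun u v hu hv => ?_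
  · induction hz using Submodule.span_induction with
    | mem c hc =>
      rw [← mul_assoc]
      refine hk₀ ⟨c, hc⟩ k ((Finset.le_sup (Finset.mem_univ _)).trans hk') (y * u) ?_
      clear hc
      rw [pow_succ] at hy ⊢
      refine Submodule.mul_induction_on hy (fun v hv w hw => ?_) fun v w hv hw => ?_
      · rw [mul_assoc]
        refine Submodule.mul_mem_mul hv ?_
        simpa using SetLike.mul_mem_graded hw (show u ∈ ℬ 0 from hu)
      · rw [add_mul]; exact add_mem hv hw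
    | zero => simp
    | add v w _ _ hv hw => rw [mul_add, mul_add]; exact add_mem hv hw
    | smul r v _ hv => rw [mul_smul_comm, mul_smul_comm]; exact Submodule.smul_mem _ r hv
  · rw [mul_add]; exact add_mem hu hv

end Groth.Agent.S8282
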