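import Groth.Statements.S8289
import Groth.Agent.ProjQ.ConeImmExists
-- import your own Groth.Agent.* helpers here

set_option autoImplicit false
universe u
open CategoryTheory CategoryTheory.Limits AlgebraicGeometry Opposite TopologicalSpace
open scoped HomogeneousIdeal
noncomputable section
open EGA2

namespace Groth.Agent.S8289

/-- The canonical morphism i from the affine cone to the projective cone: let 𝒮 be a quasi-coherent
positively graded O_Y-algebra with 𝒮_0 = O_Y, Ŝ = 𝒮[z] (z of degree one; presented through a graded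
homomorphism ι : 𝒮 → Ŝ and a degree-one global section z with 𝒮(U)[X] → Ŝ(U), X ↦ z, bijective on
affine opens), C = Spec(𝒮) and Ĉ = Proj(Ŝ). There is a unique morphism i : C → Ĉ which, on the chart
Spec 𝒮(U) of C over an affine open U, is Spec of the ring isomorphism Ŝ(U)_(z) ≅ 𝒮(U) (sending x/z^k
to x for x homogeneous of degree k) followed by the inclusion of D_+(z|U) into Proj Ŝ(U) and the
chart of Ĉ; this i is an open immersion, affine, lies over Y, Ĉ is the smallest closed subscheme of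
Ĉ containing its image (its kernel ideal sheaf is zero), and its image is the open Ĉ_z where the
section z does not vanish (characterised chartwise by D_+(z|U)). -/
theorem result {Y PC : Scheme.{u}} (𝒮 Sh : RelProj.QCGrAlg Y)
    (h0 : ∀ (U : Y.Opens) (hU : IsAffineOpen U), Function.Bijective (𝒮.strZero U hU).hom)
    (ι : 𝒮.toQCAlg ⟶ Sh.toQCAlg) (hι : RelProj.IsGradedHom ι) (z : Sh.presheaf.obj (op ⊤))
    (hz : ∀ (U : Y.Opens) (hU : IsAffineOpen U), (Sh.presheaf.map (homOfLE le_top).op).hom z ∈ Sh.deg U hU 1)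
    (hpoly : ∀ (U : Y.Opens) (hU : IsAffineOpen U),
      Function.Bijective (Polynomial.eval₂RingHom (ι.hom.app (op U)).hom ((Sh.presheaf.map (homOfLE le_top).op).hom z)))
    (pC : PC ⟶ Y)
    (chartC : ∀ (U : Y.Opens) (hU : IsAffineOpen U), (((pC ⁻¹ᵁ U : PC.Opens) : Scheme.{u}) ≅ Proj (Sh.deg U hU)))
    (hPC : RelProj.IsRelProj Sh pC chartC)
    (θ : ∀ (U : Y.Opens) (hU : IsAffineOpen U),
      CommRingCat.of (HomogeneousLocalization.Away (Sh.deg U hU) ((Sh.presheaf.map (homOfLE le_top).op).hom z)) ⟶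
        𝒮.presheaf.obj (op U))
    (hθ : ∀ (U : Y.Opens) (hU : IsAffineOpen U)
      (q : HomogeneousLocalization.Away (Sh.deg U hU) ((Sh.presheaf.map (homOfLE le_top).op).hom z))
      (k : ℕ) (x : 𝒮.presheaf.obj (op U)), x ∈ 𝒮.deg U hU k →
        q.val = Localization.mk ((ι.hom.app (op U)).hom x)
          ⟨(Sh.presheaf.map (homOfLE le_top).op).hom z ^ k,
            pow_mem (Submonoid.mem_powers ((Sh.presheaf.map (homOfLE le_top).op).hom z)) k⟩ →
        (θ U hU).hom q = x) :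
    (∃! i : 𝒮.toQCAlg.spec ⟶ PC, ∀ (U : Y.Opens) (hU : IsAffineOpen U),
        𝒮.toQCAlg.ι U hU ≫ i =
          Spec.map (θ U hU) ≫
            Proj.awayι (Sh.deg U hU) ((Sh.presheaf.map (homOfLE le_top).op).hom z) (hz U hU) one_pos ≫
              RelProj.emb pC chartC U hU) ∧
      ∀ i : 𝒮.toQCAlg.spec ⟶ PC, (∀ (U : Y.Opens) (hU : IsAffineOpen U),
        𝒮.toQCAlg.ι U hU ≫ i =
          Spec.map (θ U hU) ≫
            Proj.awayι (Sh.deg U hU) ((Sh.presheaf.map (homOfLE le_top).op).hom z) (hz U hU) one_pos ≫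
              RelProj.emb pC chartC U hU) →
        IsOpenImmersion i ∧ IsAffineHom i ∧ i ≫ pC = 𝒮.toQCAlg.π ∧ i.ker = ⊥ ∧
          ∀ Xz : PC.Opens, (∀ (U : Y.Opens) (hU : IsAffineOpen U),
            Xz ⊓ pC ⁻¹ᵁ U =
              (pC ⁻¹ᵁ U).ι ''ᵁ ((chartC U hU).hom ⁻¹ᵁ
                Proj.basicOpen (Sh.deg U hU) ((Sh.presheaf.map (homOfLE le_top).op).hom z))) →
            Set.range i.base = (Xz : Set PC) := by
    have hp : RelCone.IsPolyOver 𝒮 Sh ι z := ⟨hι, hz, hpoly⟩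
    have hθ' : ∀ (U : Y.Opens) (hU : IsAffineOpen U), θ U hU = CommRingCat.ofHom (hp.awayZToBase U hU) := by
      intro U hU
      exact CommRingCat.hom_ext (Groth.Agent.ProjQ.eq_awayZToBase hp hU (θ U hU).hom
        fun q k x hx hq => hθ U hU q k x hx hq)
    obtain ⟨i, hi⟩ := Groth.Agent.ProjQ.exists_coneImm hp hPC
    have hiff : ∀ i' : 𝒮.toQCAlg.spec ⟶ PC, (∀ (U : Y.Opens) (hU : IsAffineOpen U),
        𝒮.toQCAlg.ι U hU ≫ i' = Spec.map (θ U hU) ≫ Proj.awayι (Sh.deg U hU)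
          ((Sh.presheaf.map (homOfLE le_top).op).hom z) (hz U hU) one_pos ≫ RelProj.emb pC chartC U hU) →
        RelCone.IsConeImm 𝒮 hp pC chartC i' := by
      intro i' h U hU
      rw [h U hU, hθ' U hU]
    refine ⟨⟨i, fun U hU => by rw [hi U hU, hθ' U hU], fun i' h => ?_⟩, fun i' h => ?_⟩
    · refine 𝒮.toQCAlg.glueData.cover.hom_ext _ _ fun V => ?_
      exact (hiff i' h V.toOpens V.2).trans (hi V.toOpens V.2).symm
    · have hi' := hiff i' h
      refine ⟨Groth.Agent.ProjQ.isOpenImmersion_coneImm hp hi' hPC, Groth.Agent.ProjQ.isAffineHom_coneImm hp hi' hPC,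
        Groth.Agent.ProjQ.coneImm_comp hp hPC hi', Groth.Agent.ProjQ.ker_coneImm hp hi' hPC, fun Xz hXz => ?_⟩
      ext x
      obtain ⟨U, hU, hxU, -⟩ := Groth.Agent.ProjQ.exists_affine_le (show pC x ∈ (⊤ : Y.Opens) from trivial)
      rw [Groth.Agent.ProjQ.mem_range_coneImm_iff hp hi' hPC hU hxU]
      have e : x ∈ Xz ⊓ pC ⁻¹ᵁ U ↔ x ∈ Xz := ⟨fun h => h.1, fun h => ⟨h, hxU⟩⟩
      rw [SetLike.mem_coe, ← e, hXz U hU]
      show x ∈ ((chartC U hU).inv ≫ (pC ⁻¹ᵁ U).ι) ''ᵁ _ ↔ _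
      rw [Scheme.Hom.comp_image, ← Scheme.Hom.inv_image]

end Groth.Agent.S8289
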