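import Groth.Statements.S8304
import Groth.Agent.SymSh.Spec

set_option autoImplicit false
universe u
open CategoryTheory CategoryTheory.Limits AlgebraicGeometry Opposite TopologicalSpace
open scoped HomogeneousIdeal
noncomputable section
open EGA2

namespace Groth.Agent.S8304

/-- At the level of graded algebras: let E be a quasi-coherent O_Y-module and 𝒮 = Sym(E) its graded
symmetric algebra (j : E → 𝒮 landing in degree one), and let Ŝ = 𝒮[z] be given through a graded
homomorphism ι : 𝒮 → Ŝ and a global section z of degree one with 𝒮(U)[X] → Ŝ(U), X ↦ z, bijective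
over every affine open U. If k : O_Y → Ŝ is a module homomorphism sending the unit section to z over
every open, then Ŝ together with the map E ⊕ O_Y → Ŝ whose components are j followed by ι, and k, is
the graded symmetric algebra of E ⊕ O_Y. Consequently the projective cone of V(E) = Spec(Sym E),
which is Proj(Ŝ), is the projective bundle P(E ⊕ O_Y), and its locus at infinity Proj(𝒮) is P(E). -/
theorem result {Y : Scheme.{u}} (E : Y.Modules) (hE : Coh.IsQCoh E)
    (𝒮 𝒮h : RelProj.QCGrAlg Y) (j : E ⟶ 𝒮.toModule) (hS : RelProj.IsGrSymAlg E 𝒮 j)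
    (ι : 𝒮.toQCAlg ⟶ 𝒮h.toQCAlg) (z : 𝒮h.presheaf.obj (op ⊤)) (hz : RelCone.IsPolyOver 𝒮 𝒮h ι z)
    (k : Coh.structureModule Y ⟶ 𝒮h.toModule)
    (hk : ∀ U : Y.Opens, (k.app U) (1 : Γ(Y, U)) = RelCone.restrictTop 𝒮h z U) :
    RelProj.IsGrSymAlg (E ⊞ Coh.structureModule Y) 𝒮h
      (biprod.desc (j ≫ RelSpec.QCAlg.Hom.toModuleMap ι) k) := by
  have hlin : ∀ {M : Y.Modules} (f g : Coh.structureModule Y ⟶ M),
      (∀ U : Y.Opens, f.app U (1 : Γ(Y, U)) = g.app U (1 : Γ(Y, U))) → f = g := fun {M} f g h => by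
    refine sub_eq_zero.1 (Groth.Agent.ExtPowSh.hom_eq_zero_of_isBasis _ Y.isBasis_affineOpens fun U hU x => ?_)
    show f.val.app (op U) x - g.val.app (op U) x = 0
    rw [sub_eq_zero]
    let o : (Coh.structureModule Y).val.obj (op U) := (1 : Γ(Y, U))
    have e : x = (show Γ(Y, U) from x) • o := (mul_one (show Γ(Y, U) from x)).symm
    rw [e, map_smul, map_smul]
    exact congrArg _ (h U)
  refine ⟨fun B φ => ?_, fun U hU x => ?_⟩
  swap
  · have hsum : x = (biprod.inl : E ⟶ E ⊞ Coh.structureModule Y).val.app (op U)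
          ((biprod.fst : E ⊞ Coh.structureModule Y ⟶ E).val.app (op U) x) +
        (biprod.inr : Coh.structureModule Y ⟶ E ⊞ Coh.structureModule Y).val.app (op U)
          ((biprod.snd : E ⊞ Coh.structureModule Y ⟶ Coh.structureModule Y).val.app (op U) x) :=
      (congrArg (fun t : E ⊞ Coh.structureModule Y ⟶ E ⊞ Coh.structureModule Y => t.val.app (op U) x)
        biprod.total).symm
    show (biprod.desc (j ≫ RelSpec.QCAlg.Hom.toModuleMap ι) k).val.app (op U) x ∈ 𝒮h.deg U hU 1
    rw [hsum, map_add]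
    refine add_mem ?_ ?_
    · have e := congrArg (fun t : E ⟶ 𝒮h.toModule => t.val.app (op U)
          ((biprod.fst : E ⊞ Coh.structureModule Y ⟶ E).val.app (op U) x))
        (biprod.inl_desc (j ≫ RelSpec.QCAlg.Hom.toModuleMap ι) k)
      exact e ▸ hz.graded U hU 1 _ (hS.2 U hU _)
    · have e := congrArg (fun t : Coh.structureModule Y ⟶ 𝒮h.toModule => t.val.app (op U)
          ((biprod.snd : E ⊞ Coh.structureModule Y ⟶ Coh.structureModule Y).val.app (op U) x))
        (biprod.inr_desc (j ≫ RelSpec.QCAlg.Hom.toModuleMap ι) k)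
      refine e ▸ ?_
      generalize (biprod.snd : E ⊞ Coh.structureModule Y ⟶ Coh.structureModule Y).val.app (op U) x = r
      let o : (Coh.structureModule Y).val.obj (op U) := (1 : Γ(Y, U))
      have e' : r = (show Γ(Y, U) from r) • o := (mul_one (show Γ(Y, U) from r)).symm
      show k.val.app (op U) r ∈ _
      rw [e', map_smul]
      show (𝒮h.str.app (op U)).hom _ * (show 𝒮h.presheaf.obj (op U) from k.val.app (op U) o) ∈ _
      rw [show (show 𝒮h.presheaf.obj (op U) from k.val.app (op U) o) = RelCone.restrictTop 𝒮h z U from hk U]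
      exact SetLike.mul_mem_graded (A := 𝒮h.deg U hU) (𝒮h.str_mem U hU _) (hz.deg_z U hU)
  · obtain ⟨ψ₁, hψ₁, hu₁⟩ := hS.1 B (biprod.inl ≫ φ)
    let c : Coh.structureModule Y ⟶ B.toModule := biprod.inr ≫ φ
    let t : ∀ U : Y.Opens, B.presheaf.obj (op U) := fun U => c.app U (1 : Γ(Y, U))
    have ht : ∀ {U V : Y.Opens} (h : V ≤ U), B.presheaf.map (homOfLE h).op (t U) = t V := fun {U V} h => by
      show B.presheaf.map (homOfLE h).op (c.app U (1 : Γ(Y, U))) = c.app V (1 : Γ(Y, V))
      refine (congr($(c.mapPresheaf.naturality (homOfLE h).op) _)).symm.trans (congrArg (c.app V) ?_)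
      exact map_one (Y.presheaf.map (homOfLE h).op).hom
    let θ : ∀ U : Y.AffineZariskiSite, 𝒮h.presheaf.obj (op U.1) ⟶ B.presheaf.obj (op U.1) := fun U =>
      CommRingCat.ofHom ((Polynomial.eval₂RingHom (ψ₁.hom.app (op U.1)).hom (t U.1)).comp
        (hz.polyEquiv U.1 U.2).symm.toRingHom)
    have hC : ∀ (U : Y.AffineZariskiSite) a, θ U (ι.hom.app (op U.1) a) = ψ₁.hom.app (op U.1) a := fun U a => by
      have e : hz.polyEquiv U.1 U.2 (Polynomial.C a) = ι.hom.app (op U.1) a := by
        rw [hz.polyEquiv_apply, Polynomial.eval₂_C]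
      show Polynomial.eval₂ _ _ ((hz.polyEquiv U.1 U.2).symm _) = _
      rw [← e, RingEquiv.symm_apply_apply, Polynomial.eval₂_C]
    have hX : ∀ U : Y.AffineZariskiSite, θ U (RelCone.restrictTop 𝒮h z U.1) = t U.1 := fun U => by
      have e : hz.polyEquiv U.1 U.2 Polynomial.X = RelCone.restrictTop 𝒮h z U.1 := by
        rw [hz.polyEquiv_apply, Polynomial.eval₂_X]
      show Polynomial.eval₂ _ _ ((hz.polyEquiv U.1 U.2).symm _) = _
      rw [← e, RingEquiv.symm_apply_apply, Polynomial.eval₂_X]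
    have hext : ∀ (U : Y.AffineZariskiSite) {R : Type u} [CommRing R] (F G : 𝒮h.presheaf.obj (op U.1) →+* R),
        (∀ a, F (ι.hom.app (op U.1) a) = G (ι.hom.app (op U.1) a)) →
        F (RelCone.restrictTop 𝒮h z U.1) = G (RelCone.restrictTop 𝒮h z U.1) → F = G :=
      fun U R _ F G h1 h2 => by
      refine RingHom.ext fun x => ?_
      obtain ⟨p, rfl⟩ := (hz.polyEquiv U.1 U.2).surjective x
      refine RingHom.congr_fun (f := F.comp (hz.polyEquiv U.1 U.2).toRingHom)
        (g := G.comp (hz.polyEquiv U.1 U.2).toRingHom) (Polynomial.ringHom_ext (fun a => ?_) ?_) p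
      · show F (hz.polyEquiv U.1 U.2 _) = G (hz.polyEquiv U.1 U.2 _)
        rw [hz.polyEquiv_apply, Polynomial.eval₂_C]
        exact h1 a
      · show F (hz.polyEquiv U.1 U.2 _) = G (hz.polyEquiv U.1 U.2 _)
        rw [hz.polyEquiv_apply, Polynomial.eval₂_X]
        exact h2
    obtain ⟨ψ, hψ⟩ := Groth.Agent.SymSh.exists_hom (A := 𝒮h.toQCAlg) (B := B) θ (fun {U V} i => by
      let h := Scheme.AffineZariskiSite.toOpens_mono i.le
      refine CommRingCat.hom_ext (hext U _ _ (fun a => ?_) ?_)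
      · show θ V (𝒮h.presheaf.map (homOfLE h).op (ι.hom.app (op U.1) a)) =
          B.presheaf.map (homOfLE h).op (θ U (ι.hom.app (op U.1) a))
        have e : 𝒮h.presheaf.map (homOfLE h).op (ι.hom.app (op U.1) a) =
            ι.hom.app (op V.1) (𝒮.presheaf.map (homOfLE h).op a) :=
          (congr($(ι.hom.naturality (homOfLE h).op) a)).symm
        rw [e, hC, hC]
        exact congr($(ψ₁.hom.naturality (homOfLE h).op) a)
      · show θ V (𝒮h.presheaf.map (homOfLE h).op (RelCone.restrictTop 𝒮h z U.1)) =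
          B.presheaf.map (homOfLE h).op (θ U (RelCone.restrictTop 𝒮h z U.1))
        have e : 𝒮h.presheaf.map (homOfLE h).op (RelCone.restrictTop 𝒮h z U.1) =
            RelCone.restrictTop 𝒮h z V.1 :=
          (congr($(𝒮h.presheaf.map_comp (homOfLE le_top).op (homOfLE h).op) z)).symm
        rw [e, hX, hX, ht h])
      fun U => CommRingCat.hom_ext (RingHom.ext fun r => by
        show θ U (𝒮h.str.app (op U.1) r) = B.str.app (op U.1) r
        rw [show 𝒮h.str.app (op U.1) r = ι.hom.app (op U.1) (𝒮.str.app (op U.1) r) from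
          (congr($(NatTrans.congr_app ι.comm (op U.1)) r)).symm, hC]
        exact congr($(NatTrans.congr_app ψ₁.comm (op U.1)) r))
    have hιψ : ι ≫ ψ = ψ₁ := Groth.Agent.SymSh.hom_ext_affine fun U => CommRingCat.hom_ext (RingHom.ext fun a => by
      show ψ.hom.app (op U.1) (ι.hom.app (op U.1) a) = _
      rw [hψ, hC])
    have htX : ∀ U : Y.Opens, ψ.hom.app (op U) (RelCone.restrictTop 𝒮h z U) = t U := fun U => by
      refine TopCat.Sheaf.eq_of_locally_eq' ⟨B.presheaf, B.isSheaf⟩
        (fun V : {V : Y.affineOpens // V.1 ≤ U} => V.1.1) U (fun V => homOfLE V.2) (fun y hy => ?_) _ _ fun V => ?_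
      · obtain ⟨_, ⟨W, hW, rfl⟩, hyW, hWU⟩ := Y.isBasis_affineOpens.exists_subset_of_mem_open hy U.2
        exact Opens.mem_iSup.2 ⟨⟨⟨W, hW⟩, hWU⟩, hyW⟩
      · show B.presheaf.map (homOfLE V.2).op (ψ.hom.app (op U) _) = B.presheaf.map (homOfLE V.2).op (t U)
        rw [ht V.2, ← hX ⟨V.1.1, V.1.2⟩, ← hψ]
        refine (congr($(ψ.hom.naturality (homOfLE V.2).op) _)).symm.trans ?_
        exact congrArg (ψ.hom.app (op V.1.1))
          (congr($(𝒮h.presheaf.map_comp (homOfLE le_top).op (homOfLE V.2).op) z)).symm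
    refine ⟨ψ, biprod.hom_ext' _ _ ?_ (hlin _ _ fun U => ?_), fun ψ' hψ' => ?_⟩
    · rw [biprod.inl_desc_assoc, Category.assoc, ← Groth.Agent.SymSh.toModuleMap_comp, hιψ]
      exact hψ₁
    · show ((biprod.inr ≫ biprod.desc (j ≫ RelSpec.QCAlg.Hom.toModuleMap ι) k ≫
        RelSpec.QCAlg.Hom.toModuleMap ψ).app U) _ = _
      rw [biprod.inr_desc_assoc]
      exact (congrArg (ψ.hom.app (op U)) (hk U)).trans (htX U)
    · have h1 : ι ≫ ψ' = ψ₁ := hu₁ _ (by
        show j ≫ RelSpec.QCAlg.Hom.toModuleMap (ι ≫ ψ') = _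
        rw [Groth.Agent.SymSh.toModuleMap_comp, ← hψ', biprod.inl_desc_assoc, Category.assoc])
      refine Groth.Agent.SymSh.hom_ext_affine fun U => CommRingCat.hom_ext (hext U _ _ (fun a => ?_) ?_)
      · refine Eq.trans ?_ (congrArg (fun q : 𝒮.toQCAlg ⟶ B => q.hom.app (op U.1) a) hιψ).symm
        exact congrArg (fun q : 𝒮.toQCAlg ⟶ B => q.hom.app (op U.1) a) h1
      · refine Eq.trans ?_ (htX U.1).symm
        rw [← hk U.1]
        have e := congrArg (fun t : Coh.structureModule Y ⟶ B.toModule => t.app U.1 (1 : Γ(Y, U.1)))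
          ((biprod.inr_desc_assoc (j ≫ RelSpec.QCAlg.Hom.toModuleMap ι) k
            (RelSpec.QCAlg.Hom.toModuleMap ψ')).symm.trans
            (congrArg (biprod.inr ≫ ·) hψ'))
        exact e

end Groth.Agent.S8304
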