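import Groth.Statements.S8333
import Groth.Agent.AmpleX.CounitEpi
import Groth.Agent.RelTwistX.Ample
import Groth.Agent.RelTwistX.Projective
import Groth.Agent.RelTwistX.Tensor

set_option autoImplicit false
universe u
open CategoryTheory CategoryTheory.Limits AlgebraicGeometry Opposite TopologicalSpace
open scoped HomogeneousIdeal
noncomputable section
open EGA2

open Groth.Agent.H23.PicMul
namespace Groth.Agent.S8333

/-- Let Y be a scheme with quasi-compact underlying space, 𝒮 a quasi-coherent positively graded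
O_Y-algebra generated by 𝒮_1 with 𝒮_1 of finite type, p : P = Proj(𝒮) → Y, and F a quasi-coherent
O_P-module of finite type. Then there is n₀ such that for all n ≥ n₀ the canonical morphism
p^*(p_*(F(n))) → F(n) is an epimorphism, where F(n) = F ⊗ O_P(n) with O_P(n) given through its
chartwise identifications. -/
theorem result {Y P : Scheme.{u}} (𝒮 : RelProj.QCGrAlg Y) (p : P ⟶ Y)
    (chart : ∀ (U : Y.Opens) (hU : IsAffineOpen U), (((p ⁻¹ᵁ U : P.Opens) : Scheme.{u}) ≅ Proj (𝒮.deg U hU)))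
    (hP : RelProj.IsRelProj 𝒮 p chart) [CompactSpace Y] (hgen : 𝒮.IsGenDegOne)
    (hft : 𝒮.IsFTDeg 1) (F : P.Modules) (hFq : Coh.IsQCoh F) (hFt : CohB1.IsFT F) :
    ∃ n₀ : ℤ, ∀ (n : ℤ), n₀ ≤ n → ∀ (L : P.Modules)
      (lam : ∀ (U : Y.Opens) (hU : IsAffineOpen U),
      L ⟶ (Scheme.Modules.pushforward (RelProj.emb p chart U hU)).obj (GrTwist.twist (𝒮.deg U hU) n)),
      RelProj.IsRelTwist 𝒮 p chart n L lam →
        Epi ((Scheme.Modules.pullbackPushforwardAdjunction p).counit.app (CohB1.tensorMod F L)) := by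
  obtain ⟨n₀, hn₀⟩ : ∃ n₀ : ℕ, ∀ n, n₀ ≤ n → Epi ((Scheme.Modules.pullbackPushforwardAdjunction p).counit.app
      (CohB1.tensorMod F (CohB1.tensorPow (RelTwistX.twist hP 1) n))) := by
    haveI : IsProper p := ProjLoc.isProper_of_isProjective ⟨𝒮, P, p, chart, Iso.refl _, hgen, hft, hP, Category.id_comp _⟩
    haveI : CompactSpace P := QuasiCompact.compactSpace_of_compactSpace p
    exact AmpleX.eventually_epi_counit
      (RelTwistX.isRelAmple_twist_one hgen hft (RelTwistX.isRelTwist hP (n := 1))) hFq hFt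
  refine ⟨(n₀ : ℤ) + 1, fun n hn L lam hL => ?_⟩
  have key : ∀ k : ℕ, ∀ (m : ℤ), m = (k : ℤ) + 1 → ∀ (L : P.Modules)
      (lam : ∀ (U : Y.Opens) (hU : IsAffineOpen U),
      L ⟶ (Scheme.Modules.pushforward (RelProj.emb p chart U hU)).obj (GrTwist.twist (𝒮.deg U hU) m)),
      RelProj.IsRelTwist 𝒮 p chart m L lam →
        PicF.cl L = PicF.cl (RelTwistX.twist hP 1) ^ (k + 1) := by
    intro k
    induction k with
    | zero =>
      intro m hm L lam hL
      obtain rfl : m = 0 + 1 := by simpa using hm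
      obtain ⟨e⟩ := RelTwistX.nonempty_tensor_iso hP hgen (RelTwistX.isRelTwist hP (n := (0 : ℤ)))
        (RelTwistX.isRelTwist hP (n := (1 : ℤ))) hL
      obtain ⟨e'⟩ := RelTwistX.nonempty_tensor_iso hP hgen (RelTwistX.isRelTwist hP (n := (0 : ℤ)))
        (RelTwistX.isRelTwist hP (n := (1 : ℤ))) (RelTwistX.isRelTwist hP (n := (0 : ℤ) + 1))
      have h01 : ∀ m : ℤ, m = 1 → PicF.cl (RelTwistX.twist hP m) = PicF.cl (RelTwistX.twist hP 1) := by
        rintro _ rfl; rfl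
      rw [pow_one, ← cl_eq_iff.2 ⟨e⟩, cl_eq_iff.2 ⟨e'⟩, h01 _ (zero_add 1)]
    | succ k ih =>
      intro m hm L lam hL
      obtain ⟨m', hm', rfl⟩ : ∃ m', m' = (k : ℤ) + 1 ∧ m = m' + 1 := ⟨_, rfl, by rw [hm]; push_cast; rfl⟩
      obtain ⟨e⟩ := RelTwistX.nonempty_tensor_iso hP hgen (RelTwistX.isRelTwist hP (n := m'))
        (RelTwistX.isRelTwist hP (n := (1 : ℤ))) hL
      rw [← cl_eq_iff.2 ⟨e⟩, cl_tensor, ih m' hm' _ _ (RelTwistX.isRelTwist hP), ← pow_succ]
  obtain ⟨k, hk⟩ : ∃ k : ℕ, n = (k : ℤ) + 1 := ⟨(n - 1).toNat, by omega⟩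
  have h := key k n hk L lam hL
  obtain ⟨e⟩ := cl_eq_iff.1 (h.trans (cl_tensorPow _ (k + 1)).symm)
  have h' := hn₀ (k + 1) (by omega)
  exact Groth.Agent.AmpleX.epi_counit_of_iso p ((DCoh.tensorBi.obj F).mapIso e.symm) h'

end Groth.Agent.S8333
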