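import Groth.Statements.S8334
import Groth.Agent.AmpleX.FTQuot
import Groth.Agent.RelTwistX.Ample
import Groth.Agent.RelTwistX.Projective
import Groth.Agent.RelTwistX.Tensor
import Groth.Agent.S1108

set_option autoImplicit false
universe u
open CategoryTheory CategoryTheory.Limits AlgebraicGeometry Opposite TopologicalSpace
open scoped HomogeneousIdeal
noncomputable section
open EGA2

open Groth.Agent.H23.PicMul
namespace Groth.Agent.S8334

/-- Let Y be a quasi-compact separated scheme, or a scheme with Noetherian underlying space, 𝒮 a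
quasi-coherent positively graded O_Y-algebra generated by 𝒮_1 with 𝒮_1 of finite type, p : P =
Proj(𝒮) → Y, and F a quasi-coherent O_P-module of finite type. Then there is n₀ such that for every
n ≥ n₀, F is a quotient of (p^*G)(−n) = p^*(G) ⊗ O_P(−n) for some quasi-coherent O_Y-module G of
finite type (which may vary with n), O_P(−n) being given through its chartwise identifications. -/
theorem result {Y P : Scheme.{u}} (𝒮 : RelProj.QCGrAlg Y) (p : P ⟶ Y)
    (chart : ∀ (U : Y.Opens) (hU : IsAffineOpen U), (((p ⁻¹ᵁ U : P.Opens) : Scheme.{u}) ≅ Proj (𝒮.deg U hU)))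
    (hP : RelProj.IsRelProj 𝒮 p chart)
    (hY : (CompactSpace Y ∧ Y.IsSeparated) ∨ NoetherianSpace Y) (hgen : 𝒮.IsGenDegOne)
    (hft : 𝒮.IsFTDeg 1) (F : P.Modules) (hFq : Coh.IsQCoh F) (hFt : CohB1.IsFT F) :
    ∃ n₀ : ℤ, ∀ (n : ℤ), n₀ ≤ n → ∀ (L : P.Modules)
      (lam : ∀ (U : Y.Opens) (hU : IsAffineOpen U),
      L ⟶ (Scheme.Modules.pushforward (RelProj.emb p chart U hU)).obj (GrTwist.twist (𝒮.deg U hU) (-n))),
      RelProj.IsRelTwist 𝒮 p chart (-n) L lam →
        ∃ (G : Y.Modules) (π : CohB1.tensorMod ((Scheme.Modules.pullback p).obj G) L ⟶ F),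
          Coh.IsQCoh G ∧ CohB1.IsFT G ∧ Epi π := by
  haveI : IsProper p := Groth.Agent.ProjLoc.isProper_of_isProjective
    ⟨𝒮, P, p, chart, Iso.refl _, hgen, hft, hP, Category.id_comp _⟩
  haveI : CompactSpace Y ∧ QuasiSeparatedSpace Y := by
    rcases hY with ⟨h₁, h₂⟩ | h <;> exact ⟨inferInstance, inferInstance⟩
  obtain ⟨hYc, hYs⟩ := this
  have hamp := Groth.Agent.RelTwistX.isRelAmple_twist_one hgen hft (Groth.Agent.RelTwistX.isRelTwist hP (n := 1))
  have hu := isUnit_cl (Groth.Agent.AmpleX.isInvertible_of_isRelAmple hamp)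
  obtain ⟨n₀, hn₀⟩ := Groth.Agent.AmpleX.eventually_quotient_pullback hamp hFq hFt
  let tw := fun m : ℤ => Groth.Agent.RelTwistX.twist hP m
  have hadd : ∀ a b : ℤ, PicF.cl (tw a) * PicF.cl (tw b) = PicF.cl (tw (a + b)) := fun a b => by
    rw [← cl_tensor]
    exact cl_eq_iff.2 (Groth.Agent.RelTwistX.nonempty_tensor_iso hP hgen (Groth.Agent.RelTwistX.isRelTwist hP)
      (Groth.Agent.RelTwistX.isRelTwist hP) (Groth.Agent.RelTwistX.isRelTwist hP))
  have h0 : PicF.cl (tw 0) = 1 := by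
    have h := hadd 0 1
    rw [zero_add] at h
    exact hu.mul_left_injective (h.trans (one_mul _).symm)
  have hpow : ∀ k : ℕ, PicF.cl (tw k) = PicF.cl (tw 1) ^ k := by
    intro k
    induction k with
    | zero => rw [pow_zero]; exact h0
    | succ k ih => rw [pow_succ, ← ih, hadd, Nat.cast_succ]
  refine ⟨n₀, fun n hn L lam hL => ?_⟩
  obtain ⟨m, rfl⟩ : ∃ m : ℕ, n = m := ⟨n.toNat, by omega⟩
  obtain ⟨e⟩ := Groth.Agent.RelTwistX.nonempty_tensor_iso hP hgen
    (Groth.Agent.RelTwistX.isRelTwist hP (n := (m : ℤ))) hL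
    (Groth.Agent.RelTwistX.isRelTwist hP (n := (m : ℤ) + -(m : ℤ)))
  have hinv : PicF.cl (tw m) * PicF.cl L = 1 := by
    rw [← cl_tensor, cl_eq_iff.2 ⟨e⟩, show PicF.cl (Groth.Agent.RelTwistX.twist hP ((m : ℤ) + -(m : ℤ))) =
      PicF.cl (tw 0) by rw [add_neg_cancel], h0]
  have hG : Nonempty (CohB1.tensorMod F (CohB1.tensorPow (tw 1) m) ≅ CohB1.tensorMod F (tw m)) :=
    cl_eq_iff.1 (by rw [cl_tensor, cl_tensor, cl_tensorPow, hpow m])
  obtain ⟨N, π, hNq, hNf, hπ⟩ := hn₀ m (by exact_mod_cast hn) _ hG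
  obtain ⟨e'⟩ := cl_eq_iff.1 (show PicF.cl (CohB1.tensorMod (CohB1.tensorMod F (tw m)) L) = PicF.cl F by
    rw [cl_tensor, cl_tensor, mul_assoc, hinv, mul_one])
  obtain ⟨c₁⟩ := comm ((Scheme.Modules.pullback p).obj N) L
  obtain ⟨c₂⟩ := comm L (CohB1.tensorMod F (tw m))
  haveI := hπ
  have hπL : Epi ((DCoh.tensorBi.obj L).map π) := Groth.Agent.S1108.epi_tensor L π
  exact ⟨N, c₁.hom ≫ (DCoh.tensorBi.obj L).map π ≫ c₂.hom ≫ e'.hom, hNq, hNf,
    epi_comp' (IsIso.epi_of_iso c₁.hom) (epi_comp' hπL (IsIso.epi_of_iso (c₂.hom ≫ e'.hom)))⟩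

end Groth.Agent.S8334
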