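import Groth.Statements.S8348
import Mathlib

set_option autoImplicit false
universe v u
open CategoryTheory CategoryTheory.Limits
open HomAlg3

namespace Groth.Agent.S8348

/-- Let C be an abelian category and Q a cochain complex of objects of C in degrees 0, 1, 2, ... such
that every Q^i is injective, every homology object H^i(Q) with i ≥ 1 is zero, and every inclusion of
the cycles Z^i(Q) into Q^i (i ≥ 0) is a split monomorphism. Then Q is an injective object of the
category of cochain complexes of C indexed by the natural numbers. (The published statement is for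
the narrower class of complexes with Z^i(Q) = B^i(Q) for every i ≥ 0, which in degree 0, where there
is no incoming differential, forces Z^0(Q) = 0; this row allows a nonzero Z^0(Q), so that it pairs
with the embedding of an arbitrary complex into such a Q. Such a Q is the direct sum of Z^0(Q)
placed in degree 0 and of the two-term complexes with Z^{i+1}(Q) in degrees i and i+1 and the
identity as differential, and the published argument carries over with Z^i(Q) in place of B^i(Q) as
the first summand of Q^i.) -/
theorem result {C : Type u} [Category.{v} C] [Abelian C]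
    (Q : CochainComplex C ℕ) (hinj : ∀ i : ℕ, Injective (Q.X i)) (hac : ∀ i : ℕ, IsZero (Q.homology (i + 1)))
    (hsplit : ∀ i : ℕ, IsSplitMono (Q.iCycles i)) : Injective Q := by
  haveI := hinj
  let r : ∀ i, Q.X i ⟶ Q.cycles i := fun i => @retraction _ _ _ _ (Q.iCycles i) (hsplit i)
  have hr : ∀ i, Q.iCycles i ≫ r i = 𝟙 _ := fun i => @IsSplitMono.id _ _ _ _ (Q.iCycles i) (hsplit i)
  haveI : ∀ i, Injective (Q.cycles i) := fun i =>
    Retract.injective { i := Q.iCycles i, r := r i, retract := hr i }
  haveI hepi : ∀ i, Epi (Q.toCycles i (i + 1)) := fun i => by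
    have hprev : (ComplexShape.up ℕ).prev (i + 1) = i := by simp
    have h := (HomologicalComplex.exactAt_iff_isZero_homology _ _).2 (hac i)
    rw [Q.exactAt_iff' i (i + 1) (i + 1 + 1) hprev (by simp)] at h
    have he := (ShortComplex.exact_iff_epi_toCycles _).1 h
    let e := Q.cyclesIsoSc' i (i + 1) (i + 1 + 1) hprev (by simp)
    haveI : Epi (Q.toCycles i (i + 1) ≫ e.hom) := by
      erw [Q.toCycles_cyclesIsoSc'_hom i (i + 1) (i + 1 + 1) hprev (by simp)]
      exact he
    simpa using epi_comp (Q.toCycles i (i + 1) ≫ e.hom) e.inv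
  have hσ : ∀ i, ∃ σ : Q.cycles (i + 1) ⟶ Q.X i, Q.toCycles i (i + 1) ≫ σ = 𝟙 _ - r i ≫ Q.iCycles i := by
    intro i
    have w : Q.iCycles i ≫ Q.toCycles i (i + 1) = 0 := by
      rw [← cancel_mono (Q.iCycles (i + 1)), Category.assoc, HomologicalComplex.toCycles_i, zero_comp,
        HomologicalComplex.iCycles_d]
    have hex : (ShortComplex.mk _ _ w).Exact := ShortComplex.exact_of_f_is_kernel _
      (Fork.IsLimit.mk _ (fun s => Q.liftCycles s.ι (i + 1) (by simp) (by
          rw [← HomologicalComplex.toCycles_i, ← Category.assoc, show s.ι ≫ Q.toCycles i (i + 1) = 0 from KernelFork.condition s, zero_comp]))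
        (fun s => Q.liftCycles_i _ _ _ _) (fun s m hm => by
          rw [← cancel_mono (Q.iCycles i), Q.liftCycles_i]; exact hm))
    haveI : Epi (ShortComplex.mk _ _ w).g := hepi i
    exact ⟨hex.desc (𝟙 _ - r i ≫ Q.iCycles i) (by simp [Preadditive.comp_sub, reassoc_of% (hr i)]), hex.g_desc _ _⟩
  choose σ hσ using hσ
  have hd : ∀ i, Q.toCycles i (i + 1) = Q.d i (i + 1) ≫ r (i + 1) := fun i => by
    rw [← HomologicalComplex.toCycles_i, Category.assoc, hr, Category.comp_id]
  have hσd : ∀ i, ∀ {Z : C} (m : Z ⟶ Q.cycles (i + 1)), (m ≫ Q.iCycles (i + 1)) ≫ Q.d (i + 1) (i + 1 + 1) = 0 := by simp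
  have hσι : ∀ i, Q.toCycles i (i + 1) ≫ σ i ≫ Q.d i (i + 1) = Q.toCycles i (i + 1) ≫ Q.iCycles (i + 1) := fun i => by
    rw [reassoc_of% (hσ i), HomologicalComplex.toCycles_i]
    simp [Preadditive.sub_comp]
  have hσd' : ∀ i, σ i ≫ Q.d i (i + 1) = Q.iCycles (i + 1) := fun i => by
    exact (cancel_epi (Q.toCycles i (i + 1))).1 (hσι i)
  constructor
  intro X Y g f _
  haveI : ∀ i, Mono (f.f i) := fun i => inferInstanceAs (Mono ((HomologicalComplex.eval C _ i).map f))
  let k : ∀ i, Y.X i ⟶ Q.cycles i := fun i => Injective.factorThru (g.f i ≫ r i) (f.f i)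
  have hk : ∀ i, f.f i ≫ k i = g.f i ≫ r i := fun i => Injective.comp_factorThru _ _
  let h : ∀ i, Y.X i ⟶ Q.X i := fun i => k i ≫ Q.iCycles i + (Y.d i (i + 1) ≫ k (i + 1)) ≫ σ i
  refine ⟨CochainComplex.ofHom h (fun i => ?_), ?_⟩
  · simp only [h, Preadditive.add_comp, Preadditive.comp_add, Category.assoc, HomologicalComplex.iCycles_d, comp_zero,
      zero_add, hσd', HomologicalComplex.d_comp_d_assoc, zero_comp, add_zero]
  · ext i
    rw [HomologicalComplex.comp_f]
    change f.f i ≫ h i = g.f i
    simp only [h, Preadditive.comp_add, reassoc_of% (hk i), Category.assoc]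
    rw [f.comm_assoc, reassoc_of% (hk (i + 1)), ← g.comm_assoc, ← reassoc_of% (hd i), hσ i,
      ← Preadditive.comp_add]
    simp

end Groth.Agent.S8348
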