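import Groth.Statements.S8349
import Mathlib

set_option autoImplicit false
universe v u
open CategoryTheory CategoryTheory.Limits
open HomAlg3

namespace Groth.Agent.S8349

/-- Let C be an abelian category in which every object embeds in an injective object, and let A be a
cochain complex of objects of C in degrees 0, 1, 2, .... Then there are a cochain complex Q, with
every Q^i injective, H^i(Q) = 0 for every i ≥ 1 and every cycle inclusion Z^i(Q) ⟶ Q^i (i ≥ 0) a
split monomorphism, and a monomorphism of complexes A ⟶ Q. (The published statement asks Z^i(Q) =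
B^i(Q) for every i ≥ 0; in degree 0, where there is no incoming differential, this makes Z^0(Q) = 0,
and then no complex with nonzero degree-0 cycles, for instance a nonzero object placed in degree 0,
embeds in such a Q, because the degree-0 component of a chain map into Q factors through Z^0(Q).
This row asks vanishing homology in positive degrees only; the published construction, which embeds
each A^i in an injective I^i and takes Q^i = I^i ⊕ I^{i+1}, proves that version once an injective
I^0 containing A^0 is used in degree 0 as well.) -/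
theorem result {C : Type u} [Category.{v} C] [Abelian C]
    [EnoughInjectives C] (A : CochainComplex C ℕ) :
    ∃ (Q : CochainComplex C ℕ) (f : A ⟶ Q), Mono f ∧ (∀ i : ℕ, Injective (Q.X i)) ∧
      (∀ i : ℕ, IsZero (Q.homology (i + 1))) ∧ ∀ i : ℕ, IsSplitMono (Q.iCycles i) := by
  let I : ℕ → C := fun i => Injective.under (A.X i)
  let ι : ∀ i, A.X i ⟶ I i := fun i => Injective.ι (A.X i)
  let d : ∀ i, I i ⊞ I (i + 1) ⟶ I (i + 1) ⊞ I (i + 1 + 1) := fun i => biprod.snd ≫ biprod.inl
  let Q : CochainComplex C ℕ := CochainComplex.of (fun i => I i ⊞ I (i + 1)) d (fun i => by simp [d])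
  have hQd : ∀ i, Q.d i (i + 1) = d i := fun i => by simp [Q]
  let f : ∀ i, A.X i ⟶ Q.X i := fun i => biprod.lift (ι i) (A.d i (i + 1) ≫ ι (i + 1))
  refine ⟨Q, CochainComplex.ofHom f (fun i => ?_), ?_, fun i => ?_, fun i => ?_, fun i => ?_⟩
  · rw [hQd]
    change biprod.lift (ι i) (A.d i (i + 1) ≫ ι (i + 1)) ≫ biprod.snd ≫ biprod.inl =
      A.d i (i + 1) ≫ biprod.lift (ι (i + 1)) (A.d (i + 1) (i + 1 + 1) ≫ ι (i + 1 + 1))
    ext <;> simp
  · haveI : ∀ i, Mono (f i) := fun i => mono_of_mono_fac (show f i ≫ biprod.fst = ι i from biprod.lift_fst _ _)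
    haveI : ∀ i, Mono ((CochainComplex.ofHom (X := A) (Y := Q) f (fun i => by
      rw [hQd]
      change biprod.lift (ι i) (A.d i (i + 1) ≫ ι (i + 1)) ≫ biprod.snd ≫ biprod.inl =
        A.d i (i + 1) ≫ biprod.lift (ι (i + 1)) (A.d (i + 1) (i + 1 + 1) ≫ ι (i + 1 + 1))
      ext <;> simp)).f i) := fun i => by exact this i
    exact HomologicalComplex.mono_of_mono_f _ this
  · exact inferInstanceAs (Injective (I i ⊞ I (i + 1)))
  · rw [← HomologicalComplex.exactAt_iff_isZero_homology, Q.exactAt_iff' i (i + 1) (i + 1 + 1) (by simp) (by simp)]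
    refine (ShortComplex.exact_iff_exact_up_to_refinements _).2 fun T x hx => ?_
    change T ⟶ I (i + 1) ⊞ I (i + 1 + 1) at x
    have hx' : x ≫ biprod.snd = 0 := by
      have h : x ≫ Q.d (i + 1) (i + 1 + 1) = 0 := hx
      rw [hQd] at h
      change x ≫ biprod.snd ≫ biprod.inl = 0 at h
      rw [← cancel_mono (biprod.inl : I (i + 1 + 1) ⟶ I (i + 1 + 1) ⊞ I (i + 1 + 1 + 1)), zero_comp, Category.assoc]
      exact h
    refine ⟨T, 𝟙 T, inferInstance, (biprod.lift 0 (x ≫ biprod.fst) : T ⟶ I i ⊞ I (i + 1)), ?_⟩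
    change 𝟙 T ≫ x = biprod.lift 0 (x ≫ biprod.fst) ≫ Q.d i (i + 1)
    rw [hQd]
    change 𝟙 T ≫ x = biprod.lift 0 (x ≫ biprod.fst) ≫ biprod.snd ≫ biprod.inl
    ext
    · simp
    · simp [hx']
  · have hd : Q.iCycles i ≫ (biprod.snd : I i ⊞ I (i + 1) ⟶ _) = 0 := by
      have h := Q.iCycles_d i (i + 1)
      rw [hQd] at h
      change Q.iCycles i ≫ biprod.snd ≫ biprod.inl = 0 at h
      rw [← cancel_mono (biprod.inl : I (i + 1) ⟶ I (i + 1) ⊞ I (i + 1 + 1)), zero_comp, Category.assoc]
      exact h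
    have hl : (biprod.fst ≫ biprod.inl : Q.X i ⟶ Q.X i) ≫ Q.d i (i + 1) = 0 := by
      rw [hQd]
      change (biprod.fst ≫ biprod.inl) ≫ biprod.snd ≫ biprod.inl = 0
      simp
    refine IsSplitMono.mk' ⟨Q.liftCycles (biprod.fst ≫ biprod.inl : Q.X i ⟶ Q.X i) (i + 1) (by simp) hl, ?_⟩
    rw [← cancel_mono (Q.iCycles i), Category.assoc, Q.liftCycles_i, Category.id_comp]
    change Q.iCycles i ≫ (biprod.fst ≫ biprod.inl : I i ⊞ I (i + 1) ⟶ I i ⊞ I (i + 1)) = Q.iCycles i
    ext
    · simp
    · simp [hd]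

end Groth.Agent.S8349
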