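import Groth.Statements.S8360
import Groth.Agent.Deform.SmoothLiftHom
import Groth.Agent.GrpSchLib.MultTypeBC


set_option autoImplicit false
universe u
open CategoryTheory MonObj AlgebraicGeometry
open Red

namespace Groth.Agent.S8360
open CategoryTheory AlgebraicGeometry

/-- Over the affine base S = Spec R with S₀ = Spec (R/I) for a nilpotent ideal I, for a commutative
group M, the diagonalisable group D(M) = Spec R[M] over S and a group scheme X smooth over S, every
homomorphism of S₀-group schemes from D(M) ×_S S₀ to X ×_S S₀ is the base change of a homomorphism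
of S-group schemes from D(M) to X. -/
theorem result (R : Type u) [CommRing R] (I : Ideal R)
    (hI : IsNilpotent I) (M : Type) [AddCommGroup M] (X : Over (Spec (CommRingCat.of R))) [GrpObj X]
    [Smooth X.hom]
    (f₀ : Red.bc (Spec.map (CommRingCat.ofHom (Ideal.Quotient.mk I))) (Red.diag R M) ⟶ Red.bc (Spec.map (CommRingCat.ofHom (Ideal.Quotient.mk I))) X) [IsMonHom f₀] :
    ∃ f : Red.diag R M ⟶ X, IsMonHom f ∧ (Over.pullback (Spec.map (CommRingCat.ofHom (Ideal.Quotient.mk I)))).map f = f₀ := by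
  obtain ⟨e⟩ := GrpSchLib.AffineHopf.nonempty_DS_iso R M
  have hH : TwC.Locally (Spec (CommRingCat.of R)) TwC.Topology.fpqc (fun S' f => ∃ (M' : Type) (_ : AddCommGroup M'),
      Nonempty (Grp.mk (Red.bc f (Red.diag R M)) ≅ Grp.mk (Red.DS S' M'))) := by
    refine ⟨_, 𝟙 _, inferInstance, inferInstance, fun V hV => ⟨V, hV.isCompact, by simp⟩,
      fun s => ⟨⊤, trivial, M, inferInstance, ?_⟩⟩
    obtain ⟨a⟩ := GrpSchLib.MultTypeBC.bc_iso ((⊤ : (Spec (CommRingCat.of R)).Opens).ι ≫ 𝟙 _) e
    obtain ⟨b⟩ := GrpSchLib.MultTypeBC.bc_DS ((⊤ : (Spec (CommRingCat.of R)).Opens).ι ≫ 𝟙 _) M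
    exact ⟨a ≪≫ b⟩
  exact Deform.exists_hom_lift_smooth (H := Red.diag R M) hI hH f₀

end Groth.Agent.S8360
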