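import Groth.Statements.S8366
import Groth.Agent.Deform.QuotArtin
import Groth.Agent.GrpSchLib.ThickIso
set_option linter.style.haveILetI false
set_option backward.isDefEq.respectTransparency false

set_option autoImplicit false
universe u
open CategoryTheory MonoidalCategory MonObj AlgebraicGeometry
open SGA3

namespace Groth.Agent.S8366

open CategoryTheory Limits MonoidalCategory CartesianMonoidalCategory MonObj AlgebraicGeometry

attribute [local instance] CategoryTheory.Hom.monoid CategoryTheory.Hom.group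

theorem isIso_of_sandwich {C : Type*} [Category C] {a b c d : C} (f : a ⟶ b) [IsIso f] (g : b ⟶ c)
    (h : c ⟶ d) [IsIso h] {k : a ⟶ d} [IsIso k] (e : f ≫ g ≫ h = k) : IsIso g := by
  have : g = inv f ≫ k ≫ inv h := by rw [← e]; simp
  rw [this]
  infer_instance

theorem shear₁ {C : Type*} [Category C] [CartesianMonoidalCategory C] (G : C) [GrpObj G] :
    lift (fst G G) μ[G] ≫ lift (fst G G) ((fst G G)⁻¹ * snd G G) = 𝟙 _ ∧
      lift (fst G G) ((fst G G)⁻¹ * snd G G) ≫ lift (fst G G) μ[G] = 𝟙 _ := by
  have hμ : μ[G] = fst G G * snd G G := by rw [Hom.mul_def, lift_fst_snd, Category.id_comp]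
  constructor <;> apply CartesianMonoidalCategory.hom_ext <;>
    simp [hμ, MonObj.comp_mul, GrpObj.comp_inv]

theorem shear₂ {C : Type*} [Category C] [CartesianMonoidalCategory C] (G : C) [GrpObj G] :
    lift μ[G] (snd G G) ≫ lift (fst G G * (snd G G)⁻¹) (snd G G) = 𝟙 _ ∧
      lift (fst G G * (snd G G)⁻¹) (snd G G) ≫ lift μ[G] (snd G G) = 𝟙 _ := by
  have hμ : μ[G] = fst G G * snd G G := by rw [Hom.mul_def, lift_fst_snd, Category.id_comp]
  constructor <;> apply CartesianMonoidalCategory.hom_ext <;>
    simp [hμ, MonObj.comp_mul, GrpObj.comp_inv]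

theorem exists_grpObj_of_assoc {S : Scheme.{u}} {X : Over S} (P : X ⊗ X ⟶ X)
    (hassoc : (P ▷ X) ≫ P = (α_ X X X).hom ≫ (X ◁ P) ≫ P)
    [IsIso (lift (fst X X) P)] [IsIso (lift P (snd X X))] [EffectiveEpi X.hom] :
    ∃ _ : GrpObj X, μ[X] = P := by
  let m := fun {T : Over S} (x y : T ⟶ X) => lift x y ≫ P
  let ld := fun {T : Over S} (x y : T ⟶ X) => lift x y ≫ CategoryTheory.inv (lift (fst X X) P) ≫ snd X X
  let rd := fun {T : Over S} (x y : T ⟶ X) => lift x y ≫ CategoryTheory.inv (lift P (snd X X)) ≫ fst X X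
  have comp_m : ∀ {T T' : Over S} (f : T' ⟶ T) (x y : T ⟶ X), f ≫ m x y = m (f ≫ x) (f ≫ y) := by
    intro T T' f x y
    simp only [m, ← comp_lift, Category.assoc]
  have m_assoc : ∀ {T : Over S} (x y z : T ⟶ X), m (m x y) z = m x (m y z) := by
    intro T x y z
    have h := congrArg (fun f => lift (lift x y) z ≫ f) hassoc
    simpa [m, lift_whiskerRight_assoc, lift_lift_associator_hom_assoc, lift_whiskerLeft_assoc] using h
  have hl : ∀ {T : Over S} (x y : T ⟶ X), lift x (ld x y) = lift x y ≫ CategoryTheory.inv (lift (fst X X) P) := by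
    intro T x y
    apply CartesianMonoidalCategory.hom_ext
    · have : CategoryTheory.inv (lift (fst X X) P) ≫ fst X X = fst X X := by
        rw [IsIso.inv_comp_eq, lift_fst]
      rw [lift_fst, Category.assoc, this, lift_fst]
    · simp [ld]
  have m_ld : ∀ {T : Over S} (x y : T ⟶ X), m x (ld x y) = y := by
    intro T x y
    have : CategoryTheory.inv (lift (fst X X) P) ≫ P = snd X X := by
      rw [IsIso.inv_comp_eq, lift_snd]
    simp only [m, hl, Category.assoc, this, lift_snd]
  have ld_m : ∀ {T : Over S} (x y : T ⟶ X), ld x (m x y) = y := by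
    intro T x y
    have : lift x (m x y) = lift x y ≫ lift (fst X X) P := by
      rw [comp_lift, lift_fst]
    simp only [ld, this, Category.assoc, IsIso.hom_inv_id_assoc, lift_snd]
  have m_rd : ∀ {T : Over S} (x y : T ⟶ X), m (rd x y) y = x := by
    intro T x y
    have h1 : lift (rd x y) y = lift x y ≫ CategoryTheory.inv (lift P (snd X X)) := by
      apply CartesianMonoidalCategory.hom_ext
      · simp [rd]
      · have : CategoryTheory.inv (lift P (snd X X)) ≫ snd X X = snd X X := by
          rw [IsIso.inv_comp_eq, lift_snd]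
        rw [lift_snd, Category.assoc, this, lift_snd]
    have : CategoryTheory.inv (lift P (snd X X)) ≫ P = fst X X := by
      rw [IsIso.inv_comp_eq, lift_fst]
    simp only [m, h1, Category.assoc, this, lift_fst]
  -- the unit does not depend on the point
  have comp_ld : ∀ {T T' : Over S} (f : T' ⟶ T) (x y : T ⟶ X), f ≫ ld x y = ld (f ≫ x) (f ≫ y) := by
    intro T T' f x y
    simp only [ld, ← comp_lift, Category.assoc]
  have heq : ∀ {T : Over S} (x x' : T ⟶ X), ld x x = ld x' x' := by
    intro T x x'
    calc ld x x = ld x' (m x' (ld x x)) := (ld_m _ _).symm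
      _ = ld x' (m (m (rd x' x) x) (ld x x)) := by rw [m_rd]
      _ = ld x' (m (rd x' x) x) := by rw [m_assoc, m_ld]
      _ = ld x' x' := by rw [m_rd]
  let a : X ⟶ X := ld (𝟙 X) (𝟙 X)
  have ha : ∀ {T : Over S} (x : T ⟶ X), x ≫ a = ld x x := by
    intro T x
    rw [comp_ld, Category.comp_id]
  have hw : ∀ {Z : Scheme.{u}} (g₁ g₂ : Z ⟶ X.left), g₁ ≫ X.hom = g₂ ≫ X.hom → g₁ ≫ a.left = g₂ ≫ a.left := by
    intro Z g₁ g₂ h
    let x₁ : Over.mk (g₁ ≫ X.hom) ⟶ X := Over.homMk g₁ rfl
    let x₂ : Over.mk (g₁ ≫ X.hom) ⟶ X := Over.homMk g₂ h.symm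
    exact congrArg CommaMorphism.left (((ha x₁).trans (heq x₁ x₂)).trans (ha x₂).symm)
  let e₀ : S ⟶ X.left := EffectiveEpi.desc X.hom a.left hw
  have he₀ : X.hom ≫ e₀ = a.left := EffectiveEpi.fac X.hom a.left hw
  let e : 𝟙_ (Over S) ⟶ X := Over.homMk e₀ (by
    rw [← cancel_epi X.hom, reassoc_of% he₀, Over.w a]
    exact (Category.comp_id _).symm)
  have hae : toUnit X ≫ e = a := Over.OverMorphism.ext he₀
  have m_one : ∀ {T : Over S} (x : T ⟶ X), m x (toUnit T ≫ e) = x := by
    intro T x
    have : toUnit T ≫ e = ld x x := by rw [← ha x, ← hae, ← Category.assoc, comp_toUnit]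
    rw [this, m_ld]
  have one_m : ∀ {T : Over S} (x : T ⟶ X), m (toUnit T ≫ e) x = x := by
    intro T x
    calc m (toUnit T ≫ e) x = ld x (m x (m (toUnit T ≫ e) x)) := (ld_m _ _).symm
      _ = ld x (m x x) := by rw [← m_assoc, m_one]
      _ = x := ld_m _ _
  let i : X ⟶ X := ld (𝟙 X) (toUnit X ≫ e)
  have hri : m (𝟙 X) i = toUnit X ≫ e := m_ld _ _
  have hli : m i (𝟙 X) = toUnit X ≫ e := by
    calc m i (𝟙 X) = ld (𝟙 X) (m (𝟙 X) (m i (𝟙 X))) := (ld_m _ _).symm
      _ = ld (𝟙 X) (m (𝟙 X) (toUnit X ≫ e)) := by rw [← m_assoc, hri, one_m, m_one]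
      _ = toUnit X ≫ e := ld_m _ _
  let M : MonObj X :=
    { one := e
      mul := P
      one_mul := by
        have h := one_m (snd (𝟙_ (Over S)) X)
        simp only [m] at h
        have : (e ▷ X) = lift (toUnit _ ≫ e) (snd (𝟙_ (Over S)) X) := by
          apply CartesianMonoidalCategory.hom_ext
          · rw [whiskerRight_fst, lift_fst, toUnit_unique (fst _ X) (toUnit _)]
          · simp
        rw [this, h, leftUnitor_hom]
      mul_one := by
        have h := m_one (fst X (𝟙_ (Over S)))
        simp only [m] at h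
        have : (X ◁ e) = lift (fst X (𝟙_ (Over S))) (toUnit _ ≫ e) := by
          apply CartesianMonoidalCategory.hom_ext
          · simp
          · rw [whiskerLeft_snd, lift_snd, toUnit_unique (snd X _) (toUnit _)]
        rw [this, h, rightUnitor_hom]
      mul_assoc := hassoc }
  exact ⟨{ M with inv := i, left_inv := hli, right_inv := hri }, rfl⟩


/-- Over an affine base S = Spec R with S₀ = Spec (R/I) for a nilpotent ideal I: let X be an S-scheme
which is flat and either quasi-compact or locally of finite presentation over S, and P : X ×_S X → X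
a composition law. If P is associative and its base change to S₀ is the multiplication of some
group-scheme structure on X ×_S S₀, then P is the multiplication of a group-scheme structure on X.
(The published statement is over an arbitrary base scheme with S₀ defined by a nilpotent
quasi-coherent ideal; this row is its case of an affine base.) -/
theorem result (R : Type u) [CommRing R] (I : Ideal R)
    (hI : IsNilpotent I) (X : Over (Spec (CommRingCat.of R))) [Flat X.hom]
    (hX : QuasiCompact X.hom ∨ LocallyOfFinitePresentation X.hom) (P : X ⊗ X ⟶ X)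
    (hassoc : (P ▷ X) ≫ P = (α_ X X X).hom ≫ (X ◁ P) ≫ P)
    (h0 : ∃ _ : GrpObj ((Over.pullback (Spec.map (CommRingCat.ofHom (Ideal.Quotient.mk I)))).obj X),
      μ[(Over.pullback (Spec.map (CommRingCat.ofHom (Ideal.Quotient.mk I)))).obj X] =
        Functor.LaxMonoidal.μ (Over.pullback (Spec.map (CommRingCat.ofHom (Ideal.Quotient.mk I)))) X X ≫ (Over.pullback (Spec.map (CommRingCat.ofHom (Ideal.Quotient.mk I)))).map P) :
    ∃ _ : GrpObj X, μ[X] = P := by
  obtain ⟨hG0, hμ⟩ := h0
  let π := Spec.map (CommRingCat.ofHom (Ideal.Quotient.mk I))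
  let Fr := Over.pullback π
  -- translations are isomorphisms
  have hiso : ∀ φ : X ⊗ X ⟶ X ⊗ X, IsIso (Fr.map φ) → IsIso φ := fun φ h => by
    haveI : Flat (X ⊗ X).hom := inferInstanceAs (Flat (pullback.fst X.hom X.hom ≫ X.hom))
    have sq := Groth.Agent.Deform.QuotArtin.isPullback_map_left π φ
    haveI : IsIso (Fr.map φ).left := ((Over.forget _).mapIso (asIso (Fr.map φ))).isIso_hom
    haveI : IsIso φ.left := Groth.Agent.GrpSchLib.ThickIso.isIso_of_thickening I hI (X ⊗ X).hom (X ⊗ X).hom
      (pullback.fst (X ⊗ X).hom π) (pullback.fst (X ⊗ X).hom π ≫ φ.left) (pullback.snd (X ⊗ X).hom π)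
      (IsPullback.of_hasPullback _ _) (by
        refine (IsPullback.of_hasPullback (X ⊗ X).hom π).of_iso (asIso (Fr.map φ).left).symm (Iso.refl _)
          (Iso.refl _) (Iso.refl _) ?_ ?_ (by simp) (by simp [π])
        · simp only [Iso.refl_hom, Category.comp_id, Iso.symm_hom, Iso.eq_inv_comp, asIso_hom]
          rw [← sq.w]
        · simp only [Iso.refl_hom, Category.comp_id, Iso.symm_hom, Iso.eq_inv_comp, asIso_hom]
          exact pullback.lift_snd _ _ _)
      φ.left (Over.w φ) rfl
    haveI : IsIso ((Over.forget _).map φ) := ‹IsIso φ.left›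
    exact isIso_of_reflects_iso φ (Over.forget _)
  haveI hs : IsIso (CartesianMonoidalCategory.lift (CartesianMonoidalCategory.fst X X) P) := hiso _ (by
    have h : Functor.LaxMonoidal.μ Fr X X ≫ Fr.map (CartesianMonoidalCategory.lift
        (CartesianMonoidalCategory.fst X X) P) ≫ Functor.OplaxMonoidal.δ Fr X X =
        CartesianMonoidalCategory.lift (CartesianMonoidalCategory.fst _ _) μ[Fr.obj X] := by
      apply CartesianMonoidalCategory.hom_ext
      · simp only [Category.assoc, Functor.OplaxMonoidal.δ_fst, ← Fr.map_comp, lift_fst,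
          Functor.Monoidal.μ_fst]
      · simp only [Category.assoc, Functor.OplaxMonoidal.δ_snd, ← Fr.map_comp, lift_snd]
        exact hμ.symm
    haveI : IsIso (CartesianMonoidalCategory.lift (CartesianMonoidalCategory.fst (Fr.obj X) (Fr.obj X))
        μ[Fr.obj X]) :=
      ⟨CartesianMonoidalCategory.lift (CartesianMonoidalCategory.fst _ _)
        ((CartesianMonoidalCategory.fst _ _)⁻¹ * CartesianMonoidalCategory.snd _ _), shear₁ _⟩
    exact isIso_of_sandwich (Functor.LaxMonoidal.μ Fr X X) _ (Functor.OplaxMonoidal.δ Fr X X) h)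
  haveI hs' : IsIso (CartesianMonoidalCategory.lift P (CartesianMonoidalCategory.snd X X)) := hiso _ (by
    have h : Functor.LaxMonoidal.μ Fr X X ≫ Fr.map (CartesianMonoidalCategory.lift
        P (CartesianMonoidalCategory.snd X X)) ≫ Functor.OplaxMonoidal.δ Fr X X =
        CartesianMonoidalCategory.lift μ[Fr.obj X] (CartesianMonoidalCategory.snd _ _) := by
      apply CartesianMonoidalCategory.hom_ext
      · simp only [Category.assoc, Functor.OplaxMonoidal.δ_fst, ← Fr.map_comp, lift_fst]
        exact hμ.symm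
      · simp only [Category.assoc, Functor.OplaxMonoidal.δ_snd, ← Fr.map_comp, lift_snd,
          Functor.Monoidal.μ_snd]
    haveI : IsIso (CartesianMonoidalCategory.lift μ[Fr.obj X]
        (CartesianMonoidalCategory.snd (Fr.obj X) (Fr.obj X))) :=
      ⟨CartesianMonoidalCategory.lift
        (CartesianMonoidalCategory.fst _ _ * (CartesianMonoidalCategory.snd _ _)⁻¹)
        (CartesianMonoidalCategory.snd _ _), shear₂ _⟩
    exact isIso_of_sandwich (Functor.LaxMonoidal.μ Fr X X) _ (Functor.OplaxMonoidal.δ Fr X X) h)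
  -- the structure map is an effective epimorphism
  haveI : Surjective X.hom := ⟨fun s => by
    haveI : Surjective π := Groth.Agent.GrpSchLib.ThickIso.surjective_SpecMap_quotient I hI
    obtain ⟨s', rfl⟩ := π.surjective s
    refine ⟨pullback.fst X.hom π (η[Fr.obj X].left s'), ?_⟩
    have h1 : η[Fr.obj X].left ≫ pullback.fst X.hom π ≫ X.hom = π := by
      rw [pullback.condition]
      exact ((Over.w η[Fr.obj X]) =≫ π).trans (Category.id_comp π)
    exact congrArg (fun f : Spec (CommRingCat.of (R ⧸ I)) ⟶ Spec (CommRingCat.of R) => f.base s') h1⟩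
  haveI : EffectiveEpi X.hom := by
    rcases hX with h | h
    · haveI := h; infer_instance
    · haveI := h; infer_instance
  exact exists_grpObj_of_assoc P hassoc

end Groth.Agent.S8366
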