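import Groth.Statements.S8388
import Groth.Agent.Deform.Complete
import Groth.Agent.Deform.Transporter


set_option autoImplicit false
universe u
open CategoryTheory MonoidalCategory CartesianMonoidalCategory MonObj GrpObj AlgebraicGeometry
open SGA3x

namespace Groth.Agent.S8388

/-- Let A be a complete Noetherian local ring with residue field k, S = Spec A, S₀ = Spec k the closed
point, M an S-group scheme finite over S and of multiplicative type, and G an S-group scheme smooth
over S. Then every homomorphism of S₀-groups u₀ : M₀ → G₀ between the closed fibres is the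
restriction of a homomorphism of S-groups u : M → G; and if u, u′ : M → G are homomorphisms with the
same restriction to S₀, there is g ∈ G(S) restricting to the unit of G(S₀) with u′ = int(g) ∘ u. -/
theorem result (A : Type u) [CommRing A]
    [IsLocalRing A] [IsNoetherianRing A] [IsAdicComplete (IsLocalRing.maximalIdeal A) A]
    (M : Over (Spec (CommRingCat.of A))) [GrpObj M] [IsFinite M.hom] (hM : SGA3x.IsMultTypeFT M)
    (G : Over (Spec (CommRingCat.of A))) [GrpObj G] [Smooth G.hom] :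
    (∀ (u₀ : Red.bc (Spec.map (CommRingCat.ofHom (Ideal.Quotient.mk (IsLocalRing.maximalIdeal A)))) M ⟶ Red.bc (Spec.map (CommRingCat.ofHom (Ideal.Quotient.mk (IsLocalRing.maximalIdeal A)))) G) [IsMonHom u₀],
      ∃ u : M ⟶ G, IsMonHom u ∧ (Over.pullback (Spec.map (CommRingCat.ofHom (Ideal.Quotient.mk (IsLocalRing.maximalIdeal A))))).map u = u₀) ∧
    (∀ (u u' : M ⟶ G) [IsMonHom u] [IsMonHom u'],
      (Over.pullback (Spec.map (CommRingCat.ofHom (Ideal.Quotient.mk (IsLocalRing.maximalIdeal A))))).map u = (Over.pullback (Spec.map (CommRingCat.ofHom (Ideal.Quotient.mk (IsLocalRing.maximalIdeal A))))).map u' →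
      ∃ g : 𝟙_ (Over (Spec (CommRingCat.of A))) ⟶ G,
        (Over.pullback (Spec.map (CommRingCat.ofHom (Ideal.Quotient.mk (IsLocalRing.maximalIdeal A))))).map g = toUnit _ ≫ η[Red.bc (Spec.map (CommRingCat.ofHom (Ideal.Quotient.mk (IsLocalRing.maximalIdeal A)))) G] ∧
        ∀ (X : Over (Spec (CommRingCat.of A))) (x : X ⟶ M), x ≫ u' = (toUnit X ≫ g) * (x ≫ u) * (toUnit X ≫ g)⁻¹) := by
  obtain ⟨B, _, _, hB, ⟨e⟩⟩ := Groth.Agent.Deform.exists_hopf_multType M (Groth.Agent.Deform.isMultType_of_ft hM)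
  haveI : IsIso e.hom.hom.hom.left := ⟨e.inv.hom.hom.left, congrArg (fun h => h.hom.hom.left) e.hom_inv_id,
    congrArg (fun h => h.hom.hom.left) e.inv_hom_id⟩
  haveI : IsMonHom e.hom.hom.hom := e.hom.hom.isMonHom_hom
  haveI : IsMonHom e.inv.hom.hom := e.inv.hom.isMonHom_hom
  haveI : Module.Finite A B := RingHom.finite_algebraMap.mp ((IsFinite.SpecMap_iff (CommRingCat.ofHom (algebraMap A B))).mp (by
    show IsFinite (Groth.Agent.GrpSchLib.AffineHopf.sp A B).hom
    rw [← Over.w e.hom.hom.hom]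
    infer_instance))
  have he : e.inv.hom.hom ≫ e.hom.hom.hom = 𝟙 M := congrArg (fun h => h.hom.hom) e.inv_hom_id
  refine ⟨fun u₀ _ => ?_, fun u u' _ _ h => ?_⟩
  · obtain ⟨v, hv, hv'⟩ := Groth.Agent.Deform.exists_hom_complete hB
      ((Over.pullback (Groth.Agent.Deform.bm (IsLocalRing.maximalIdeal A))).map e.hom.hom.hom ≫ u₀)
    refine ⟨e.inv.hom.hom ≫ v, inferInstance, ?_⟩
    rw [Functor.map_comp, hv', ← Category.assoc, ← Functor.map_comp, he, CategoryTheory.Functor.map_id, Category.id_comp]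
  · have hH : TwC.Locally (Spec (CommRingCat.of A)) TwC.Topology.fpqc (fun S' f => ∃ (N : Type) (_ : AddCommGroup N),
        Nonempty (Grp.mk (Red.bc f (Groth.Agent.GrpSchLib.AffineHopf.sp A B)) ≅ Grp.mk (Red.DS S' N))) := by
      obtain ⟨S', f, h1, h2, h3, h4⟩ := Groth.Agent.Deform.isMultType_of_ft hM
      refine ⟨S', f, h1, h2, h3, fun s' => ?_⟩
      obtain ⟨U, hU, N, iN, ⟨i⟩⟩ := h4 s'
      obtain ⟨a⟩ := Groth.Agent.GrpSchLib.MultTypeBC.bc_iso (U.ι ≫ f) e
      exact ⟨U, hU, N, iN, ⟨a ≪≫ i⟩⟩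
    obtain ⟨g, hg, hg'⟩ := Groth.Agent.Deform.exists_conj_complete hB hH (e.hom.hom.hom ≫ u) (e.hom.hom.hom ≫ u') (by
      rw [Functor.map_comp, Functor.map_comp]
      exact congrArg _ h)
    refine ⟨g, ?_, fun X x => ?_⟩
    · refine (Groth.Agent.Deform.map_eq_of_agree (v := (1 : 𝟙_ (Over (Spec (CommRingCat.of A))) ⟶ G))
        fun X p x => ?_).trans ?_
      · rw [Subsingleton.elim x (p ≫ toUnit _), Category.assoc, hg, MonObj.comp_one, MonObj.comp_one]
      · rw [Functor.map_one, Hom.one_def]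
    · have h1 := hg' X (x ≫ e.inv.hom.hom)
      simp only [Category.assoc, reassoc_of% he] at h1
      exact h1

end Groth.Agent.S8388
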