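import Groth.Statements.S8401
import Groth.Agent.Deform.Luna.CentralTori
import Groth.Agent.Deform.Luna.RadTorus
import Groth.Agent.GrpSchLib.AdjointCentre
import Groth.Agent.Deform.AffineKernel
import Groth.Agent.Deform.MultSubScheme

set_option autoImplicit false
universe u
open CategoryTheory MonoidalCategory CartesianMonoidalCategory MonObj GrpObj AlgebraicGeometry
open SGA3x

namespace Groth.Agent.S8401
attribute [local instance] CategoryTheory.Hom.monoid CategoryTheory.Hom.group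
/-- Let G be an affine, smooth, connected algebraic group over an algebraically closed field k, and Z
its reductive centre. Then Z is the scheme-theoretic intersection of the maximal tori of G: a point
of G with values in a k-scheme X factors through Z if and only if it factors through every maximal
torus of G. -/
theorem result (k : Type u) [Field k] [IsAlgClosed k]
    (G : Over (Spec (CommRingCat.of k))) [GrpObj G] [Smooth G.hom] [QuasiCompact G.hom] [IsAffine G.left] [ConnectedSpace ↥G.left]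
    (Z : Over (Spec (CommRingCat.of k))) [GrpObj Z] (z : Z ⟶ G)
    (hZ : (IsMonHom z ∧ Mono z ∧ SGA3x.IsMultTypeFT Z ∧
      (∀ (X : Over (Spec (CommRingCat.of k))) (x : X ⟶ Z) (g : X ⟶ G), (x ≫ z) * g = g * (x ≫ z)) ∧
      ∀ (S' : Scheme.{u}) (f : S' ⟶ (Spec (CommRingCat.of k))) (H : Over S') [GrpObj H] (v : H ⟶ Red.bc f G) [IsMonHom v],
        SGA3x.IsMultTypeFT H →
        (∀ (X : Over S') (x : X ⟶ H) (g : X ⟶ Red.bc f G), (x ≫ v) * g = g * (x ≫ v)) →
        ∃ w : H ⟶ Red.bc f Z, w ≫ (Over.pullback f).map z = v)) (X : Over (Spec (CommRingCat.of k))) (g : X ⟶ G) :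
    (∃ x : X ⟶ Z, x ≫ z = g) ↔
      ∀ (T : Over (Spec (CommRingCat.of k))) [GrpObj T] (i : T ⟶ G), Red.IsMaximalTorus i → ∃ t : X ⟶ T, t ≫ i = g := by
  obtain ⟨hzm, hzmo, hzt, hzc, huniv⟩ := hZ
  haveI := hzm
  constructor
  · rintro ⟨x, rfl⟩ T _ i hi
    obtain ⟨f, hf⟩ := Deform.Luna.central_multType_le_maxTorus (Deform.Borel.isMaxTorus_of_isMaximalTorus hi) hzt z hzc
    exact ⟨x ≫ f, by rw [Category.assoc, hf]⟩
  intro hg
  haveI : IsAffineHom G.hom := isAffineHom_of_isAffine _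
  haveI := Agent.GrpSchLib.AntiAffine.isSeparated_grp G
  have hcen := Deform.Luna.central_of_mem_maxTori g fun T _ i hi => hg T i (Deform.Borel.isMaximalTorus_of_isMaxTorus hi)
  obtain ⟨Z₀, gZ₀, i₀, hi₀, hi₀c, hcentre, Q, gQ, q, hq, hQa, -, -, -, -, hker⟩ :=
    Agent.GrpSchLib.Adjoint.exists_centre_quot G
  haveI := hi₀; haveI := hq; haveI := hQa
  haveI : IsAffineHom Q.hom := isAffineHom_of_isAffine _
  obtain ⟨T, gT, i, hu⟩ := Deform.Borel.exists_univTorus G
  obtain ⟨him, hic, hT, -⟩ := id hu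
  haveI := him; haveI := hic
  haveI : Mono i := (Over.forget _).mono_of_mono_map (inferInstanceAs (Mono i.left))
  obtain ⟨hTa, hTl, hTs, hTc⟩ := Deform.TorusBasic.props hT
  haveI := hTl; haveI := hTa
  haveI : IsAffineHom T.hom := isAffineHom_of_isAffine _
  obtain ⟨t, ht⟩ := hg T i (Deform.Borel.isMaximalTorus_of_isMaxTorus
    ⟨him, inferInstance, hT, fun T' _ j _ _ f h1 h2 => hu.maximal T' j f h1 h2⟩)
  obtain ⟨N, gN, n, hn, hnc, -, hkN⟩ := Agent.GrpSchLib.exists_kernel (i ≫ q)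
  haveI := hn; haveI := hnc
  haveI : LocallyOfFiniteType N.hom := by rw [← Over.w n]; infer_instance
  haveI : Flat N.hom := Deform.AffineKernel.flat_over_field N.hom
  haveI : LocallyOfFinitePresentation N.hom := inferInstance
  have hNt : SGA3x.IsMultTypeFT N :=
    Deform.MultSubScheme.isMultTypeFT_of_closed (Deform.isMultTypeFT_of_isTorus hT) n
  obtain ⟨c₀, hc₀⟩ := (hcentre.2.2 X g).mpr fun X' x h => by rw [Category.comp_id]; exact hcen X' x h
  have hgq : t ≫ i ≫ q = toUnit X ≫ η[Q] := by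
    rw [← Category.assoc, ht, ← hc₀, Category.assoc, hker.w, ← Category.assoc, toUnit_unique (c₀ ≫ toUnit Z₀) (toUnit X)]
  let tN : X ⟶ N := hkN.lift t (toUnit X) hgq
  have htN : tN ≫ n = t := hkN.lift_fst _ _ hgq
  have hNc : ∀ (Y : Over (Spec (CommRingCat.of k))) (y : Y ⟶ N) (h : Y ⟶ G), (y ≫ n ≫ i) * h = h * (y ≫ n ≫ i) := by
    intro Y y h
    have e : (n ≫ i) ≫ q = toUnit N ≫ η[Q] := by rw [Category.assoc]; exact hkN.w
    have hl := (hcentre.2.2 N (n ≫ i)).mp ⟨hker.lift (n ≫ i) (toUnit N) e, hker.lift_fst _ _ e⟩ Y y h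
    rwa [Category.comp_id] at hl
  let f : Spec (CommRingCat.of k) ⟶ Spec (CommRingCat.of k) := 𝟙 _
  obtain ⟨w, hw⟩ := huniv _ f (Red.bc f N) ((Over.pullback f).map (n ≫ i))
    (Agent.GrpSchLib.MultTypeBC.isMultTypeFT_bc f hNt) fun Y y h => by
      refine (Agent.DSPtsLib.theta_bijective (H := G) f).1 ?_
      rw [Agent.DSPtsLib.theta_mul, Agent.DSPtsLib.theta_mul, Deform.Luna.theta_comp_map]
      exact hNc _ _ _
  let P : Over.pullback f ≅ 𝟭 _ := Over.pullbackId
  have h1 : (P.inv.app N ≫ w ≫ P.hom.app Z) ≫ z = n ≫ i := by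
    have hz1 : (Over.pullback f).map z ≫ P.hom.app G = P.hom.app Z ≫ z := P.hom.naturality z
    have hn1 : (Over.pullback f).map (n ≫ i) ≫ P.hom.app G = P.hom.app N ≫ (n ≫ i) := P.hom.naturality (n ≫ i)
    rw [Category.assoc, Category.assoc, ← hz1, reassoc_of% hw, hn1, Iso.inv_hom_id_app_assoc]
  exact ⟨tN ≫ P.inv.app N ≫ w ≫ P.hom.app Z, by rw [Category.assoc tN, h1, ← Category.assoc, htN, ht]⟩

end Groth.Agent.S8401
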