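import Groth.Statements.S8409
import Groth.Agent.Deform.Borel.TorusCentral

set_option autoImplicit false
universe u
open CategoryTheory MonoidalCategory CartesianMonoidalCategory MonObj GrpObj AlgebraicGeometry
open SGA3x

namespace Groth.Agent.S8409
attribute [local instance] CategoryTheory.Hom.monoid CategoryTheory.Hom.group
/-- Let G be a smooth connected algebraic group (not necessarily affine) over an algebraically closed
field k. Then G is nilpotent (the group G(k) is nilpotent) if and only if every torus in G is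
central, if and only if G has only one maximal torus. (The published statement adds that the unique
maximal torus is then the largest subtorus of G; this row omits that clause.) -/
theorem result (k : Type u) [Field k] [IsAlgClosed k]
    (G : Over (Spec (CommRingCat.of k))) [GrpObj G] [Smooth G.hom] [QuasiCompact G.hom] [ConnectedSpace ↥G.left] :
    (Group.IsNilpotent (𝟙_ (Over (Spec (CommRingCat.of k))) ⟶ G) ↔
      ∀ (T : Over (Spec (CommRingCat.of k))) [GrpObj T] (j : T ⟶ G) [IsMonHom j] [Mono j], Red.IsTorus T →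
        ∀ (X : Over (Spec (CommRingCat.of k))) (t : X ⟶ T) (g : X ⟶ G), (t ≫ j) * g = g * (t ≫ j)) ∧
    (Group.IsNilpotent (𝟙_ (Over (Spec (CommRingCat.of k))) ⟶ G) ↔
      ∀ (T₁ T₂ : Over (Spec (CommRingCat.of k))) [GrpObj T₁] [GrpObj T₂] (i₁ : T₁ ⟶ G) (i₂ : T₂ ⟶ G),
        Red.IsMaximalTorus i₁ → Red.IsMaximalTorus i₂ → ∃ φ : T₁ ≅ T₂, φ.hom ≫ i₂ = i₁) := by
  obtain ⟨Tu, gTu, tu, hu⟩ := Deform.Borel.exists_univTorus G
  obtain ⟨hum, huc, hTu, -⟩ := id hu
  haveI := hum; haveI := huc
  haveI : Mono tu := (Over.forget _).mono_of_mono_map (inferInstanceAs (Mono tu.left))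
  have hmax : AGF.IsMaxTorus tu := ⟨inferInstance, inferInstance, hTu, fun T' _ j _ _ f h1 h2 => hu.maximal T' j f h1 h2⟩
  have hA : Group.IsNilpotent (𝟙_ (Over (Spec (CommRingCat.of k))) ⟶ G) →
      ∀ (T : Over (Spec (CommRingCat.of k))) [GrpObj T] (j : T ⟶ G) [IsMonHom j] [Mono j], Red.IsTorus T →
        ∀ (X : Over (Spec (CommRingCat.of k))) (t : X ⟶ T) (g : X ⟶ G), (t ≫ j) * g = g * (t ≫ j) := by
    intro hnil T _ j _ _ hT X t g
    haveI := hnil
    obtain ⟨hTa, hTl, hTs, hTc⟩ := Deform.TorusBasic.props hT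
    haveI := hTs
    exact Deform.Borel.comm_of_pts j (fun g w => Deform.Borel.torus_central_of_maxTorus hmax
      (fun g w => Deform.Borel.torus_central_of_nilpotent hmax g w) hT j g w) t g
  have hB : (∀ (T : Over (Spec (CommRingCat.of k))) [GrpObj T] (j : T ⟶ G) [IsMonHom j] [Mono j], Red.IsTorus T →
      ∀ (X : Over (Spec (CommRingCat.of k))) (t : X ⟶ T) (g : X ⟶ G), (t ≫ j) * g = g * (t ≫ j)) →
        Group.IsNilpotent (𝟙_ (Over (Spec (CommRingCat.of k))) ⟶ G) := fun h =>
    Deform.Borel.nilpotent_of_central hmax fun g w => (h Tu tu hTu _ w g).symm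
  refine ⟨⟨hA, hB⟩, fun hnil T₁ T₂ _ _ i₁ i₂ h₁ h₂ => ?_, fun huniq => ?_⟩
  · haveI := hnil
    have h₁' := Deform.Borel.isMaxTorus_of_isMaximalTorus h₁
    haveI := h₁'.1
    obtain ⟨hTa, hTl, hTs, hTc⟩ := Deform.TorusBasic.props h₁'.2.2.1
    haveI := hTs
    obtain ⟨g, f, -, hf⟩ := Deform.Borel.conj_of_max i₁ i₂ h₁' (Deform.Borel.isMaxTorus_of_isMaximalTorus h₂)
    refine ⟨f, hf.trans ?_⟩
    haveI : IsSeparated G.hom := Agent.GrpSchLib.AntiAffine.isSeparated_grp G
    refine Deform.Borel.comp_inj_pt _ _ fun w => ?_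
    rw [← Deform.Borel.comp_conj, ← Category.assoc, Deform.Borel.pt_conj,
      Deform.Borel.torus_central_of_nilpotent h₁' g w, mul_inv_cancel_right]
  · refine Deform.Borel.nilpotent_of_central hmax (Deform.Borel.torus_central_of_normal hTu tu fun g t => ?_)
    obtain ⟨φ, hφ⟩ := huniq Tu Tu (tu ≫ Deform.Borel.conj g) tu (Deform.Borel.isMaximalTorus_of_isMaxTorus
      ⟨inferInstance, mono_comp tu _, hTu, fun T' _ j _ _ f h1 h2 => hu.maximal T' (j ≫ Deform.Borel.conj g⁻¹) f h1
        (by rw [← Category.assoc, h2, Category.assoc, Deform.Borel.conj_right_inv, Category.comp_id])⟩)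
      (Deform.Borel.isMaximalTorus_of_isMaxTorus hmax)
    exact ⟨t ≫ φ.hom, by rw [Category.assoc, hφ, ← Category.assoc, Deform.Borel.pt_conj]⟩

end Groth.Agent.S8409
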