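import Groth.Statements.S8410
import Groth.Agent.Deform.Luna.CentralPreimage

set_option autoImplicit false
universe u
open CategoryTheory MonoidalCategory CartesianMonoidalCategory MonObj GrpObj AlgebraicGeometry
open SGA3x

namespace Groth.Agent.S8410
attribute [local instance] CategoryTheory.Hom.monoid CategoryTheory.Hom.group
open CategoryTheory.Limits
set_option linter.style.haveILetI false

/-- Let G be an S-group scheme, smooth and affine over S with connected fibres, Z a reductive centre of
G (central, of multiplicative type, and universal after every base change for central homomorphisms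
from groups of multiplicative type and finite type), and q : G → G′ a homomorphism representing the
quotient G/Z. Then the unit subgroup is a reductive centre of G′: for every S′ → S, every central
homomorphism H → G′ ×_S S′ from an S′-group H of multiplicative type and of finite type is trivial.
(The published item b) first asserts that G/Z is representable; this row takes a representing
homomorphism q as given and states its second assertion.) -/
theorem result (S : Scheme.{u}) (G : Over S) [GrpObj G]
    [Smooth G.hom] [IsAffineHom G.hom] (hconn : ∀ s : S, _root_.IsConnected (G.hom.base ⁻¹' {s}))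
    (Z : Over S) [GrpObj Z] (z : Z ⟶ G) (hZ : (IsMonHom z ∧ Mono z ∧ SGA3x.IsMultTypeFT Z ∧
      (∀ (X : Over S) (x : X ⟶ Z) (g : X ⟶ G), (x ≫ z) * g = g * (x ≫ z)) ∧
      ∀ (S' : Scheme.{u}) (f : S' ⟶ S) (H : Over S') [GrpObj H] (v : H ⟶ Red.bc f G) [IsMonHom v],
        SGA3x.IsMultTypeFT H →
        (∀ (X : Over S') (x : X ⟶ H) (g : X ⟶ Red.bc f G), (x ≫ v) * g = g * (x ≫ v)) →
        ∃ w : H ⟶ Red.bc f Z, w ≫ (Over.pullback f).map z = v))
    (G' : Over S) [GrpObj G'] (q : G ⟶ G') [IsMonHom q] (hq : RedSub.IsQuotient z q)
    (S' : Scheme.{u}) (f : S' ⟶ S) (H : Over S') [GrpObj H] (v : H ⟶ Red.bc f G') [IsMonHom v]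
    (hH : SGA3x.IsMultTypeFT H)
    (hv : ∀ (X : Over S') (x : X ⟶ H) (g : X ⟶ Red.bc f G'), (x ≫ v) * g = g * (x ≫ v)) :
    v = 1 := by
  obtain ⟨hzm, hzmo, hZm, hzc, huniv⟩ := hZ
  haveI := hzm; haveI := hzmo
  have hkf := Deform.Chev.SemiAbelian.isKernel_bc f z q (Deform.Luna.isKernel_of_isQuotient hq)
  haveI : IsMonHom ((Over.pullback f).map z) := inferInstanceAs (IsMonHom ((Over.pullback f).map z))
  haveI : IsMonHom ((Over.pullback f).map q) := inferInstanceAs (IsMonHom ((Over.pullback f).map q))
  haveI : Surjective ((Over.pullback f).map q).left := MorphismProperty.overPullbackMap (P := @Surjective) f q hq.1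
  haveI : Flat ((Over.pullback f).map q).left := MorphismProperty.overPullbackMap (P := @Flat) f q hq.2.1
  haveI : LocallyOfFinitePresentation ((Over.pullback f).map q).left :=
    MorphismProperty.overPullbackMap (P := @LocallyOfFinitePresentation) f q hq.2.2.1
  obtain ⟨gP, hfst, hsnd⟩ := Deform.Luna.exists_grp_pullback ((Over.pullback f).map q) v
  haveI := hfst; haveI := hsnd
  have hzcf : ∀ (X : Over S') (x : X ⟶ Red.bc f Z) (g : X ⟶ Red.bc f G),
      (x ≫ (Over.pullback f).map z) * g = g * (x ≫ (Over.pullback f).map z) := fun X x g => by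
    refine (DSPtsLib.theta_bijective (g := f)).injective ?_
    rw [DSPtsLib.theta_mul, DSPtsLib.theta_mul, GrpSchLib.HomUnitLocus.theta_comp_map]
    exact hzc _ _ _
  obtain ⟨⟨hPm, hPc⟩, hepi⟩ := Deform.Luna.central_preimage
    (fun s => (Deform.Luna.isConnected_fibre_bc f hconn s).isPreconnected) ((Over.pullback f).map z)
    (GrpSchLib.MultTypeBC.isMultTypeFT_bc f hZm) hzcf ((Over.pullback f).map q) hkf v hH hv
    (pullback.fst _ v) (pullback.snd _ v) (IsPullback.of_hasPullback _ v)
  haveI := hepi
  obtain ⟨w, hw⟩ := huniv S' f _ (pullback.fst ((Over.pullback f).map q) v) hPm hPc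
  rw [← cancel_epi (pullback.snd ((Over.pullback f).map q) v), ← pullback.condition, ← hw, Category.assoc, hkf.w,
    ← Category.assoc, toUnit_unique (w ≫ toUnit _) (toUnit _), ← Hom.one_def, MonObj.comp_one]

end Groth.Agent.S8410
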