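import Groth.Statements.S8414
import Groth.Agent.Deform.Preimage.Field
import Groth.Agent.GrpSchLib.HomFibre
import Groth.Agent.Deform.Luna.CentralPreimage


set_option autoImplicit false
universe u
open CategoryTheory MonoidalCategory CartesianMonoidalCategory MonObj GrpObj AlgebraicGeometry
open SGA3x

namespace Groth.Agent.S8414
set_option linter.style.haveILetI false
attribute [local instance] CategoryTheory.Hom.monoid CategoryTheory.Hom.group
open Groth.Agent CategoryTheory.Limits

/-- A morphism is smooth over a field as soon as it is over an algebraic closure. -/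
theorem smooth_of_geometric {k : Type u} [Field k] {X : Scheme.{u}} (f : X ⟶ Spec (CommRingCat.of k))
    (h : Smooth (pullback.snd f (Spec.map (CommRingCat.ofHom (algebraMap k (AlgebraicClosure k)))))) : Smooth f :=
  MorphismProperty.of_pullback_snd_of_descendsAlong (P := @Smooth) (Q := @Surjective ⊓ @Flat ⊓ @QuasiCompact)
    (g := Spec.map (CommRingCat.ofHom (algebraMap k (AlgebraicClosure k))))
    ⟨⟨inferInstance, inferInstance⟩, inferInstance⟩ h


/-- Let G, G′ be S-group schemes flat and of finite presentation over S, u : G → G′ a homomorphism which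
is faithfully flat, and C′ a subgroup scheme of G′ of finite presentation over S whose inverse image
C = u⁻¹(C′) is smooth over S (resp. has connected fibres). Then for every subgroup scheme H′ of G′
of finite presentation over S containing C′ and smooth over S (resp. with connected fibres), the
inverse image u⁻¹(H′) is smooth over S (resp. has connected fibres). -/
theorem result (S : Scheme.{u}) (G G' : Over S) [GrpObj G] [GrpObj G']
    [Flat G.hom] [QuasiCompact G.hom] [QuasiSeparated G.hom] [LocallyOfFinitePresentation G.hom]
    [Flat G'.hom] [QuasiCompact G'.hom] [QuasiSeparated G'.hom] [LocallyOfFinitePresentation G'.hom]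
    (u : G ⟶ G') [IsMonHom u] [Flat u.left] [Surjective u.left]
    (C' : Over S) [GrpObj C'] (c' : C' ⟶ G') [IsMonHom c'] [Mono c']
    [QuasiCompact C'.hom] [QuasiSeparated C'.hom] [LocallyOfFinitePresentation C'.hom]
    (H' : Over S) [GrpObj H'] (h' : H' ⟶ G') [IsMonHom h'] [Mono h']
    [QuasiCompact H'.hom] [QuasiSeparated H'.hom] [LocallyOfFinitePresentation H'.hom]
    (hle : ∃ f : C' ⟶ H', f ≫ h' = c') :
    (Smooth (Limits.pullback c' u).hom → Smooth H'.hom → Smooth (Limits.pullback h' u).hom) ∧
    ((∀ s : S, _root_.IsConnected ((Limits.pullback c' u).hom.base ⁻¹' {s})) →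
      (∀ s : S, _root_.IsConnected (H'.hom.base ⁻¹' {s})) →
      ∀ s : S, _root_.IsConnected ((Limits.pullback h' u).hom.base ⁻¹' {s})) := by
  obtain ⟨f, hf⟩ := hle
  let M := Limits.pullback h' u
  let C := Limits.pullback c' u
  let p : M ⟶ H' := pullback.fst h' u
  let a : M ⟶ G := pullback.snd h' u
  let pC : C ⟶ C' := pullback.fst c' u
  let b : C ⟶ M := pullback.lift (pC ≫ f) (pullback.snd c' u) (by rw [Category.assoc, hf]; exact pullback.condition)
  have sq : IsPullback p a h' u := IsPullback.of_hasPullback _ _
  have sqC : IsPullback pC (pullback.snd c' u) c' u := IsPullback.of_hasPullback _ _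
  obtain ⟨iM, ha, hp⟩ := Deform.Preimage.exists_grpObj_pullback h' u sq
  letI := iM
  obtain ⟨iC, -, hpC⟩ := Deform.Preimage.exists_grpObj_pullback c' u sqC
  letI := iC
  haveI : LocallyOfFinitePresentation u.left := by
    haveI : LocallyOfFinitePresentation (u.left ≫ G'.hom) := by rw [Over.w u]; infer_instance
    exact AlgSpPts.locallyOfFinitePresentation_of_comp u.left G'.hom
  haveI : QuasiCompact u.left := by
    haveI : QuasiCompact (u.left ≫ G'.hom) := by rw [Over.w u]; infer_instance
    exact QuasiCompact.of_comp u.left G'.hom
  have sqL : IsPullback p.left a.left h'.left u.left := sq.map (Over.forget S)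
  have sqCL : IsPullback pC.left (pullback.snd c' u).left c'.left u.left := sqC.map (Over.forget S)
  haveI : Flat p.left := MorphismProperty.of_isPullback (P := @Flat) sqL.flip inferInstance
  haveI : Surjective p.left := MorphismProperty.of_isPullback (P := @Surjective) sqL.flip inferInstance
  haveI : QuasiCompact p.left := MorphismProperty.of_isPullback (P := @QuasiCompact) sqL.flip inferInstance
  haveI : LocallyOfFinitePresentation p.left :=
    MorphismProperty.of_isPullback (P := @LocallyOfFinitePresentation) sqL.flip inferInstance
  haveI : LocallyOfFinitePresentation M.hom := by rw [← Over.w p]; infer_instance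
  haveI : QuasiCompact M.hom := by rw [← Over.w p]; infer_instance
  haveI : LocallyOfFinitePresentation pC.left :=
    MorphismProperty.of_isPullback (P := @LocallyOfFinitePresentation) sqCL.flip inferInstance
  haveI : LocallyOfFinitePresentation C.hom := by rw [← Over.w pC]; infer_instance
  -- the geometric fibres
  have fibre : ∀ s : S,
      ((Smooth C.hom → Smooth H'.hom → Smooth (Red.bc (Red.geomPt s) M).hom) ∧
      ((∀ s : S, _root_.IsConnected (C.hom.base ⁻¹' {s})) → (∀ s : S, _root_.IsConnected (H'.hom.base ⁻¹' {s})) →
        ConnectedSpace ↥(Red.bc (Red.geomPt s) M).left)) := by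
    intro s
    let σ := Red.geomPt s
    let F := Over.pullback σ
    haveI : LocallyOfFiniteType (F.obj M).hom := inferInstanceAs (LocallyOfFiniteType (pullback.snd M.hom σ))
    haveI : QuasiCompact (F.obj M).hom := inferInstanceAs (QuasiCompact (pullback.snd M.hom σ))
    haveI : LocallyOfFiniteType (F.obj H').hom := inferInstanceAs (LocallyOfFiniteType (pullback.snd H'.hom σ))
    haveI : LocallyOfFiniteType (F.obj C).hom := inferInstanceAs (LocallyOfFiniteType (pullback.snd C.hom σ))
    haveI : Flat (F.map p).left := MorphismProperty.overPullbackMap (P := @Flat) σ p inferInstance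
    haveI : Surjective (F.map p).left := MorphismProperty.overPullbackMap (P := @Surjective) σ p inferInstance
    haveI : QuasiCompact (F.map p).left := MorphismProperty.overPullbackMap (P := @QuasiCompact) σ p inferInstance
    haveI : LocallyOfFinitePresentation (F.map p).left :=
      MorphismProperty.overPullbackMap (P := @LocallyOfFinitePresentation) σ p inferInstance
    letI : GrpObj (F.obj M) := Functor.grpObjObj
    letI : GrpObj (F.obj H') := Functor.grpObjObj
    letI : GrpObj (F.obj G') := Functor.grpObjObj
    have hker : ∀ (T : Over _) (x : T ⟶ F.obj M), x ≫ F.map p = 1 → ∃ z, z ≫ F.map b = x := by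
      intro T x hx
      letI : GrpObj (F.obj C') := Functor.grpObjObj
      obtain ⟨z, hz₁, hz₂⟩ : ∃ z, z ≫ F.map pC = 1 ∧ z ≫ F.map (pullback.snd c' u) = x ≫ F.map a :=
        ⟨(sqC.map F).lift 1 (x ≫ F.map a) (by
          rw [MonObj.one_comp, Category.assoc, ← F.map_comp, ← sq.w, F.map_comp, ← Category.assoc, hx, MonObj.one_comp]),
          IsPullback.lift_fst _ _ _ _, IsPullback.lift_snd _ _ _ _⟩
      refine ⟨z, (sq.map F).hom_ext ?_ ?_⟩
      · haveI : Mono (F.map h') := inferInstance
        rw [Category.assoc, ← F.map_comp, pullback.lift_fst, F.map_comp, ← Category.assoc, hz₁, hx, ← cancel_mono (F.map h'),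
          Category.assoc, ← F.map_comp, hf, MonObj.one_comp, MonObj.one_comp]
      · rw [Category.assoc, ← F.map_comp, pullback.lift_snd, hz₂]
    refine ⟨fun hC hH => ?_, fun hC hH => ?_⟩
    · haveI : Smooth (F.obj C).hom := MorphismProperty.pullback_snd (P := @Smooth) _ _ hC
      haveI : Smooth (F.obj H').hom := MorphismProperty.pullback_snd (P := @Smooth) _ _ hH
      haveI : IsReduced (F.obj C).left := GrpSchLib.isReduced_of_smooth_field (F.obj C).hom
      haveI : IsReduced (F.obj H').left := GrpSchLib.isReduced_of_smooth_field (F.obj H').hom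
      exact Deform.Preimage.smooth (F.map p) (F.map b) hker
    · have univ : ∀ (X : Over S), ∀ t : ↥(Spec (CommRingCat.of (AlgebraicClosure (S.residueField s)))),
          (Red.bc σ X).hom.base ⁻¹' {t} = Set.univ := fun X t => Set.eq_univ_of_forall fun y =>
        Subsingleton.elim (α := ↥(Spec (CommRingCat.of (AlgebraicClosure (S.residueField s))))) _ _
      haveI : ConnectedSpace (F.obj C).left := connectedSpace_iff_univ.mpr
        (univ C (IsLocalRing.closedPoint _) ▸ Deform.Luna.isConnected_fibre_bc σ hC _)
      haveI : ConnectedSpace (F.obj H').left := connectedSpace_iff_univ.mpr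
        (univ H' (IsLocalRing.closedPoint _) ▸ Deform.Luna.isConnected_fibre_bc σ hH _)
      exact Deform.Preimage.connected (F.map p) (F.map b) hker
  refine ⟨fun hC hH => ?_, fun hC hH s => ?_⟩
  · haveI := hH
    haveI : Flat M.hom := by rw [← Over.w p]; infer_instance
    refine Smooth.of_smooth_fiberToSpecResidueField M.hom fun s => smooth_of_geometric _ ?_
    let g := Spec.map (CommRingCat.ofHom (algebraMap (S.residueField s) (AlgebraicClosure (S.residueField s))))
    haveI : Smooth (pullback.snd M.hom (Red.geomPt s)) := (fibre s).1 hC hH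
    show Smooth (pullback.snd (pullback.snd M.hom (S.fromSpecResidueField s)) g)
    rw [← pullbackLeftPullbackSndIso_hom_snd]
    exact inferInstanceAs (Smooth ((pullbackLeftPullbackSndIso M.hom (S.fromSpecResidueField s) g).hom ≫
      pullback.snd M.hom (Red.geomPt s)))
  · haveI : ConnectedSpace ↥(pullback M.hom (Red.geomPt s)) := (fibre s).2 hC hH
    have hr : Set.range (Red.geomPt s) = {s} := by
      refine Set.eq_singleton_iff_nonempty_unique_mem.mpr ⟨Set.range_nonempty _, ?_⟩
      rintro _ ⟨w, rfl⟩
      rw [Scheme.Hom.comp_apply]
      exact Scheme.fromSpecResidueField_apply s _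
    have h1 := isConnected_range (pullback.fst M.hom (Red.geomPt s)).continuous
    rwa [Scheme.Pullback.range_fst, hr] at h1

end Groth.Agent.S8414
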