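import Groth.Statements.S8424
import Groth.Agent.Deform.Borel.CartanNorm

set_option autoImplicit false
universe u
open CategoryTheory MonoidalCategory CartesianMonoidalCategory MonObj GrpObj AlgebraicGeometry
open SGA3x

namespace Groth.Agent.S8424
attribute [local instance] CategoryTheory.Hom.monoid CategoryTheory.Hom.group
/-- Let G be a smooth algebraic group (not necessarily affine) over an algebraically closed field k, B a
Borel subgroup of G, C a Cartan subgroup of B and N the normalizer of C in G. Then N ∩ B = C: a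
point of G with values in a k-scheme factors through N and through B if and only if it factors
through C. -/
theorem result (k : Type u) [Field k] [IsAlgClosed k]
    (G : Over (Spec (CommRingCat.of k))) [GrpObj G] [Smooth G.hom] [QuasiCompact G.hom]
    (B : Over (Spec (CommRingCat.of k))) [GrpObj B] (b : B ⟶ G) (hB : Red.IsBorelOver k b)
    (C : Over (Spec (CommRingCat.of k))) [GrpObj C] (c : C ⟶ B) (hC : SGA3x.IsCartanOver k c)
    (N : Over (Spec (CommRingCat.of k))) [GrpObj N] (n : N ⟶ G) (hN : Red.IsNormalizerOf (c ≫ b) n)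
    (X : Over (Spec (CommRingCat.of k))) (g : X ⟶ G) :
    ((∃ x : X ⟶ N, x ≫ n = g) ∧ (∃ y : X ⟶ B, y ≫ b = g)) ↔ ∃ z : X ⟶ C, z ≫ c ≫ b = g := by
  obtain ⟨hbm, hbc, hBs, hBcn, hBsol, -⟩ := id hB
  obtain ⟨hcm, hcmo, T, gT, t, ht, htc⟩ := hC
  haveI := hbm; haveI := hbc; haveI := hBs; haveI := hBcn; haveI := hcm
  haveI : QuasiCompact B.hom := by rw [← Over.w b]; infer_instance
  haveI : Group.IsSolvable (𝟙_ (Over (Spec (CommRingCat.of k))) ⟶ B) := Deform.Borel.isSolvable_pts_of_grp hBsol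
  haveI : Mono b := (Over.forget _).mono_of_mono_map (inferInstanceAs (Mono b.left))
  constructor
  · rintro ⟨⟨x, hx⟩, y, hy⟩
    have hnorm := (hN.2.2 X g).mp ⟨x, hx⟩
    obtain ⟨f, hf⟩ := Deform.Borel.norm_cartan (Deform.Borel.isMaxTorus_of_isMaximalTorus ht) htc y fun X' v h => by
      obtain ⟨h', hh'⟩ := (hnorm X' v h).2
      refine ⟨h', (cancel_mono b).mp ?_⟩
      rw [MonObj.mul_comp, MonObj.mul_comp, GrpObj.inv_comp, Category.assoc v y b, hy, Category.assoc h c b, hh',
        Category.assoc]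
    exact ⟨f, by rw [← Category.assoc, hf, hy]⟩
  · rintro ⟨z, rfl⟩
    refine ⟨(hN.2.2 X _).mpr fun X' v h => ⟨⟨(v ≫ z) * h * (v ≫ z)⁻¹, ?_⟩, ⟨(v ≫ z)⁻¹ * h * (v ≫ z), ?_⟩⟩,
      z ≫ c, Category.assoc _ _ _⟩ <;>
    simp only [MonObj.mul_comp, GrpObj.inv_comp, Category.assoc]

end Groth.Agent.S8424
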