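import Groth.Statements.S8458
import Groth.Agent.SplitGrp.Commutator
import Groth.Agent.SplitGrp.Functional

set_option autoImplicit false
universe u
open CategoryTheory MonoidalCategory CartesianMonoidalCategory MonObj GrpObj AlgebraicGeometry CategoryTheory.Limits
open Red

namespace Groth.Agent.S8458

/-- Let G be a split reductive S-group with splitting D (root homomorphisms u_c : 𝔾_a ⟶ G for all roots
c) and let a, b be two roots with a + b ≠ 0 such that a + b is not a root. Then u_a(x) u_b(y) =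
u_b(y) u_a(x) for all points x, y of 𝔾_a with values in any S-scheme. -/
theorem result (S : Scheme.{u}) (G : Over S) [GrpObj G] (D : Red.SplitRed G)
    (a b : D.idx) (h0 : D.P.root a + D.P.root b ≠ 0) (hab : D.P.root a + D.P.root b ∉ Set.range D.P.root)
    (X : Over S) (x y : X ⟶ Red.Ga S) :
    (x ≫ D.u a) * (y ≫ D.u b) = (y ≫ D.u b) * (x ≫ D.u a) := by
  let E := SplitGrp.ofSplit D
  let lam₁ : D.M →+ ℤ := SplitGrp.corootFn D.P a + SplitGrp.corootFn D.P b
  have hpa : 0 < lam₁ (D.P.root a) ∧ 0 < lam₁ (D.P.root b) := by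
    have h1 := SplitGrp.pairing_nonneg_of_add_notMem D.P h0 hab
    have h2 := SplitGrp.pairing_nonneg_of_add_notMem D.P (a := b) (b := a) (by rwa [add_comm]) (by rwa [add_comm])
    simp only [lam₁, AddMonoidHom.add_apply, SplitGrp.corootFn_root, RootPairing.pairing_same]
    omega
  obtain ⟨lam, hlam, hp, -⟩ := SplitGrp.exists_generic D.P.root (fun c => D.P.ne_zero c) lam₁
  obtain ⟨n, m, e₀, e₁, hf⟩ := SplitGrp.exists_isFull_extend (D := E) hlam (Fin.elim0 : Fin 0 → E.idx)
    (fun i => i.elim0) (fun i => i.elim0)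
  rw [show x ≫ D.u a = E.U a (Red.gaFn x) from SplitGrp.eq_U (D := E) (a := a) x,
    show y ≫ D.u b = E.U b (Red.gaFn y) from SplitGrp.eq_U (D := E) (a := b) y]
  exact SplitGrp.commute_U hf a b (hp a hpa.1) (hp b hpa.2)
    (fun c p q hp' hq' hc => SplitGrp.combination_notMem D.P h0 hab p q hp' hq' ⟨c, hc⟩) _ _

end Groth.Agent.S8458
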