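import Groth.Statements.S8513


set_option autoImplicit false
set_option linter.style.haveILetI false
set_option linter.unusedSectionVars false
set_option backward.isDefEq.respectTransparency false
set_option backward.isDefEq.respectTransparency.types false
set_option maxHeartbeats 1000000
open CategoryTheory MonoidalCategory CartesianMonoidalCategory MonObj GrpObj AlgebraicGeometry
universe u
open Par

namespace Groth.Agent.S8513

open Groth.Agent
open scoped MonObj
open Limits in
lemma inv_comp_hom {C : Type*} [Category C] [CartesianMonoidalCategory C] {G H T : C} [GrpObj G] [GrpObj H]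
    (f : G ⟶ H) [IsMonHom f] (a : T ⟶ G) : a⁻¹ ≫ f = (a ≫ f)⁻¹ := by
  apply eq_inv_of_mul_eq_one_left
  rw [← MonObj.mul_comp, inv_mul_cancel, MonObj.one_comp]


/-- Let G be a reductive S-group and P, Q two parabolic subgroups of G in transversal position (the
multiplication morphism P ×_S Q ⟶ G is smooth). Then P ∩ Q (a fibre product of P and Q over G) is
smooth over S. -/
theorem result {S : Scheme.{u}} {G P Q I : Over S} [GrpObj G] [GrpObj P] [GrpObj Q]
    (hG : Red.IsReductive G) (p : P ⟶ G) (q : Q ⟶ G) (hP : Red.IsParabolic p) (hQ : Red.IsParabolic q)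
    (htr : Smooth ((p ⊗ₘ q) ≫ μ[G]).left) (m : I ⟶ P) (m' : I ⟶ Q) (hI : IsPullback m m' p q) :
    Smooth I.hom := by
  haveI : IsMonHom p := hP.1
  haveI : IsMonHom q := hQ.1
  let μ' : P ⊗ Q ⟶ G := (p ⊗ₘ q) ≫ μ[G]
  have key : ∀ {T : Over S} (a : T ⟶ P) (b : T ⟶ Q), lift a b ≫ μ' = (a ≫ p) * (b ≫ q) := by
    intro T a b
    simp [μ', Hom.mul_def]
  have hone : ∀ {T : Over S}, toUnit T ≫ η[G] = (1 : T ⟶ G) := fun {T} => rfl
  have hm : m ≫ p = m' ≫ q := hI.w
  have h : IsPullback (lift m (m'⁻¹)) (toUnit I) μ' η[G] := by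
    refine ⟨⟨?_⟩, ⟨Limits.PullbackCone.IsLimit.mk _ (fun c => ?_) (fun c => ?_) (fun c => ?_)
      (fun c l hl₁ hl₂ => ?_)⟩⟩
    · rw [key, inv_comp_hom, hm, mul_inv_cancel, hone]
    · refine hI.lift (c.fst ≫ fst P Q) (c.fst ≫ snd P Q)⁻¹ ?_
      have e := c.condition
      rw [show c.fst = lift (c.fst ≫ fst P Q) (c.fst ≫ snd P Q) from by ext <;> simp, key,
        toUnit_unique c.snd (toUnit _), hone] at e
      rw [inv_comp_hom]
      exact eq_inv_of_mul_eq_one_left e
    · apply CartesianMonoidalCategory.hom_ext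
      · simp
      · simp only [Category.assoc, lift_snd, GrpObj.comp_inv, IsPullback.lift_snd, _root_.inv_inv]
    · exact toUnit_unique _ _
    · apply hI.hom_ext
      · simp [← hl₁]
      · rw [IsPullback.lift_snd, ← hl₁]
        simp [GrpObj.comp_inv]
  exact MorphismProperty.of_isPullback (h.map (Over.forget S)) htr

end Groth.Agent.S8513
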