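import Groth.Statements.S8532
import Groth.Agent.EtTransfer5.Split
import Groth.Agent.EtTransfer5.Coprime
-- import your own Groth.Agent.* helpers here

set_option autoImplicit false
universe u
open CategoryTheory CategoryTheory.Limits AlgebraicGeometry Opposite
open EtAcyc

attribute [-instance] CategoryTheory.catToReflQuiver

namespace Groth.Agent.S8532

/-- Let f : X' → X be finite etale of constant degree d (every geometric fibre has exactly d points), L
a set of primes such that no prime in L divides d, F an abelian L-torsion sheaf on the small etale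
site of X, and q a natural number. If H^q(X', f⁻¹F) = 0, then H^q(X, F) = 0. -/
theorem result {X X' : Scheme.{u}} (f : X' ⟶ X) [IsFinite f] [Etale f]
    (d : ℕ) (hd : ∀ (Ω : Type u) [Field Ω] [IsSepClosed Ω] (ξ : Spec (CommRingCat.of Ω) ⟶ X),
      Nat.card ↥(pullback f ξ) = d)
    (L : Set ℕ) (hL : ∀ p : ℕ, p.Prime → p ∈ L → ¬ p ∣ d) (F : EtCoh.Ab X) (hF : EtAcyc.IsLTorsion L F)
    [PreservesFiniteLimits (EtCoh.pull f)] (q : ℕ)
    (h : Subsingleton (EtCoh.H X' ((EtCoh.pull f).obj F) q)) :
    Subsingleton (EtCoh.H X F q) := by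
  refine subsingleton_of_forall_eq 0 fun x => Groth.Agent.EtTransfer5.eq_zero_of_nsmul_eq_zero hL hF x ?_
  haveI := h
  exact Groth.Agent.EtTransfer5.nsmul_eq_zero_of_Hpull_eq_zero f
    (fun Ω _ _ ξ => (Groth.Agent.EtTransfer5.natCard_ptsOver_eq f ξ).trans (hd Ω ξ)) x (Subsingleton.elim _ _)

end Groth.Agent.S8532
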