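import Groth.Statements.S8538
import Groth.Agent.DimLocalBase.GDomain
import Groth.Agent.DimFormula.Jacobson
import Groth.Agent.DimFormula.Stalk
-- import your own Groth.Agent.* helpers here

set_option autoImplicit false
universe u
open CategoryTheory CategoryTheory.Limits AlgebraicGeometry Opposite
open EtCd


namespace Groth.Agent.S8538

/-- Let A be a Noetherian universally catenary local ring, f : X → Spec A a morphism of finite type, x a
point of X with image y, and X₀ the closed fibre of f. Put δ(x) = dim closure(y) + trdeg(κ(x)/κ(y))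
= dim(A/p_y) + trdeg(κ(x)/κ(y)) and d(x) = dim closure(x) (topological Krull dimension of the
closure of x in X). Then d(x) = δ(x) when the closure of x meets X₀, and d(x) + 1 = δ(x) when it
does not. -/
theorem result (A : Type u) [CommRing A] [IsNoetherianRing A] [IsLocalRing A]
    (hA : CAlg.IsUniversallyCatenary A) {X : Scheme.{u}} (f : X ⟶ Spec (CommRingCat.of A)) [LocallyOfFiniteType f]
    [QuasiCompact f] (x : X) (a b d : ℕ) (ha : ringKrullDim (A ⧸ (f.base x).asIdeal) = a)
    (hb : letI := (f.residueFieldMap x).hom.toAlgebra;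
      Algebra.trdeg ((Spec (CommRingCat.of A)).residueField (f.base x)) (X.residueField x) = b)
    (hd : topologicalKrullDim ↥(closure ({x} : Set X)) = d) :
    ((closure ({x} : Set X) ∩ f.base ⁻¹' {((IsLocalRing.closedPoint A : PrimeSpectrum A) : ↥(Spec (CommRingCat.of A)))}).Nonempty →
        d = a + b) ∧
    (closure ({x} : Set X) ∩ f.base ⁻¹' {((IsLocalRing.closedPoint A : PrimeSpectrum A) : ↥(Spec (CommRingCat.of A)))} = ∅ →
        d + 1 = a + b) := by
  classical
  haveI : IsLocallyNoetherian X := LocallyOfFiniteType.isLocallyNoetherian f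
  let Y := Spec (CommRingCat.of A)
  haveI : CompactSpace X := QuasiCompact.compactSpace_of_compactSpace f
  haveI : IsNoetherian X := {}
  have hcat : ∀ y : Y, CAlg.IsUniversallyCatenary (Y.presheaf.stalk y) := fun y => by
    letI : Algebra A (Y.presheaf.stalk y) := StructureSheaf.stalkAlgebra A y
    haveI : IsLocalization.AtPrime (Y.presheaf.stalk y) y.asIdeal := StructureSheaf.IsLocalization.to_stalk A y
    exact DimFormula.isUniversallyCatenary_localization hA y.asIdeal.primeCompl _
  let m : Y := (IsLocalRing.closedPoint A : PrimeSpectrum A)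
  have hrd : FibDim.rd f x = b := by
    have h := FibDim.rd_eq_rdeg f x
    rw [show VarDim.rdeg f x = (b : Cardinal.{u}) from hb] at h
    exact_mod_cast h
  have hm : ∀ y : Y, y ⤳ m := fun y => IsLocalRing.specializes_closedPoint (R := A) y
  have hcd : ∀ y : Y, ringKrullDim (A ⧸ y.asIdeal) = ((DimFormula.cd y m : ℕ∞) : WithBot ℕ∞) := fun y => by
    let y' : PrimeSpectrum A := y
    have hle : y' ≤ IsLocalRing.closedPoint A := IsLocalRing.le_maximalIdeal y.isPrime.ne_top
    have h2 := DimFormula.cd_spec (X := Y) (fun t : PrimeSpectrum A => (t : Y)) Topology.IsEmbedding.id hle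
      fun t _ _ => ⟨t, rfl⟩
    refine Eq.trans ?_ (h2.symm.trans (DimFormula.coe_cd (hm y)))
    rw [show y.asIdeal = y'.asIdeal from rfl, ← VarDim.coheight_eq_ringKrullDim_quotient,
      Order.height_eq_krullDim_Iic, Order.coheight_eq_krullDim_Ici]
    exact (Order.krullDim_eq_of_orderIso ⟨⟨fun t => ⟨⟨t.1, t.2⟩,
      (IsLocalRing.le_maximalIdeal t.1.isPrime.ne_top : t.1 ≤ IsLocalRing.closedPoint A)⟩,
      fun t => ⟨t.1.1, t.1.2⟩, fun _ => rfl, fun _ => rfl⟩, Iff.rfl⟩)
  have ha' : DimFormula.cd (f x) m = a := by
    have h := (hcd (f x)).symm.trans ha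
    exact_mod_cast h
  have hrd0 : ∀ t : X, IsClosed ({t} : Set X) → FibDim.rd f t = 0 := fun t ht => by
    refine (VarDim.closedPoint_iff_deg_eq_zero (k := Y.residueField (f t)) (f.fiberToSpecResidueField (f t)) _).1 ?_
    have he : ({f.asFiber t} : Set (f.fiber (f t))) = f.fiberι (f t) ⁻¹' {t} := by
      ext z
      refine ⟨fun hz => ?_, fun hz => (f.fiberι (f t)).isEmbedding.injective (hz.trans (f.fiberι_asFiber t).symm)⟩
      rw [Set.mem_singleton_iff.1 hz]
      exact f.fiberι_asFiber t
    rw [he]
    exact ht.preimage (f.fiberι (f t)).continuous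
  have hval : ∀ t : X, x ⤳ t → IsClosed ({t} : Set X) →
      DimFormula.cd x t + (if f t = m then 0 else 1) = a + b := fun t ht htc => by
    have h1 := (DimFormula.cd_formula f ht).2 (hcat _)
    rw [hrd0 t htc, add_zero, hrd] at h1
    by_cases he : f t = m
    · rw [if_pos he, add_zero, h1, he, ha']
    · have hcon : Topology.IsConstructible ({f t} : Set Y) := by
        have h := f.isConstructible_image (s := {t}) (Topology.isConstructible_compl.1
          (IsCompact.isConstructible (TopologicalSpace.NoetherianSpace.isCompact _) htc.isOpen_compl))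
        rwa [Set.image_singleton] at h
      have hle : DimFormula.cd (f t) m ≤ 1 := by
        by_contra hlt
        obtain ⟨l, hl0, hl1, hl⟩ := DimFormula.exists_cd_series (hm (f t))
        let p0 : PrimeSpectrum A := l ⟨0, by omega⟩
        let p1 : PrimeSpectrum A := l ⟨1, by omega⟩
        let p2 : PrimeSpectrum A := l ⟨2, by omega⟩
        have h01 : l ⟨0, by omega⟩ < l ⟨1, by omega⟩ := l.strictMono (by simp [Fin.lt_def])
        have h12 : l ⟨1, by omega⟩ < l ⟨2, by omega⟩ := l.strictMono (by simp [Fin.lt_def])
        have h2t : f t ⤳ l ⟨2, by omega⟩ := hl1.trans (LTSeries.monotone l (Fin.le_last _))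
        have e01 : p1 < p0 := lt_of_le_not_ge ((PrimeSpectrum.le_iff_specializes _ _).2 h01.le)
          fun h => h01.not_ge ((PrimeSpectrum.le_iff_specializes _ _).1 h)
        have e12 : p2 < p1 := lt_of_le_not_ge ((PrimeSpectrum.le_iff_specializes _ _).2 h12.le)
          fun h => h12.not_ge ((PrimeSpectrum.le_iff_specializes _ _).1 h)
        let q : PrimeSpectrum A := f t
        have eq2 : q ≤ p2 := (PrimeSpectrum.le_iff_specializes _ _).2 h2t
        exact DimLocalBase.no_chain_above A (q := q) hcon (eq2.trans_lt e12) e01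
      have hpos : DimFormula.cd (f t) m ≠ 0 := fun h => he ((DimFormula.cd_eq_zero_iff (hm (f t))).1 h)
      have htr := DimFormula.cd_trans (hm (f t)) (ht.map f.continuous) (hcat m)
      rw [if_neg he, h1]
      omega
  have hdim : ∀ n : ℕ, (∀ t : X, x ⤳ t → IsClosed ({t} : Set X) → DimFormula.cd x t ≤ n) →
      ∀ s : X, x ⤳ s → IsClosed ({s} : Set X) → DimFormula.cd x s = n → d = n := fun n hn s₀ hs₀ hc₀ he₀ => by
    haveI : QuasiSober ↥(closure ({x} : Set X)) := isClosed_closure.isClosedEmbedding_subtypeVal.quasiSober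
    rw [DimFormula.topologicalKrullDim_subset] at hd
    refine le_antisymm ?_ ?_
    · have hle : Order.krullDim ↥(closure ({x} : Set X)) ≤ (n : WithBot ℕ∞) := iSup_le fun l => by
        obtain ⟨s, hs, hc⟩ := SchTop.exists_isClosed_specializes (l.head : X)
        let l' : LTSeries X := l.map Subtype.val fun _ _ hab => hab
        have hxl : x ⤳ (l.last : X) := specializes_iff_mem_closure.2 l.last.2
        have hls : (l.last : X) ⤳ (l.head : X) := LTSeries.head_le l (Fin.last _)
        have h1 := DimFormula.le_cd (hxl.trans hls) l' rfl hxl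
        have h2 := DimFormula.cd_add_cd_le hs (hxl.trans hls)
        have h3 := hn s ((hxl.trans hls).trans hs) hc
        exact_mod_cast (show l.length ≤ n from le_trans h1 (by omega))
      rw [hd] at hle
      exact_mod_cast hle
    · obtain ⟨l, hl0, hl1, hl⟩ := DimFormula.exists_cd_series hs₀
      have hmem : ∀ i, l i ∈ closure ({x} : Set X) := fun i =>
        specializes_iff_mem_closure.1 (hl1.trans (LTSeries.monotone l (Fin.le_last i)))
      have := Order.LTSeries.length_le_krullDim (LTSeries.mk l.length (fun i => (⟨l i, hmem i⟩ : ↥(closure ({x} : Set X)))) fun i j hij => l.strictMono hij)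
      rw [hd] at this
      have h3 : l.length ≤ d := by exact_mod_cast this
      rw [hl, he₀] at h3
      exact h3
  refine ⟨fun ⟨t, htx, htm⟩ => ?_, fun hemp => ?_⟩
  · obtain ⟨s, hts, hsc⟩ := SchTop.exists_isClosed_specializes t
    have hxt : x ⤳ t := specializes_iff_mem_closure.2 htx
    have hsm : f s = m := by
      have h : f t ⤳ f s := hts.map f.continuous
      rw [show f t = m from htm] at h
      exact (h.antisymm (hm _)).eq.symm
    have h2 := hval s (hxt.trans hts) hsc
    rw [if_pos hsm, add_zero] at h2
    exact hdim (a + b) (fun t' ht' htc' => by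
      have := hval t' ht' htc'
      omega) s (hxt.trans hts) hsc h2
  · have hne : ∀ t : X, x ⤳ t → f t ≠ m := fun t ht he => by
      have : t ∈ closure ({x} : Set X) ∩ f ⁻¹' {m} := ⟨specializes_iff_mem_closure.1 ht, he⟩
      exact (Set.eq_empty_iff_forall_notMem.1 hemp) t this
    obtain ⟨s, hs, hc⟩ := SchTop.exists_isClosed_specializes x
    have h := hval s hs hc
    rw [if_neg (hne s hs)] at h
    rw [hdim (a + b - 1) (fun t ht htc => by
      have h' := hval t ht htc
      rw [if_neg (hne t ht)] at h'
      omega) s hs hc (by omega)]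
    omega

end Groth.Agent.S8538
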