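import Groth.Statements.S8539
import Groth.Agent.DimLocalBase.StrictParams
-- import your own Groth.Agent.* helpers here

set_option autoImplicit false
set_option backward.isDefEq.respectTransparency false
set_option backward.isDefEq.respectTransparency.types false
universe u
open CategoryTheory CategoryTheory.Limits AlgebraicGeometry Opposite
open EtCd


namespace Groth.Agent.S8539

/-- Let X be a scheme of finite type over a field k, x a point of X and A a strict henselization of the
local ring of X at x. Then there are a separably closed field k', a scheme X' of finite type over k'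
and a closed point x' of X' such that A is (isomorphic to) a strict henselization of the local ring
of X' at x': some local algebra structure over that local ring makes A a strict henselization of it. -/
theorem result (k : Type u) [Field k] {X : Scheme.{u}}
    (f : X ⟶ Spec (CommRingCat.of k)) [LocallyOfFiniteType f] [QuasiCompact f] (x : X)
    (A : Type u) [CommRing A] [IsLocalRing A] [Algebra (X.presheaf.stalk x) A]
    [IsLocalHom (algebraMap (X.presheaf.stalk x) A)] [Hensel.IsStrictHenselization (X.presheaf.stalk x) A] :
    ∃ (k' : Type u) (_ : Field k') (_ : IsSepClosed k') (X' : Scheme.{u}) (f' : X' ⟶ Spec (CommRingCat.of k'))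
      (_ : LocallyOfFiniteType f') (_ : QuasiCompact f') (x' : X') (_ : IsClosed ({x'} : Set X'))
      (_ : Algebra (X'.presheaf.stalk x') A) (_ : IsLocalHom (algebraMap (X'.presheaf.stalk x') A)),
      Hensel.IsStrictHenselization (X'.presheaf.stalk x') A := by
  obtain ⟨Γ, _, _, _, P, _, _, hloc, hPc⟩ := Groth.Agent.DimLocalBase.exists_chart k f x
  haveI := hloc
  have hP : P.comap (algebraMap k Γ) = IsLocalRing.maximalIdeal k := by
    rw [IsLocalRing.isField_iff_maximalIdeal_eq.1 (Field.toIsField k)]
    exact Ideal.eq_bot_of_prime _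
  obtain ⟨s, e, he, hint, hQ⟩ := Groth.Agent.DimLocalBase.exists_params k Γ P hP
  letI : Algebra (MvPolynomial (Fin s) k) Γ := e.toAlgebra
  haveI : Algebra.FiniteType (MvPolynomial (Fin s) k) Γ := he
  have hQ' : P.comap e = ⊥ := by rw [hQ, IsLocalRing.isField_iff_maximalIdeal_eq.1 (Field.toIsField k), Ideal.map_bot]
  haveI : (⊥ : Ideal (MvPolynomial (Fin s) k)).IsPrime := Ideal.bot_prime
  let W := Localization.AtPrime (⊥ : Ideal (MvPolynomial (Fin s) k))
  obtain ⟨L, _, _, _, _, hL⟩ := Groth.Agent.BcQCalc.exists_strictHens W
  haveI := hL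
  have hmL : IsLocalRing.maximalIdeal L = ⊥ := by
    rw [← Groth.Agent.S0538.result W L, ← IsLocalization.AtPrime.map_eq_maximalIdeal (⊥ : Ideal (MvPolynomial (Fin s) k)) W,
      Ideal.map_bot, Ideal.map_bot]
  have hF : IsField L := IsLocalRing.isField_iff_maximalIdeal_eq.2 hmL
  letI : Field L := hF.toField
  haveI : IsSepClosed L := by
    haveI := Groth.Agent.BcQCalc.isSepClosed_residueField_of_strict W L
    refine Groth.Agent.EtCdFun.isSepClosed_of_equiv
      ((RingEquiv.ofBijective (IsLocalRing.residue L) ⟨?_, IsLocalRing.residue_surjective⟩).symm)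
    rw [RingHom.injective_iff_ker_eq_bot, IsLocalRing.ker_residue, hmL]
  obtain ⟨X', f', h1, h2, x', h3, -, i1, i2, hS⟩ :=
    Groth.Agent.DimLocalBase.exists_point (MvPolynomial (Fin s) k) Γ (X.presheaf.stalk x) A P hint ⊥ hQ' W L
  exact ⟨L, inferInstance, inferInstance, X', f', h1, h2, x', h3, i1, i2, hS⟩

end Groth.Agent.S8539
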