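import Groth.Statements.S8543
import Groth.Agent.DimLocalBase.StrictParams
import Groth.Agent.S9262
-- import your own Groth.Agent.* helpers here

set_option autoImplicit false
set_option backward.isDefEq.respectTransparency false
set_option backward.isDefEq.respectTransparency.types false
universe u
open CategoryTheory CategoryTheory.Limits AlgebraicGeometry Opposite
open EtCd


namespace Groth.Agent.S8543

/-- Let R be a discrete valuation ring, X a scheme of finite type over Spec R, x a point of X over the
closed point of Spec R, and A a strict henselization of the local ring of X at x. Then there are a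
strictly henselian discrete valuation ring R' (henselian, with separably closed residue field), a
scheme X' of finite type over Spec R', a closed point x' of X' over the closed point of Spec R', and
a local algebra structure over the local ring of X' at x' for which A is a strict henselization of
that local ring. -/
theorem result (R : Type u) [CommRing R] [IsDomain R]
    [IsDiscreteValuationRing R] {X : Scheme.{u}} (f : X ⟶ Spec (CommRingCat.of R)) [LocallyOfFiniteType f]
    [QuasiCompact f] (x : X)
    (hx : f.base x = ((IsLocalRing.closedPoint R : PrimeSpectrum R) : ↥(Spec (CommRingCat.of R))))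
    (A : Type u) [CommRing A] [IsLocalRing A] [Algebra (X.presheaf.stalk x) A]
    [IsLocalHom (algebraMap (X.presheaf.stalk x) A)] [Hensel.IsStrictHenselization (X.presheaf.stalk x) A] :
    ∃ (R' : Type u) (_ : CommRing R') (_ : IsDomain R') (_ : IsDiscreteValuationRing R') (_ : HenselianLocalRing R')
      (_ : IsSepClosed (IsLocalRing.ResidueField R'))
      (X' : Scheme.{u}) (f' : X' ⟶ Spec (CommRingCat.of R')) (_ : LocallyOfFiniteType f') (_ : QuasiCompact f')
      (x' : X') (_ : IsClosed ({x'} : Set X'))
      (_ : f'.base x' = ((IsLocalRing.closedPoint R' : PrimeSpectrum R') : ↥(Spec (CommRingCat.of R'))))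
      (_ : Algebra (X'.presheaf.stalk x') A) (_ : IsLocalHom (algebraMap (X'.presheaf.stalk x') A)),
      Hensel.IsStrictHenselization (X'.presheaf.stalk x') A := by
  obtain ⟨Γ, _, _, _, P, _, _, hloc, hPc⟩ := Groth.Agent.DimLocalBase.exists_chart R f x
  haveI := hloc
  have hP : P.comap (algebraMap R Γ) = IsLocalRing.maximalIdeal R := by rw [hPc, hx]; rfl
  obtain ⟨s, e, he, hint, hQ⟩ := Groth.Agent.DimLocalBase.exists_params R Γ P hP
  letI : Algebra (MvPolynomial (Fin s) R) Γ := e.toAlgebra
  haveI : Algebra.FiniteType (MvPolynomial (Fin s) R) Γ := he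
  obtain ⟨Q, hQdef⟩ : ∃ Q, P.comap e = Q := ⟨_, rfl⟩
  haveI : Q.IsPrime := hQdef ▸ Ideal.comap_isPrime e P
  rw [hQdef] at hQ
  let W := Localization.AtPrime Q
  obtain ⟨ϖ, hϖ⟩ := IsDiscreteValuationRing.exists_irreducible R
  have hmW : IsLocalRing.maximalIdeal W = Ideal.span {algebraMap (MvPolynomial (Fin s) R) W (MvPolynomial.C ϖ)} := by
    refine ((IsLocalization.AtPrime.map_eq_maximalIdeal Q W).symm.trans
      (congrArg (Ideal.map (algebraMap (MvPolynomial (Fin s) R) W)) hQ)).trans ?_
    rw [(IsDiscreteValuationRing.irreducible_iff_uniformizer ϖ).1 hϖ, Ideal.map_span, Set.image_singleton,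
      Ideal.map_span, Set.image_singleton]
  haveI : IsDomain W := IsLocalization.isDomain_localization Q.primeCompl_le_nonZeroDivisors
  have hWf : ¬ IsField W := fun h => by
    rw [IsLocalRing.isField_iff_maximalIdeal_eq, hmW, Ideal.span_singleton_eq_bot] at h
    have h0 : (MvPolynomial.C ϖ : MvPolynomial (Fin s) R) = 0 :=
      IsLocalization.injective W Q.primeCompl_le_nonZeroDivisors (by rw [h, map_zero])
    exact hϖ.ne_zero (MvPolynomial.C_eq_zero.1 h0)
  haveI : IsNoetherianRing W := IsLocalization.isNoetherianRing Q.primeCompl W inferInstance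
  haveI : IsDiscreteValuationRing W :=
    have htf : IsDiscreteValuationRing W ↔ (IsLocalRing.maximalIdeal W).IsPrincipal :=
      (IsDiscreteValuationRing.TFAE W hWf).out 0 4
    htf.2 ⟨⟨_, hmW⟩⟩
  obtain ⟨L, _, _, _, _, hL⟩ := Groth.Agent.BcQCalc.exists_strictHens W
  haveI := hL
  have hH := Groth.Agent.Hensel.isHenzLike_of_isStrictHenselization W L
  haveI : IsNoetherianRing L := hH.isNoetherianRing_iff.mp inferInstance
  obtain ⟨_, _⟩ := (Groth.Agent.S9262.dvr_iff L).2 (by
    obtain ⟨hr, hd⟩ := (Groth.Agent.S9262.dvr_iff W).1 ⟨inferInstance, inferInstance⟩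
    exact ⟨hH.isRegularLocalRing_iff.1 hr, hH.ringKrullDim_eq ▸ hd⟩)
  haveI : HenselianLocalRing L := Hensel.IsStrictHenselization.henselian (R := W)
  haveI := Groth.Agent.BcQCalc.isSepClosed_residueField_of_strict W L
  obtain ⟨X', f', h1, h2, x', h3, h4, i1, i2, hS⟩ :=
    Groth.Agent.DimLocalBase.exists_point (MvPolynomial (Fin s) R) Γ (X.presheaf.stalk x) A P hint Q hQdef W L
  exact ⟨L, inferInstance, inferInstance, inferInstance, inferInstance, inferInstance, X', f', h1, h2, x', h3, h4, i1, i2, hS⟩

end Groth.Agent.S8543
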