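import Groth.Statements.S8545
import Groth.Agent.DimLocalBase.StrictEquidim
import Groth.Agent.FieldCd.RelCd
import Groth.Agent.DimFormula.Stalk
import Groth.Agent.VarDim.Top
import Groth.Agent.VarDim.Fibre
import Groth.Agent.S9126
-- import your own Groth.Agent.* helpers here

set_option autoImplicit false
universe u
open CategoryTheory CategoryTheory.Limits AlgebraicGeometry Opposite
open EtCd


namespace Groth.Agent.S8545

/-- Let f : X → Y be a morphism of schemes of finite type over a field k, x a point of X with image y,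
y₀ a specialization of y in Y, R a strict henselization of the local ring of Y at y₀ with Y' = Spec
R → Y the strict localization and X' = X ×_Y Y' with projection f' : X' → Y', and let x' be a point
of X' lying over x, with image y' in Y'. Writing δ(x') = dim closure(y') + trdeg(κ(x')/κ(y'))
(closure in Y' = Spec R, so dim closure(y') = dim R/p_{y'}) and d for the dimension of the closure
of a point in X or Y, one has δ(x') = d(x) - d(y₀); stated as δ(x') + d(y₀) = d(x). -/
theorem result (k : Type u) [Field k] {X Y : Scheme.{u}}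
    (aX : X ⟶ Spec (CommRingCat.of k)) (aY : Y ⟶ Spec (CommRingCat.of k)) [LocallyOfFiniteType aX] [QuasiCompact aX]
    [LocallyOfFiniteType aY] [QuasiCompact aY] (f : X ⟶ Y) (w : f ≫ aY = aX) (x : X) (y₀ : Y) (hsp : f.base x ⤳ y₀)
    (R : Type u) [CommRing R] [IsLocalRing R] [Algebra (Y.presheaf.stalk y₀) R]
    [IsLocalHom (algebraMap (Y.presheaf.stalk y₀) R)] [Hensel.IsStrictHenselization (Y.presheaf.stalk y₀) R]
    (x' : ↥(pullback f (Hens2.specOf Y y₀ R))) (hx' : (pullback.fst f (Hens2.specOf Y y₀ R)).base x' = x)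
    (a b dx dy : ℕ)
    (ha : ringKrullDim (R ⧸ ((pullback.snd f (Hens2.specOf Y y₀ R)).base x').asIdeal) = a)
    (hb : letI := ((pullback.snd f (Hens2.specOf Y y₀ R)).residueFieldMap x').hom.toAlgebra;
      Algebra.trdeg ((Spec (CommRingCat.of R)).residueField ((pullback.snd f (Hens2.specOf Y y₀ R)).base x'))
        ((pullback f (Hens2.specOf Y y₀ R)).residueField x') = b)
    (hdx : topologicalKrullDim ↥(closure ({x} : Set X)) = dx)
    (hdy : topologicalKrullDim ↥(closure ({y₀} : Set Y)) = dy) :
    a + b + dy = dx := by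
  subst w
  haveI : LocallyOfFiniteType f := locallyOfFiniteType_of_comp f aY
  haveI : IsLocallyNoetherian Y := LocallyOfFiniteType.isLocallyNoetherian aY
  haveI := Groth.Agent.S0754.result Y y₀ R
  let h := Hens2.specOf Y y₀ R
  let p := pullback.fst f h
  let s := pullback.snd f h
  haveI : WeaklyEtale p := inferInstance
  let O := Y.presheaf.stalk y₀
  let y' := s x'
  have hy' : h y' = f x := by
    show h (s x') = f x
    rw [← Scheme.Hom.comp_apply, ← pullback.condition, Scheme.Hom.comp_apply]
    exact congrArg f hx'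
  -- transcendence degrees
  have hwe : ∀ {U V : Scheme.{u}} (g : U ⟶ V) [WeaklyEtale g] (z : U), VarDim.rdeg g z = 0 := fun g _ z => by
    letI := (g.residueFieldMap z).hom.toAlgebra
    haveI := FieldCd.isAlgebraic_residueFieldMap g z
    exact trdeg_eq_zero
  have hrs : VarDim.rdeg s x' = VarDim.rdeg f x := by
    have h1 := VarDim.rdeg_congr (pullback.condition (f := f) (g := h)) x'
    rw [VarDim.rdeg_comp, VarDim.rdeg_comp, hwe p, hwe h, zero_add, add_zero] at h1
    rw [← h1]
    exact congrArg (VarDim.rdeg f) hx'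
  have hb' : (b : Cardinal.{u}) = VarDim.rdeg f x := hb.symm.trans hrs
  have hdeg : VarDim.deg (f ≫ aY) x = VarDim.deg aY (f x) + b := by
    have h1 := VarDim.tdeg_comp f aY x
    rw [← VarDim.deg_eq_tdeg, ← VarDim.deg_eq_tdeg, ← hb'] at h1
    exact_mod_cast h1
  have hdx' : VarDim.deg (f ≫ aY) x = dx := by
    have h1 := (VarDim.topologicalKrullDim_closure_singleton (f ≫ aY) x).symm.trans hdx
    exact_mod_cast h1
  have hdy' : VarDim.deg aY y₀ = dy := by
    have h1 := (VarDim.topologicalKrullDim_closure_singleton aY y₀).symm.trans hdy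
    exact_mod_cast h1
  -- dimension of the closure in the strict localization
  have hcd : DimFormula.cd (f x) y₀ + VarDim.deg aY y₀ = VarDim.deg aY (f x) := by
    have h1 := (DimFormula.cd_formula aY hsp).2 (DimFormula.isUniversallyCatenary_stalk_field k _)
    have hr : ∀ z : Y, FibDim.rd aY z = VarDim.deg aY z := fun z => by
      have h2 := FibDim.rd_eq_rdeg aY z
      rw [← VarDim.tdeg_eq_rdeg, ← VarDim.deg_eq_tdeg] at h2
      exact_mod_cast h2
    haveI : Subsingleton ↥(Spec (CommRingCat.of k)) := inferInstanceAs (Subsingleton (PrimeSpectrum k))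
    rw [Subsingleton.elim (aY (f x)) (aY y₀), DimFormula.cd_self, hr, hr, zero_add] at h1
    exact h1
  have ha' : a = DimFormula.cd (f x) y₀ := by
    have hucO : CAlg.IsUniversallyCatenary O := by
      obtain ⟨U, hU, hxU, -⟩ := exists_isAffineOpen_mem_and_subset (x := y₀) (U := ⊤) trivial
      obtain ⟨_, hft⟩ := VarDim.exists_algebra aY hU
      haveI : Algebra.EssFiniteType k Γ(Y, U) := inferInstance
      letI := Y.presheaf.algebra_section_stalk ⟨y₀, hxU⟩
      haveI : IsLocalization.AtPrime O (hU.primeIdealOf ⟨y₀, hxU⟩).asIdeal := hU.isLocalization_stalk ⟨y₀, hxU⟩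
      exact DimFormula.isUniversallyCatenary_localization (Groth.Agent.S9126.result k Γ(Y, U)
        (DimFormula.isUniversallyCatenary_field k)) (hU.primeIdealOf ⟨y₀, hxU⟩).asIdeal.primeCompl O
    haveI : IsNoetherianRing O := hucO.1
    have h1 := DimLocalBase.ringKrullDim_quotient_strict O R hucO y'.asIdeal
    let c : PrimeSpectrum O := PrimeSpectrum.comap (algebraMap O R) y'
    have hc : Y.fromSpecStalk y₀ c = f x := hy'
    have h2 := DimFormula.ringKrullDim_stalk_quotient y₀ c
    rw [hc] at h2
    have h3 : (a : WithBot ℕ∞) = ((DimFormula.cd (f x) y₀ : ℕ) : WithBot ℕ∞) := (ha.symm.trans h1).trans h2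
    exact_mod_cast h3
  omega

end Groth.Agent.S8545
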