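import Groth.Statements.S8549
import Groth.Agent.H0FBC.OpenEffective
import Groth.Agent.H0FBC.QcDescent

set_option autoImplicit false
universe u
open CategoryTheory CategoryTheory.Limits AlgebraicGeometry Opposite
open EtAcyc

attribute [-instance] CategoryTheory.catToReflQuiver

namespace Groth.Agent.S8549

/-- Flat with separable fibres: let g : X → Y be surjective and flat with separable fibres (every base
change of a fibre of g to a field is a reduced scheme), and assume either that X and Y are locally
Noetherian and g is quasi-compact and quasi-separated or universally open, or that g is locally of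
finite presentation. Then g is a morphism of universal effective descent for etale sheaves of sets:
for every base change g₁ : X₁ → Y₁ of g and every sheaf of sets on the small etale site of X₁ with
an isomorphism pr₁^* F' ≅ pr₂^* F' satisfying the cocycle condition, the datum is effective. -/
theorem result {X Y : Scheme.{u}} (g : X ⟶ Y) [Surjective g] [Flat g]
    (hsep : ∀ (K : Type u) [Field K] (k : Spec (CommRingCat.of K) ⟶ Y), IsReduced (pullback g k))
    (h : (IsLocallyNoetherian X ∧ IsLocallyNoetherian Y ∧ ((QuasiCompact g ∧ QuasiSeparated g) ∨ UniversallyOpen g)) ∨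
      LocallyOfFinitePresentation g) :
    ∀ ⦃X₁ Y₁ : Scheme.{u}⦄ (g₁ : X₁ ⟶ Y₁) (b' : X₁ ⟶ X) (b : Y₁ ⟶ Y), IsPullback b' g₁ g b →
      ∀ (F' : EtDesc.Sh X₁)
        (φ : (EtDesc.pullSh (pullback.fst g₁ g₁)).obj F' ≅ (EtDesc.pullSh (pullback.snd g₁ g₁)).obj F'),
        EtDesc.IsCocycle F' φ → EtDesc.IsEffective g₁ F' φ := by
  have hg : EtAcyc.IsULocZeroAcyclic g := Groth.Agent.H0FBC.OverField.isULocZeroAcyclic_of_sep g hsep
    (h.imp (fun h => ⟨h.1, h.2.1⟩) id)
  intro X₁ Y₁ g₁ b' b hb F' φ hφ
  rcases h with ⟨-, -, hq | ho⟩ | hfp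
  · obtain ⟨hqc, hqs⟩ := hq
    haveI : QuasiCompact g₁ := MorphismProperty.of_isPullback hb hqc
    haveI : QuasiSeparated g₁ := MorphismProperty.of_isPullback hb hqs
    haveI : Flat g₁ := MorphismProperty.of_isPullback hb ‹Flat g›
    haveI : Surjective g₁ := MorphismProperty.of_isPullback hb ‹Surjective g›
    exact Groth.Agent.H0FBC.isEffective_of_qc (hg g₁ b' b hb) hφ
  · haveI := ho
    exact Groth.Agent.H0FBC.isEffective_univ g hg g₁ b' b hb F' φ hφ
  · haveI := hfp
    exact Groth.Agent.H0FBC.isEffective_univ g hg g₁ b' b hb F' φ hφ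

end Groth.Agent.S8549
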