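import Groth.Statements.S8560
import Groth.Agent.EtLC12.RpushTorsion
-- import your own Groth.Agent.* helpers here

set_option autoImplicit false
universe u
open CategoryTheory CategoryTheory.Limits AlgebraicGeometry Opposite
open EtAcyc

attribute [-instance] CategoryTheory.catToReflQuiver

namespace Groth.Agent.S8560

/-- For the etale sites of schemes and a set of primes L: if f : X ⟶ Y is a quasi-compact and
quasi-separated morphism of schemes and F is an abelian L-torsion sheaf on the small etale site of X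
(every section is, etale-locally around each point, killed by a positive integer all of whose prime
factors lie in L), then each higher direct image R^q f_* F is an L-torsion sheaf on Y. (The
published statement, for topoi, asks only that the morphism be quasi-compact; this row also assumes
f quasi-separated: for the spectrum of a polynomial ring in countably many variables over a
separably closed field glued to a copy of itself along the complement of the origin, and the direct
sum of the skyscraper sheaves ℤ/pⁿ at the points where exactly the n-th variable is 1, the structure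
morphism to the field is quasi-compact but H¹ contains a class of infinite order.) -/
theorem result {X Y : Scheme.{u}} (f : X ⟶ Y) [QuasiCompact f] [QuasiSeparated f]
    [EtCoh.BCCont f] (L : Set ℕ) (F : EtCoh.Ab X) (hF : EtAcyc.IsLTorsion L F) (q : ℕ) :
    EtAcyc.IsLTorsion L ((EtCoh.Rpush f q).obj F) := by
  classical
  have htors : EtCoh.IsTorsion F := fun U s x => by
    obtain ⟨V, g, m, hv, hm, hms⟩ := hF U s x
    exact ⟨V, g, hv, isOfFinAddOrder_iff_nsmul_eq_zero.2 ⟨m, hm.1, hms⟩⟩
  haveI := EtLC12.TorsionColim.isIso_desc F htors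
  let D := EtLC12.TorsionColim.D F
  let R := EtCoh.Rpush f q
  let e : colimit D ≅ F := @asIso _ _ _ _ (colimit.desc D (EtLC12.TorsionColim.cocone F)) (EtLC12.TorsionColim.isIso_desc F htors)
  let d : colimit (D ⋙ R) ⟶ R.obj F := colimit.post D R ≫ R.map e.hom
  haveI : (EtCoh.Rpush f q).Additive := inferInstance
  haveI : Epi (colimit.post D R) := Preadditive.epi_of_cancel_zero _ fun {Z} h hh => by
    refine EtLC12.RpushTorsion.Rpush_jointlyEpi f q D h fun j => ?_
    have h2 := congrArg (colimit.ι (D ⋙ R) j ≫ ·) hh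
    simpa only [comp_zero, colimit.ι_post_assoc] using h2
  haveI : Epi d := inferInstanceAs (Epi (colimit.post D R ≫ R.map e.hom))
  intro V s v
  have hloc : Presheaf.IsLocallySurjective Y.smallEtaleTopology d.hom :=
    (Sheaf.isLocallySurjective_iff_epi' AddCommGrpCat.{u + 1} d).2 inferInstance
  obtain ⟨V₁, g₁, v₁, ⟨t, ht⟩, hv₁⟩ := (EtFound.mem_topology_iff _).1 (hloc.imageSieve_mem s) v
  obtain ⟨W, g, w, hW, hw⟩ := EtLC12.RpushTorsion.exists_affine_nhd v₁
  haveI := hW
  haveI := EtFound.preservesColimitsOfShape_sections_qcqs_ab W (EtFound.isQcqsObj_of_isAffine W) EtLC12.TorsionColim.Idx.{u}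
  let hc := isColimitOfPreserves (sheafToPresheaf Y.smallEtaleTopology AddCommGrpCat.{u + 1} ⋙
    (evaluation Y.Etaleᵒᵖ AddCommGrpCat.{u + 1}).obj (op W)) (colimit.isColimit (D ⋙ R))
  obtain ⟨j, a, ha⟩ := Concrete.isColimit_exists_rep _ hc (((colimit (D ⋙ R)).obj.map g.op).hom t)
  let M := EtLC12.TorsionColim.ex j
  let N := ∏ k ∈ M.divisors.filter (EtAcyc.PrimesIn L), k
  have hN : EtAcyc.PrimesIn L N := by
    refine ⟨Finset.prod_pos fun k hk => (Finset.mem_filter.1 hk).2.1, fun p hp hpd => ?_⟩
    obtain ⟨k, hk, hpk⟩ := (Nat.Prime.prime hp).exists_mem_finset_dvd hpd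
    exact (Finset.mem_filter.1 hk).2.2 p hp hpk
  have hzM : M • 𝟙 (D.obj j) = 0 := by
    show M • 𝟙 (kernel (M • 𝟙 F)) = 0
    rw [← cancel_mono (kernel.ι (M • 𝟙 F)), zero_comp, Preadditive.nsmul_comp, Category.id_comp]
    have h3 := kernel.condition (M • 𝟙 F)
    rwa [Preadditive.comp_nsmul, Category.comp_id] at h3
  have hz : N • 𝟙 (D.obj j) = 0 := by
    refine (EtFound.killedBy_iff_nsmul _ _).1 fun U b => ?_
    apply EtLC12.TorsionColim.ι_app_injective F j U
    refine Eq.trans ?_ (map_zero ((kernel.ι (M • 𝟙 F)).hom.app (op U)).hom).symm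
    refine EtFound.eq_of_cover F _ _ ((EtFound.mem_topology_iff _).2 fun x => ?_)
    let c := ((kernel.ι (M • 𝟙 F)).hom.app (op U)).hom b
    obtain ⟨U', g', m, ⟨y, hy⟩, hm, hmc⟩ := hF U c x
    refine ⟨U', g', y, ?_, hy⟩
    show (F.obj.map g'.op).hom (((kernel.ι (M • 𝟙 F)).hom.app (op U)).hom (N • b)) = (F.obj.map g'.op).hom 0
    refine ((congrArg (F.obj.map g'.op).hom (map_nsmul ((kernel.ι (M • 𝟙 F)).hom.app (op U)).hom N b)).trans
      (map_nsmul (F.obj.map g'.op).hom N c)).trans (Eq.trans ?_ (map_zero (F.obj.map g'.op).hom).symm)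
    have hMc : M • (F.obj.map g'.op).hom c = 0 := by
      refine (map_nsmul (F.obj.map g'.op).hom M c).symm.trans ((congrArg (F.obj.map g'.op).hom ?_).trans (map_zero _))
      exact (map_nsmul ((kernel.ι (M • 𝟙 F)).hom.app (op U)).hom M b).symm.trans
        ((congrArg ((kernel.ι (M • 𝟙 F)).hom.app (op U)).hom ((EtFound.killedBy_iff_nsmul _ _).2 hzM U b)).trans (map_zero _))
    obtain ⟨l, hl⟩ : addOrderOf ((F.obj.map g'.op).hom c) ∣ N := by
      refine Finset.dvd_prod_of_mem _ (Finset.mem_filter.2 ⟨Nat.mem_divisors.2 ⟨addOrderOf_dvd_of_nsmul_eq_zero hMc, (Nat.factorial_pos _).ne'⟩, ?_, ?_⟩)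
      · exact (isOfFinAddOrder_iff_nsmul_eq_zero.2 ⟨m, hm.1, hmc⟩).addOrderOf_pos
      · exact fun p hp hpd => hm.2 p hp (hpd.trans (addOrderOf_dvd_of_nsmul_eq_zero hmc))
    rw [hl, mul_nsmul, addOrderOf_nsmul_eq_zero, smul_zero]
  have hz' : N • 𝟙 (R.obj (D.obj j)) = 0 := by
    rw [← R.map_id, ← R.map_nsmul, hz, R.map_zero]
  have ha0 : N • a = 0 := (EtFound.killedBy_iff_nsmul _ _).2 hz' W a
  have hs : (((EtCoh.Rpush f q).obj F).obj.map (g ≫ g₁).op).hom s =
      (d.hom.app (op W)).hom (((colimit (D ⋙ R)).obj.map g.op).hom t) := by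
    rw [op_comp, Functor.map_comp]
    exact (congrArg (((EtCoh.Rpush f q).obj F).obj.map g.op).hom ht).symm.trans
      (NatTrans.naturality_apply d.hom g.op t).symm
  have hb : N • ((colimit (D ⋙ R)).obj.map g.op).hom t = 0 := by
    rw [← ha]
    exact (map_nsmul ((colimit.ι (D ⋙ R) j).hom.app (op W)).hom _ a).symm.trans
      ((congrArg ((colimit.ι (D ⋙ R) j).hom.app (op W)).hom ha0).trans (map_zero _))
  refine ⟨W, g ≫ g₁, N, ⟨w, (Scheme.Hom.comp_apply _ _ _).trans ((congrArg g₁.left hw).trans hv₁)⟩, hN, ?_⟩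
  refine (congrArg (N • ·) hs).trans ?_
  exact (map_nsmul (d.hom.app (op W)).hom _ _).symm.trans ((congrArg (d.hom.app (op W)).hom hb).trans (map_zero _))

end Groth.Agent.S8560
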