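import Groth.Statements.S8562
import Mathlib.AlgebraicGeometry.Sites.Etale

set_option linter.style.haveILetI false
set_option backward.isDefEq.respectTransparency false
set_option backward.isDefEq.respectTransparency.types false


set_option autoImplicit false
universe u
open CategoryTheory CategoryTheory.Limits AlgebraicGeometry Opposite
open NonAbH1

namespace Groth.Agent.S8562

/-- Exactness of the sequence 0 → H¹(Y, f_*F) → H¹(X, F) → H⁰(Y, R¹f_*F) at its middle term, in terms of
torsors: let f : X ⟶ Y be a morphism of schemes, F a sheaf of groups on the small etale site of X,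
f_*F its direct image on Y (sections over an etale Y-scheme V are the sections of F over X ×_Y V),
and Q an F-torsor. Then Q is the image of a class in H¹(Y, f_*F), in the sense that there are an
f_*F-torsor P on Y and a morphism of sheaves of sets from P to the direct image of the sheaf
underlying Q which is equivariant for the actions of f_*F, if and only if the class of Q is locally
trivial over Y: there is a jointly surjective family of etale Y-schemes Y_i such that Q has a
section over every X ×_Y Y_i. -/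
theorem result {X Y : Scheme.{u}} (f : X ⟶ Y)
    [EtCoh.BCCont f] (F : Sheaf X.smallEtaleTopology GrpCat.{u + 1}) (Q : NonAbH1.Torsor F) :
    (∃ (P : NonAbH1.Torsor (((EtCoh.bc f).sheafPushforwardContinuous GrpCat.{u + 1}
        Y.smallEtaleTopology X.smallEtaleTopology).obj F))
      (φ : P.P ⟶ ((EtCoh.bc f).sheafPushforwardContinuous (Type (u + 1))
        Y.smallEtaleTopology X.smallEtaleTopology).obj Q.P),
      ∀ (V : Y.Etaleᵒᵖ) (g : F.obj.obj (op ((EtCoh.bc f).obj V.unop))) (s : P.P.obj.obj V),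
        φ.hom.app V (P.smul g s) = Q.smul g (φ.hom.app V s)) ↔
    ∃ (ι : Type u) (V : ι → Y.Etale), EtCoh.Covers V ∧
      ∀ i, Nonempty (Q.P.obj.obj (op ((EtCoh.bc f).obj (V i)))) := by
  classical
  let B := (EtCoh.bc f).sheafPushforwardContinuous GrpCat.{u + 1} Y.smallEtaleTopology X.smallEtaleTopology
  constructor
  · rintro ⟨P, φ, -⟩
    let W : Y.Etale := MorphismProperty.Over.mk ⊤ (𝟙 Y) (inferInstanceAs (Etale (𝟙 Y)))
    obtain ⟨S, hS, hne⟩ := P.isTorsor.2 W
    let ι' := Σ V : Y.Etale, {a : V ⟶ W // S a}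
    have hS' : Sieve.ofArrows _ (fun i : ι' => i.2.1) ∈ Y.smallEtaleTopology W :=
      GrothendieckTopology.superset_covering _ (fun V a ha => ⟨V, 𝟙 V, a, ⟨(⟨V, a, ha⟩ : ι')⟩, Category.id_comp a⟩) hS
    have hu := (Scheme.ofArrows_mem_smallEtaleTopology_iff _).1 hS'
    have hy : ∀ y : Y, ∃ i : ι', y ∈ Set.range i.2.1.left := fun y => Set.mem_iUnion.1 (hu.symm ▸ Set.mem_univ y)
    choose i hi using hy
    refine ⟨(Y : Type u), fun y => (i y).1, fun y => ⟨y, ?_⟩, fun y =>
      ⟨φ.hom.app (op (i y).1) (hne (i y).2.1 (i y).2.2).some⟩⟩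
    obtain ⟨z, hz⟩ := hi y
    refine ⟨z, ?_⟩
    rw [← MorphismProperty.Over.w (i y).2.1]
    exact hz
  · rintro ⟨ι, V, hV, hne⟩
    let T : NonAbH1.GSheaf (B.obj F) :=
      { P := ((EtCoh.bc f).sheafPushforwardContinuous (Type (u + 1)) Y.smallEtaleTopology X.smallEtaleTopology).obj Q.P
        smul := fun {U} g p => Q.smul (U := op ((EtCoh.bc f).obj U.unop)) g p
        one_smul := fun {U} p => Q.one_smul (U := op ((EtCoh.bc f).obj U.unop)) p
        mul_smul := fun {U} g h p => Q.mul_smul (U := op ((EtCoh.bc f).obj U.unop)) g h p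
        map_smul := fun {U U'} a g p => Q.map_smul ((EtCoh.bc f).map a.unop).op g p }
    refine ⟨⟨T, fun U p q => Q.isTorsor.1 (op ((EtCoh.bc f).obj U.unop)) p q, fun W => ?_⟩, 𝟙 T.P, fun U g s => rfl⟩
    let Z : ι → Y.Etale := fun i => MorphismProperty.Over.mk ⊤ (pullback.fst W.hom (V i).hom ≫ W.hom) (by
      haveI : Etale W.hom := W.prop
      haveI : Etale (V i).hom := (V i).prop
      exact inferInstanceAs (Etale (pullback.fst W.hom (V i).hom ≫ W.hom)))
    let a : ∀ i, Z i ⟶ W := fun i => MorphismProperty.Over.homMk (pullback.fst W.hom (V i).hom) rfl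
    let b : ∀ i, Z i ⟶ V i := fun i => MorphismProperty.Over.homMk (pullback.snd W.hom (V i).hom) pullback.condition.symm
    refine ⟨Sieve.ofArrows _ a, (Scheme.ofArrows_mem_smallEtaleTopology_iff _).2 ?_, fun U g hg => ?_⟩
    · refine Set.eq_univ_of_forall fun w => Set.mem_iUnion.2 ?_
      obtain ⟨i, y, hy⟩ := hV (W.hom w)
      obtain ⟨z, hz, -⟩ := Scheme.Pullback.exists_preimage_pullback (f := W.hom) (g := (V i).hom) w y hy.symm
      exact ⟨i, z, hz⟩
    · obtain ⟨_, c, _, ⟨i⟩, -⟩ := hg
      exact ⟨Q.P.obj.map ((EtCoh.bc f).map (c ≫ b i)).op (hne i).some⟩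
end Groth.Agent.S8562
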