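import Groth.Statements.S8567
import Groth.Agent.TopDescent.Fibre

set_option autoImplicit false
open CategoryTheory TopologicalSpace Opposite
universe u
open CohTop

namespace Groth.Agent.S8567

/-- Let X be a topological space, K ⊆ X a compact subset such that any two distinct points of K have
disjoint neighbourhoods in X, and F a flasque abelian sheaf on X. Then the inverse image F|K of F on
the subspace K is a soft sheaf: for every closed subset A of K, every section of (F|K)|A over A is
the restriction of a section of F|K over K (the restriction map is the unit of the inverse image /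
direct image adjunction for the inclusion A → K, taken on global sections). -/
theorem result {X : TopCat.{u}} {K : Set X} (hK : IsCompact K)
    (hsep : ∀ x ∈ K, ∀ y ∈ K, x ≠ y → ∃ U V : Set X, IsOpen U ∧ IsOpen V ∧ x ∈ U ∧ y ∈ V ∧ Disjoint U V)
    (F : CohTop.Ab X) [TopCat.Sheaf.IsFlasque F] {A : Set K} (hA : IsClosed A) :
    Function.Surjective
      ((((TopCat.Sheaf.pullbackPushforwardAdjunction AddCommGrpCat.{u}
        (TopCat.ofHom ⟨((↑) : A → K), continuous_subtype_val⟩ : TopCat.of A ⟶ TopCat.of K)).unit.app
        ((CohTop.pull (TopCat.ofHom ⟨((↑) : K → X), continuous_subtype_val⟩ : TopCat.of K ⟶ X)).obj F)).hom.app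
        (op ⊤)).hom) := by
  let WK : Over X := Over.mk (TopCat.ofHom ⟨((↑) : K → X), continuous_subtype_val⟩ : TopCat.of K ⟶ X)
  have hW : Groth.Agent.TopDescent.CompSep WK :=
    { compact := isCompact_iff_compactSpace.1 hK
      inj := Subtype.val_injective
      sep := fun a b h => hsep a.1 a.2 b.1 b.2 fun e => h (Subtype.ext e) }
  haveI := hW.compact
  haveI := hW.t2Space
  haveI := Groth.Agent.TopDescent.isIso_gPsi (F := F) WK
  have hsoft := (Groth.Agent.TopDescent.isSoftSheaf_gSh (F := F) hW).of_iso (asIso (Groth.Agent.TopDescent.gPsi F WK)).symm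
  exact Groth.Agent.TopDescent.IsSoftSheaf.surjective_unit hsoft hA

end Groth.Agent.S8567
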