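import Groth.Statements.S8579
import Groth.Agent.TopDescent.HFunctor
import Groth.Agent.EtDescSplit.SplitCech
import Groth.Agent.EtDescSplit.ColumnSS

set_option autoImplicit false
open CategoryTheory CategoryTheory.Limits TopologicalSpace
universe u
open CohTop

namespace Groth.Agent.S8579

/-- In the setting of topological spaces and abelian sheaves (where every continuous map is flat for the
inverse image of sheaves), let f : X → S be a continuous map with a continuous section s, f ∘ s =
id, and F an abelian sheaf on S. Then f is of universal cohomological descent, and the descent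
spectral sequence reads, in existence form: there is a bounded spectral sequence of abelian groups
starting at page one with E_1^{p,q} isomorphic, for p, q ≥ 0, to H^q(X_p, F|X_p), where X_p is the
(p+1)-fold fibre product of X over S and F|X_p the inverse image of F along its projection to S, and
zero otherwise, together with abutment data whose filtrations are finite on H^n(S, F) for n ≥ 0
(zero for n < 0). (The E_1 identifications and the abutment isomorphisms are asserted to exist only;
the differentials are not part of this statement.) -/
theorem result {X S : TopCat.{u}} (f : X ⟶ S) (s : S ⟶ X)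
    (hs : s ≫ f = 𝟙 S) (F : CohTop.Ab S) :
    ∃ (E : CohomologicalSpectralSequence AddCommGrpCat.{u} 1)
      (a : SpSeq.Abutment E (fun n : ℤ =>
        if 0 ≤ n then AddCommGrpCat.of (CohTop.H F n.toNat) else AddCommGrpCat.of PUnit.{u + 1})),
      (∀ n, a.IsFinite n) ∧ SpSeq.IsBounded E ∧
      ∀ p q : ℤ, Nonempty ((E.page 1 le_rfl).X (p, q) ≅
        (if 0 ≤ p ∧ 0 ≤ q then
          AddCommGrpCat.of (CohTop.H ((CohTop.pull
            (WidePullback.base (fun _ : Fin (p.toNat + 1) => f) :
              widePullback S (fun _ : Fin (p.toNat + 1) => X) (fun _ => f) ⟶ S)).obj F) q.toNat)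
         else AddCommGrpCat.of PUnit.{u + 1})) := by
  classical
  let Hc : ℤ → AddCommGrpCat.{u} := fun n =>
    if 0 ≤ n then AddCommGrpCat.of (CohTop.H F n.toNat) else AddCommGrpCat.of PUnit.{u + 1}
  have hneg : ∀ n : ℤ, n < 0 → IsZero (Hc n) := fun n hn => by
    simp only [Hc, if_neg (show ¬ 0 ≤ n by omega)]
    exact AddCommGrpCat.isZero_of_subsingleton _
  let M : ℕ → CochainComplex AddCommGrpCat.{u} ℕ :=
    fun q => EtDescSplit.powCx f (TopDescent.cohFunctor F q)
  have hM : ∀ q m, (M q).ExactAt (m + 1) := fun q m =>
    EtDescSplit.exactAt_succ f (TopDescent.cohFunctor F q) s hs m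
  let e : ∀ q : ℕ, (M q).homology 0 ≅ Hc q := fun q =>
    (@asIso _ _ _ _ (EtDescSplit.augToHomology f (TopDescent.cohFunctor F q))
      (EtDescSplit.isIso_augToHomology f (TopDescent.cohFunctor F q) s hs)).symm ≪≫
      (TopDescent.nonempty_cohFunctor_iso_id F q).some ≪≫ eqToIso (by simp [Hc])
  refine EtDescSplit.exists_spectralSequence hM hneg e _ (fun p q => ?_) (fun p q h => ?_)
  · exact ⟨(TopDescent.nonempty_cohFunctor_iso F q _).some ≪≫ eqToIso (by rw [if_pos ⟨by omega, by omega⟩]; rfl)⟩
  · rw [if_neg (by rintro ⟨h₁, h₂⟩; omega)]
    exact AddCommGrpCat.isZero_of_subsingleton _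

end Groth.Agent.S8579
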