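import Groth.Statements.S8580
import Groth.Agent.EtDescSplit.HFunctor
import Groth.Agent.EtDescSplit.SplitCech
import Groth.Agent.EtDescSplit.ColumnSS
-- import your own Groth.Agent.* helpers here

set_option autoImplicit false
open CategoryTheory CategoryTheory.Limits AlgebraicGeometry
universe u
open EtDesc

namespace Groth.Agent.S8580

/-- In the setting of schemes and abelian sheaves on their small etale sites (where every morphism is
flat for the inverse image of sheaves), let f : X → Y be a morphism of schemes with a section s, s
followed by f being the identity, and F any abelian sheaf on the small etale site of Y. Then f is of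
universal cohomological descent, and the descent spectral sequence reads, in existence form: there
is a bounded spectral sequence of abelian groups starting at page one with E_1^{p,q} isomorphic, for
p, q ≥ 0, to the etale cohomology group H^q(X_p, F|X_p), where X_p is the (p+1)-fold fibre product
of X over Y and F|X_p the inverse image of F along its projection to Y, and zero otherwise, together
with abutment data whose filtrations are finite on H^n(Y_et, F) for n ≥ 0 (zero for n < 0). (The E_1
identifications and the abutment isomorphisms are asserted to exist only; the differentials are not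
part of this statement.) -/
theorem result {X Y : Scheme.{u}} (f : X ⟶ Y) (s : Y ⟶ X)
    (hs : s ≫ f = 𝟙 Y) (F : EtCoh.Ab Y) :
    ∃ (E : CohomologicalSpectralSequence AddCommGrpCat.{u + 1} 1)
      (a : SpSeq.Abutment E (fun n : ℤ =>
        if 0 ≤ n then AddCommGrpCat.of (EtCoh.H Y F n.toNat) else AddCommGrpCat.of PUnit.{u + 2})),
      (∀ n, a.IsFinite n) ∧ SpSeq.IsBounded E ∧
      ∀ p q : ℤ, Nonempty ((E.page 1 le_rfl).X (p, q) ≅
        (if 0 ≤ p ∧ 0 ≤ q then
          AddCommGrpCat.of (EtCoh.H (widePullback Y (fun _ : Fin (p.toNat + 1) => X) (fun _ => f))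
            ((EtCoh.pull (WidePullback.base (fun _ : Fin (p.toNat + 1) => f) :
              widePullback Y (fun _ : Fin (p.toNat + 1) => X) (fun _ => f) ⟶ Y)).obj F) q.toNat)
         else AddCommGrpCat.of PUnit.{u + 2})) := by
  classical
  let Hc : ℤ → AddCommGrpCat.{u + 1} := fun n =>
    if 0 ≤ n then AddCommGrpCat.of (EtCoh.H Y F n.toNat) else AddCommGrpCat.of PUnit.{u + 2}
  have hneg : ∀ n : ℤ, n < 0 → IsZero (Hc n) := fun n hn => by
    simp only [Hc, if_neg (show ¬ 0 ≤ n by omega)]
    exact AddCommGrpCat.isZero_of_subsingleton _
  let M : ℕ → CochainComplex AddCommGrpCat.{u + 1} ℕ :=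
    fun q => EtDescSplit.powCx f (EtDescSplit.cohFunctor F q)
  have hM : ∀ q m, (M q).ExactAt (m + 1) := fun q m =>
    EtDescSplit.exactAt_succ f (EtDescSplit.cohFunctor F q) s hs m
  let e : ∀ q : ℕ, (M q).homology 0 ≅ Hc q := fun q =>
    (@asIso _ _ _ _ (EtDescSplit.augToHomology f (EtDescSplit.cohFunctor F q))
      (EtDescSplit.isIso_augToHomology f (EtDescSplit.cohFunctor F q) s hs)).symm ≪≫
      EtDescSplit.cohFunctorId F q ≪≫ eqToIso (by simp [Hc])
  refine EtDescSplit.exists_spectralSequence hM hneg e _ (fun p q => ?_) (fun p q h => ?_)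
  · exact ⟨eqToIso (by rw [if_pos ⟨by omega, by omega⟩]; rfl)⟩
  · rw [if_neg (by rintro ⟨h₁, h₂⟩; omega)]
    exact AddCommGrpCat.isZero_of_subsingleton _

end Groth.Agent.S8580
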