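import Groth.Statements.S8610
import Groth.Agent.PBCThm.Compact

set_option autoImplicit false
universe u
open CategoryTheory CategoryTheory.Limits AlgebraicGeometry
open SGA4h

namespace Groth.Agent.S8610

/-- Let j₁ : X → P₁ and j₂ : X → P₂ be open immersions of quasi-compact quasi-separated schemes and p :
P₂ → P₁ a proper morphism with p ∘ j₂ = j₁ such that the square is cartesian (X = P₂ ×_{P₁} X, i.e.
p⁻¹(j₁ X) = j₂ X). For every torsion abelian etale sheaf F on X, p_*(j₂! F) is isomorphic to j₁! F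
(existence of an isomorphism only) and R^q p_*(j₂! F) = 0 for q > 0. (The published statement is for
two compactifications of X compared by p; its argument uses that p is an isomorphism above X, which
is the cartesian hypothesis made explicit here.) -/
theorem result {X P₁ P₂ : Scheme.{u}}
    [CompactSpace ↥P₁] [QuasiSeparatedSpace ↥P₁] [CompactSpace ↥P₂] [QuasiSeparatedSpace ↥P₂]
    [CompactSpace ↥X]
    (j₁ : X ⟶ P₁) (j₂ : X ⟶ P₂) [IsOpenImmersion j₁] [IsOpenImmersion j₂] (p : P₂ ⟶ P₁) [IsProper p]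
    (hsq : IsPullback (𝟙 X) j₂ j₁ p) (F : EtCoh.Ab X) (hF : EtCoh.IsTorsion F) :
    Nonempty ((EtCoh.push p).obj ((EtShriek.extZero j₂).obj F) ≅ (EtShriek.extZero j₁).obj F) ∧
      ∀ q : ℕ, 0 < q → IsZero ((EtCoh.Rpush p q).obj ((EtShriek.extZero j₂).obj F)) := by
  have w : j₂ ≫ p = 𝟙 X ≫ j₁ := hsq.w.symm
  have h := fun q => Groth.Agent.PBCThm.nonempty_extZero_Rpush j₂ j₁ (𝟙 X) p w F hF q
  refine ⟨?_, fun q hq => ?_⟩
  · obtain ⟨e⟩ := h 0
    haveI := EtFound.push_preservesFiniteLimits p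
    haveI := EtFound.push_preservesFiniteLimits (𝟙 X)
    exact ⟨((EtCoh.push p).rightDerivedZeroIsoSelf.app _).symm ≪≫ e.symm ≪≫
      (EtShriek.extZero j₁).mapIso ((EtCoh.push (𝟙 X)).rightDerivedZeroIsoSelf.app F ≪≫
        ((EtCoh.pullPushAdj (𝟙 X)).rightAdjointUniq (Adjunction.id.ofNatIsoLeft (Groth.Agent.EtDescSplit.pullId X).symm)).app F)⟩
  · obtain ⟨e⟩ := h q
    haveI : (EtShriek.extZero j₁).Additive := (EtShriek.extZeroAdj j₁).left_adjoint_additive
    exact IsZero.of_iso ((EtShriek.extZero j₁).map_isZero (Groth.Agent.S0071.result (𝟙 X) F q hq)) e.symm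

end Groth.Agent.S8610
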