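import Groth.Statements.S8618
import Groth.Agent.FrobTrace.Basic
import Mathlib.FieldTheory.Finite.Basic
import Mathlib.RingTheory.Flat.Basic
import Mathlib.LinearAlgebra.TensorProduct.Tower
import Mathlib.RingTheory.TensorProduct.Finite
-- import your own Groth.Agent.* helpers here

set_option autoImplicit false
universe u
open SGA4h


namespace Groth.Agent.S8618

open TensorProduct in
theorem nilpotent_of_iterate {p : ℕ} [Fact p.Prime] {k : Type u} [Field k] [Fintype k] [CharP k p] (f : ℕ)
    (hq : Fintype.card k = p ^ f) (hf : 0 < f) {K : Type u} [Field K] [Algebra k K] [CharP K p]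
    {V : Type u} [AddCommGroup V] [Module k V] (φ : V →ₛₗ[frobenius k p] V) (F : V →ₗ[k] V)
    (hF : ∀ x, F x = (⇑φ)^[f] x) (T : K ⊗[k] V →ₛₗ[frobenius K p] K ⊗[k] V)
    (hT : ∀ (μ : K) (v : V), T (μ ⊗ₜ[k] v) = (μ ^ p) ⊗ₜ[k] φ v)
    (y : K ⊗[k] V) (hy : ∃ n, (⇑T)^[n] y = 0) : ∃ j, (F.baseChange K ^ j) y = 0 := by
  obtain ⟨N, hN⟩ := hy
  have hTf : ∀ (j : ℕ) (μ : K) (v : V), (⇑T)^[j] (μ ⊗ₜ[k] v) = (μ ^ p ^ j) ⊗ₜ[k] (⇑φ)^[j] v := fun j => by
    induction j with
    | zero => intro μ v; simp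
    | succ j ih =>
      intro μ v
      rw [Function.iterate_succ_apply', ih, hT, ← pow_mul, ← pow_succ, Function.iterate_succ_apply']
  have hqn : ∀ (m : ℕ) (a : k), a ^ p ^ (f * m) = a := fun m a => by
    rw [pow_mul, ← hq]
    exact FiniteField.pow_card_pow m a
  let σK : K →ₐ[k] K :=
    { iterateFrobenius K p (f * N) with
      commutes' := fun a => by
        show iterateFrobenius K p (f * N) (algebraMap k K a) = algebraMap k K a
        rw [iterateFrobenius_def, ← map_pow, hqn] }
  have hτ : Function.Injective (σK.toLinearMap.rTensor V) :=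
    Module.Flat.rTensor_preserves_injective_linearMap _ σK.toRingHom.injective
  have hFN : ∀ (m : ℕ) (v : V), (F ^ m) v = (⇑φ)^[f * m] v := fun m => by
    induction m with
    | zero => intro v; simp
    | succ m ih =>
      intro v
      rw [pow_succ', Module.End.mul_apply, ih, hF, ← Function.iterate_add_apply, Nat.mul_succ, add_comm]
  have hTN : ∀ z : K ⊗[k] V, (⇑T)^[f * N] z = σK.toLinearMap.rTensor V ((F ^ N).baseChange K z) := fun z => by
    induction z using TensorProduct.induction_on with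
    | zero => simp [Groth.Agent.SigmaLinLib.iterate_zero_apply']
    | tmul μ v =>
      rw [hTf, LinearMap.baseChange_tmul, LinearMap.rTensor_tmul, hFN]
      exact congrArg (· ⊗ₜ[k] _) (iterateFrobenius_def p (f * N) μ).symm
    | add a b ha hb => rw [Groth.Agent.SigmaLinLib.iterate_add_apply', ha, hb, map_add, map_add]
  obtain ⟨e, he⟩ := Nat.le.dest (Nat.le_mul_of_pos_left N hf)
  have h0 : (⇑T)^[f * N] y = 0 := by
    rw [← he, add_comm, Function.iterate_add_apply, hN, Groth.Agent.SigmaLinLib.iterate_zero_apply']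
  refine ⟨N, ?_⟩
  rw [← LinearMap.baseChange_pow]
  exact hτ (((hTN y).symm.trans h0).trans (map_zero _).symm)

open TensorProduct in
theorem finish {k : Type u} [Field k] {p : ℕ} [Fact p.Prime] {K : Type u} [Field K] [Algebra k K] [CharP K p]
    {V : Type u} [AddCommGroup V] [Module k V] (F₀ : Subfield k) (hF₀ : F₀ = ⊥) (S : K ⊗[k] V → K ⊗[k] V)
    (W : Submodule F₀ (K ⊗[k] V)) (hW : ∀ y, y ∈ W ↔ S y = y) (A : K ⊗[k] V →ₗ[K] K ⊗[k] V) (t : K)
    {n : ℕ} (b : Fin n → K ⊗[k] V) (hli : LinearIndependent K b) (hb : ∀ i, S (b i) = b i)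
    (hspan : ∀ y, S y = y → ∃ d : Fin n → K, (∀ i, d i ^ p = d i) ∧ y = ∑ i, d i • b i)
    (htr : ∀ c : Fin n → Fin n → K, (∀ i, A (b i) = ∑ j, c i j • b j) → t = ∑ i, c i i) :
    Module.Finite F₀ W ∧ ∀ (G : W →ₗ[F₀] W), (∀ y : W, (↑(G y) : K ⊗[k] V) = A ↑y) →
      algebraMap k K (algebraMap F₀ k (LinearMap.trace F₀ W G)) = t := by
  have hsc : ∀ (d : F₀) (y : K ⊗[k] V), d • y = algebraMap k K d • y := fun d y => by
    rw [Subfield.smul_def, algebraMap_smul]
  let bW : Fin n → W := fun i => ⟨b i, (hW _).2 (hb i)⟩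
  have hliW : LinearIndependent F₀ bW := by
    refine (Fintype.linearIndependent_iffₛ (R := F₀) (v := bW)).2 fun g g' hg i => ?_
    have h1 : (∑ j, algebraMap k K (g j) • b j) = ∑ j, algebraMap k K (g' j) • b j := by
      have := congrArg Subtype.val hg
      simpa [bW, hsc] using this
    exact Subtype.ext ((algebraMap k K).injective (Fintype.linearIndependent_iffₛ.1 hli _ _ h1 i))
  have hrep : ∀ w : W, ∃ d : Fin n → F₀, w = ∑ j, d j • bW j := fun w => by
    obtain ⟨c, hc, hcw⟩ := hspan w ((hW _).1 w.2)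
    have hmem : ∀ j, ∃ d : F₀, algebraMap k K d = c j := fun j => by
      have : c j ∈ (⊥ : Subfield k).map (algebraMap k K) := by
        rw [Subfield.map_bot]
        exact (Subfield.mem_bot_iff_pow_eq_self K p).2 (hc j)
      obtain ⟨d, hd, hde⟩ := Subfield.mem_map.1 this
      exact ⟨⟨d, hF₀.symm ▸ hd⟩, hde⟩
    choose d hd using hmem
    refine ⟨d, Subtype.ext ?_⟩
    rw [hcw]
    simp [bW, hsc, hd]
  let B : Module.Basis (Fin n) F₀ W := Module.Basis.mk hliW (fun w _ => by
    obtain ⟨d, rfl⟩ := hrep w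
    exact Submodule.sum_mem _ fun j _ => Submodule.smul_mem _ _ (Submodule.subset_span ⟨j, rfl⟩))
  refine ⟨Module.Finite.of_basis B, fun G hG => ?_⟩
  have hc : ∀ i, A (b i) = ∑ j, algebraMap k K (B.repr (G (B i)) j) • b j := fun i => by
    have h1 : B i = bW i := Module.Basis.mk_apply _ _ i
    have h2 := congrArg Subtype.val (B.sum_repr (G (B i)))
    rw [show ((G (B i) : W) : K ⊗[k] V) = A (b i) by rw [h1]; exact hG (bW i)] at h2
    rw [← h2]
    simp [B, bW, hsc]
  rw [htr _ hc, LinearMap.trace_eq_matrix_trace _ B]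
  simp only [Matrix.trace, Matrix.diag, LinearMap.toMatrix_apply, map_sum]
  exact Finset.sum_congr rfl fun _ _ => rfl

open TensorProduct in
/-- Let k be a finite field with q = p^f elements, F₀ ⊂ k its prime field, K an algebraically closed
extension of k, V a finite-dimensional k-vector space and φ a p-linear endomorphism of V (φ(λx) =
λ^p φ(x)); let F = φ^f, a k-linear endomorphism, F_K its K-linear extension to K ⊗_k V and φ_K the
p-linear extension of φ (φ_K(μ ⊗ v) = μ^p ⊗ φ(v)). Then F_K preserves the F₀-subspace W = Ker(φ_K -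
1) of K ⊗_k V, W is finite-dimensional over F₀, and the trace of F_K on W (an element of F₀) equals
the trace of F on V. -/
theorem result {p : ℕ} [Fact p.Prime] (k : Type u) [Field k] [Fintype k]
    [CharP k p] (f : ℕ) (hq : Fintype.card k = p ^ f) (K : Type u) [Field K] [Algebra k K] [IsAlgClosed K]
    (V : Type u) [AddCommGroup V] [Module k V] [FiniteDimensional k V]
    (φ : V →ₛₗ[frobenius k p] V) (F : V →ₗ[k] V) (hF : ∀ x, F x = (⇑φ)^[f] x)
    (φK : K ⊗[k] V →+ K ⊗[k] V) (hφK : ∀ (μ : K) (v : V), φK (μ ⊗ₜ[k] v) = (μ ^ p) ⊗ₜ[k] φ v)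
    (W : Submodule (↥(⊥ : Subfield k)) (K ⊗[k] V)) (hW : ∀ y, y ∈ W ↔ φK y = y) :
    (∀ y, φK y = y → φK (F.baseChange K y) = F.baseChange K y) ∧
    Module.Finite (↥(⊥ : Subfield k)) ↥W ∧
    ∀ (G : ↥W →ₗ[↥(⊥ : Subfield k)] ↥W), (∀ y : ↥W, (↑(G y) : K ⊗[k] V) = F.baseChange K ↑y) →
      algebraMap k K (algebraMap (↥(⊥ : Subfield k)) k (LinearMap.trace (↥(⊥ : Subfield k)) ↥W G)) =
        algebraMap k K (LinearMap.trace k V F) := by
  classical
  haveI : CharP K p := charP_of_injective_algebraMap (algebraMap k K).injective p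
  have hf : 0 < f := by
    rcases Nat.eq_zero_or_pos f with rfl | h
    · exact absurd hq (by simpa using Fintype.one_lt_card.ne')
    · exact h
  let T : K ⊗[k] V →ₛₗ[frobenius K p] K ⊗[k] V :=
    { φK with
      map_smul' := fun c y => by
        show φK (c • y) = frobenius K p c • φK y
        induction y using TensorProduct.induction_on with
        | zero => simp
        | tmul μ v => rw [TensorProduct.smul_tmul', smul_eq_mul, hφK, hφK, mul_pow, TensorProduct.smul_tmul', smul_eq_mul, frobenius_def]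
        | add a b ha hb => rw [smul_add, map_add, map_add, ha, hb, smul_add] }
  have hT : ∀ y, T y = φK y := fun _ => rfl
  have hFφ : ∀ v, φ (F v) = F (φ v) := fun v => by
    rw [hF, hF, ← Function.iterate_succ_apply' (f := ⇑φ), Function.iterate_succ_apply]
  have hcomm : ∀ y, T (F.baseChange K y) = F.baseChange K (T y) := fun y => by
    induction y using TensorProduct.induction_on with
    | zero => simp
    | tmul μ v => rw [LinearMap.baseChange_tmul, hT, hT, hφK, hφK, LinearMap.baseChange_tmul, hFφ]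
    | add a b ha hb => simp only [map_add, ha, hb]
  obtain ⟨n, b, hli, hb, hspan, htr⟩ :=
    Groth.Agent.FrobTrace.exists_fixed_trace (F.baseChange K) p T hcomm
      (fun y hy => nilpotent_of_iterate f hq hf φ F hF T (fun μ v => (hT _).trans (hφK μ v)) y hy)
  obtain ⟨h1, h2⟩ := finish (p := p) (⊥ : Subfield k) rfl (fun y => φK y) W hW (F.baseChange K) _ b hli hb hspan htr
  refine ⟨fun y hy => ?_, h1, fun G hG => ?_⟩
  · rw [← hT, hcomm, hT, hy]
  rw [← LinearMap.trace_baseChange F K]
  exact h2 G hG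

end Groth.Agent.S8618
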