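import Groth.Statements.S8619
import Groth.Agent.EtModLib.FlatSum
-- import your own Groth.Agent.* helpers here

set_option autoImplicit false
universe u
open CategoryTheory CategoryTheory.Limits AlgebraicGeometry
open SGA4h


namespace Groth.Agent.S8619

set_option backward.isDefEq.respectTransparency false
set_option backward.isDefEq.respectTransparency.types false
attribute [local instance] CategoryTheory.Abelian.hasFiniteBiproducts

/-- Let X be a Noetherian scheme, Λ a commutative Noetherian ring and K a cochain complex of etale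
sheaves of Λ-modules on X whose cohomology sheaves are constructible and vanish in large degrees.
Then there are a cochain complex K', zero in large degrees, whose components are constructible
sheaves of Λ-modules with flat geometric stalks, and a quasi-isomorphism K' → K. (The published
statement allows a left-Noetherian, possibly non-commutative Λ.) -/
theorem result {Λ : Type (u + 1)} [CommRing Λ]
    [IsNoetherianRing Λ] {X : Scheme.{u}} [IsNoetherian X]
    (K : CochainComplex (EtModW.Mod Λ X) ℤ)
    (hK : ∀ i : ℤ, EtModW.IsConstructible Λ (K.homology i))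
    (hb : ∃ m : ℤ, ∀ i : ℤ, m ≤ i → IsZero (K.homology i)) :
    ∃ (K' : CochainComplex (EtModW.Mod Λ X) ℤ) (φ : K' ⟶ K), QuasiIso φ ∧
      (∃ m : ℤ, ∀ i : ℤ, m ≤ i → IsZero (K'.X i)) ∧
      (∀ i : ℤ, EtModW.IsConstructible Λ (K'.X i)) ∧
      ∀ (i : ℤ) (Ω : Type u) [Field Ω] [IsSepClosed Ω] (ξ : Spec (CommRingCat.of Ω) ⟶ X),
        Module.Flat Λ ((EtModW.stalk Λ ξ).obj (K'.X i)) := by
  obtain ⟨n, hn⟩ := hb
  let P : ChainComplex (EtModW.Mod Λ X) ℤ :=
    HomologicalComplex.restriction K ComplexShape.embeddingDownIntUpInt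
  have hh : ∀ i : ℤ, Nonempty (P.homology i ≅ K.homology (-i)) := fun i =>
    ⟨HomologicalComplex.restrictionHomologyIso K ComplexShape.embeddingDownIntUpInt (i + 1) i (i - 1)
      (by simp) (by simp) (i' := -(i + 1)) (j' := -i) (k' := -(i - 1)) rfl rfl rfl
      (by simp; omega) (by simp; omega)⟩
  let K' : ObjectProperty (EtModW.Mod Λ X) := fun M => EtModW.IsConstructible Λ M
  let K'' : ObjectProperty (EtModW.Mod Λ X) := fun M => S6700.IsSum Λ M
  haveI : K'.IsClosedUnderIsomorphisms := ⟨fun e h => EtModLib.isConstructible_of_iso e h⟩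
  haveI : K''.IsClosedUnderIsomorphisms := ⟨fun e h => S6700.IsSum.of_iso e h⟩
  obtain ⟨Q, u, hQ, hQ0, hu⟩ := H6HomAlg.Resolve.exists_quasiIso (P := P) (K' := K') (K'' := K'')
    (fun M h => S6700.IsSum.isConstructible h)
    (fun A A' v hA' hv => by
      obtain ⟨m, U, j, hj, hU, he⟩ := EtModLib.exists_sum_extZero_lift v hA'
      haveI : ∀ k, EtShriek.JCont (j k) := fun k => EtFound.jCont (j k)
      obtain ⟨ψ, hψ⟩ := he
      exact ⟨_, ψ, ⟨m, U, j, hj, hU, fun {_} => ⟨Iso.refl _⟩⟩, hψ⟩)
    (fun A B v hA hB _ => EtModLib.isConstructible_kernel v hA hB)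
    (fun B B' h h' => S6700.IsSum.prod h h')
    (fun i => EtModLib.isConstructible_of_iso (hh i).some.symm (hK _)) (-n)
    (fun i hi => IsZero.of_iso (hn (-i) (by omega)) (hh i).some)
  let Φ := (ChainComplex.cochainComplexEquivalence (C := EtModW.Mod Λ X))
  have hq : QuasiIso (Φ.functor.map u) := ⟨fun i =>
    (TriCat.quasiIsoAt_restrictionMap_iff ComplexShape.embeddingUpIntDownInt u (i - 1) i (i + 1) (by simp)
      (by simp) (i' := -(i - 1)) (j' := -i) (k' := -(i + 1)) rfl rfl rfl (by simp; omega) (by simp; omega)).2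
      (hu.quasiIsoAt (-i))⟩
  let ε : Φ.functor.obj P ⟶ K := Φ.counitIso.hom.app K
  haveI : IsIso ε := inferInstanceAs (IsIso (Φ.counitIso.hom.app K))
  refine ⟨Φ.functor.obj Q, Φ.functor.map u ≫ ε, inferInstance, ⟨n + 1, fun i hi => hQ0 _ (show -i < -n by omega)⟩,
    fun i => ?_, fun i Ω _ _ ξ => ?_⟩
  · by_cases h : -n ≤ -i
    · exact S6700.IsSum.isConstructible (hQ (-i) h)
    · exact EtModLib.isConstructible_of_isZero (hQ0 (-i) (by omega))
  · by_cases h : -n ≤ -i
    · exact EtModLib.FlatSum.flat_stalk_isSum (hQ (-i) h) ξ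
    · obtain ⟨-, hS, -⟩ := EtModLib.linear_stalk (Λ := Λ) ξ
      haveI : (EtModW.stalk Λ ξ).Additive := hS
      haveI := ModuleCat.subsingleton_of_isZero
        ((EtModW.stalk Λ ξ).map_isZero (show IsZero ((Φ.functor.obj Q).X i) from hQ0 (-i) (by omega)))
      infer_instance

end Groth.Agent.S8619
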