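import Groth.Statements.S8692
import Groth.Agent.H6KS.Lines
import Groth.Agent.H6KS.Split

set_option linter.style.haveILetI false
set_option backward.isDefEq.respectTransparency false
set_option backward.isDefEq.respectTransparency.types false
open CategoryTheory CategoryTheory.Limits AlgebraicGeometry
open Groth.Agent Groth.Agent.H6KS

set_option autoImplicit false
universe v u
open CategoryTheory CategoryTheory.Limits AlgebraicGeometry
attribute [local instance] HasDerivedCategory.standard
open SGA6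

namespace Groth.Agent.S8692

/-- Let S be a quasi-compact scheme and K the Grothendieck ring of finite locally free O_S-modules with
the pre-λ-structure given by exterior powers. Concretely: every finite locally free O_S-module is
assumed to have finite locally free exterior powers (hext), and K is a commutative ring with
λ-operations together with an additive bijection φ from K₀ of finite locally free O_S-modules
carrying [O_S] to 1, [E]·[F] to [E ⊗ F], and with λ^i(φ[E]) = φ[L] whenever L is an i-th exterior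
power of E. Then K is a λ-ring in the strict sense: λ_t(1) = 1 + t, λ^n(xy) = P_n(λ^1 x, …; λ^1 y,
…) and λ^j(λ^i x) = Q_{i,j}(λ^1 x, …) for the universal polynomials. -/
theorem result (S : Scheme.{u}) [CompactSpace ↥S]
    (hext : ∀ (i : ℕ) (E : S.Modules), FlatMod.IsFinLocFree E →
      ∃ L : S.Modules, FlatMod.IsFinLocFree L ∧ ExtPow.IsExtPow i E L)
    (K : Type v) [CommRing K] [LambdaRing.LambdaOps K] (φ : SGA6.Kvb S →+ K) (hφ : Function.Bijective φ)
    (h1 : φ (KRR.cl S (Coh.structureModule S)) = 1)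
    (hmul : ∀ E F : S.Modules, FlatMod.IsFinLocFree E → FlatMod.IsFinLocFree F →
      φ (KRR.cl S E) * φ (KRR.cl S F) = φ (KRR.cl S (((DCoh.tensorBi (X := S)).obj E).obj F)))
    (hlam : ∀ (i : ℕ) (E L : S.Modules), FlatMod.IsFinLocFree E → FlatMod.IsFinLocFree L →
      ExtPow.IsExtPow i E L → LambdaRing.LambdaOps.lam i (φ (KRR.cl S E)) = φ (KRR.cl S L)) :
    LambdaRing.IsSpecial K := by
  have hK : KRRReg.IsRingModel S K φ := ⟨hφ, h1, hmul⟩
  refine isSpecial_of_lines.{v, u + 1} (fun i hi => ?_) fun x y => ?_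
  · have hO := small_structure (X := S)
    have h := hlam i _ _ hO.vb (ExtPowSh.isFinLocFree hO.vb)
      (ExtPowSh.isExtPow (Coh.structureModule S) i (QCoh.isQCoh_of_isFinLocFree hO.vb))
    rw [h1] at h
    rw [h, show KRR.cl S (ExtPowSh.L (Coh.structureModule S) i) = 0 from KZ.clSub_isZero (KRR.vbP S) (hO.isZero_L hi),
      map_zero]
  obtain ⟨x, rfl⟩ := hφ.2 x
  obtain ⟨y, rfl⟩ := hφ.2 y
  obtain ⟨X', hc, f, hinj, hx, hy⟩ := splits_two x y
  obtain ⟨L, hL, ψ, hψ⟩ := KRRReg.exists_ringModel X'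
  obtain ⟨o, ho⟩ := ExtPowSh.exists_lamOps hψ
  obtain ⟨g, hg⟩ := H6KB.exists_pullRingHom f hK hψ
  let T : Submonoid L :=
    { carrier := {u | ∃ M : X'.Modules, Small M ∧ ψ (KRR.cl X' M) = u}
      one_mem' := ⟨_, small_structure, hψ.map_one⟩
      mul_mem' := by
        rintro _ _ ⟨M, hM, rfl⟩ ⟨N, hN, rfl⟩
        exact ⟨_, hM.tensor hN, (hψ.map_mul M N hM.vb hN.vb).symm⟩ }
  have key : ∀ z, ψ (pullK f z) = g (φ z) := fun z =>
    DFunLike.congr_fun (KZ.K0sub_hom_ext (KRR.vbP S) (f := ψ.comp (pullK f)) (g := g.toAddMonoidHom.comp φ)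
      fun N hN => by
        show ψ (pullK f (KRR.cl S N)) = g.toAddMonoidHom (φ (KRR.cl S N))
        rw [pullK_cl _ hN, hg N hN]) z
  have hspan : ∀ z ∈ smallSpan X', ψ z ∈ AddSubgroup.closure (T : Set L) := fun z hz => by
    refine (AddSubgroup.closure_le ((AddSubgroup.closure (T : Set L)).comap ψ)).2 ?_ hz
    rintro _ ⟨M, hM, rfl⟩
    exact AddSubgroup.subset_closure ⟨M, hM, rfl⟩
  refine ⟨L, hL, o, T, g, ?_, ?_, ?_, key x ▸ hspan _ hx, key y ▸ hspan _ hy⟩
  · rintro u ⟨M, hM, rfl⟩ i hi
    rw [ho i M _ hM.vb (ExtPowSh.isExtPow M i (QCoh.isQCoh_of_isFinLocFree hM.vb)),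
      show KRR.cl X' (ExtPowSh.L M i) = 0 from KZ.clSub_isZero (KRR.vbP X') (hM.isZero_L hi), map_zero]
  · intro a b hab
    obtain ⟨a, rfl⟩ := hφ.2 a
    obtain ⟨b, rfl⟩ := hφ.2 b
    rw [← key, ← key] at hab
    exact congrArg φ (hinj (hψ.bijective.1 hab))
  · intro j z
    letI := o
    have hcl : ∀ E, FlatMod.IsFinLocFree E → ∀ j, g (LambdaRing.LambdaOps.lam j (φ (KRR.cl S E))) =
        LambdaRing.LambdaOps.lam j (g (φ (KRR.cl S E))) := fun E hE j => by
      have hq := QCoh.isQCoh_of_isFinLocFree hE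
      have h := ExtPowSh.isExtPow E j hq
      show g.toAddMonoidHom _ = LambdaRing.LambdaOps.lam j (g.toAddMonoidHom (φ (KRR.cl S E)))
      rw [hg E hE, hlam j E _ hE (ExtPowSh.isFinLocFree hE) h, hg _ (ExtPowSh.isFinLocFree hE)]
      exact (ho j _ _ (KFlatLib.isFinLocFree_pullback f hE) (ExtPowSh.isExtPow_pullback f hq h)).symm
    have hneg : ∀ a b : K, (∀ j, g (LambdaRing.LambdaOps.lam j b) = LambdaRing.LambdaOps.lam j (g b)) →
        (∀ j, g (LambdaRing.LambdaOps.lam j (a + b)) = LambdaRing.LambdaOps.lam j (g (a + b))) →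
        ∀ j, g (LambdaRing.LambdaOps.lam j a) = LambdaRing.LambdaOps.lam j (g a) := fun a b hb hab j => by
      induction j using Nat.strong_induction_on with
      | _ j ih =>
        have h := hab j
        rw [map_add, LambdaRing.LambdaOps.lam_add, LambdaRing.LambdaOps.lam_add, map_sum,
          Finset.sum_range_succ, Finset.sum_range_succ, Finset.sum_congr rfl (fun i hi => by
            rw [map_mul, ih i (Finset.mem_range.1 hi), hb])] at h
        have h' := add_left_cancel h
        rwa [Nat.sub_self, LambdaRing.LambdaOps.lam_zero, map_mul, LambdaRing.LambdaOps.lam_zero, map_one, mul_one,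
          mul_one] at h'
    obtain ⟨z, rfl⟩ := hφ.2 z
    obtain ⟨A, B, hA, hB, rfl⟩ := ExtPowSh.exists_sub_cl z
    exact hneg _ (φ (KRR.cl S B)) (hcl B hB) (by rw [← map_add, sub_add_cancel]; exact hcl A hA) j

end Groth.Agent.S8692
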