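import Groth.Statements.S8693
import Groth.Agent.KRRReg.NilAug

set_option autoImplicit false
universe v u
open CategoryTheory CategoryTheory.Limits AlgebraicGeometry
attribute [local instance] HasDerivedCategory.standard
open KRR

namespace Groth.Agent.S8693

/-- Let X be a connected quasi-compact scheme with an ample invertible O_X-module L, (K, P, φ) a model
of the λ-ring K(X) of finite locally free modules with its positive structure (augmentation ε =
rank), and E_1, …, E_k finite locally free O_X-modules. Let R ⊆ K(X) be the subring generated by the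
elements λ^j[E_i] for all i and j, which is the sub-λ-ring generated by the classes [E_i]. Then the
ideal R ∩ Ker ε of R is nilpotent: there is n such that every product of n elements of R of
augmentation zero vanishes; and R is finitely generated as an abelian group. (The published
statement allows X disconnected, with R a module of finite type over R ∩ H^0(X, ℤ), and also asserts
that the λ-ring filtration of R is discrete; this row takes X connected, as the model requires, and
states the nilpotency and the finite generation over the integers.) -/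
theorem result (X : Scheme.{u}) [ConnectedSpace ↥X] (L : X.Modules) (hL : CohB1.IsAmple L)
    (K : Type v) [CommRing K] [LambdaRing.LambdaOps K] (P : LambdaRing.PosStructure K) (φ : SGA6.Kvb X →+ K)
    (hK : KRR.IsModel X K P φ)
    (k : ℕ) (E : Fin k → X.Modules) (hE : ∀ i : Fin k, FlatMod.IsFinLocFree (E i)) :
    (∃ n : ℕ, ∀ f : Fin n → K,
      (∀ t : Fin n, f t ∈ Subring.closure {y : K | ∃ (i : Fin k) (j : ℕ), y = LambdaRing.LambdaOps.lam j (φ (KRR.cl X (E i)))} ∧ P.aug (f t) = 0) →
        ∏ t, f t = 0) ∧
    (Subring.closure {y : K | ∃ (i : Fin k) (j : ℕ), y = LambdaRing.LambdaOps.lam j (φ (KRR.cl X (E i)))}).toAddSubgroup.FG := by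
  refine Groth.Agent.KRRReg.closure_props (P := P) ?_ fun y hy =>
    Groth.Agent.KRRReg.isNilpotent_of_aug_eq_zero hL hK hy
  obtain ⟨x₀⟩ := (inferInstance : Nonempty ↥X)
  refine ((Set.finite_iUnion fun i : Fin k =>
    ((Set.finite_Iic (Groth.Agent.ExtPowSh.rk (E i) x₀)).image
      fun j => LambdaRing.LambdaOps.lam j (φ (KRR.cl X (E i))))).insert 0).subset ?_
  rintro _ ⟨i, j, rfl⟩
  rcases le_or_gt j (Groth.Agent.ExtPowSh.rk (E i) x₀) with h | h
  · exact Or.inr (Set.mem_iUnion.2 ⟨i, ⟨j, h, rfl⟩⟩)
  · left
    rw [hK.map_lam j _ _ (hE i) (Groth.Agent.ExtPowSh.isFinLocFree (hE i))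
      (Groth.Agent.ExtPowSh.isExtPow (E i) j (Groth.Agent.QCoh.isQCoh_of_isFinLocFree (hE i)))]
    have h0 := Groth.Agent.ExtPowSh.isFinLocFreeOfRank (E := E i) (i := j)
      (Groth.Agent.ExtPowSh.isFinLocFreeOfRank_rk (hE i) x₀)
    rw [Nat.choose_eq_zero_of_lt h] at h0
    rw [show KRR.cl X (Groth.Agent.ExtPowSh.L (E i) j) = 0 from
      Groth.Agent.KZ.clSub_isZero _ (Groth.Agent.ExtPowSh.isZero_of_rank_zero h0), map_zero]

end Groth.Agent.S8693
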