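import Groth.Statements.S8709
import Groth.Agent.GrpSchLib.UnitsConn
import Groth.Prelude.Def_GmPts
import Mathlib.FieldTheory.IsAlgClosed.AlgebraicClosure
import Mathlib.AlgebraicGeometry.Geometrically.Reduced
import Mathlib.AlgebraicGeometry.Geometrically.Connected

set_option autoImplicit false
universe u
open CategoryTheory CategoryTheory.Limits MonoidalCategory CartesianMonoidalCategory MonObj AlgebraicGeometry
open SGA7 Groth.Agent.GrpSchLib Groth.Agent.GrpSchLib.Kunneth

namespace Groth.Agent.S8709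

/-- Let k be a field and X, Y two k-schemes of finite type which are geometrically reduced and
geometrically connected, with rational points e_X and e_Y. Then every k-morphism u from X ×_k Y to
the multiplicative group whose restrictions to X × e_Y and to e_X × Y are trivial is trivial.
(Morphisms to the multiplicative group over k form a group; trivial means equal to its unit
element.) -/
theorem result (k : Type u) [Field k]
    (X Y : Over (Spec (CommRingCat.of k)))
    [LocallyOfFiniteType X.hom] [QuasiCompact X.hom] [GeometricallyReduced X.hom] [GeometricallyConnected X.hom]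
    [LocallyOfFiniteType Y.hom] [QuasiCompact Y.hom] [GeometricallyReduced Y.hom] [GeometricallyConnected Y.hom]
    (eX : 𝟙_ (Over (Spec (CommRingCat.of k))) ⟶ X) (eY : 𝟙_ (Over (Spec (CommRingCat.of k))) ⟶ Y)
    (u : X ⊗ Y ⟶ Red.Gm (Spec (CommRingCat.of k)))
    (huX : lift (𝟙 X) (toUnit X ≫ eY) ≫ u = 1) (huY : lift (toUnit Y ≫ eX) (𝟙 Y) ≫ u = 1) :
    u = 1 := by
  let kb := AlgebraicClosure k
  let σ : Spec (CommRingCat.of kb) ⟶ Spec (CommRingCat.of k) :=
    Spec.map (CommRingCat.ofHom (algebraMap k kb))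
  let X' : Over (Spec (CommRingCat.of kb)) := Over.mk (pullback.snd X.hom σ)
  let Y' : Over (Spec (CommRingCat.of kb)) := Over.mk (pullback.snd Y.hom σ)
  have hq : ∀ (Z : Over (Spec (CommRingCat.of k))),
      pullback.fst Z.hom σ ≫ Z.hom = pullback.snd Z.hom σ ≫ σ := fun Z => pullback.condition
  haveI : LocallyOfFiniteType X'.hom := inferInstanceAs (LocallyOfFiniteType (pullback.snd X.hom σ))
  haveI : QuasiCompact X'.hom := inferInstanceAs (QuasiCompact (pullback.snd X.hom σ))
  haveI : LocallyOfFiniteType Y'.hom := inferInstanceAs (LocallyOfFiniteType (pullback.snd Y.hom σ))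
  haveI : QuasiCompact Y'.hom := inferInstanceAs (QuasiCompact (pullback.snd Y.hom σ))
  haveI : GeometricallyReduced X'.hom := inferInstanceAs (GeometricallyReduced (pullback.snd X.hom σ))
  haveI : IsReduced Y'.left := GeometricallyReduced.geometrically_isReduced (f := Y.hom) _ _ _
    (IsPullback.of_hasPullback Y.hom σ)
  haveI : ConnectedSpace X'.left := GeometricallyConnected.geometrically_connectedSpace (f := X.hom) _ _ _
    (IsPullback.of_hasPullback X.hom σ)
  haveI : ConnectedSpace Y'.left := GeometricallyConnected.geometrically_connectedSpace (f := Y.hom) _ _ _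
    (IsPullback.of_hasPullback Y.hom σ)
  haveI : IsLocallyNoetherian Y'.left := LocallyOfFiniteType.isLocallyNoetherian Y'.hom
  haveI : IsReduced (X' ⊗ Y').left := by
    show IsReduced (pullback X'.hom Y'.hom)
    infer_instance
  let qX : Over.mk (X'.hom ≫ σ) ⟶ X := Over.homMk (pullback.fst X.hom σ) (hq X)
  let qY : Over.mk (Y'.hom ≫ σ) ⟶ Y := Over.homMk (pullback.fst Y.hom σ) (hq Y)
  let P : Over (Spec (CommRingCat.of k)) := Over.mk ((X' ⊗ Y').hom ≫ σ)
  let pX : P ⟶ Over.mk (X'.hom ≫ σ) := Over.homMk (fst X' Y').left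
    ((Category.assoc _ _ _).symm.trans (congrArg (· ≫ σ) (Over.w (fst X' Y'))))
  let pY : P ⟶ Over.mk (Y'.hom ≫ σ) := Over.homMk (snd X' Y').left
    ((Category.assoc _ _ _).symm.trans (congrArg (· ≫ σ) (Over.w (snd X' Y'))))
  let p : P ⟶ X ⊗ Y := lift (pX ≫ qX) (pY ≫ qY)
  let f : Fn (X ⊗ Y) := Red.gmFn u
  have hf : IsUnit f := GmPts.isUnit_gmFn u
  let f' : Fn (X' ⊗ Y') := p.left.appTop f
  have hf' : IsUnit f' := hf.map p.left.appTop.hom
  let ptX : UnitsConn.Pt X' := Over.homMk (pullback.lift (σ ≫ eX.left) (𝟙 (Spec (CommRingCat.of kb)))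
    (by
      exact ((Category.assoc _ _ _).trans ((congrArg (σ ≫ ·) (Over.w eX)).trans (Category.comp_id σ))).trans
        (Category.id_comp σ).symm)) (pullback.lift_snd _ _ _)
  let ptY : UnitsConn.Pt Y' := Over.homMk (pullback.lift (σ ≫ eY.left) (𝟙 (Spec (CommRingCat.of kb)))
    (by
      exact ((Category.assoc _ _ _).trans ((congrArg (σ ≫ ·) (Over.w eY)).trans (Category.comp_id σ))).trans
        (Category.id_comp σ).symm)) (pullback.lift_snd _ _ _)
  have h1 : f' = 1 := by
    refine UnitsConn.eq_one hf' ptX ptY ?_ ?_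
    · let a : Over.mk (X'.hom ≫ σ) ⟶ P := Over.homMk (lift (𝟙 X') (toUnit X' ≫ ptY)).left
        ((Category.assoc _ _ _).symm.trans (congrArg (· ≫ σ) (Over.w (lift (𝟙 X') (toUnit X' ≫ ptY)))))
      have e1 : a ≫ pX ≫ qX = qX := by
        ext1
        show (lift (𝟙 X') (toUnit X' ≫ ptY)).left ≫ (fst X' Y').left ≫ _ = _
        rw [← Category.assoc, ← Over.comp_left, lift_fst]
        exact Category.id_comp _
      have e2 : a ≫ pY ≫ qY = qX ≫ toUnit X ≫ eY := by
        ext1
        show (lift (𝟙 X') (toUnit X' ≫ ptY)).left ≫ (snd X' Y').left ≫ pullback.fst Y.hom σ =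
          pullback.fst X.hom σ ≫ X.hom ≫ eY.left
        rw [← Category.assoc, ← Over.comp_left, lift_snd]
        show (X'.hom ≫ pullback.lift (σ ≫ eY.left) (𝟙 _) _) ≫ pullback.fst Y.hom σ = _
        rw [Category.assoc, pullback.lift_fst, ← Category.assoc, ← Category.assoc, hq X]
        rfl
      have e : a ≫ p = qX ≫ lift (𝟙 X) (toUnit X ≫ eY) := by
        rw [comp_lift, comp_lift, Category.comp_id, e1, e2]
      show (lift (𝟙 X') (toUnit X' ≫ ptY)).left.appTop (p.left.appTop (Red.gmFn u)) = 1
      show a.left.appTop (p.left.appTop (Red.gmFn u)) = 1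
      rw [← GmPts.gmFn_comp, ← GmPts.gmFn_comp, ← Category.assoc, e, Category.assoc, huX]
      exact (GmPts.gmFn_comp qX 1).trans (by rw [GmPts.gmFn_one]; exact map_one _)
    · let a : Over.mk (Y'.hom ≫ σ) ⟶ P := Over.homMk (lift (toUnit Y' ≫ ptX) (𝟙 Y')).left
        ((Category.assoc _ _ _).symm.trans (congrArg (· ≫ σ) (Over.w (lift (toUnit Y' ≫ ptX) (𝟙 Y')))))
      have e2 : a ≫ pY ≫ qY = qY := by
        ext1
        show (lift (toUnit Y' ≫ ptX) (𝟙 Y')).left ≫ (snd X' Y').left ≫ _ = _
        rw [← Category.assoc, ← Over.comp_left, lift_snd]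
        exact Category.id_comp _
      have e1 : a ≫ pX ≫ qX = qY ≫ toUnit Y ≫ eX := by
        ext1
        show (lift (toUnit Y' ≫ ptX) (𝟙 Y')).left ≫ (fst X' Y').left ≫ pullback.fst X.hom σ =
          pullback.fst Y.hom σ ≫ Y.hom ≫ eX.left
        rw [← Category.assoc, ← Over.comp_left, lift_fst]
        show (Y'.hom ≫ pullback.lift (σ ≫ eX.left) (𝟙 _) _) ≫ pullback.fst X.hom σ = _
        rw [Category.assoc, pullback.lift_fst, ← Category.assoc, ← Category.assoc, hq Y]
        rfl
      have e : a ≫ p = qY ≫ lift (toUnit Y ≫ eX) (𝟙 Y) := by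
        rw [comp_lift, comp_lift, Category.comp_id, e1, e2]
      show a.left.appTop (p.left.appTop (Red.gmFn u)) = 1
      rw [← GmPts.gmFn_comp, ← GmPts.gmFn_comp, ← Category.assoc, e, Category.assoc, huY]
      exact (GmPts.gmFn_comp qY 1).trans (by rw [GmPts.gmFn_one]; exact map_one _)
  haveI : IsReduced Y.left := GeometricallyReduced.geometrically_isReduced (f := Y.hom) _ _ _
    (IsPullback.id_horiz Y.hom)
  haveI : IsLocallyNoetherian Y.left := LocallyOfFiniteType.isLocallyNoetherian Y.hom
  haveI : IsReduced (X ⊗ Y).left := by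
    show IsReduced (pullback X.hom Y.hom)
    infer_instance
  haveI : LocallyOfFiniteType (X ⊗ Y).hom := by
    show LocallyOfFiniteType (pullback.fst X.hom Y.hom ≫ X.hom)
    infer_instance
  apply GmPts.gmFn_injective
  show f = Red.gmFn 1
  rw [GmPts.gmFn_one, ← sub_eq_zero]
  haveI : JacobsonSpace (X ⊗ Y).left := LocallyOfFiniteType.jacobsonSpace (X ⊗ Y).hom
  apply basicOpen_eq_bot_iff (f - 1) |>.mp
  by_contra hne
  obtain ⟨w, hw, hwc⟩ := nonempty_inter_closedPoints
    (TopologicalSpace.Opens.ne_bot_iff_nonempty _ |>.mp hne)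
    ((X ⊗ Y).left.basicOpen (f - 1)).isOpen.isLocallyClosed
  obtain ⟨s, hs⟩ := exists_point_of_isClosed (k := k) (K := kb) (X ⊗ Y) hwc
  let K := Over.mk σ
  have hx : s.left ≫ (fst X Y).left ≫ X.hom = σ := by
    rw [Over.w (fst X Y)]; exact Over.w s
  have hy : s.left ≫ (snd X Y).left ≫ Y.hom = σ := by
    rw [Over.w (snd X Y)]; exact Over.w s
  let xk : UnitsConn.Pt X' := Over.homMk (pullback.lift (s.left ≫ (fst X Y).left) (𝟙 (Spec (CommRingCat.of kb)))
    (((Category.assoc _ _ _).trans hx).trans (Category.id_comp σ).symm)) (pullback.lift_snd _ _ _)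
  let yk : UnitsConn.Pt Y' := Over.homMk (pullback.lift (s.left ≫ (snd X Y).left) (𝟙 (Spec (CommRingCat.of kb)))
    (((Category.assoc _ _ _).trans hy).trans (Category.id_comp σ).symm)) (pullback.lift_snd _ _ _)
  let z : Over.mk σ ⟶ P := Over.homMk (lift xk yk).left
    ((Category.assoc _ _ _).symm.trans ((congrArg (· ≫ σ) (Over.w (lift xk yk))).trans (Category.id_comp σ)))
  have hz : z ≫ p = s := by
    apply CartesianMonoidalCategory.hom_ext
    · rw [Category.assoc, lift_fst]
      ext1
      show (lift xk yk).left ≫ (fst X' Y').left ≫ pullback.fst X.hom σ = s.left ≫ (fst X Y).left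
      rw [← Category.assoc, ← Over.comp_left, lift_fst]
      exact pullback.lift_fst _ _ _
    · rw [Category.assoc, lift_snd]
      ext1
      show (lift xk yk).left ≫ (snd X' Y').left ≫ pullback.fst Y.hom σ = s.left ≫ (snd X Y).left
      rw [← Category.assoc, ← Over.comp_left, lift_snd]
      exact pullback.lift_fst _ _ _
  have h0 : s.left.appTop (f - 1) = 0 := by
    have hc := congrArg (fun g => g.left.appTop f) hz
    have : s.left.appTop f = 1 := hc.symm.trans ((congrArg z.left.appTop h1).trans (map_one _))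
    rw [map_sub, map_one, this, sub_self]
  have h2 : IsLocalRing.closedPoint kb ∈ (Spec (CommRingCat.of kb)).basicOpen (s.left.appTop (f - 1)) := by
    have h3 := Scheme.preimage_basicOpen_top s.left (f - 1)
    exact h3 ▸ (show s.left (IsLocalRing.closedPoint kb) ∈ (X ⊗ Y).left.basicOpen (f - 1) from hs ▸ hw)
  rw [h0, Scheme.basicOpen_zero] at h2
  exact h2

end Groth.Agent.S8709
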