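import Groth.Statements.S8710
import Groth.Agent.H9Misc.DRingTorDim

set_option autoImplicit false
universe u
open CategoryTheory CategoryTheory.Limits
open SGA7

namespace Groth.Agent.S8710

open MonoidalCategory Groth.Agent.TorBridge

/-- Vanishing of `Tor` of the middle term of a short exact sequence in the first variable. -/
lemma isZero_tor_middle {A : Type u} [CommRing A] {S : ShortComplex (ModuleCat.{u} A)} (hS : S.ShortExact)
    (N : ModuleCat.{u} A) (i : ℕ)
    (h₁ : IsZero (((Tor (ModuleCat.{u} A) i).obj S.X₁).obj N))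
    (h₃ : IsZero (((Tor (ModuleCat.{u} A) i).obj S.X₃).obj N)) :
    IsZero (((Tor (ModuleCat.{u} A) i).obj S.X₂).obj N) := by
  let P : ProjectiveResolution N := ProjectiveResolution.of _
  let c := ComplexShape.down ℕ
  let C : ModuleCat.{u} A → ChainComplex (ModuleCat.{u} A) ℕ := fun X =>
    ((tenF X).mapHomologicalComplex c).obj P.complex
  let f : C S.X₁ ⟶ C S.X₂ :=
    (NatTrans.mapHomologicalComplex ((tensoringLeft (ModuleCat.{u} A)).map S.f) c).app P.complex
  let g : C S.X₂ ⟶ C S.X₃ :=
    (NatTrans.mapHomologicalComplex ((tensoringLeft (ModuleCat.{u} A)).map S.g) c).app P.complex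
  have hfg : f ≫ g = 0 := by
    refine HomologicalComplex.hom_ext _ _ fun j => ModuleCat.hom_ext ?_
    show S.g.hom.rTensor (P.complex.X j) ∘ₗ S.f.hom.rTensor (P.complex.X j) = 0
    rw [← LinearMap.rTensor_comp, ← ModuleCat.hom_comp, S.zero, ModuleCat.hom_zero, LinearMap.rTensor_zero]
  have hT : (ShortComplex.mk f g hfg).ShortExact := by
    refine HomologicalComplex.shortExact_of_degreewise_shortExact _ fun j => ?_
    haveI : Module.Projective A (P.complex.X j) := (IsProjective.iff_projective _).2 (P.projective j)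
    have he : Function.Exact S.f.hom S.g.hom :=
      (ShortComplex.ShortExact.moduleCat_exact_iff_function_exact _).1 hS.exact
    exact
      { exact := (ShortComplex.ShortExact.moduleCat_exact_iff_function_exact _).2
          (rTensor_exact (P.complex.X j) he ((ModuleCat.epi_iff_surjective _).1 hS.epi_g))
        mono_f := (ModuleCat.mono_iff_injective _).2 (Module.Flat.rTensor_preserves_injective_linearMap
          (M := P.complex.X j) S.f.hom ((ModuleCat.mono_iff_injective _).1 hS.mono_f))
        epi_g := (ModuleCat.epi_iff_surjective _).2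
          (LinearMap.rTensor_surjective (P.complex.X j) ((ModuleCat.epi_iff_surjective _).1 hS.epi_g)) }
  have key : ∀ (X : ModuleCat.{u} A) (j : ℕ),
      IsZero (((Tor (ModuleCat.{u} A) j).obj X).obj N) ↔ IsZero ((C X).homology j) := fun X j =>
    Iso.isZero_iff (P.isoLeftDerivedObj (tenF X) j)
  rw [key] at h₁ h₃ ⊢
  exact (hT.homology_exact₂ i).isZero_X₂ (h₁.eq_zero_of_src _) (h₃.eq_zero_of_tgt _)

/-- The short exact sequence of a surjective linear map. -/
lemma exists_ses {A M N : Type u} [CommRing A] [AddCommGroup M] [Module A M] [AddCommGroup N] [Module A N]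
    (q : M →ₗ[A] N) (hq : Function.Surjective q) :
    (ShortComplex.mk (ModuleCat.ofHom (LinearMap.ker q).subtype) (ModuleCat.ofHom q)
      (ModuleCat.hom_ext (LinearMap.comp_ker_subtype q))).ShortExact where
  exact := (ShortComplex.ShortExact.moduleCat_exact_iff_function_exact _).2 (LinearMap.exact_subtype_ker_map q)
  mono_f := (ModuleCat.mono_iff_injective _).2 Subtype.val_injective
  epi_g := (ModuleCat.epi_iff_surjective _).2 hq

/-- Let f : B' → B be a surjective map of R-algebras with B' flat over R, g : C → B a map of R-algebras,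
P = B' ×_B C their fibre product (the equalizer of f ∘ pr₁ and g ∘ pr₂ in B' × C), S an R-algebra
and n a natural number. If Tor_i^R(C, S) = 0 for 0 < i < n and Tor_i^R(B, S) = 0 for 0 < i ≤ n, then
Tor_i^R(P, S) = 0 for 0 < i < n. Here Tor_i^R(M, S) is the i-th left derived functor of M ⊗_R − on
R-modules, evaluated at S. (The published statement asks the vanishing for B only in degrees 0 < i <
n; the published proof and the corollary following it use it in degrees 0 < i ≤ n, which this row
assumes.) -/
theorem result (R B' B C S : Type u) [CommRing R] [CommRing B'] [CommRing B]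
    [CommRing C] [CommRing S] [Algebra R B'] [Algebra R B] [Algebra R C] [Algebra R S]
    (f : B' →ₐ[R] B) (hf : Function.Surjective f) (g : C →ₐ[R] B) [Module.Flat R B'] (n : ℕ)
    (hC : ∀ i : ℕ, 0 < i → i < n →
      IsZero (((Tor (ModuleCat.{u} R) i).obj (ModuleCat.of R C)).obj (ModuleCat.of R S)))
    (hB : ∀ i : ℕ, 0 < i → i ≤ n →
      IsZero (((Tor (ModuleCat.{u} R) i).obj (ModuleCat.of R B)).obj (ModuleCat.of R S))) :
    letI P := AlgHom.equalizer (f.comp (AlgHom.fst R B' C)) (g.comp (AlgHom.snd R B' C))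
    ∀ i : ℕ, 0 < i → i < n →
      IsZero (((Tor (ModuleCat.{u} R) i).obj (ModuleCat.of R ↥P)).obj (ModuleCat.of R S)) := by
  intro i hi0 hin
  let P := AlgHom.equalizer (f.comp (AlgHom.fst R B' C)) (g.comp (AlgHom.snd R B' C))
  let pr : ↥P →ₗ[R] C := (AlgHom.snd R B' C).toLinearMap ∘ₗ P.val.toLinearMap
  have hpr : Function.Surjective pr := fun c => by
    obtain ⟨b, hb⟩ := hf (g c)
    exact ⟨⟨(b, c), hb⟩, rfl⟩
  let e : LinearMap.ker f.toLinearMap ≃ₗ[R] LinearMap.ker pr :=
    { toFun := fun b => ⟨⟨((b : B'), 0), b.2.trans (map_zero g).symm⟩, rfl⟩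
      invFun := fun p => ⟨((p : ↥P) : B' × C).1, by
        have h : f ((p : ↥P) : B' × C).1 = g ((p : ↥P) : B' × C).2 := (p : ↥P).2
        have h2 : ((p : ↥P) : B' × C).2 = 0 := p.2
        rw [h2, map_zero] at h
        exact h⟩
      map_add' := fun a b => Subtype.ext (Subtype.ext (Prod.ext rfl (add_zero _).symm))
      map_smul' := fun r a => Subtype.ext (Subtype.ext (Prod.ext rfl (smul_zero r).symm))
      left_inv := fun b => rfl
      right_inv := fun p => Subtype.ext (Subtype.ext (Prod.ext rfl (p.2 : ((p : ↥P) : B' × C).2 = 0).symm)) }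
  have hK : IsZero (((Tor (ModuleCat.{u} R) i).obj (ModuleCat.of R (LinearMap.ker f.toLinearMap))).obj
      (ModuleCat.of R S)) := by
    refine Groth.Agent.H9Misc.DRingTor.isZero_tor_first (exists_ses f.toLinearMap hf) _ i ?_
      (hB (i + 1) (by omega) (by omega))
    obtain ⟨j, rfl⟩ : ∃ j, i = j + 1 := ⟨i - 1, by omega⟩
    exact isZero_tor_succ_of_flat (ModuleCat.of R B') _ j
  have hK' : IsZero (((Tor (ModuleCat.{u} R) i).obj (ModuleCat.of R (LinearMap.ker pr))).obj
      (ModuleCat.of R S)) :=
    hK.of_iso (((Tor (ModuleCat.{u} R) i).mapIso e.symm.toModuleIso).app _)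
  exact isZero_tor_middle (exists_ses pr hpr) _ i hK' (hC i hi0 hin)

end Groth.Agent.S8710
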