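import Groth.Statements.S8715
import Groth.Agent.SGA7Tame.MaxTorusFactor
import Groth.Agent.Deform.PowTorus
import Groth.Agent.Deform.Extension
-- import your own Groth.Agent.* helpers here

set_option autoImplicit false
universe u
open CategoryTheory CategoryTheory.Limits AlgebraicGeometry MonObj
open SGA7
open MonoidalCategory CartesianMonoidalCategory

set_option backward.isDefEq.respectTransparency.types false
attribute [local instance] CategoryTheory.Hom.monoid CategoryTheory.Hom.group
attribute [-instance] CategoryTheory.catToReflQuiver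

namespace Groth.Agent.S8715

/-- Let R be a discrete valuation ring with fraction field K and closed point s, A and C commutative
group schemes over Spec R which are Néron models of their generic fibres A_K and C_K, both abelian
varieties (proper and geometrically integral over K), and u : C → A a homomorphism which is an
isogeny up to the Néron property: there are a homomorphism v : A → C and an integer n > 0 with u ∘ v
and v ∘ u both equal to multiplication by n (for Néron models of abelian varieties this is the same
as asking the generic fibre u_K to be an isogeny, since v_K extends uniquely). Let T_A → A_s and T_C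
→ C_s be maximal tori of the special fibres. Then the homomorphism u_s induced on special fibres
carries T_C into T_A through a homomorphism T_C → T_A which is an isogeny. (The companion
assertions, that u also induces isogenies on the fixed parts of the ℓ-adic Tate modules of the
generic fibres, on the ℓ-adic Tate modules of the neutral components of the special fibres, and on
the abelian parts of the special fibres over a perfect extension of the residue field, are not
stated.) -/
theorem result (R K : Type u) [CommRing R] [IsDomain R]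
    [IsDiscreteValuationRing R] [Field K] [Algebra R K] [IsFractionRing R K]
    (A C : Over (Spec (CommRingCat.of R))) [GrpObj A] [GrpObj C] [IsCommMonObj A] [IsCommMonObj C]
    (hA : SGA7.IsNeron R K A) (hC : SGA7.IsNeron R K C)
    [IsProper ((SGA7.genFib R K).obj A).hom] [GeometricallyIntegral ((SGA7.genFib R K).obj A).hom]
    [IsProper ((SGA7.genFib R K).obj C).hom] [GeometricallyIntegral ((SGA7.genFib R K).obj C).hom]
    (u : C ⟶ A) [IsMonHom u] (v : A ⟶ C) [IsMonHom v] (n : ℕ) (hn : 0 < n)
    (huv : u ≫ v = (𝟙 C : C ⟶ C) ^ n) (hvu : v ≫ u = (𝟙 A : A ⟶ A) ^ n)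
    (TA TC : Over (Spec ((Spec (CommRingCat.of R)).residueField (IsLocalRing.closedPoint R))))
    [GrpObj TA] [GrpObj TC]
    (iA : TA ⟶ Red.bc ((Spec (CommRingCat.of R)).fromSpecResidueField (IsLocalRing.closedPoint R)) A)
    (iC : TC ⟶ Red.bc ((Spec (CommRingCat.of R)).fromSpecResidueField (IsLocalRing.closedPoint R)) C)
    (hiA : Red.IsMaximalTorus iA) (hiC : Red.IsMaximalTorus iC) :
    ∃ w : TC ⟶ TA, IsMonHom w ∧ w ≫ iA = iC ≫ (Over.pullback ((Spec (CommRingCat.of R)).fromSpecResidueField (IsLocalRing.closedPoint R))).map u ∧
      SGA7.IsIsogenyOver w := by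
  let fs := (Spec (CommRingCat.of R)).fromSpecResidueField (IsLocalRing.closedPoint R)
  let As : Over (Spec (CommRingCat.of ((Spec (CommRingCat.of R)).residueField (IsLocalRing.closedPoint R)))) := Red.bc fs A
  let Cs : Over (Spec (CommRingCat.of ((Spec (CommRingCat.of R)).residueField (IsLocalRing.closedPoint R)))) := Red.bc fs C
  let us : Cs ⟶ As := (Over.pullback fs).map u
  let vs : As ⟶ Cs := (Over.pullback fs).map v
  haveI := hA.1
  haveI := hA.2.1
  haveI := hA.2.2.1
  haveI := hC.1
  haveI := hC.2.1
  haveI := hC.2.2.1
  haveI : LocallyOfFiniteType As.hom := inferInstanceAs (LocallyOfFiniteType (pullback.snd A.hom fs))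
  haveI : QuasiCompact As.hom := inferInstanceAs (QuasiCompact (pullback.snd A.hom fs))
  haveI : IsSeparated As.hom := inferInstanceAs (IsSeparated (pullback.snd A.hom fs))
  haveI : LocallyOfFiniteType Cs.hom := inferInstanceAs (LocallyOfFiniteType (pullback.snd C.hom fs))
  haveI : QuasiCompact Cs.hom := inferInstanceAs (QuasiCompact (pullback.snd C.hom fs))
  haveI : IsSeparated Cs.hom := inferInstanceAs (IsSeparated (pullback.snd C.hom fs))
  haveI : IsMonHom iA := hiA.1
  haveI : Mono iA := hiA.2.1
  haveI : IsMonHom iC := hiC.1
  haveI : Mono iC := hiC.2.1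
  haveI : IsCommMonObj As := inferInstanceAs (IsCommMonObj ((Over.pullback fs).obj A))
  haveI : IsCommMonObj Cs := inferInstanceAs (IsCommMonObj ((Over.pullback fs).obj C))
  haveI : IsMonHom us := inferInstanceAs (IsMonHom ((Over.pullback fs).map u))
  haveI : IsMonHom vs := inferInstanceAs (IsMonHom ((Over.pullback fs).map v))
  obtain ⟨w, hw⟩ := Groth.Agent.SGA7Tame.factor (G := As) iA hiA hiC.2.2.1 (iC ≫ us)
  obtain ⟨w', hw'⟩ := Groth.Agent.SGA7Tame.factor (G := Cs) iC hiC hiA.2.2.1 (iA ≫ vs)
  haveI : IsMonHom w := Groth.Agent.Deform.isMonHom_of_comp w iA (i := iC ≫ us) hw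
  haveI : IsMonHom w' := Groth.Agent.Deform.isMonHom_of_comp w' iC (i := iA ≫ vs) hw'
  have h1 : us ≫ vs = (𝟙 Cs ^ n : Cs ⟶ Cs) := by
    show (Over.pullback fs).map u ≫ (Over.pullback fs).map v = _
    rw [← Functor.map_comp, huv]
    exact Groth.Agent.Deform.Extension.pow_bc fs C n
  have h2 : vs ≫ us = (𝟙 As ^ n : As ⟶ As) := by
    show (Over.pullback fs).map v ≫ (Over.pullback fs).map u = _
    rw [← Functor.map_comp, hvu]
    exact Groth.Agent.Deform.Extension.pow_bc fs A n
  have hC' : w ≫ w' = (𝟙 TC ^ n : TC ⟶ TC) := by
    rw [← cancel_mono iC, Category.assoc, hw', reassoc_of% hw, h1]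
    exact (Groth.Agent.Deform.TorsionOrderScheme.pow_comm iC n).symm
  have hA' : w' ≫ w = (𝟙 TA ^ n : TA ⟶ TA) := by
    rw [← cancel_mono iA, Category.assoc, hw, reassoc_of% hw', h2]
    exact (Groth.Agent.Deform.TorsionOrderScheme.pow_comm iA n).symm
  refine ⟨w, inferInstance, hw, ⟨?_⟩, fun N i hN => ?_⟩
  · intro y
    obtain ⟨x, hx⟩ := (Groth.Agent.Deform.PowTorus.flat_surjective_pow (k := (Spec (CommRingCat.of R)).residueField (IsLocalRing.closedPoint R)) hiA.2.2.1 hn).2.surj y
    rw [← hA', Over.comp_left, Scheme.Hom.comp_apply] at hx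
    exact ⟨_, hx⟩
  · have hf : IsFinite (w.left ≫ w'.left) := by
      rw [← Over.comp_left, hC']
      exact Groth.Agent.Deform.Extension.isFinite_pow_multType n hn (Groth.Agent.Deform.isMultTypeFT_of_isTorus hiC.2.2.1)
    haveI : IsAffine TA.left := (Groth.Agent.Deform.TorusBasic.props (k := (Spec (CommRingCat.of R)).residueField (IsLocalRing.closedPoint R)) hiA.2.2.1).1
    haveI : IsSeparated w'.left := by
      haveI : IsSeparated (w'.left ≫ TC.hom) := by rw [Over.w w']; infer_instance
      exact IsSeparated.of_comp w'.left TC.hom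
    haveI := hf
    have hwf : IsFinite w.left := IsFinite.of_comp w.left w'.left
    have hsq := IsPullback.map (Over.forget _) hN
    have h3 : IsFinite (toUnit N).left := MorphismProperty.of_isPullback hsq hwf
    rw [← Over.w (toUnit N)]
    haveI := h3
    haveI : IsFinite (𝟙_ (Over (Spec ((Spec (CommRingCat.of R)).residueField (IsLocalRing.closedPoint R))))).hom := inferInstanceAs (IsFinite (𝟙 _))
    infer_instance

end Groth.Agent.S8715
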