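import Groth.Statements.S8723
import Groth.Agent.ArInt.Primitive
import Groth.Agent.ArInt.GeomLength
import Groth.Agent.FlatX.FibreQuasi

set_option linter.style.haveILetI false
set_option backward.isDefEq.respectTransparency false
set_option backward.isDefEq.respectTransparency.types false
set_option maxHeartbeats 1000000

set_option autoImplicit false
universe u
open CategoryTheory CategoryTheory.Limits AlgebraicGeometry
open ArSurf

open Groth.Agent


namespace Groth.Agent.S8723

/-- Let R be a discrete valuation ring with residue field k and X an integral regular scheme of Krull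
dimension 2, proper and flat over Spec R by f (a regular proper flat model whose fibres are curves).
Write X_s for the special fibre and X_sbar for its base change to an algebraic closure of k. Assume
that X_s is geometrically connected (its base change to every field extension of k is connected) and
that the multiplicities of the irreducible components of X_sbar, i.e. the lengths of the local rings
of X_sbar at its maximal points, have greatest common divisor 1 (no prime divides all of them). Then
the canonical map k -> H^0(X_s, O_{X_s}) is bijective (X is cohomologically flat over R in degree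
0). -/
theorem result (R : Type u) [CommRing R] [IsDomain R]
    [IsDiscreteValuationRing R] {X : Scheme.{u}} (f : X ⟶ Spec (CommRingCat.of R)) [IsProper f] [Flat f]
    [IsIntegral X] (hreg : ∀ x : X, IsRegularLocalRing (X.presheaf.stalk x))
    (hdim : topologicalKrullDim X = 2)
    (hconn : ∀ (K : Type u) [Field K] [Algebra (IsLocalRing.ResidueField R) K],
      ConnectedSpace ↥(pullback f (Spec.map (CommRingCat.ofHom
        ((algebraMap (IsLocalRing.ResidueField R) K).comp (IsLocalRing.residue R))))))
    (hd : letI Xb := pullback f (Spec.map (CommRingCat.ofHom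
        ((algebraMap (IsLocalRing.ResidueField R) (AlgebraicClosure (IsLocalRing.ResidueField R))).comp
          (IsLocalRing.residue R))))
      ∀ ℓ : ℕ, ℓ.Prime → ∃ x : ↥Xb, (∀ y : ↥Xb, y ⤳ x → y = x) ∧
        ¬ (ℓ ∣ (Module.length (Xb.presheaf.stalk x) (Xb.presheaf.stalk x)).toNat)) :
    Function.Bijective
      (pullback.snd f (Spec.map (CommRingCat.ofHom (IsLocalRing.residue R)))).appTop.hom := by
  classical
  let Xo : Over (Spec (CommRingCat.of R)) := Over.mk f
  haveI : ArInt.IsSurf Xo := ⟨inferInstanceAs (IsIntegral X), inferInstanceAs (IsProper f), hreg, hdim⟩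
  haveI : Flat Xo.hom := inferInstanceAs (Flat f)
  let k := IsLocalRing.ResidueField R
  let K := AlgebraicClosure k
  let jk := Spec.map (CommRingCat.ofHom (IsLocalRing.residue R))
  let a := Spec.map (CommRingCat.ofHom (algebraMap k K))
  let jK := Spec.map (CommRingCat.ofHom ((algebraMap k K).comp (IsLocalRing.residue R)))
  haveI : IsClosedImmersion jk := IsClosedImmersion.spec_of_surjective _ IsLocalRing.residue_surjective
  have hjK : jK = a ≫ jk := by
    rw [← Spec.map_comp]; rfl
  let ι := pullback.fst f jk
  let sk := pullback.snd f jk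
  let q : pullback f jK ⟶ pullback f jk :=
    pullback.lift (pullback.fst f jK) (pullback.snd f jK ≫ a) (by rw [pullback.condition, Category.assoc, hjK])
  have hq1 : q ≫ ι = pullback.fst f jK := pullback.lift_fst _ _ _
  have hq2 : q ≫ sk = pullback.snd f jK ≫ a := pullback.lift_snd _ _ _
  have hq : IsPullback q (pullback.snd f jK) sk a :=
    IsPullback.of_right (by rw [hq1, ← hjK]; exact IsPullback.of_hasPullback f jK) hq2 (IsPullback.of_hasPullback f jk)
  haveI hcK : ConnectedSpace ↥(pullback f jK) := hconn K
  haveI hck : ConnectedSpace ↥(pullback f jk) := hconn k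
  haveI : Nonempty ↥(pullback f jk) := hck.toNonempty
  -- the closed fibre
  have hrange : Set.range ι = Models.specialFibreSet R Xo := by
    rw [show Set.range ι = _ from Scheme.Pullback.range_fst f jk]
    refine congrArg (f ⁻¹' ·) (Set.ext fun t => ⟨fun ht => ?_, fun ht => ?_⟩)
    · obtain ⟨w, rfl⟩ := ht
      rw [Set.mem_singleton_iff, Subsingleton.elim w (IsLocalRing.closedPoint k)]
      exact IsLocalRing.comap_closedPoint (IsLocalRing.residue R)
    · rw [Set.mem_singleton_iff] at ht
      rw [ht]
      exact ⟨IsLocalRing.closedPoint k, IsLocalRing.comap_closedPoint (IsLocalRing.residue R)⟩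
  have hconnF : _root_.IsConnected (Models.specialFibreSet R Xo) :=
    hrange ▸ isConnected_range ι.continuous
  obtain ⟨n, Γ, hΓ⟩ := ArInt.exists_componentList (X := Xo) hconnF
  have hker : ι.ker = ArInt.fibreIdeal Xo := Scheme.IdealSheafData.ker_fst_of_isClosedImmersion jk f
  haveI : Flat a := MorLib.BF.flat_to_field (Field.toIsField k) a
  haveI : Flat q := MorphismProperty.of_isPullback hq.flip ‹Flat a›
  have hι : ∀ y z : ↥(pullback f jk), ι y ⤳ ι z ↔ y ⤳ z := fun y z => ι.isEmbedding.isInducing.specializes_iff
  -- the multiplicities divide the geometric ones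
  have hdvd : ∀ x : ↥(pullback f jK), (∀ y : ↥(pullback f jK), y ⤳ x → y = x) →
      Models.multGcd R Xo Γ ∣ (Module.length ((pullback f jK).presheaf.stalk x) ((pullback f jK).presheaf.stalk x)).toNat := by
    intro x hx
    have hmax : ∀ θ ∈ Models.specialFibreSet R Xo, θ ⤳ ι (q x) → θ = ι (q x) := fun θ hθ hs => by
      obtain ⟨w, rfl⟩ : θ ∈ Set.range ι := hrange.symm ▸ hθ
      obtain ⟨x', hx', he⟩ := Flat.generalizingMap q ((hι _ _).1 hs)
      rw [← he, hx x' hx']
    obtain ⟨i, hi⟩ : closure ({ι (q x)} : Set X) ∈ Set.range fun i => Set.range (Γ i).ι.base :=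
      hΓ.2.symm ▸ ArInt.closure_mem_fibreComponents Xo (show ι (q x) ∈ Models.specialFibreSet R Xo from hrange ▸ ⟨_, rfl⟩) hmax
    have hgen : Models.genPtOf R Xo (Γ i) = ι (q x) := by
      have h1 : closure ({Models.genPtOf R Xo (Γ i)} : Set X) = closure {ι (q x)} := (ArInt.closure_gen (Γ i)).trans hi
      exact (inseparable_iff_closure_eq.2 h1).eq
    refine dvd_trans (Finset.gcd_dvd (Finset.mem_univ i)) ?_
    rw [H9PB.length_self_flat q x, ENat.toNat_mul]
    refine Dvd.intro _ (congrArg (· * _) ?_)
    show Models.mult R Xo (Γ i) = _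
    unfold Models.mult
    rw [hgen]
    refine congrArg ENat.toNat ?_
    letI : Algebra (Xo.left.presheaf.stalk (ι (q x))) ((pullback f jk).presheaf.stalk (q x)) := (ι.stalkMap (q x)).hom.toAlgebra
    have hk : RingHom.ker (Algebra.ofId (Xo.left.presheaf.stalk (ι (q x))) ((pullback f jk).presheaf.stalk (q x))) =
        (IsLocalRing.maximalIdeal R).map (Models.stalkHom R Xo (ι (q x))) := by
      show RingHom.ker (ι.stalkMap (q x)).hom = _
      rw [FlatX.ker_stalkMap_eq_stI ι (q x), hker]
      exact ArInt.stI_fibreIdeal Xo (ι (q x))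
    let e := (Ideal.quotientEquivAlgOfEq (Xo.left.presheaf.stalk (ι (q x))) hk.symm).trans
      (Ideal.quotientKerAlgEquivOfSurjective (f := Algebra.ofId (Xo.left.presheaf.stalk (ι (q x))) ((pullback f jk).presheaf.stalk (q x)))
        (ι.stalkMap_surjective (q x)))
    exact e.toLinearEquiv.length_eq.trans (Module.length_eq_of_surjective (ι.stalkMap_surjective (q x)))
  have hg : Models.multGcd R Xo Γ = 1 := by
    by_contra h
    obtain ⟨ℓ, hℓ, hℓg⟩ := Nat.exists_prime_and_dvd h
    obtain ⟨x, hx, hn⟩ := hd ℓ hℓ
    exact hn (hℓg.trans (hdvd x hx))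
  have hF := ArInt.isFieldFinite_fibreIdeal Γ hΓ hconnF hg
  rw [← hker] at hF
  obtain ⟨hfield, hfin⟩ := hF
  -- the functions on the closed fibre
  haveI : IsIso ι.toImage := inferInstance
  have hb : Function.Bijective ι.toImage.appTop := ConcreteCategory.bijective_of_isIso _
  have hA : IsField ↑Γ(pullback f jk, ⊤) :=
    MulEquiv.isField hfield (RingEquiv.ofBijective ι.toImage.appTop.hom hb).symm.toMulEquiv
  let φ : k →+* Γ(pullback f jk, ⊤) := sk.appTop.hom.comp (Scheme.ΓSpecIso (CommRingCat.of k)).inv.hom
  have hφfin : φ.Finite := by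
    refine RingHom.Finite.of_comp_finite (f := IsLocalRing.residue R) ?_
    have h1 : φ.comp (IsLocalRing.residue R) =
        ι.toImage.appTop.hom.comp ((ι.ker.subschemeι ≫ f).appTop.hom.comp (Scheme.ΓSpecIso (CommRingCat.of R)).inv.hom) := by
      refine Eq.trans ?_ (ArInt.structureMap_comp (X := Xo) ι.toImage ι.ker.subschemeι ι ι.toImage_imageι).symm
      show _ = ((ι ≫ f).appTop).hom.comp _
      rw [show ι ≫ f = sk ≫ jk from pullback.condition, Scheme.Hom.comp_appTop, CommRingCat.hom_comp,
        RingHom.comp_assoc, RingHom.comp_assoc]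
      congr 1
      exact (congrArg CommRingCat.Hom.hom (Scheme.ΓSpecIso_inv_naturality (CommRingCat.ofHom (IsLocalRing.residue R)))).trans rfl
    rw [h1]
    exact (RingHom.Finite.of_surjective _ hb.2).comp hfin
  letI := φ.toAlgebra
  haveI : Module.Finite k Γ(pullback f jk, ⊤) := hφfin
  haveI : Nontrivial Γ(pullback f jk, ⊤) := ⟨hA.exists_pair_ne⟩
  have hone : Module.finrank k Γ(pullback f jk, ⊤) = 1 := by
    by_contra h
    obtain ⟨ℓ, hℓ, hℓd⟩ := Nat.exists_prime_and_dvd h
    obtain ⟨x, hx, hn⟩ := hd ℓ hℓ
    obtain ⟨L, hL⟩ := ArInt.exists_length_eq_mul hq hA hφfin x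
    refine hn ?_
    rw [hL, ENat.toNat_mul, ENat.toNat_natCast]
    exact hℓd.trans (dvd_mul_right _ _)
  have hbij : Function.Bijective (algebraMap k Γ(pullback f jk, ⊤)) := by
    haveI : Module.Free k Γ(pullback f jk, ⊤) := Module.Free.of_divisionRing _ _
    exact bijective_algebraMap_of_linearEquiv (LinearEquiv.ofFinrankEq k Γ(pullback f jk, ⊤) ((Module.finrank_self k).trans hone.symm))
  have he : Function.Bijective (Scheme.ΓSpecIso (CommRingCat.of k)).inv.hom :=
    ConcreteCategory.bijective_of_isIso _
  show Function.Bijective sk.appTop.hom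
  exact (Function.Bijective.of_comp_iff _ he).1 hbij

end Groth.Agent.S8723
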