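import Groth.Statements.S8725
import Groth.Agent.EtLC12.GaLinear
-- import your own Groth.Agent.* helpers here

set_option autoImplicit false
universe u
open CategoryTheory CategoryTheory.Limits AlgebraicGeometry
open SGA7II


namespace Groth.Agent.S8725

/-- In the form statable without the Frobenius action: let k be a separably closed field of
characteristic p > 0 and X a proper k-scheme. Then for every i the etale cohomology group H^i(X_et,
Z/p) is finite, of order at most p^(dim_k H^i(X, O_X)). (The published statement identifies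
H^i(X_et, Z/p) with the Frobenius-fixed vectors of H^i(X, O_X); this row states only the resulting
finiteness and order bound.) -/
theorem result (k : Type u) [Field k] [IsSepClosed k] (p : ℕ)
    [Fact p.Prime] [CharP k p] (X : Scheme.{u}) [X.Over (Spec (CommRingCat.of k))]
    [IsProper (X ↘ Spec (CommRingCat.of k))] (i : ℕ) :
    Finite (EtCoh.H X (EtCoh.const X (ZMod p)) i) ∧
      Nat.card (EtCoh.H X (EtCoh.const X (ZMod p)) i) ≤
        p ^ Module.finrank k (Coh.HH X (Coh.structureModule X) i) := by
  let f : X ⟶ Spec (CommRingCat.of k) := X ↘ Spec (CommRingCat.of k)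
  haveI : IsProper f := ‹IsProper (X ↘ Spec (CommRingCat.of k))›
  have h0 : (p : Γ(X, ⊤)) = 0 := by
    have h := congrArg (Coh.toGlobal f) (CharP.cast_eq_zero k p)
    rwa [map_natCast, map_zero] at h
  haveI : IsLocallyNoetherian X := LocallyOfFiniteType.isLocallyNoetherian f
  haveI : Module.Finite k (Coh.HH X (Coh.structureModule X) i) :=
    Groth.Agent.S0002.result k X _ Groth.Agent.QCoh.isCoh_structureModule' i
  obtain ⟨ε, hε⟩ := Groth.Agent.EtLC12.GaLinear.exists_equiv X i
  let fr := Groth.Agent.EtLC12.GaLinear.frobGa p h0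
  let T : Coh.HH X (Coh.structureModule X) i →+ Coh.HH X (Coh.structureModule X) i :=
    (ε.toAddMonoidHom.comp (Sheaf.H.map fr i)).comp ε.symm.toAddMonoidHom
  have hT' : ∀ y, T (ε y) = ε (Sheaf.H.map fr i y) := fun y =>
    congrArg (fun t => ε (Sheaf.H.map fr i t)) (ε.symm_apply_apply y)
  have hT : ∀ (c : k) m, T (c • m) = c ^ p • T m := fun c m => by
    obtain ⟨x, rfl⟩ := ε.surjective m
    let a := Coh.toGlobal (X ↘ Spec (CommRingCat.of k)) c
    have h1 : c • ε x = ε (Sheaf.H.map (Groth.Agent.EtLC12.GaLinear.mulGa a) i x) := (hε a x).symm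
    rw [h1, hT', hT', ← Sheaf.H.map_comp_apply, Groth.Agent.EtLC12.GaLinear.mulGa_frobGa, Sheaf.H.map_comp_apply, hε]
    show Sheaf.H.map (Coh.smulAb _ (a ^ p)) i _ = Sheaf.H.map (Coh.smulAb _ (Coh.toGlobal _ (c ^ p))) i _
    rw [map_pow]
  obtain ⟨hfin, hcard⟩ := Groth.Agent.LangLib.fixed_finite p T hT
  haveI : Finite {v | T v = v} := hfin.to_subtype
  let A := Groth.Agent.EtLC12.ArtinSchreier.as p h0
  have hS := Groth.Agent.EtLC12.ArtinSchreier.shortExact_kernel p h0
  let e := ((EtCoh.HF X i).mapIso (asIso (Groth.Agent.EtLC12.ArtinSchreier.constToKer p h0))).addCommGroupIsoToAddEquiv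
  have hcomp : ∀ x, Sheaf.H.map fr i (Sheaf.H.map (kernel.ι A) i x) = Sheaf.H.map (kernel.ι A) i x := fun x => by
    rw [← Sheaf.H.map_comp_apply]
    show Sheaf.H.map (kernel.ι A ≫ (A + 𝟙 _)) i x = _
    rw [Preadditive.comp_add, kernel.condition, zero_add, Category.comp_id]
  let φ : Sheaf.H (kernel A) i → {v | T v = v} := fun x =>
    ⟨ε (Sheaf.H.map (kernel.ι A) i x), (hT' _).trans (congrArg ε (hcomp x))⟩
  have hφ : Function.Injective φ := fun x y h => by
    have h2 : Sheaf.H.map (kernel.ι A) i x = Sheaf.H.map (kernel.ι A) i y := ε.injective (congrArg Subtype.val h)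
    have h' : Sheaf.H.map (kernel.ι A) i (x - y) = 0 := by
      exact (map_sub (Sheaf.H.map (kernel.ι A) i) x y).trans (sub_eq_zero.2 h2)
    rw [← sub_eq_zero]
    cases i with
    | zero =>
      haveI := hS.mono_f
      let hX := EtCore.topIsTerminal X
      apply (Sheaf.H.equiv₀ _ hX).injective
      rw [map_zero]
      refine SiteBase.sheaf_app_injective (kernel.ι A) _ ?_
      rw [map_zero]
      refine (Sheaf.H.equiv₀_naturality hX (kernel.ι A) _).trans ?_
      exact (congrArg _ h').trans (map_zero _)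
    | succ n =>
      obtain ⟨z, hz⟩ := Abelian.Ext.covariant_sequence_exact₁ _ hS (x - y) h' (rfl : n + 1 = n + 1)
      obtain ⟨w, rfl⟩ := Groth.Agent.EtLC12.GaLinear.as_surjective p f h0 n z
      rw [← hz, Sheaf.H.map_apply, Abelian.Ext.comp_assoc_of_second_deg_zero]
      exact (congrArg (fun t => Abelian.Ext.comp w t rfl) hS.comp_extClass).trans (Abelian.Ext.comp_zero _ _ _ _ _)
  have hinj : Function.Injective (fun z => φ (e z)) := fun a b h => e.injective (hφ h)
  exact ⟨Finite.of_injective _ hinj, le_trans (Nat.card_le_card_of_injective _ hinj) hcard⟩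

end Groth.Agent.S8725
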