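import Groth.Statements.S8734
import Groth.Agent.PnEuler.BottDim
-- import your own Groth.Agent.* helpers here

set_option autoImplicit false
universe u
open CategoryTheory CategoryTheory.Limits AlgebraicGeometry
open LefPen

namespace Groth.Agent.S8734

/-- Over a field: let k be a field, r >= 1, P = P^r_k, Ω = Ω^1_{P/k}, L an O_P-module which is a j-th
exterior power of Ω, and n a nonzero integer; write L(n) = L ⊗ O_P(n). Then H^i(P, L(n)) = H^i(P^r,
Ω^j(n)) is zero unless either i = 0 and n > j, or i = r and n < j - r. -/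
theorem result (k : Type u) [Field k] (r : ℕ) (hr : 1 ≤ r) (j : ℕ)
    (L : (CohB1.ProjSpace r k).Modules)
    (hL : ExtPow.IsExtPow j (Omega.sheaf (CohB1.ProjSpace.toSpec r k)) L) (n : ℤ) (hn : n ≠ 0) (i : ℕ)
    (h0 : ¬ (i = 0 ∧ (j : ℤ) < n)) (hr' : ¬ (i = r ∧ n < (j : ℤ) - r)) :
    Subsingleton (Coh.HH (CohB1.ProjSpace r k)
      (CohB1.tensorMod L (Twist.twistProjSpace r k n)) i) := by
  haveI := Groth.Agent.ExtShX.DetPn.quasiSeparated_toSpec r k
  obtain ⟨e⟩ := Groth.Agent.PnEuler.nonempty_Om_iso r k hL n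
  refine Groth.Agent.QCoh.subsingleton_HH_of_iso e i ?_
  rcases Nat.lt_or_ge r j with hj | hj
  · exact Groth.Agent.PnEuler.subsingleton_Om_of_lt r k hj n i
  rcases lt_or_gt_of_ne hn with hneg | hpos
  · rcases lt_trichotomy i r with h | h | h
    · exact Groth.Agent.PnEuler.subsingleton_Om_neg r k n hneg j i h
    · subst h
      obtain ⟨m, rfl⟩ : ∃ m : ℕ, n = -(m : ℤ) := ⟨n.natAbs, by omega⟩
      obtain ⟨hf, hd⟩ := Groth.Agent.PnEuler.finrank_Om_top i k hr j m hj (by omega)
      haveI := hf
      rw [Nat.choose_eq_zero_of_lt (show m - 1 < i - j by omega), mul_zero] at hd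
      exact Module.finrank_zero_iff.1 hd
    · exact Groth.Agent.PnEuler.subsingleton_Om_top r k n j i h
  · rcases Nat.eq_zero_or_pos i with h | h
    · subst h
      rcases lt_or_eq_of_le (show n ≤ (j : ℤ) by omega) with h | h
      · exact Groth.Agent.PnEuler.subsingleton_Om_h0 r k hr n j h
      · subst h
        obtain ⟨hf, hd⟩ := Groth.Agent.PnEuler.finrank_Om_h0 r k j j hj le_rfl (by omega)
        haveI := hf
        rw [Nat.choose_eq_zero_of_lt (show j - 1 < j by omega), mul_zero] at hd
        exact Module.finrank_zero_iff.1 hd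
    · exact Groth.Agent.PnEuler.subsingleton_Om_pos r k n hpos j i h

end Groth.Agent.S8734
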