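import Groth.Statements.S8796
import Groth.Agent.H6Boot.Basic
-- import your own Groth.Agent.* helpers here

set_option autoImplicit false
universe u
open CategoryTheory
open Dual2

namespace Groth.Agent.S8796

/-- Let A be a Noetherian ring with a dualizing complex, I an ideal with cd(A, I) ≤ d, M a finite
A-module, T ⊆ V(I) a subset stable under specialization and s a natural, satisfying: (4) for primes
p ⊆ r ⊆ q with p ∉ V(I), r ∈ V(I) ∖ T and q ∈ T, either depth(M_p) ≥ s or depth(M_p) + dim((A/p)_q)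
> d + s; (6) for q ∈ T, writing A', I', M' for the I-adic completions of A_q, IA_q, M_q, one has
depth(M'_{p'}) > s for every prime p' of A' not containing I' such that the only primes containing
both p' and I' are maximal. Let p ⊆ q be primes with p ∉ V(I) and q ∈ T such that no prime r with p
⊆ r ⊆ q lies in V(I) ∖ T. Then depth(M_p) > s. -/
theorem result (A : Type u) [CommRing A] [IsNoetherianRing A] (hdc : ∃ ω : Dual.D A, Dual.IsDualizing A ω) (I : Ideal A) (d : ℕ) (hcd : LocCoh.CdLE A I d) (M : Type u) [AddCommGroup M] [Module A M] [Module.Finite A M] (T : Set (PrimeSpectrum A)) (hTI : T ⊆ PrimeSpectrum.zeroLocus (I : Set A)) (hT : StableUnderSpecialization T) (s : ℕ) (h4 : ∀ p r q : PrimeSpectrum A, p ≤ r → r ≤ q → ¬ I ≤ p.asIdeal → I ≤ r.asIdeal → r ∉ T → q ∈ T → (s : ℕ∞) ≤ LocCoh.depth (Localization.AtPrime p.asIdeal) (LocalizedModule p.asIdeal.primeCompl M) ∨ ((d + s : ℕ) : WithBot ℕ∞) < (LocCoh.depth (Localization.AtPrime p.asIdeal) (LocalizedModule p.asIdeal.primeCompl M)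 : WithBot ℕ∞) + Formal2.dimBetween A p.asIdeal q.asIdeal) (h6 : ∀ q : PrimeSpectrum A, q ∈ T → ∀ p' : PrimeSpectrum (AdicCompletion (I.map (algebraMap A (Localization.AtPrime q.asIdeal))) (Localization.AtPrime q.asIdeal)), ¬ (I.map (algebraMap A (AdicCompletion (I.map (algebraMap A (Localization.AtPrime q.asIdeal))) (Localization.AtPrime q.asIdeal)))) ≤ p'.asIdeal → (∀ q' : PrimeSpectrum (AdicCompletion (I.map (algebraMap A (Localization.AtPrime q.asIdeal))) (Localization.AtPrime q.asIdeal)), p' ≤ q' → (I.map (algebraMap A (AdicCompletion (I.map (algebraMap A (Localization.AtPrime q.asIdeal))) (Localization.AtPrime q.asIdeal)))) ≤ q'.asIdeal → q'.asIdeal.IsMaximal) → (s : ℕ∞) < LocCoh.depth (Localization.AtPrime p'.asIdeal) (LocalizedModule p'.asIdeal.primeCompl (AdicCompletion (I.map (algebraMap A (Localization.AtPrime q.asIdeal))) (LocalizedModule q.asIdeal.primeCompl M)))) (p q : PrimeSpectrum A) (hpq : p ≤ q) (hp : ¬ I ≤ p.asIdeal) (hq : q ∈ T) (hr : ∀ r : PrimeSpectrum A, p ≤ r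 → r ≤ q → I ≤ r.asIdeal → r ∈ T) : (s : ℕ∞) < LocCoh.depth (Localization.AtPrime p.asIdeal) (LocalizedModule p.asIdeal.primeCompl M) := by
  classical
  obtain ⟨r₀, hr₀, hr₀q⟩ := Ideal.exists_minimalPrimes_le (show p.asIdeal ⊔ I ≤ q.asIdeal from
    sup_le hpq (hTI hq))
  haveI := hr₀.1.1
  let r : PrimeSpectrum A := ⟨r₀, hr₀.1.1⟩
  have hpr : p ≤ r := le_sup_left.trans hr₀.1.2
  have hIr : I ≤ r.asIdeal := le_sup_right.trans hr₀.1.2
  have hrT : r ∈ T := hr r hpr hr₀q hIr
  let Ar := Localization.AtPrime r.asIdeal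
  let J : Ideal Ar := I.map (algebraMap A Ar)
  let B := AdicCompletion J Ar
  haveI : IsNoetherianRing Ar := IsLocalization.isNoetherianRing r.asIdeal.primeCompl Ar inferInstance
  haveI : IsNoetherianRing B := FComplLib.isNoetherianRing_adicCompletion _
  have hfg : J.FG := IsNoetherian.noetherian J
  have hJm : J ≤ IsLocalRing.maximalIdeal Ar := by
    rw [← Localization.AtPrime.map_eq_maximalIdeal]
    exact Ideal.map_mono hIr
  haveI hmB := AdicCompletion.isMaximal_map_of_le J (IsLocalRing.maximalIdeal Ar) hJm hfg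
  haveI : Module.FaithfullyFlat Ar B :=
    { submodule_ne_top := fun m hm h => hmB.ne_top (by
        obtain rfl := IsLocalRing.eq_maximalIdeal hm
        rw [Ideal.smul_top_eq_map] at h
        exact (Submodule.restrictScalars_eq_top_iff Ar B B).1 h) }
  let P : Ideal Ar := p.asIdeal.map (algebraMap A Ar)
  have hdisj : Disjoint (r.asIdeal.primeCompl : Set A) (p.asIdeal : Set A) :=
    Set.disjoint_left.2 fun x hx hx' => hx (hpr hx')
  haveI hP : P.IsPrime := IsLocalization.isPrime_of_isPrime_disjoint r.asIdeal.primeCompl Ar _ p.isPrime hdisj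
  have hPc : P.comap (algebraMap A Ar) = p.asIdeal :=
    IsLocalization.under_map_of_isPrime_disjoint r.asIdeal.primeCompl Ar p.isPrime hdisj
  obtain ⟨P', hP', hcomap, hmin⟩ := H6Boot.exists_minimal_over (B := B) P
  haveI := hP'
  have hIB : I.map (algebraMap A B) = J.map (algebraMap Ar B) := by
    rw [Ideal.map_map, ← IsScalarTower.algebraMap_eq]
  have hnot : ¬ I.map (algebraMap A B) ≤ P' := by
    rw [hIB, Ideal.map_le_iff_le_comap, hcomap, Ideal.map_le_iff_le_comap, hPc]
    exact hp
  have hmax : ∀ q' : PrimeSpectrum B, (⟨P', hP'⟩ : PrimeSpectrum B) ≤ q' →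
      I.map (algebraMap A B) ≤ q'.asIdeal → q'.asIdeal.IsMaximal := by
    intro q' hle hIq
    rw [hIB, Ideal.map_le_iff_le_comap] at hIq
    let Q := q'.asIdeal.comap (algebraMap Ar B)
    have hQr : Q.comap (algebraMap A Ar) ≤ r₀ := fun x hx => by
      by_contra hxr
      exact (inferInstance : Q.IsPrime).ne_top
        (Ideal.eq_top_of_isUnit_mem _ hx (IsLocalization.map_units Ar (⟨x, hxr⟩ : r.asIdeal.primeCompl)))
    have hge : r₀ ≤ Q.comap (algebraMap A Ar) := hr₀.2 ⟨inferInstance, sup_le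
      (hPc ▸ Ideal.comap_mono (hcomap ▸ Ideal.comap_mono hle)) (Ideal.map_le_iff_le_comap.1 hIq)⟩ hQr
    have hm : (IsLocalRing.maximalIdeal Ar).map (algebraMap Ar B) ≤ q'.asIdeal := by
      rw [Ideal.map_le_iff_le_comap, ← Localization.AtPrime.map_eq_maximalIdeal, Ideal.map_le_iff_le_comap]
      exact hge
    exact (hmB.eq_of_le q'.isPrime.ne_top hm) ▸ hmB
  have h := h6 r hrT ⟨P', hP'⟩ hnot hmax
  let Mr := LocalizedModule r.asIdeal.primeCompl M
  haveI : Module.Finite Ar Mr := Module.Finite.of_isLocalizedModule r.asIdeal.primeCompl (LocalizedModule.mkLinearMap _ M)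
  have hbc : IsBaseChange B (AdicCompletion.of J Mr) :=
    IsBaseChange.of_equiv (AdicCompletion.ofTensorProductEquivOfFiniteNoetherian J Mr) fun x => by
      show AdicCompletion.ofTensorProduct J Mr (1 ⊗ₜ x) = _
      simp
  refine lt_of_lt_of_eq h ((H6Boot.depth_minimal_fibre hbc P P' hcomap hmin).trans ?_)
  rw [Alg6.depth_locLoc]
  have key : ∀ a b : PrimeSpectrum A, a = b → LocCoh.depth (Localization.AtPrime a.asIdeal) (LocalizedModule a.asIdeal.primeCompl M) =
      LocCoh.depth (Localization.AtPrime b.asIdeal) (LocalizedModule b.asIdeal.primeCompl M) := fun a b h => h ▸ rfl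
  exact key ⟨P.comap (algebraMap A Ar), Ideal.IsPrime.comap _⟩ p (PrimeSpectrum.ext hPc)

end Groth.Agent.S8796
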