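import Groth.Statements.S8799
import Groth.Agent.LC.TopDim

set_option autoImplicit false
universe u
open CategoryTheory Opposite
open LocCoh

namespace Groth.Agent.S8799

open Opposite in
lemma key {A : Type u} [CommRing A] (X : ℕᵒᵖ ⥤ ModuleCat.{u} A) (M : ModuleCat.{u} A)
    (c : (Functor.const ℕᵒᵖ).obj M ⟶ X) [IsArtinian A M] (hX : ∀ n : ℕ, IsArtinian A (X.obj (op n)))
    (hinj : ∀ x : M, (∀ n : ℕᵒᵖ, c.app n x = 0) → x = 0)
    (hsurj : ∀ y : (∀ n : ℕ, X.obj (op n)), (∀ (n m : ℕ) (h : n ≤ m), X.map (homOfLE h).op (y m) = y n) →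
      ∃ x : M, ∀ n : ℕ, c.app (op n) x = y n) :
    DerCA.IsEssConstant X M c := by
  let t : ∀ {n m : ℕ}, n ≤ m → (X.obj (op m) →ₗ[A] X.obj (op n)) := fun h => (ARSys.tr X h).hom
  let C : ∀ n : ℕ, M →ₗ[A] X.obj (op n) := fun n => (c.app (op n)).hom
  have tc : ∀ {n m : ℕ} (h : n ≤ m) (x : M), t h (C m x) = C n x := fun {n m} h x =>
    (congrArg (fun g => g.hom x) (c.naturality (homOfLE h).op)).symm
  have tt : ∀ {n m k : ℕ} (h : n ≤ m) (h' : m ≤ k) (x : X.obj (op k)), t h (t h' x) = t (h.trans h') x :=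
    fun {n m k} h h' x => (congrArg (fun g => g.hom x) (X.map_comp (homOfLE h').op (homOfLE h).op)).symm
  -- the images stabilise
  have hst : ∀ n, ∃ r, ∀ (s : ℕ) (hs : n + r ≤ s), LinearMap.range (t (show n ≤ n + r by omega)) ≤
      LinearMap.range (t (show n ≤ s by omega)) := fun n => by
    haveI := hX n
    let g : ℕ → Submodule A (X.obj (op n)) := fun s => LinearMap.range (t (show n ≤ n + s by omega))
    have hmono : ∀ r s : ℕ, r ≤ s → g s ≤ g r := by
      rintro r s h _ ⟨x, rfl⟩
      exact ⟨t (show n + r ≤ n + s by omega) x, tt _ _ x⟩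
    obtain ⟨r, hr⟩ := IsArtinian.monotone_stabilizes (R := A) (M := X.obj (op n))
      ⟨fun s => OrderDual.toDual (g s), fun a b h => hmono a b h⟩
    refine ⟨r, fun s hs => ?_⟩
    obtain ⟨d, rfl⟩ : ∃ d, s = n + (r + d) := ⟨s - n - r, by omega⟩
    exact le_of_eq (hr (r + d) (Nat.le_add_right _ _))
  choose r hr using hst
  -- elements of the stable image
  let St : ∀ n, X.obj (op n) → Prop := fun n z => ∃ w, t (show n ≤ n + r n by omega) w = z
  have hlift : ∀ (n : ℕ) (z), St n z → ∃ z', St (n + 1) z' ∧ t (Nat.le_succ n) z' = z := by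
    rintro n z hz
    obtain ⟨w, hw⟩ := hr n (max (n + r n) (n + 1 + r (n + 1))) (le_max_left _ _) hz
    refine ⟨t (show n + 1 ≤ max (n + r n) (n + 1 + r (n + 1)) by omega) w,
      ⟨t (show n + 1 + r (n + 1) ≤ max (n + r n) (n + 1 + r (n + 1)) by omega) w, tt _ _ w⟩, ?_⟩
    rw [tt]; exact hw
  have himg : ∀ (n : ℕ) (z), St n z → ∃ x, C n x = z := by
    intro n z hz
    let seq : ∀ k, {w : X.obj (op (n + k)) // St (n + k) w} := fun k =>
      Nat.rec ⟨z, hz⟩ (fun k w => ⟨_, (hlift _ _ w.2).choose_spec.1⟩) k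
    have hseq : ∀ (k l : ℕ) (h : k ≤ l), t (show n + k ≤ n + l by omega) (seq l).1 = (seq k).1 := by
      intro k l h
      induction l, h using Nat.le_induction with
      | base => exact congrArg (fun g => g.hom (seq k).1) (X.map_id (op (n + k)))
      | succ l h ih =>
        rw [← tt (show n + k ≤ n + l by omega) (show n + l ≤ n + (l + 1) by omega)]
        refine Eq.trans (congrArg _ ?_) ih
        exact (hlift _ _ (seq l).2).choose_spec.2
    obtain ⟨x, hx⟩ := hsurj (fun m => t (show m ≤ n + m by omega) (seq m).1) fun a b h => by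
      show t h (t _ _) = t _ _
      rw [tt, ← hseq a b h, tt]
    refine ⟨x, (hx n).trans ?_⟩
    show t _ _ = z
    exact hseq 0 n (Nat.zero_le _)
  -- the kernels stabilise
  obtain ⟨i, hi⟩ := IsArtinian.monotone_stabilizes (R := A) (M := M)
    ⟨fun n => OrderDual.toDual (LinearMap.ker (C n)), fun a b h => fun x (hx : C b x = 0) => by
      show C a x = 0
      rw [← tc h x, hx, map_zero]⟩
  have hCi : Function.Injective (C i) := (injective_iff_map_eq_zero _).2 fun x hx => hinj x fun n => by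
    obtain ⟨n⟩ := n
    show C n x = 0
    rcases le_total n i with h | h
    · rw [← tc h x, hx, map_zero]
    · have hk : LinearMap.ker (C i) = LinearMap.ker (C n) := hi n h
      exact LinearMap.mem_ker.1 (hk ▸ (show x ∈ LinearMap.ker (C i) from hx))
  -- the splitting
  let j := i + r i
  let e : M ≃ₗ[A] LinearMap.range (C i) := LinearEquiv.ofInjective _ hCi
  let s : X.obj (op j) →ₗ[A] M := e.symm.toLinearMap ∘ₗ
    (t (show i ≤ j by omega)).codRestrict _ (fun w => himg i _ ⟨w, rfl⟩)
  have hs : ∀ w, C i (s w) = t (show i ≤ j by omega) w := fun w => by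
    show C i (e.symm _) = _
    exact congrArg Subtype.val (e.apply_symm_apply ⟨t (show i ≤ j by omega) w, himg i _ ⟨w, rfl⟩⟩)
  refine ⟨j, ModuleCat.ofHom s, ?_, fun m => ?_⟩
  · ext x
    exact hCi ((hs (C j x)).trans (tc _ x))
  · refine ⟨max j m + r (max j m), by omega, by omega, ?_⟩
    ext w
    obtain ⟨x, hx⟩ := himg (max j m) _ ⟨w, rfl⟩
    have e1 : ∀ {a : ℕ} (h : a ≤ max j m), t (show a ≤ max j m + r (max j m) by omega) w = C a x := fun h => by
      rw [← tc h x, hx, tt]
    show t _ w = C m (s (t _ w))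
    rw [e1 (le_max_right j m), e1 (le_max_left j m)]
    congr 1
    exact (hCi ((hs (C j x)).trans (tc _ x))).symm

/-- Let (A, m) be a Noetherian local ring, (M_n) an inverse system of finite A-modules, and M a finite
A-module with a compatible system of maps M → M_n. Suppose that for some i the induced map H^i_m(M)
→ lim H^i_m(M_n) on local cohomology is bijective, in the sense that an element of H^i_m(M)
vanishing in every H^i_m(M_n) is zero and every compatible family in the H^i_m(M_n) comes from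
H^i_m(M). We conclude that, taking the cone formed by the given maps, essential constancy holds for
the local cohomology system (H^i_m(M_n))_n, and the value it stabilizes at is H^i_m(M). -/
theorem result (A : Type u) [CommRing A] [IsNoetherianRing A] [IsLocalRing A] (Msys : ℕᵒᵖ ⥤ ModuleCat.{u} A) (hfin : ∀ n : ℕᵒᵖ, Module.Finite A (Msys.obj n)) (M : Type u) [AddCommGroup M] [Module A M] [Module.Finite A M] (c : (Functor.const ℕᵒᵖ).obj (ModuleCat.of A M) ⟶ Msys) (i : ℕ) (Hc : (Functor.const ℕᵒᵖ).obj ((localCohomology (IsLocalRing.maximalIdeal A) i).obj (ModuleCat.of A M)) ⟶ Msys ⋙ localCohomology (IsLocalRing.maximalIdeal A) i) (hHc : ∀ n : ℕᵒᵖ, Hc.app n = (localCohomology (IsLocalRing.maximalIdeal A) i).map (c.app n)) (hinj : ∀ x : (localCohomology (IsLocalRing.maximalIdeal A) i).obj (ModuleCat.of A M), (∀ n : ℕᵒᵖ, (Hc.app n) x = 0) → x = 0) (hsurj : ∀ y : (∀ n : ℕ, (localCohomology (IsLocalRing.maximalIdeal A) i).obj (Msys.obj (op n))), (∀ (n m : ℕ) (h : n ≤ m), ((localCohomology (IsLocalRing.maximalIdeal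 A) i).map (Msys.map (homOfLE h).op)) (y m) = y n) → ∃ x : (localCohomology (IsLocalRing.maximalIdeal A) i).obj (ModuleCat.of A M), ∀ n : ℕ, (Hc.app (op n)) x = y n) : DerCA.IsEssConstant (Msys ⋙ localCohomology (IsLocalRing.maximalIdeal A) i) ((localCohomology (IsLocalRing.maximalIdeal A) i).obj (ModuleCat.of A M)) Hc := by
  haveI : IsArtinian A ((localCohomology (IsLocalRing.maximalIdeal A) i).obj (ModuleCat.of A M)) :=
    Groth.Agent.LC.isArtinian_H (R := A) i (ModuleCat.of A M)
  exact key _ _ Hc (fun n => haveI := hfin (Opposite.op n); Groth.Agent.LC.isArtinian_H (R := A) i (Msys.obj _)) hinj hsurj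

end Groth.Agent.S8799
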