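import Groth.Statements.S8806
import Groth.Agent.NLJac.Basic

set_option autoImplicit false
universe u
open CategoryTheory
attribute [local instance] HasDerivedCategory.standard
open LCI

namespace Groth.Agent.S8806

open Groth.Agent.Synt29 in
attribute [local instance] HasDerivedCategory.standard in
theorem main (A : Type u) [CommRing A] (n m : ℕ) (hmn : m ≤ n) (f : Fin m → MvPolynomial (Fin n) A) :
    ∃ (P : Type u) (_ : AddCommGroup P) (_ : Module (MvPolynomial (Fin n) A ⧸ Ideal.span (Set.range f)) P)
      (_ : Module.Projective (MvPolynomial (Fin n) A ⧸ Ideal.span (Set.range f)) P)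
      (u : LCI.NL A (MvPolynomial (Fin n) A ⧸ Ideal.span (Set.range f)) ⟶
        DRing.toD (twoTerm (0 : PUnit.{u + 1} →ₗ[MvPolynomial (Fin n) A ⧸ Ideal.span (Set.range f)] P)))
      (v : DRing.toD (twoTerm (0 : PUnit.{u + 1} →ₗ[MvPolynomial (Fin n) A ⧸ Ideal.span (Set.range f)] P)) ⟶
        LCI.NL A (MvPolynomial (Fin n) A ⧸ Ideal.span (Set.range f))),
      (Ideal.Quotient.mk (Ideal.span (Set.range f)) (Matrix.det (Matrix.of (fun i j : Fin m =>
        MvPolynomial.pderiv (Fin.castLE hmn i) (f j))))) •
          𝟙 (LCI.NL A (MvPolynomial (Fin n) A ⧸ Ideal.span (Set.range f))) = u ≫ v ∧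
      (n = m → u = 0) := by
  classical
  let B := MvPolynomial (Fin n) A ⧸ Ideal.span (Set.range f)
  let π := Ideal.Quotient.mk (Ideal.span (Set.range f))
  let val : ULift.{u} (Fin n) → B := fun i => π (MvPolynomial.X i.down)
  have hval : ∀ p, MvPolynomial.aeval val (MvPolynomial.rename ULift.up p) = π p := fun p => by
    rw [MvPolynomial.aeval_rename]
    exact DFunLike.congr_fun (MvPolynomial.algHom_ext (f := MvPolynomial.aeval (val ∘ ULift.up))
      (g := Ideal.Quotient.mkₐ A (Ideal.span (Set.range f))) fun i => by rw [MvPolynomial.aeval_X]; rfl) p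
  let P := Algebra.Generators.ofSurjective val fun b => by
    obtain ⟨p, rfl⟩ := Ideal.Quotient.mk_surjective b
    exact ⟨_, hval p⟩
  let d := P.toExtension.cotangentComplex
  let g : Fin m → P.toExtension.Ring := fun j => MvPolynomial.rename ULift.up (f j)
  have hg : ∀ j, g j ∈ P.toExtension.ker := fun j => by
    show algebraMap P.Ring B (g j) = 0
    rw [P.algebraMap_apply]
    exact (hval (f j)).trans (Ideal.Quotient.eq_zero_iff_mem.2 (Ideal.subset_span ⟨j, rfl⟩))
  let c : Fin m → P.toExtension.Cotangent := fun j => Algebra.Extension.Cotangent.mk ⟨g j, hg j⟩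
  have hspan : ∀ x, x ∈ Submodule.span B (Set.range c) := by
    intro x
    obtain ⟨⟨y, hy⟩, rfl⟩ := Algebra.Extension.Cotangent.mk_surjective x
    obtain ⟨p, rfl⟩ := (MvPolynomial.renameEquiv A Equiv.ulift.symm).surjective y
    have hp : p ∈ Ideal.span (Set.range f) := by
      have : MvPolynomial.aeval val (MvPolynomial.rename ULift.up p) = 0 := hy
      rw [hval] at this
      exact Ideal.Quotient.eq_zero_iff_mem.1 this
    induction hp using Submodule.span_induction with
    | mem p hp => obtain ⟨j, rfl⟩ := hp; exact Submodule.subset_span ⟨j, rfl⟩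
    | zero =>
      convert Submodule.zero_mem _
      rw [← map_zero (Algebra.Extension.Cotangent.mk (P := P.toExtension))]
      exact congrArg _ (Subtype.ext (map_zero _))
    | add p q hp' hq' hp hq =>
      convert Submodule.add_mem _ (hp ?_) (hq ?_) using 1
      · rw [← map_add]; exact congrArg _ (Subtype.ext (map_add _ _ _))
      · show MvPolynomial.aeval val _ = 0
        exact (hval p).trans (Ideal.Quotient.eq_zero_iff_mem.2 hp')
      · show MvPolynomial.aeval val _ = 0
        exact (hval q).trans (Ideal.Quotient.eq_zero_iff_mem.2 hq')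
    | smul r p hp' hp =>
      have hker : MvPolynomial.renameEquiv A Equiv.ulift.symm p ∈ P.toExtension.ker :=
        (hval p).trans (Ideal.Quotient.eq_zero_iff_mem.2 hp')
      convert Submodule.smul_mem _
        (algebraMap P.toExtension.Ring B (MvPolynomial.renameEquiv A Equiv.ulift.symm r)) (hp hker) using 1
      rw [algebraMap_smul, ← map_smul]
      exact congrArg _ (Subtype.ext (map_mul _ _ _))
  let M : Matrix (Fin m) (Fin m) B := Matrix.of fun i j => π (MvPolynomial.pderiv (Fin.castLE hmn i) (f j))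
  have hdet : π (Matrix.det (Matrix.of (fun i j : Fin m => MvPolynomial.pderiv (Fin.castLE hmn i) (f j)))) =
      M.det := by rw [RingHom.map_det]; rfl
  let pr : P.toExtension.CotangentSpace →ₗ[B] (Fin m → B) :=
    LinearMap.pi fun i => (P.cotangentSpaceBasis.coord ⟨Fin.castLE hmn i⟩)
  have hrepr : ∀ j (k : Fin n), P.cotangentSpaceBasis.repr (d (c j)) ⟨k⟩ = π (MvPolynomial.pderiv k (f j)) := by
    intro j k
    show P.cotangentSpaceBasis.repr (P.toExtension.cotangentComplex (Algebra.Extension.Cotangent.mk ⟨g j, hg j⟩)) ⟨k⟩ = _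
    rw [Algebra.Extension.cotangentComplex_mk]
    erw [P.cotangentSpaceBasis_repr_one_tmul]
    show MvPolynomial.aeval val (MvPolynomial.pderiv (ULift.up k) (MvPolynomial.rename ULift.up (f j))) = _
    rw [MvPolynomial.pderiv_rename ULift.up_injective, hval]
  have hpr : ∀ j i, pr (d (c j)) i = M i j := fun j i => hrepr j _
  let h : P.toExtension.CotangentSpace →ₗ[B] P.toExtension.Cotangent :=
    (Fintype.linearCombination B c) ∘ₗ M.adjugate.mulVecLin ∘ₗ pr
  have hh : ∀ x, h (d x) = M.det • x := by
    intro x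
    have hle : Submodule.span B (Set.range c) ≤ LinearMap.eqLocus (h ∘ₗ d) (M.det • LinearMap.id) := by
      rw [Submodule.span_le]
      rintro _ ⟨j, rfl⟩
      show h (d (c j)) = M.det • c j
      show Fintype.linearCombination B c (M.adjugate.mulVec (pr (d (c j)))) = _
      rw [show pr (d (c j)) = M.mulVec (Pi.single j 1) from funext fun i => by
        rw [hpr, Matrix.mulVec_single_one]; rfl, Matrix.mulVec_mulVec, Matrix.adjugate_mul,
        Matrix.smul_mulVec, Matrix.one_mulVec, map_smul, Fintype.linearCombination_apply_single, one_smul]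
    exact hle (hspan x)
  obtain ⟨u, v, huv, hu⟩ := NLJac.smul_id_eq (d := d) M.det h hh
  obtain ⟨e⟩ := nl_iso_twoTerm A B P
  haveI : Module.Projective B P.toExtension.CotangentSpace :=
    Module.Projective.of_basis P.cotangentSpaceBasis
  refine ⟨P.toExtension.CotangentSpace, inferInstance, inferInstance, inferInstance, e.inv ≫ u, v ≫ e.hom,
    ?_, fun hnm => ?_⟩
  · calc _ = e.inv ≫ (M.det • 𝟙 (DRing.toD (twoTerm d))) ≫ e.hom := by
          rw [Linear.smul_comp, Category.id_comp, Linear.comp_smul, Iso.inv_hom_id]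
          exact congrArg (· • 𝟙 _) hdet
      _ = _ := by rw [huv]; simp only [Category.assoc]
  · subst hnm
    rw [hu fun y => ?_, Limits.comp_zero]
    refine P.cotangentSpaceBasis.ext_elem fun ⟨k⟩ => ?_
    show P.cotangentSpaceBasis.repr (d (Fintype.linearCombination B c (M.adjugate.mulVec (pr y)))) ⟨k⟩ = _
    rw [Fintype.linearCombination_apply, map_sum, map_sum, Finsupp.coe_finset_sum, Finset.sum_apply]
    simp only [map_smul, Finsupp.coe_smul, Pi.smul_apply, hrepr, smul_eq_mul]
    have hM : ∀ j, π (MvPolynomial.pderiv k (f j)) = M k j := fun j => by simp [M]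
    calc ∑ j, (M.adjugate.mulVec (pr y)) j * π (MvPolynomial.pderiv k (f j))
        = (M.mulVec (M.adjugate.mulVec (pr y))) k := Finset.sum_congr rfl fun j _ => by rw [hM, mul_comm]
      _ = M.det * pr y k := by
          rw [Matrix.mulVec_mulVec, Matrix.mul_adjugate, Matrix.smul_mulVec, Matrix.one_mulVec]; rfl
      _ = _ := by simp [pr]

/-- Let A be a ring, m ≤ n, f_1, …, f_m ∈ A[x_1, …, x_n], B = A[x_1, …, x_n]/(f_1, …, f_m), and g ∈ B
the image of the determinant of the m × m matrix of partial derivatives ∂f_j/∂x_i with i, j ≤ m (the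
first m variables). Then: (1) for every B-module N, g annihilates Ext^1_B(NL_{B/A}, N), i.e. every
morphism NL_{B/A} → N[1] in D(B) is killed by g; (2) if n = m then multiplication by g on NL_{B/A}
is the zero endomorphism in D(B). -/
theorem result (A : Type u) [CommRing A] (n m : ℕ) (hmn : m ≤ n) (f : Fin m → MvPolynomial (Fin n) A) : (∀ (N : Type u) [AddCommGroup N] [Module (MvPolynomial (Fin n) A ⧸ Ideal.span (Set.range f)) N] (φ : LCI.NL A (MvPolynomial (Fin n) A ⧸ Ideal.span (Set.range f)) ⟶ (Dual.inD (MvPolynomial (Fin n) A ⧸ Ideal.span (Set.range f)) N)⟦(1 : ℤ)⟧), (Ideal.Quotient.mk (Ideal.span (Set.range f)) (Matrix.det (Matrix.of (fun i j : Fin m => MvPolynomial.pderiv (Fin.castLE hmn i) (f j))))) • φ = 0) ∧ (n = m → (Ideal.Quotient.mk (Ideal.span (Set.range f)) (Matrix.det (Matrix.of (fun i j : Fin m => MvPolynomial.pderiv (Fin.castLE hmn i) (f j))))) • 𝟙 (LCI.NL A (MvPolynomial (Fin n) A ⧸ Ideal.span (Set.range f))) = 0) := by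
  obtain ⟨P, iP, iPm, iPp, u, v, huv, hu⟩ := main A n m hmn f
  refine ⟨fun N _ _ φ => ?_, fun hnm => ?_⟩
  · calc _ = (u ≫ v) ≫ φ := by rw [← huv, Linear.smul_comp, Category.id_comp]
      _ = 0 := by rw [Category.assoc, NLJac.eq_zero_of_projective N (v ≫ φ), Limits.comp_zero]
  · rw [huv, hu hnm, Limits.zero_comp]

end Groth.Agent.S8806
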