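import Groth.Statements.S8821
import Groth.Agent.FFun.Basic
import Mathlib.CategoryTheory.Abelian.Refinements

set_option linter.style.haveILetI false
set_option backward.isDefEq.respectTransparency false
set_option backward.isDefEq.respectTransparency.types false


set_option autoImplicit false
universe u
open CategoryTheory AlgebraicGeometry
open Formal2

namespace Groth.Agent.S8821

/-- Implication (4) ⇒ (2), for an O_X-module over a base ring A and f ∈ A. Let X be a scheme over Spec
A, f ∈ A and F an O_X-module on which multiplication by f is a monomorphism. Then for every n ≥ 1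
there is a monomorphism i : F/fF → F/f^{n+1}F through which multiplication by f^n on F/f^{n+1}F
factors (projection to F/fF followed by i), and F/fF → F/f^{n+1}F → F/f^nF, with second map the
transition map, is a short exact sequence. (Stated for schemes; the published statement is for
ringed spaces.) -/
theorem result (A : Type u) [CommRing A] (X : Scheme.{u}) [X.Over (Spec (CommRingCat.of A))] (f : A) (F : X.Modules) (hF : Mono (Formal.smulMod A F f)) (n : ℕ) (hn : 1 ≤ n) : ∃ i : Formal.modPow (Ideal.span ({f} : Set A)) 1 F ⟶ Formal.modPow (Ideal.span ({f} : Set A)) (n + 1) F, Mono i ∧ Formal2.modPowLE (Ideal.span ({f} : Set A)) (Nat.le_add_left 1 n) F ≫ i = Formal.smulMod A (Formal.modPow (Ideal.span ({f} : Set A)) (n + 1) F) (f ^ n) ∧ ∃ w : i ≫ Formal.modPowTrans (Ideal.span ({f} : Set A)) n F = 0, (ShortComplex.mk i (Formal.modPowTrans (Ideal.span ({f} : Set A)) n F) w).ShortExact := by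
  set I : Ideal A := Ideal.span {f} with hI
  haveI := hF
  have hmul : ∀ a b : A, Formal.smulMod A F (a * b) = Formal.smulMod A F b ≫ Formal.smulMod A F a := fun a b =>
    Groth.Agent.FFun.smulMod_mul F a b
  have hm : ∀ k : ℕ, Mono (Formal.smulMod A F (f ^ k)) := by
    intro k
    induction k with
    | zero => rw [pow_zero, Groth.Agent.FFun.smulMod_one]; infer_instance
    | succ k ih => rw [pow_succ, hmul]; haveI := ih; infer_instance
  have hkill : ∀ k : ℕ, Formal.smulMod A F (f ^ k) ≫ Formal.modPowπ I k F = 0 := by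
    intro k
    have hk : f ^ k ∈ I ^ k := Ideal.pow_mem_pow (Ideal.mem_span_singleton_self f) k
    have : Limits.Sigma.ι (fun _ : ↥(I ^ k) => F) ⟨f ^ k, hk⟩ ≫ Formal.smulFamily (I ^ k) F =
        Formal.smulMod A F (f ^ k) := Limits.Sigma.ι_desc _ _
    rw [← this, Category.assoc, Formal.modPowπ, Limits.cokernel.condition, Limits.comp_zero]
  have hdesc : ∀ (k : ℕ) {T : X.Modules} (φ : F ⟶ T), Formal.smulMod A F (f ^ k) ≫ φ = 0 →
      Formal.smulFamily (I ^ k) F ≫ φ = 0 := by
    intro k T φ hφ
    refine Limits.Sigma.hom_ext _ _ fun b => ?_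
    rw [← Category.assoc, Limits.comp_zero]
    obtain ⟨c, hc⟩ : ∃ c, c * f ^ k = (b : A) := by
      rw [← Ideal.mem_span_singleton', ← Ideal.span_singleton_pow]
      exact b.2
    simp only [Formal.smulFamily, Limits.Sigma.ι_desc]
    rw [← hc, mul_comm, hmul, Category.assoc, hφ, Limits.comp_zero]
  have hlift : ∀ (k : ℕ) {T : X.Modules} (y : T ⟶ F), y ≫ Formal.modPowπ I k F = 0 →
      ∃ (T' : X.Modules) (π : T' ⟶ T) (_ : Epi π) (z : T' ⟶ F), π ≫ y = z ≫ Formal.smulMod A F (f ^ k) := by
    intro k T y hy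
    have hex : (ShortComplex.mk _ _ (hkill k)).Exact :=
      ShortComplex.exact_of_g_is_cokernel _ (Limits.CokernelCofork.IsColimit.ofπ _ _
        (fun {T} φ hφ => Limits.cokernel.desc _ φ (hdesc k φ hφ))
        (fun φ hφ => Limits.cokernel.π_desc _ _ _)
        (fun φ hφ m hm => (cancel_epi (Limits.cokernel.π (Formal.smulFamily (I ^ k) F))).1
          (hm.trans (Limits.cokernel.π_desc _ _ _).symm)))
    exact hex.exact_up_to_refinements y hy
  have hsplit : Formal.smulMod A F (f ^ (n + 1)) = Formal.smulMod A F (f ^ 1) ≫ Formal.smulMod A F (f ^ n) := by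
    rw [← hmul, ← pow_add]
  let i : Formal.modPow I 1 F ⟶ Formal.modPow I (n + 1) F :=
    Limits.cokernel.desc _ (Formal.smulMod A F (f ^ n) ≫ Formal.modPowπ I (n + 1) F)
      (hdesc 1 _ (by rw [← Category.assoc, ← hsplit, hkill]))
  have hi : Formal.modPowπ I 1 F ≫ i = Formal.smulMod A F (f ^ n) ≫ Formal.modPowπ I (n + 1) F :=
    Limits.cokernel.π_desc _ _ _
  haveI hepi : ∀ k, Epi (Formal.modPowπ I k F) := fun k => by unfold Formal.modPowπ; infer_instance
  haveI hmono : Mono i := by
    refine Preadditive.mono_of_cancel_zero _ fun {T} x hx => ?_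
    obtain ⟨T', π, hπ, y, hy⟩ := surjective_up_to_refinements_of_epi (Formal.modPowπ I 1 F) x
    have h0 : (y ≫ Formal.smulMod A F (f ^ n)) ≫ Formal.modPowπ I (n + 1) F = 0 := by
      rw [Category.assoc, ← hi, ← Category.assoc, ← hy, Category.assoc, hx, Limits.comp_zero]
    obtain ⟨T'', π', hπ', z, hz⟩ := hlift (n + 1) _ h0
    rw [hsplit] at hz
    haveI := hm n
    have hz' : π' ≫ y = z ≫ Formal.smulMod A F (f ^ 1) := by
      rw [← cancel_mono (Formal.smulMod A F (f ^ n))]
      simpa [Category.assoc] using hz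
    haveI := hπ
    haveI := hπ'
    rw [← cancel_epi π, ← cancel_epi π', Limits.comp_zero, Limits.comp_zero, hy, ← Category.assoc, hz',
      Category.assoc, hkill, Limits.comp_zero]
  have hw : i ≫ Formal.modPowTrans I n F = 0 := by
    rw [← cancel_epi (Formal.modPowπ I 1 F), ← Category.assoc, hi, Category.assoc, Formal.modPowπ_trans,
      Limits.comp_zero, hkill]
  refine ⟨i, hmono, ?_, hw, ?_⟩
  · rw [← cancel_epi (Formal.modPowπ I (n + 1) F), ← Category.assoc, Formal2.modPowπ_modPowLE, hi,
      Groth.Agent.FFun.smulMod_naturality]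
  haveI : Epi (Formal.modPowTrans I n F) := by
    haveI : Epi (Formal.modPowπ I (n + 1) F ≫ Formal.modPowTrans I n F) := by
      rw [Formal.modPowπ_trans]; infer_instance
    exact epi_of_epi (Formal.modPowπ I (n + 1) F) _
  refine ShortComplex.ShortExact.mk' ?_ hmono ‹_›
  rw [ShortComplex.exact_iff_exact_up_to_refinements]
  intro T x hx
  obtain ⟨T', π, hπ, y, hy⟩ := surjective_up_to_refinements_of_epi (Formal.modPowπ I (n + 1) F) x
  have h0 : y ≫ Formal.modPowπ I n F = 0 := by
    rw [← Formal.modPowπ_trans, ← Category.assoc, ← hy, Category.assoc]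
    exact (congrArg (π ≫ ·) hx).trans Limits.comp_zero
  obtain ⟨T'', π', hπ', z, hz⟩ := hlift n _ h0
  haveI := hπ
  haveI := hπ'
  refine ⟨T'', π' ≫ π, inferInstance, z ≫ Formal.modPowπ I 1 F, ?_⟩
  show (π' ≫ π) ≫ x = (z ≫ Formal.modPowπ I 1 F) ≫ i
  rw [Category.assoc, hy, Category.assoc, hi, ← Category.assoc, hz, Category.assoc]
end Groth.Agent.S8821
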