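import Groth.Statements.S8826
-- import your own Groth.Agent.* helpers here
import Groth.Agent.H4RG.HensApprox
import Groth.Agent.Hensel.NoethPair

set_option backward.isDefEq.respectTransparency.types false

set_option autoImplicit false
universe u
open AdicRing

namespace Groth.Agent.S8826

/-- Let A be a Noetherian ring and I an ideal. Let B be an A-algebra of finite type such that Spec B →
Spec A is etale over the complement of V(I) (B_a etale over A for every a ∈ I), let C be a
Noetherian A-algebra with a henselization Cʰ of the pair (C, IC), and let φ be an A-algebra map from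
the IB-adic completion of B to the IC-adic completion of C. Then there is exactly one A-algebra map
ψ : B → Cʰ which induces φ on completions, in the sense that for every n and every b ∈ B there is c
∈ C with ψ(b) − c ∈ I^n Cʰ and with the n-th truncation of φ(b) in C/I^n C equal to the class of c
(recall C/I^n C = Cʰ/I^n Cʰ). (The second assertion, that such maps factor through an etale
neighbourhood, is not stated.) -/
theorem result (A : Type u) [CommRing A] [IsNoetherianRing A] (I : Ideal A) (B : Type u) [CommRing B] [Algebra A B] [Algebra.FiniteType A B] (hB : ∀ a ∈ I, Algebra.Etale A (Localization.Away (algebraMap A B a))) (C : Type u) [CommRing C] [Algebra A C] [IsNoetherianRing C] (Ch : Type u) [CommRing Ch] [Algebra C Ch] [Algebra A Ch] [IsScalarTower A C Ch] (hCh : Hens2.IsPairHenselization C (I.map (algebraMap A C)) Ch) (φ : (AdicCompletion (I.map (algebraMap A B)) B) →ₐ[A] (AdicCompletion (I.map (algebraMap A C)) C)) : ∃! ψ : B →ₐ[A] Ch, ∀ (n : ℕ) (b : B), ∃ c : C, ψ b - algebraMap C Ch c ∈ (I.map (algebraMap A Ch))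 ^ n ∧ AdicCompletion.eval (I.map (algebraMap A C)) C n (φ (AdicCompletion.of (I.map (algebraMap A B)) B b)) = Submodule.Quotient.mk c := by
  haveI : IsNoetherianRing Ch := Groth.Agent.Hensel.isNoetherianRing_of_isPairHenselization _ hCh
  haveI : HenselianRing Ch (I.map (algebraMap A Ch)) := by
    have h := hCh.1
    rwa [Ideal.map_map, ← IsScalarTower.algebraMap_eq] at h
  let IC := I.map (algebraMap A C)
  have hsmul : ∀ t : ℕ, (IC ^ t • ⊤ : Ideal C) = IC ^ t := fun t => by rw [smul_eq_mul, Ideal.mul_top]
  have hev : ∀ (t : ℕ) (x : AdicCompletion IC C) (c : C),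
      AdicCompletion.eval IC C t x = Submodule.Quotient.mk c ↔ AdicCompletion.evalₐ IC t x = Ideal.Quotient.mk _ c := by
    intro t x c
    constructor
    · intro h
      rw [← AdicCompletion.factor_eval_eq_evalₐ IC x (hsmul t).le, h]
      rfl
    · intro h
      rw [← AdicCompletion.factor_evalₐ_eq_eval IC x (hsmul t).ge, h]
      rfl
  have hle : ∀ t : ℕ, IC ^ t ≤ ((I.map (algebraMap A Ch)) ^ t).comap (IsScalarTower.toAlgHom A C Ch) := fun t => by
    refine Ideal.map_le_iff_le_comap.1 ?_
    show ((I.map (algebraMap A C)) ^ t).map (algebraMap C Ch) ≤ _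
    rw [Ideal.map_pow, Ideal.map_map, ← IsScalarTower.algebraMap_eq]
  let g : ∀ t : ℕ, (C ⧸ IC ^ t) →ₐ[A] Ch ⧸ (I.map (algebraMap A Ch)) ^ t := fun t =>
    Ideal.quotientMapₐ _ (IsScalarTower.toAlgHom A C Ch) (hle t)
  let Φ : B →ₐ[A] AdicCompletion IC C :=
    φ.comp (IsScalarTower.toAlgHom A B (AdicCompletion (I.map (algebraMap A B)) B))
  let π : ∀ t : ℕ, B →ₐ[A] Ch ⧸ (I.map (algebraMap A Ch)) ^ t := fun t =>
    (g t).comp (((AdicCompletion.evalₐ IC t).restrictScalars A).comp Φ)
  have hπ : ∀ t b c, AdicCompletion.eval IC C t (φ (AdicCompletion.of (I.map (algebraMap A B)) B b)) =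
      Submodule.Quotient.mk c → π t b = Ideal.Quotient.mk _ (algebraMap C Ch c) := fun t b c h => by
    show g t (AdicCompletion.evalₐ IC t (Φ b)) = _
    rw [show Φ b = φ (AdicCompletion.of (I.map (algebraMap A B)) B b) from rfl, (hev t _ c).1 h]
    rfl
  have hcompat : ∀ t t' (h : t ≤ t') (b : B) (r : Ch), π t' b = Ideal.Quotient.mk _ r →
      π t b = Ideal.Quotient.mk _ r := by
    intro t t' h b r hr
    obtain ⟨c, hc⟩ := Submodule.Quotient.mk_surjective _
      (AdicCompletion.eval IC C t' (φ (AdicCompletion.of (I.map (algebraMap A B)) B b)))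
    have hct : AdicCompletion.eval IC C t (φ (AdicCompletion.of (I.map (algebraMap A B)) B b)) = Submodule.Quotient.mk c := by
      refine (AdicCompletion.transitionMap_comp_eval_apply (I := IC) (M := C) h _).symm.trans ?_
      show AdicCompletion.transitionMap IC C h (AdicCompletion.eval IC C t' _) = _
      rw [← hc]
      rfl
    rw [hπ t b c hct]
    rw [hπ t' b c hc.symm, Ideal.Quotient.eq] at hr
    exact Ideal.Quotient.eq.2 (Ideal.pow_le_pow_right h hr)
  obtain ⟨ψ, hψ, huniq⟩ := Groth.Agent.H4RG.existsUnique_of_truncations (R := Ch) I hB π hcompat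
  refine ⟨ψ, fun t b => ?_, fun χ hχ => huniq χ fun t b => ?_⟩
  · obtain ⟨c, hc⟩ := Submodule.Quotient.mk_surjective _
      (AdicCompletion.eval IC C t (φ (AdicCompletion.of (I.map (algebraMap A B)) B b)))
    refine ⟨c, Ideal.Quotient.eq.1 ?_, hc.symm⟩
    rw [hψ t b, hπ t b c hc.symm]
  · obtain ⟨c, hc1, hc2⟩ := hχ t b
    rw [hπ t b c hc2]
    exact Ideal.Quotient.eq.2 hc1

end Groth.Agent.S8826
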