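import Groth.Statements.S8831
import Groth.Agent.PuncArt6

set_option autoImplicit false
universe u
open CategoryTheory AlgebraicGeometry Opposite
open LocCoh

namespace Groth.Agent.S8831

/-- Let (A, m) be a Noetherian local ring and U = Spec A ∖ {m} the punctured spectrum. Suppose we are
given a system (F_n), indexed inversely by n, of coherent modules on U. In each positive degree i,
the cohomology groups H^i(U, F_n) then form a Mittag-Leffler system; concretely, given any n one can
find r ≥ n such that for all s ≥ r the image of H^i(U, F_s) → H^i(U, F_n) equals the image of H^i(U,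
F_r) → H^i(U, F_n). -/
theorem result (A : Type u) [CommRing A] [IsNoetherianRing A] [IsLocalRing A] (G : ℕᵒᵖ ⥤ (↑(LocCoh.puncturedOpen A (IsLocalRing.maximalIdeal A)) : Scheme.{u}).Modules) (hG : ∀ n : ℕᵒᵖ, Coh.IsCoh (G.obj n)) (i : ℕ) (hi : 0 < i) (n : ℕ) : ∃ (r : ℕ) (hnr : n ≤ r), ∀ (s : ℕ) (hrs : r ≤ s), Set.range (Sheaf.H.map ((SheafOfModules.toSheaf _).map (G.map (homOfLE (hnr.trans hrs : n ≤ s)).op)) i) = Set.range (Sheaf.H.map ((SheafOfModules.toSheaf _).map (G.map (homOfLE (hnr : n ≤ r)).op)) i) := by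
  obtain ⟨j, rfl⟩ : ∃ j, i = j + 1 := ⟨i - 1, by omega⟩
  haveI := Groth.Agent.PuncArt6.isArtinian_HH j (G.obj (Opposite.op n)) (hG _)
  let L : (k : ℕ) → Submodule A (Coh.HH _ (G.obj (Opposite.op n)) (j + 1)) := fun k =>
    LinearMap.range (Groth.Agent.PnCoh.Finite.mapLin A (G.map (homOfLE (Nat.le_add_right n k)).op) (j + 1))
  have hanti : ∀ k l, k ≤ l → L l ≤ L k := by
    rintro k l hkl _ ⟨x, rfl⟩
    refine ⟨Groth.Agent.PnCoh.Finite.mapLin A (G.map (homOfLE (Nat.add_le_add_left hkl n)).op) (j + 1) x, ?_⟩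
    refine (Groth.Agent.FFun.mapLin_comp _ _ _ _).trans (Groth.Agent.FFun.mapLin_congr ?_ _ _)
    rw [← G.map_comp, ← op_comp]
    exact congrArg G.map (Subsingleton.elim _ _)
  obtain ⟨c, hc⟩ := IsArtinian.monotone_stabilizes (R := A) ⟨fun k => OrderDual.toDual (L k), hanti⟩
  refine ⟨n + c, Nat.le_add_right n c, fun s hrs => ?_⟩
  obtain ⟨d, rfl⟩ : ∃ d, s = n + d := ⟨s - n, by omega⟩
  have h : L c = L d := hc d (by omega)
  exact (congrArg SetLike.coe h).symm

end Groth.Agent.S8831
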