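import Groth.Statements.S8833
import Groth.Agent.LC.SplittingMod

set_option autoImplicit false
universe u
open scoped BigOperators TensorProduct
open LocCoh

namespace Groth.Agent.S8833

/-- Let A be a Noetherian ring, f_1, …, f_r ∈ A and I = (f_1, …, f_r) with cd(A, I) = 1; let c ≥ 1 and
φ_j : I^c → A be A-linear maps with x = Σ_j f_j φ_j(x) for all x ∈ I^c. Let B be a Noetherian
A-algebra and N a finite B-module. Then there is c' ≥ c with the following property. Write φ_j again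
for the restrictions of the φ_j to I^{c'} and let Φ be a graded A-algebra homomorphism from ⊕_{n ≥
0} I^{nc'} to A[T_1, …, T_r] with Φ(g) = Σ_j φ_j(g) T_j for g ∈ I^{c'} (there is exactly one; it is
encoded by functions Φ_n : A → A[T_1, …, T_r] whose values on I^{nc'} are additive, A-homogeneous,
homogeneous of degree n and multiplicative across degrees, with Φ_0 the structure map and Φ_1 as
prescribed). Then for every n there is a unique B-linear map Ψ_n from the submodule I^{nc'}N of N to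
N[T_1, …, T_r] = B[T_1, …, T_r] ⊗_B N with Ψ_n(g x) = Φ_n(g) ⊗ x for g ∈ I^{nc'} and x ∈ N; that is,
the Ψ_n form the unique graded B-module map from ⊕_n I^{nc'}N to N[T_1, …, T_r] with this property.
Moreover substituting T_j ↦ f_j after Ψ_n gives back the inclusion of I^{nc'}N into N. -/
theorem result (A : Type u) [CommRing A] [IsNoetherianRing A] (r : ℕ) (f : Fin r → A) (I : Ideal A) (hI : I = Ideal.span (Set.range f)) (h1 : LocCoh.CdLE A I 1) (h0 : ¬ LocCoh.CdLE A I 0) (c : ℕ) (hc : 1 ≤ c) (φ : Fin r → (↥(I ^ c) →ₗ[A] A)) (hφ : ∀ x : ↥(I ^ c), (x : A) = ∑ j, f j * φ j x) (B : Type u) [CommRing B] [Algebra A B] [IsNoetherianRing B] (N : Type u) [AddCommGroup N] [Module B N] [Module.Finite B N] : ∃ c' : ℕ, ∃ hcc' : c ≤ c', ∀ Φ : ℕ → A → MvPolynomial (Fin r) A, ((∀ n : ℕ, ∀ g ∈ I ^ (n * c'), ∀ h ∈ I ^ (n * c'), Φ n (g + h) = Φ n g + Φ n h) ∧ (∀ (n : ℕ) (a : A), ∀ g ∈ I ^ (n * c'), Φ n (a * g) = a • Φ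 n g) ∧ (∀ n : ℕ, ∀ g ∈ I ^ (n * c'), (Φ n g).IsHomogeneous n) ∧ (∀ n m : ℕ, ∀ g ∈ I ^ (n * c'), ∀ h ∈ I ^ (m * c'), Φ (n + m) (g * h) = Φ n g * Φ m h) ∧ (∀ a : A, Φ 0 a = MvPolynomial.C a) ∧ (∀ (g : A) (hg : g ∈ I ^ c'), Φ 1 g = ∑ j, MvPolynomial.C (φ j ⟨g, Ideal.pow_le_pow_right hcc' hg⟩) * MvPolynomial.X j)) → ∀ n : ℕ, ∃ Ψ : ↥(Submodule.span B {y : N | ∃ g ∈ I ^ (n * c'), ∃ x : N, y = algebraMap A B g • x}) →ₗ[B] (MvPolynomial (Fin r) B ⊗[B] N), (∀ (g : A) (hg : g ∈ I ^ (n * c')) (x : N), Ψ ⟨algebraMap A B g • x, Submodule.subset_span ⟨g, hg, x, rfl⟩⟩ = MvPolynomial.map (algebraMap A B) (Φ n g) ⊗ₜ[B] x) ∧ (∀ y : ↥(Submodule.span B {y : N | ∃ g ∈ I ^ (n * c'), ∃ x : N, y = algebraMap A B g • x}), TensorProduct.lift ((LinearMap.lsmul B N).comp (MvPolynomial.aeval (fun j ↦ algebraMap A B (f j))).toLinearMap) (Ψ y) = (y : N)) ∧ (∀ Ψ' : ↥(Submodule.span B {y : N | ∃ g ∈ I ^ (n * c'), ∃ x : N, y = algebraMap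 A B g • x}) →ₗ[B] (MvPolynomial (Fin r) B ⊗[B] N), (∀ (g : A) (hg : g ∈ I ^ (n * c')) (x : N), Ψ' ⟨algebraMap A B g • x, Submodule.subset_span ⟨g, hg, x, rfl⟩⟩ = MvPolynomial.map (algebraMap A B) (Φ n g) ⊗ₜ[B] x) → Ψ' = Ψ) := by
  have _ := h1
  have _ := h0
  have _ := hc
  have _ := hI
  obtain ⟨K, hK⟩ := Groth.Agent.LC.Splitting.exists_torsion_free (B := B) (N := N) I c
  refine ⟨K + c, Nat.le_add_left c K, ?_⟩
  rintro Φ ⟨ha, hs, -, hm, h0', hone⟩ n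
  let M := Submodule.span B {y : N | ∃ g ∈ I ^ (n * (K + c)), ∃ x : N, y = algebraMap A B g • x}
  let Ψl : ↥M →ₗ[B] MvPolynomial (Fin r) B ⊗[B] N :=
    { toFun := fun y => Groth.Agent.LC.Splitting.Ψ φ B K n (y : N)
      map_add' := fun x y => by
        simpa using Groth.Agent.LC.Splitting.Ψ_linear φ hK n 1 (x : N) (y : N) x.2 y.2
      map_smul' := fun s x => by
        have h00 : Groth.Agent.LC.Splitting.Ψ φ B K n (0 : N) = 0 := by
          simpa using Groth.Agent.LC.Splitting.Ψ_linear φ hK n 1 (0 : N) 0 (Submodule.zero_mem _)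
            (Submodule.zero_mem _)
        simpa [h00] using Groth.Agent.LC.Splitting.Ψ_linear φ hK n s (x : N) 0 x.2 (Submodule.zero_mem _) }
  have hgen : ∀ (g : A) (hg : g ∈ I ^ (n * (K + c))) (x : N),
      Ψl ⟨algebraMap A B g • x, Submodule.subset_span ⟨g, hg, x, rfl⟩⟩ =
        MvPolynomial.map (algebraMap A B) (Φ n g) ⊗ₜ[B] x := fun g hg x =>
    Groth.Agent.LC.Splitting.Ψ_gen φ hK h0' (fun k g' hg' => by
      obtain ⟨e1, e2⟩ := Groth.Agent.LC.Splitting.succ_eq_of_props φ (Nat.le_add_left c K) Φ ha hs hm hone k hg'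
      exact ⟨e1, fun j => (e2 j).1⟩) n g hg x
  refine ⟨Ψl, hgen, fun y => Groth.Agent.LC.Splitting.lift_Ψ φ hK f hφ n (y : N) y.2, fun Ψ' h' => ?_⟩
  refine LinearMap.ext fun y => ?_
  obtain ⟨y, hy⟩ := y
  induction hy using Submodule.span_induction with
  | mem z hz =>
    obtain ⟨g, hg, x, rfl⟩ := hz
    exact (h' g hg x).trans (hgen g hg x).symm
  | zero => exact (map_zero Ψ').trans (map_zero Ψl).symm
  | add a b hma hmb iha ihb =>
    exact (map_add Ψ' ⟨a, hma⟩ ⟨b, hmb⟩).trans ((congrArg₂ (· + ·) iha ihb).trans (map_add Ψl ⟨a, hma⟩ ⟨b, hmb⟩).symm)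
  | smul s a hma iha =>
    exact (map_smul Ψ' s ⟨a, hma⟩).trans ((congrArg (s • ·) iha).trans (map_smul Ψl s ⟨a, hma⟩).symm)

end Groth.Agent.S8833
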