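import Groth.Statements.S8842
import Groth.Agent.CdOneLim.Graded
set_option backward.isDefEq.respectTransparency false
set_option backward.isDefEq.respectTransparency.types false
set_option linter.style.haveILetI false

set_option autoImplicit false
universe u
open scoped BigOperators
attribute [local instance] CategoryTheory.Abelian.hasFiniteBiproducts
open Formal2

namespace Groth.Agent.S8842

open CategoryTheory CategoryTheory.Limits AlgebraicGeometry Opposite in
/-- Let A be a Noetherian ring, f_1, …, f_r ∈ A and I = (f_1, …, f_r) with cd(A, I) = 1; let c ≥ 1 and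
φ_j : I^c → A be A-linear with x = Σ_j f_j φ_j(x) for x ∈ I^c. Let X be a Noetherian scheme over
Spec A, (F_n) a coherent formal module for I on X (coherent O_X-modules with F_n = F_{n+1}/I^n
F_{n+1}; indices shifted by one) and F = lim F_n, the limit in O_X-modules. Then there is c' ≥ c
with the following property. Write φ_j again for the restrictions to I^{c'} and let Φ be a graded
A-algebra homomorphism from ⊕_{n ≥ 0} I^{nc'} to A[T_1, …, T_r] with Φ(g) = Σ_j φ_j(g) T_j on I^{c'}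
(there is exactly one; encoded by functions Φ_n : A → A[T_1, …, T_r] additive and A-homogeneous on
I^{nc'}, with values homogeneous of degree n, multiplicative across degrees, Φ_0 the structure map,
Φ_1 as prescribed). Then for every n there is a unique map of O_X-modules Φ_{F,n} from the submodule
I^{nc'}F to F[T_1, …, T_r]_n = ⊕_{|e| = n} F (one copy of F for each exponent tuple e of total
degree n) such that Φ_{F,n}(g s) = Φ_n(g) s for g ∈ I^{nc'} and local sections s of F, i.e.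
precomposed with multiplication by g, F → I^{nc'}F, it is the map whose component at T^e is
multiplication by the coefficient of T^e in Φ_n(g); moreover composing Φ_{F,n} with the map
⊕_{|e|=n} F → F which is multiplication by f^e = ∏ f_j^{e_j} on the copy at T^e gives the inclusion
I^{nc'}F → F. -/
theorem result (A : Type u) [CommRing A] [IsNoetherianRing A] (r : ℕ) (f : Fin r → A) (I : Ideal A) (hI : I = Ideal.span (Set.range f)) (h1 : LocCoh.CdLE A I 1) (h0 : ¬ LocCoh.CdLE A I 0) (c : ℕ) (hc : 1 ≤ c) (φ : Fin r → (↥(I ^ c) →ₗ[A] A)) (hφ : ∀ x : ↥(I ^ c), (x : A) = ∑ j, f j * φ j x) (X : Scheme.{u}) [X.Over (Spec (CommRingCat.of A))] [IsNoetherian X] (G : ℕᵒᵖ ⥤ X.Modules) (hG : Formal.IsCohFormal I G) : ∃ c' : ℕ, ∃ hcc' : c ≤ c', ∀ Φ : ℕ → A → MvPolynomial (Fin r) A, ((∀ n : ℕ, ∀ g ∈ I ^ (n * c'), ∀ h ∈ I ^ (n * c'), Φ n (g + h) = Φ n g + Φ n h) ∧ (∀ (n : ℕ) (a : A), ∀ g ∈ I ^ (n * c'), Φ n (a * g) = a • Φ n g) ∧ (∀ n : ℕ, ∀ g ∈ I ^ (n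 * c'), (Φ n g).IsHomogeneous n) ∧ (∀ n m : ℕ, ∀ g ∈ I ^ (n * c'), ∀ h ∈ I ^ (m * c'), Φ (n + m) (g * h) = Φ n g * Φ m h) ∧ (∀ a : A, Φ 0 a = MvPolynomial.C a) ∧ (∀ (g : A) (hg : g ∈ I ^ c'), Φ 1 g = ∑ j, MvPolynomial.C (φ j ⟨g, Ideal.pow_le_pow_right hcc' hg⟩) * MvPolynomial.X j)) → ∀ n : ℕ, ∃ ΦF : (Formal2.idealPowMod I (n * c') (limit G)) ⟶ ⨁ (fun _ : ↥(Finset.Nat.antidiagonalTuple r n) ↦ (limit G)), (∀ g ∈ I ^ (n * c'), ∀ γ : (limit G) ⟶ (Formal2.idealPowMod I (n * c') (limit G)), γ ≫ Formal2.idealPowModι I (n * c') (limit G) = Formal.smulMod A (limit G) g → γ ≫ ΦF = biproduct.lift (fun e : ↥(Finset.Nat.antidiagonalTuple r n) ↦ Formal.smulMod A (limit G) (MvPolynomial.coeff (Finsupp.equivFunOnFinite.symm e.1) (Φ n g)))) ∧ ΦF ≫ biproduct.desc (fun e : ↥(Finset.Nat.antidiagonalTuple r n) ↦ Formal.smulMod A (limit G) (∏ j, f j ^ (e.1 j))) = Formal2.idealPowModι I (n * c') (limit G) ∧ (∀ ΦF' : (Formal2.idealPowMod I (n * c') (limit G)) ⟶ ⨁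 (fun _ : ↥(Finset.Nat.antidiagonalTuple r n) ↦ (limit G)), (∀ g ∈ I ^ (n * c'), ∀ γ : (limit G) ⟶ (Formal2.idealPowMod I (n * c') (limit G)), γ ≫ Formal2.idealPowModι I (n * c') (limit G) = Formal.smulMod A (limit G) g → γ ≫ ΦF' = biproduct.lift (fun e : ↥(Finset.Nat.antidiagonalTuple r n) ↦ Formal.smulMod A (limit G) (MvPolynomial.coeff (Finsupp.equivFunOnFinite.symm e.1) (Φ n g)))) → ΦF' = ΦF) := by
  have hspan : Ideal.span (Set.range f) = I := hI.symm
  have hf : ∀ i, f i ∈ I := fun i => hspan ▸ Ideal.subset_span ⟨i, rfl⟩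
  obtain ⟨k, hk⟩ := CdOneLim.exists_socle_zero hG hf hspan
  refine ⟨k + 1 + c, by omega, fun Φ ⟨hadd, hsmul, hhom, hmul, h00, h11⟩ n => ?_⟩
  have hψ : ∀ g ∈ I ^ (k + 1 + c), Φ 1 g = ∑ j, MvPolynomial.C (CdOneLim.ψ φ j g) * MvPolynomial.X j :=
    fun g hg => (h11 g hg).trans (Finset.sum_congr rfl fun j _ => by
      rw [CdOneLim.ψ_eq φ j (Ideal.pow_le_pow_right (by omega) hg)])
  have hdeep : n = 0 ∨ ∀ g ∈ I ^ (n * (k + 1 + c)), ∀ d, MvPolynomial.coeff d (Φ n g) ∈ I ^ (k + 1) := by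
    rcases Nat.eq_zero_or_pos n with rfl | hn
    · exact Or.inl rfl
    · refine Or.inr fun g hg => MvPolynomial.mem_map_C_iff.1 ?_
      refine CdOneLim.graded_induction Φ hadd hmul (fun _ _ p => p ∈ (I ^ (k + 1)).map MvPolynomial.C)
        (fun _ _ _ _ _ hp hq => add_mem hp hq) (fun _ _ _ _ _ _ hq => Ideal.mul_mem_left _ _ hq)
        (fun g hg => ?_) n hn g hg
      rw [hψ g hg]
      exact Ideal.sum_mem _ fun j _ => Ideal.mul_mem_right _ _ (Ideal.mem_map_of_mem _ (CdOneLim.ψ_mem φ j hg))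
  have haev : ∀ g ∈ I ^ (n * (k + 1 + c)), MvPolynomial.eval f (Φ n g) = g := by
    rcases Nat.eq_zero_or_pos n with rfl | hn
    · exact fun g _ => by rw [h00, MvPolynomial.eval_C]
    · refine CdOneLim.graded_induction Φ hadd hmul (fun _ g p => MvPolynomial.eval f p = g)
        (fun _ _ _ _ _ hp hq => by rw [map_add, hp, hq]) (fun _ _ _ _ _ hp hq => by rw [map_mul, hp, hq])
        (fun g hg => ?_) n hn
      rw [hψ g hg, map_sum]
      simp only [map_mul, MvPolynomial.eval_C, MvPolynomial.eval_X]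
      have hg' : g ∈ I ^ c := Ideal.pow_le_pow_right (by omega) hg
      exact (Finset.sum_congr rfl fun j _ => by rw [CdOneLim.ψ_eq φ j hg', mul_comm]).trans (hφ ⟨g, hg'⟩).symm
  obtain ⟨ρ, q, hρ, hρι, hρq⟩ := CdOneLim.exists_desc hG hf Φ hsmul hk n hdeep (fun _ => h00)
  have hι : ∀ g (hg : g ∈ I ^ (n * (k + 1 + c))) (γ : limit G ⟶ Formal2.idealPowMod I (n * (k + 1 + c)) (limit G)),
      γ ≫ Formal2.idealPowModι I (n * (k + 1 + c)) (limit G) = Formal.smulMod A (limit G) g →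
        γ = Sigma.ι (fun _ : ↥(I ^ (n * (k + 1 + c))) => limit G) ⟨g, hg⟩ ≫ ρ := fun g hg γ hγ => by
    rw [← cancel_mono (Formal2.idealPowModι I (n * (k + 1 + c)) (limit G)), Category.assoc, hρι, hγ, Formal.smulFamily,
      Sigma.ι_desc]
  refine ⟨q, fun g hg γ hγ => ?_, ?_, fun q' hq' => ?_⟩
  · rw [hι g hg γ hγ, Category.assoc, hρq, CdOneLim.coeffMap, Sigma.ι_desc]
  · haveI := hρ
    rw [← cancel_epi ρ, hρι, ← Category.assoc, hρq]
    refine Sigma.hom_ext _ _ fun g => ?_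
    simp only [CdOneLim.coeffMap, Formal.smulFamily, Sigma.ι_desc_assoc, Sigma.ι_desc, biproduct.lift_desc,
      ← Groth.Agent.FFun.smulMod_mul]
    rw [CdOneLim.smulMod_sum]
    refine congrArg _ (Eq.trans ?_ (haev g.1 g.2))
    classical
    rw [MvPolynomial.eval_eq']

    rw [Finset.sum_coe_sort (Finset.Nat.antidiagonalTuple r n) (fun e => (∏ j, f j ^ e j) *
      MvPolynomial.coeff (Finsupp.equivFunOnFinite.symm e) (Φ n g.1))]
    refine Eq.symm (Finset.sum_bij_ne_zero (fun d _ _ => ⇑d) (fun d hd _ => ?_) (fun _ _ _ _ _ _ h => DFunLike.coe_injective h)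
      (fun e he hne => ?_) fun d _ _ => ?_)
    · rw [Finset.Nat.mem_antidiagonalTuple, ← hhom n g.1 g.2 (MvPolynomial.mem_support_iff.1 hd)]
      simp [Finsupp.weight_apply, Finsupp.sum_fintype]
    · refine ⟨Finsupp.equivFunOnFinite.symm e, MvPolynomial.mem_support_iff.2 fun h => hne (by rw [h, mul_zero]), ?_, by simp⟩
      simpa [mul_comm] using hne
    · rw [mul_comm]
      simp
  · haveI := hρ
    rw [← cancel_epi ρ, hρq]
    refine Sigma.hom_ext _ _ fun g => ?_
    rw [CdOneLim.coeffMap, Sigma.ι_desc, ← Category.assoc]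
    exact hq' g.1 g.2 _ (by rw [Category.assoc, hρι, Formal.smulFamily, Sigma.ι_desc])

end Groth.Agent.S8842
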