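import Groth.Statements.S8850
import Groth.Agent.S9361

set_option autoImplicit false
universe u
open CategoryTheory CategoryTheory.Limits AlgebraicGeometry TopologicalSpace
open SDiv

namespace Groth.Agent.S8850

/-- Let S be a scheme, X a Noetherian S-scheme, Y a proper S-scheme, U ⊆ X an open subscheme and f : U ⟶
Y a morphism compatible with the structure morphisms to S. Then there are a proper morphism p : X' ⟶
X restricting to an isomorphism over U and an S-morphism f' : X' ⟶ Y whose restriction to p⁻¹(U) is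
f composed with p. The published statement takes U dense, so that f is an S-rational map; this row
allows any open U, which its proof does not need. -/
theorem result {X Y S : Scheme.{u}} [IsNoetherian X] (a : X ⟶ S) (b : Y ⟶ S)
    [IsProper b] (U : X.Opens) (f : (U : Scheme.{u}) ⟶ Y) (hf : f ≫ b = U.ι ≫ a) :
    ∃ (X' : Scheme.{u}) (p : X' ⟶ X) (f' : X' ⟶ Y), IsProper p ∧ IsIso (p ∣_ U) ∧ f' ≫ b = p ≫ a ∧
      (p ⁻¹ᵁ U).ι ≫ f' = (p ∣_ U) ≫ f := by
  let s : (U : Scheme.{u}) ⟶ pullback a b := pullback.lift U.ι f hf.symm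
  have hs : s ≫ pullback.fst a b = U.ι := pullback.lift_fst _ _ _
  have hs2 : s ≫ pullback.snd a b = f := pullback.lift_snd _ _ _
  haveI : QuasiCompact U.ι := inferInstance
  let p : s.image ⟶ X := s.imageι ≫ pullback.fst a b
  haveI hp : IsIso (p ∣_ U) := S9361.result (pullback.fst a b) U s hs
  refine ⟨s.image, p, s.imageι ≫ pullback.snd a b, inferInstance, hp, ?_, ?_⟩
  · simp only [p, Category.assoc, pullback.condition]
  · have hr : Set.range s.toImage ⊆ Set.range (p ⁻¹ᵁ U).ι := by
      rw [Scheme.Opens.range_ι]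
      rintro _ ⟨y, rfl⟩
      show (s.imageι ≫ pullback.fst a b) (s.toImage y) ∈ U
      rw [← Scheme.Hom.comp_apply, Scheme.Hom.toImage_imageι_assoc, hs]
      exact y.2
    let l := IsOpenImmersion.lift (p ⁻¹ᵁ U).ι s.toImage hr
    have hl : l ≫ (p ∣_ U) = 𝟙 _ := by
      rw [← cancel_mono U.ι, Category.assoc, morphismRestrict_ι, IsOpenImmersion.lift_fac_assoc,
        Category.id_comp]
      show s.toImage ≫ s.imageι ≫ pullback.fst a b = U.ι
      rw [Scheme.Hom.toImage_imageι_assoc, hs]
    haveI : IsIso l := by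
      rw [show l = inv (p ∣_ U) from (IsIso.inv_eq_of_inv_hom_id hl).symm]
      infer_instance
    rw [← cancel_epi l, reassoc_of% hl, IsOpenImmersion.lift_fac_assoc, Scheme.Hom.toImage_imageι_assoc,
      hs2]

end Groth.Agent.S8850
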