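import Groth.Statements.S8861
import Groth.Agent.AssPtX.Regular
import Groth.Agent.ModPairLib.Basic

set_option autoImplicit false
universe u
open CategoryTheory CategoryTheory.Limits AlgebraicGeometry TopologicalSpace
open SDiv

namespace Groth.Agent.S8861

/-- Let f : X ⟶ Y be a morphism of schemes and 𝓘 the ideal sheaf of an effective Cartier divisor D ⊆ Y.
If f x ∉ D for every weakly associated point x of X (weakly associated point of the structure
sheaf), then the inverse image ideal sheaf of 𝓘 on X is the ideal of an effective Cartier divisor,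
i.e. the pullback of D by f is defined. -/
theorem result {X Y : Scheme.{u}} (f : X ⟶ Y) (𝓘 : Y.IdealSheafData)
    (hD : BlowUp.IsEffCartierIdeal 𝓘)
    (h : ∀ x : ↥X, Curv2.IsWeakAssPoint (Coh.structureModule X) x → f x ∉ 𝓘.support) :
    BlowUp.IsEffCartierIdeal (𝓘.comap f) := by
  intro x
  obtain ⟨V, hxV, g, hg, hI⟩ := hD (f x)
  obtain ⟨U, hU, hxU, hUV⟩ := exists_isAffineOpen_mem_and_subset (x := x) (U := f ⁻¹ᵁ V.1) hxV
  refine ⟨⟨U, hU⟩, hxU, f.appLE V.1 U hUV g, ?_, ?_⟩
  · by_contra hn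
    have hmem : f.appLE V.1 U hUV g ∈ ⋃ q ∈ FlatCA.weakAss Γ(X, U) Γ(Coh.structureModule X, U),
        (q : Set Γ(X, U)) := by
      rw [Groth.Agent.WeakAss.biUnion_weakAss]
      intro hreg
      refine hn (mem_nonZeroDivisors_iff_right.2 fun z hz => ?_)
      refine hreg ?_
      show (f.appLE V.1 U hUV g : Γ(X, U)) * z = f.appLE V.1 U hUV g * 0
      rw [mul_zero, mul_comm, hz]
    obtain ⟨q, hq, hgq⟩ := Set.mem_iUnion₂.1 hmem
    obtain ⟨y, hy, hyq, hya⟩ := Groth.Agent.AssPtX.exists_isWeakAssPoint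
      Groth.Agent.QCoh.isQCoh_structureModule hU hq
    refine h y hya ((Scheme.IdealSheafData.mem_support_iff_of_mem (U := V) (hUV hy)).2 ?_)
    rw [hI, Scheme.zeroLocus_span, Scheme.zeroLocus_singleton]
    intro hb
    have hyb : y ∈ X.basicOpen (f.appLE V.1 U hUV g) := by
      rw [Scheme.basicOpen_appLE]
      exact ⟨hy, hb⟩
    exact (Groth.Agent.QCoh.mem_basicOpen_iff_notMem hU hy _).1 hyb (hyq ▸ hgq)
  · rw [ModPairLib.ideal_comap 𝓘 f V ⟨U, hU⟩ hUV, hI, Ideal.map_span, Set.image_singleton]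

end Groth.Agent.S8861
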