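import Groth.Statements.S8864
import Groth.Agent.DivX.MeroExt

set_option autoImplicit false
universe u
open CategoryTheory CategoryTheory.Limits AlgebraicGeometry TopologicalSpace
open SDiv

namespace Groth.Agent.S8864

/-- Let X be a locally Noetherian scheme and U an affine open of X. Then K_X(U), viewed as an
O_X(U)-algebra through the canonical map r ↦ r/1, is the total ring of fractions of O_X(U): it is a
localization of O_X(U) at the monoid of nonzerodivisors. -/
theorem result (X : Scheme.{u}) [IsLocallyNoetherian X] (U : X.affineOpens) :
    @IsLocalization Γ(X, U.1) _ (nonZeroDivisors Γ(X, U.1)) Γ(Mero.kmod X, U.1) _ (Mero.toK X U.1).toAlgebra := by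
  open Groth.Agent in
  exact DivX.isLocalization_kmod U
    ((AssPtX.finite_assPoints QCoh.isCoh_structureModule' U.2.isCompact).subset
      fun y hy => ⟨hy.1, AssPtX.isAssPoint_iff.2 hy.2⟩)

end Groth.Agent.S8864
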