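import Groth.Statements.S8865
import Mathlib.AlgebraicGeometry.Morphisms.QuasiCompact
-- import your own Groth.Agent.* helpers here

set_option autoImplicit false
universe u
open CategoryTheory CategoryTheory.Limits AlgebraicGeometry TopologicalSpace
open SDiv

namespace Groth.Agent.S8865

/-- Let X be a quasi-compact scheme, h a global section of O_X and f a global section of the sheaf of
meromorphic functions K_X whose restriction to the open X_h where h is invertible vanishes. Then h^n
f = 0 in K_X(X) for some natural number n. -/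
theorem result (X : Scheme.{u}) [CompactSpace ↥X] (h : Γ(X, ⊤))
    (f : Γ(Mero.kmod X, ⊤)) (hf : (Mero.kmod X).presheaf.map (homOfLE (le_top : X.basicOpen h ≤ ⊤)).op f = 0) :
    ∃ n : ℕ, Mero.toK X ⊤ h ^ n * f = 0 := by
    classical
    have key : ∀ x : ↥X, ∃ W : X.Opens, x ∈ W ∧ ∃ n : ℕ, ∀ m : ℕ, n ≤ m → ∀ (y : ↥X) (hy : y ∈ W),
        X.presheaf.germ ⊤ y trivial (h ^ m) • f.1 ⟨y, trivial⟩ = 0 := by
      intro x
      obtain ⟨V, hxV, i, a, b, hab⟩ := f.2 ⟨x, trivial⟩
      obtain ⟨W, hW, hxW, hWV⟩ := exists_isAffineOpen_mem_and_subset hxV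
      let a' : Γ(X, W) := X.presheaf.map (homOfLE hWV).op a
      let h' : Γ(X, W) := X.presheaf.map (homOfLE (le_top : W ≤ ⊤)).op h
      have hz : TopCat.Presheaf.restrictOpen a' (X.basicOpen h') (X.basicOpen_le h') = 0 := by
        refine TopCat.Presheaf.section_ext X.sheaf _ _ _ fun y hy => ?_
        refine Eq.trans ?_ (map_zero _).symm
        refine (TopCat.Presheaf.germ_res_apply X.presheaf _ y hy a').trans ?_
        refine (TopCat.Presheaf.germ_res_apply X.presheaf _ y _ a).trans ?_
        have hyh : y ∈ X.basicOpen h := by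
          have hy' : y ∈ X.basicOpen h' := hy
          rw [show h' = X.presheaf.map (homOfLE (le_top : W ≤ ⊤)).op h from rfl, Scheme.basicOpen_res] at hy'
          exact hy'.2
        have h0 : f.1 ⟨y, trivial⟩ = 0 := congrFun (congrArg Subtype.val hf) ⟨y, hyh⟩
        have h1 := (hab ⟨y, hWV (X.basicOpen_le h' hy)⟩).symm.trans h0
        obtain ⟨c, hc⟩ := LocalizedModule.mk_eq.1 (h1.trans (LocalizedModule.zero_mk 1).symm)
        have hc' : (c : X.presheaf.stalk y) * X.presheaf.germ V y (hWV (X.basicOpen_le h' hy)) a = 0 := by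
          simpa [Submonoid.smul_def] using hc
        exact (mem_nonZeroDivisors_iff_right.1 (Mero.regStalk_le_nonZeroDivisors y c.2)) _ (by rw [mul_comm]; exact hc')
      obtain ⟨n, hn⟩ := exists_pow_mul_eq_zero_of_res_basicOpen_eq_zero_of_isCompact X hW.isCompact a' h' hz
      refine ⟨W, hxW, n, fun m hm y hy => ?_⟩
      rw [show f.1 ⟨y, trivial⟩ = _ from hab ⟨y, hWV hy⟩, LocalizedModule.smul'_mk]
      have h2 : X.presheaf.germ ⊤ y trivial (h ^ m) * X.presheaf.germ V y (hWV hy) a = 0 := by
        have h3 := congrArg (X.presheaf.germ W y hy) hn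
        simp only [map_mul, map_pow, map_zero, a', h', TopCat.Presheaf.germ_res_apply] at h3
        erw [TopCat.Presheaf.germ_res_apply X.presheaf (homOfLE hWV) y hy a] at h3
        rw [map_pow, ← Nat.sub_add_cancel hm, pow_add, mul_assoc, h3, mul_zero]
      exact (Mero.mk_congr h2 rfl).trans (LocalizedModule.zero_mk _)
    choose W hxW n hn using key
    obtain ⟨t, ht⟩ := isCompact_univ.elim_finite_subcover (fun x => (W x : Set ↥X)) (fun x => (W x).2)
      fun x _ => Set.mem_iUnion.2 ⟨x, hxW x⟩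
    refine ⟨t.sup n, Subtype.ext (funext fun y => ?_)⟩
    obtain ⟨x, hxt, hyx⟩ := Set.mem_iUnion₂.1 (ht (Set.mem_univ y.1))
    rw [← map_pow]
    show (Mero.toK X ⊤ (h ^ t.sup n)).1 y * f.1 y = 0
    have h4 := hn x (t.sup n) (Finset.le_sup hxt) y.1 hyx
    rw [Mero.toK_apply]
    refine Eq.trans ?_ h4
    exact (Algebra.smul_def (X.presheaf.germ ⊤ y.1 trivial (h ^ t.sup n)) (f.1 y)).symm

end Groth.Agent.S8865
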