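import Groth.Statements.S8866
import Groth.Agent.DivX.RegMeroExist

set_option autoImplicit false
universe u
open CategoryTheory CategoryTheory.Limits AlgebraicGeometry TopologicalSpace
open SDiv

namespace Groth.Agent.S8866

/-- Let X be a reduced scheme in which every quasi-compact open subset has only finitely many
irreducible components, and fix an O_X-module L that is invertible. A regular meromorphic section of
L then exists. For an integral scheme this is the case of one irreducible component. -/
theorem result (X : Scheme.{u}) [IsReduced X]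
    (hfin : ∀ U : X.Opens, IsCompact (U : Set ↥X) → (irreducibleComponents ↥(U : Scheme.{u})).Finite)
    (L : X.Modules) (hL : PicF.IsInvertible L) : Mero.HasRegularMero L := by
  refine Groth.Agent.DivX.hasRegularMero_of_maximal hL (fun y z hy _ h =>
    (Groth.Agent.AssPtX.isWeakAssPoint_structureModule_iff Groth.Agent.QCoh.isQCoh_structureModule y).1 hy z h)
    fun x => ?_
  obtain ⟨V, hV, hxV, -⟩ := exists_isAffineOpen_mem_and_subset (x := x) (U := (⊤ : X.Opens)) trivial
  refine ⟨V, hxV, Set.Finite.of_finite_image (f := fun y => closure ((Subtype.val : ↥(V : Scheme.{u}) → ↥X) ⁻¹' {y}))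
    ((hfin V hV.isCompact).subset ?_) ?_⟩
  · rintro T ⟨y, ⟨hy, hya⟩, rfl⟩
    have hy1 : (Subtype.val : ↥(V : Scheme.{u}) → ↥X) ⁻¹' {y} = {(⟨y, hy⟩ : (V : Scheme.{u}))} :=
      Set.ext fun z => ⟨fun h => Subtype.ext h, fun h => congrArg Subtype.val h⟩
    simp only [hy1]
    refine ⟨isIrreducible_singleton.closure, fun T hT hsub => ?_⟩
    have hgp := hT.isGenericPoint_genericPoint_closure
    have hspec : hT.genericPoint ⤳ (⟨y, hy⟩ : (V : Scheme.{u})) :=
      hgp.specializes (subset_closure (hsub (subset_closure rfl)))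
    have heq : hT.genericPoint = (⟨y, hy⟩ : (V : Scheme.{u})) := Subtype.ext
      ((Groth.Agent.AssPtX.isWeakAssPoint_structureModule_iff Groth.Agent.QCoh.isQCoh_structureModule y).1 hya _
        (hspec.map continuous_subtype_val))
    rw [heq] at hgp
    exact subset_closure.trans_eq hgp.def.symm
  · intro a ha b hb hab
    have ha1 : (Subtype.val : ↥(V : Scheme.{u}) → ↥X) ⁻¹' {a} = {(⟨a, ha.1⟩ : (V : Scheme.{u}))} :=
      Set.ext fun z => ⟨fun h => Subtype.ext h, fun h => congrArg Subtype.val h⟩
    have hb1 : (Subtype.val : ↥(V : Scheme.{u}) → ↥X) ⁻¹' {b} = {(⟨b, hb.1⟩ : (V : Scheme.{u}))} :=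
      Set.ext fun z => ⟨fun h => Subtype.ext h, fun h => congrArg Subtype.val h⟩
    simp only [ha1, hb1] at hab
    exact congrArg Subtype.val (IsGenericPoint.eq (S := closure {(⟨a, ha.1⟩ : (V : Scheme.{u}))}) rfl (Eq.symm hab))

end Groth.Agent.S8866
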