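import Groth.Statements.S8871
import Groth.Agent.AssPtX.Noeth
import Groth.Agent.QCoh.Support
import Groth.Agent.S5752

set_option autoImplicit false
universe u
open CategoryTheory CategoryTheory.Limits AlgebraicGeometry TopologicalSpace
open SDiv

namespace Groth.Agent.S8871

/-- Let X be a locally Noetherian scheme and F a coherent O_X-module. Then F has no embedded associated
points (every associated point of F is maximal among the associated points of F under
specialization) if and only if F has property (S_1): for every point x, depth F_x ≥ min(1, dim Supp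
F_x), where dim Supp F_x is the Krull dimension of the support of the O_{X,x}-module F_x (for F_x =
0 the depth is infinite and the support empty, so the condition holds). -/
theorem result (X : Scheme.{u}) [IsLocallyNoetherian X] (F : X.Modules) (hF : Coh.IsCoh F) :
    (∀ x : ↥X, Curv2.IsAssPoint F x → ∀ y : ↥X, Curv2.IsAssPoint F y → y ⤳ x → y = x) ↔
      ∀ x : ↥X, min (1 : WithBot ℕ∞) (Module.supportDim ↑(X.presheaf.stalk x) ↑(F.presheaf.stalk x)) ≤
        ((LocCoh.depth (X.presheaf.stalk x) (F.presheaf.stalk x) : ℕ∞) : WithBot ℕ∞) := by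
  have hfin : ∀ x : ↥X, Module.Finite ↑(X.presheaf.stalk x) ↑(F.presheaf.stalk x) := fun x => by
    exact Groth.Agent.QCoh.finite_stalk_of_isFT hF.1 hF.2 x
  have hdepth : ∀ x : ↥X, LocCoh.depth (X.presheaf.stalk x) (F.presheaf.stalk x) = 0 ↔ Curv2.IsAssPoint F x :=
    fun x => by
      haveI := hfin x
      exact Groth.Agent.S5752.result _ _
  constructor
  · intro h x
    haveI := hfin x
    by_cases hd : LocCoh.depth (X.presheaf.stalk x) (F.presheaf.stalk x) = 0
    swap
    · refine (min_le_left _ _).trans ?_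
      have h1 : (1 : ℕ∞) ≤ LocCoh.depth (X.presheaf.stalk x) (F.presheaf.stalk x) :=
        ENat.one_le_iff_ne_zero.2 hd
      exact_mod_cast h1
    refine (min_le_right _ _).trans ?_
    rw [hd]
    refine Order.krullDim_nonpos_iff_forall_isMax.2 fun ⟨P, hP⟩ ⟨Q, hQ⟩ hle => ?_
    suffices hP' : P.asIdeal = IsLocalRing.maximalIdeal (X.presheaf.stalk x) by
      show Q.asIdeal ≤ P.asIdeal
      rw [hP']
      exact IsLocalRing.le_maximalIdeal Q.2.ne_top
    by_contra hne
    obtain ⟨V, hV, hxV, -⟩ := exists_isAffineOpen_mem_and_subset (x := x) (U := ⊤) trivial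
    letI := Groth.Agent.QCoh.stalkAlg (X := X) hxV
    letI := Groth.Agent.QCoh.stalkModule F hxV
    haveI := Groth.Agent.QCoh.isScalarTower_stalk F hxV
    haveI := Groth.Agent.QCoh.isLocalization_stalk' hV hxV
    haveI := Groth.Agent.QCoh.isLocalizedModule_germLin hF.1 hV hxV
    obtain ⟨t, ht⟩ := Module.mem_support_iff_exists_annihilator.1 hP
    obtain ⟨⟨m, c⟩, hmc⟩ := IsLocalizedModule.surj (hV.primeIdealOf ⟨x, hxV⟩).asIdeal.primeCompl
      (Groth.Agent.QCoh.germLin F hxV) t
    have hle' : Groth.Agent.WeakAss.annEl Γ(X, V) m ≤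
        P.asIdeal.comap (algebraMap Γ(X, V) (X.presheaf.stalk x)) := fun r hr => by
      refine Ideal.mem_comap.2 (ht ((Submodule.mem_annihilator_span_singleton _ _).2 ?_))
      have h1 : c • (algebraMap Γ(X, V) (X.presheaf.stalk x) r • t) = c • (0 : F.presheaf.stalk x) := by
        rw [algebraMap_smul, smul_comm, hmc, ← map_smul, Groth.Agent.WeakAss.mem_annEl.1 hr, map_zero,
          smul_zero]
      exact IsLocalizedModule.smul_injective (Groth.Agent.QCoh.germLin F hxV) c h1
    obtain ⟨q, hq, hqP⟩ := Ideal.exists_minimalPrimes_le hle'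
    obtain ⟨y, hy, hyq, hya⟩ := Groth.Agent.AssPtX.exists_isWeakAssPoint hF.1 hV
      (Groth.Agent.WeakAss.mem_weakAss_iff.2 ⟨m, hq⟩)
    have hPm : P.asIdeal.comap (algebraMap Γ(X, V) (X.presheaf.stalk x)) ≤
        (hV.primeIdealOf ⟨x, hxV⟩).asIdeal := by
      rw [← IsLocalization.AtPrime.comap_maximalIdeal (X.presheaf.stalk x) (hV.primeIdealOf ⟨x, hxV⟩).asIdeal]
      exact Ideal.comap_mono (IsLocalRing.le_maximalIdeal P.2.ne_top)
    have hyx : y ⤳ x :=
      (Groth.Agent.AssPtX.primeIdealOf_le_iff hV hy hxV).1 (hyq ▸ hqP.trans hPm)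
    have e : y = x := h x ((hdepth x).1 hd) y (Groth.Agent.AssPtX.isAssPoint_iff.2 hya) hyx
    subst e
    refine hne ?_
    have e2 : P.asIdeal.comap (algebraMap Γ(X, V) (X.presheaf.stalk y)) = (hV.primeIdealOf ⟨y, hxV⟩).asIdeal :=
      le_antisymm hPm (hyq.le.trans hqP)
    have e3 := congrArg (Ideal.map (algebraMap Γ(X, V) (X.presheaf.stalk y))) e2
    rwa [IsLocalization.map_comap (hV.primeIdealOf ⟨y, hxV⟩).asIdeal.primeCompl,
      IsLocalization.AtPrime.map_eq_maximalIdeal] at e3
  · intro h x hx y hy hyx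
    haveI := hfin x
    by_contra hne
    obtain ⟨V, hV, hxV, -⟩ := exists_isAffineOpen_mem_and_subset (x := x) (U := ⊤) trivial
    letI := Groth.Agent.QCoh.stalkAlg (X := X) hxV
    letI := Groth.Agent.QCoh.stalkModule F hxV
    haveI := Groth.Agent.QCoh.isScalarTower_stalk F hxV
    haveI := Groth.Agent.QCoh.isLocalization_stalk' hV hxV
    haveI := Groth.Agent.QCoh.isLocalizedModule_germLin hF.1 hV hxV
    have hyV : y ∈ V := hyx.mem_open V.2 hxV
    have hqp : (hV.primeIdealOf ⟨y, hyV⟩).asIdeal ≤ (hV.primeIdealOf ⟨x, hxV⟩).asIdeal :=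
      (Groth.Agent.AssPtX.primeIdealOf_le_iff hV hyV hxV).2 hyx
    have hdis : Disjoint ((hV.primeIdealOf ⟨x, hxV⟩).asIdeal.primeCompl : Set Γ(X, V))
        ((hV.primeIdealOf ⟨y, hyV⟩).asIdeal : Set Γ(X, V)) :=
      Set.disjoint_left.2 fun _ hr hr' => hr (hqp hr')
    have hQ := (Groth.Agent.WeakAss.mem_weakAss_iff_map (hV.primeIdealOf ⟨x, hxV⟩).asIdeal.primeCompl
      (R' := X.presheaf.stalk x) (Groth.Agent.QCoh.germLin F hxV) hdis).1
      ((Groth.Agent.AssPtX.isWeakAssPoint_iff_sections hF.1 hV hyV).1 (Groth.Agent.AssPtX.isAssPoint_iff.1 hy))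
    have hc := IsLocalization.comap_map_of_isPrime_disjoint (hV.primeIdealOf ⟨x, hxV⟩).asIdeal.primeCompl
      (X.presheaf.stalk x) (hV.primeIdealOf ⟨y, hyV⟩).2 hdis
    obtain ⟨t, ht⟩ := Groth.Agent.WeakAss.mem_weakAss_iff.1 hQ
    let Q : PrimeSpectrum (X.presheaf.stalk x) := ⟨_, ht.1.1⟩
    have hQs : Q ∈ Module.support (X.presheaf.stalk x) (F.presheaf.stalk x) :=
      Module.mem_support_iff_exists_annihilator.2 ⟨t, ht.1.2⟩
    let M : PrimeSpectrum (X.presheaf.stalk x) := ⟨IsLocalRing.maximalIdeal _, inferInstance⟩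
    have hMs : M ∈ Module.support (X.presheaf.stalk x) (F.presheaf.stalk x) :=
      Module.mem_support_iff_exists_annihilator.2 ⟨t, ht.1.2.trans (IsLocalRing.le_maximalIdeal Q.2.ne_top)⟩
    have hlt : (⟨Q, hQs⟩ : Module.support (X.presheaf.stalk x) (F.presheaf.stalk x)) < ⟨M, hMs⟩ := by
      refine lt_of_le_of_ne (IsLocalRing.le_maximalIdeal Q.2.ne_top) fun e => hne ?_
      have e1 : Q.asIdeal = M.asIdeal := congrArg (fun w => w.1.asIdeal) e
      have e2 := congrArg (Ideal.comap (algebraMap Γ(X, V) (X.presheaf.stalk x))) e1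
      have e3 : (hV.primeIdealOf ⟨y, hyV⟩).asIdeal = (hV.primeIdealOf ⟨x, hxV⟩).asIdeal :=
        hc.symm.trans (e2.trans (IsLocalization.AtPrime.comap_maximalIdeal _ _))
      have e4 := congrArg hV.fromSpec (PrimeSpectrum.ext e3)
      rwa [hV.fromSpec_primeIdealOf, hV.fromSpec_primeIdealOf] at e4
    have hone : (1 : WithBot ℕ∞) ≤ Module.supportDim (X.presheaf.stalk x) (F.presheaf.stalk x) :=
      Order.one_le_krullDim_iff.2 ⟨_, _, hlt⟩
    have h0 := h x
    rw [min_eq_left hone, (hdepth x).2 hx] at h0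
    exact absurd h0 (by simp)

end Groth.Agent.S8871
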