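import Groth.Statements.S8880
import Groth.Agent.NormX.Cases
import Groth.Agent.AmpleX.QuasiAffine


set_option autoImplicit false
universe u
open CategoryTheory CategoryTheory.Limits AlgebraicGeometry TopologicalSpace
open SDiv

namespace Groth.Agent.S8880

/-- Let π : X ⟶ Y be a finite morphism of schemes such that a norm of degree d exists for π, and assume
X is quasi-affine. Then Y is quasi-affine. -/
theorem result {X Y : Scheme.{u}} (π : X ⟶ Y) [IsFinite π] (d : ℕ) (hN : Nrm.HasNorm π d)
    (hX : X.IsQuasiAffine) : Y.IsQuasiAffine := by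
  obtain ⟨N⟩ := hN
  haveI : Surjective π := ⟨Groth.Agent.NormX.surjective_of_normOfDegree N⟩
  obtain ⟨e⟩ := Groth.Agent.PicClLib.nonempty_pullback_structureModule π
  have h1 : CohB1.IsAmple ((Scheme.Modules.pullback π).obj (Coh.structureModule Y)) :=
    Groth.Agent.AmpleX.isAmple_of_iso e.symm
      (Groth.Agent.AmpleX.isAmple_of_isQuasiAffine Groth.Agent.InvX.isInvertible_structureModule)
  have h2 := Groth.Agent.NormX.isAmple_of_datum (Groth.Agent.NormX.Datum.ofPullback
    (N := Groth.Agent.NormX.WNorm.ofNorm N) Groth.Agent.InvX.isInvertible_structureModule d (B := ⊤) fun U _ => N.norm_app U) h1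
  exact Groth.Agent.AmpleX.isQuasiAffine_of_isAmple
    (Groth.Agent.AmpleX.isAmple_of_tensorPow Groth.Agent.InvX.isInvertible_structureModule N.one_le h2)

end Groth.Agent.S8880
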