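import Groth.Statements.S8886
import Groth.Agent.FlatMisc.RedTotal
import Groth.Agent.FDescent.Generalizing

set_option autoImplicit false
universe u
open CategoryTheory CategoryTheory.Limits AlgebraicGeometry TopologicalSpace
open SDiv

namespace Groth.Agent.S8886

/-- Let f : X ⟶ Y be a flat morphism of schemes with Y integral. If the scheme-theoretic fibre of f over
the generic point of Y is integral, then X is integral. -/
theorem result {X Y : Scheme.{u}} (f : X ⟶ Y) [Flat f] [IsIntegral Y]
    (h : IsIntegral (f.fiber (genericPoint ↥Y))) : IsIntegral X := by
  haveI := h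
  have hirr : IsIrreducible (f.base ⁻¹' {genericPoint ↥Y}) := by
    rw [← Scheme.Hom.range_fiberι f (genericPoint ↥Y), ← Set.image_univ]
    exact (IrreducibleSpace.isIrreducible_univ _).image _ (f.fiberι _).continuous.continuousOn
  haveI : IrreducibleSpace X := Groth.Agent.FDescent.irreducible_of_generic_fibre (Flat.generalizingMap f) hirr
  haveI : AlgebraicGeometry.IsReduced X := by
    refine FlatMisc.isReduced_of_flat_of_generic_fibres f ?_ fun η hη => ?_
    · rw [irreducibleComponents_eq_singleton]
      exact Set.finite_singleton _
    · rw [irreducibleComponents_eq_singleton, Set.mem_singleton_iff] at hη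
      have : η = genericPoint ↥Y := IsGenericPoint.eq hη (genericPoint_spec ↥Y)
      subst this
      infer_instance
  exact isIntegral_of_irreducibleSpace_of_isReduced X

end Groth.Agent.S8886
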