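import Groth.Statements.S8891
import Groth.Agent.Ref1X.DepthIso

set_option autoImplicit false
universe u
open CategoryTheory CategoryTheory.Limits AlgebraicGeometry TopologicalSpace
open SDiv

namespace Groth.Agent.S8891

/-- Let X be an integral locally Noetherian scheme and φ : F ⟶ G a morphism of quasi-coherent
O_X-modules with F coherent and G torsion free. Assume that for every point x either the stalk map
F_x → G_x is an isomorphism, or depth(F_x) ≥ 2 and x is not the generic point of X. Then φ is an
isomorphism. (The published statement allows the second alternative at the generic point as well;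
since the zero module has infinite depth, F = 0 and G = O_X then satisfy every hypothesis while 0 →
O_X is not an isomorphism. The general criterion this is a special case of requires x not to be
associated to G, which for torsion-free G ≠ 0 fails exactly at the generic point; so the generic
point is excluded from the second alternative here.) -/
theorem result (X : Scheme.{u}) [IsIntegral X] [IsLocallyNoetherian X] {F G : X.Modules}
    (φ : F ⟶ G) (hF : Coh.IsCoh F) (hG : Coh.IsQCoh G)
    (htf : ∀ x : ↥X, NoZeroSMulDivisors ↑(X.presheaf.stalk x) ↑(G.presheaf.stalk x))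
    (h : ∀ x : ↥X, Function.Bijective ((TopCat.Presheaf.stalkFunctor AddCommGrpCat.{u} x).map (Scheme.Modules.Hom.mapPresheaf φ)) ∨
      ((2 : ℕ∞) ≤ LocCoh.depth (X.presheaf.stalk x) (F.presheaf.stalk x) ∧ x ≠ genericPoint ↥X)) :
    IsIso φ := by
  refine Groth.Agent.Ref1X.isIso_of_depth_two hF hG φ fun x => (h x).imp_right fun ⟨hd, hne⟩ => ⟨hd, fun hass => ?_⟩
  obtain ⟨hp, e, he⟩ := Groth.Agent.Alg6.mem_ass_iff.1 hass
  have he0 : e ≠ 0 := fun h0 => hp.ne_top ((Ideal.eq_top_iff_one _).2 ((he 1).2 (by rw [h0, smul_zero])))
  haveI := htf x
  have hbot : IsLocalRing.maximalIdeal (X.presheaf.stalk x) = ⊥ := (Submodule.eq_bot_iff _).2 fun a ha =>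
    (smul_eq_zero.1 ((he a).1 ha)).resolve_right he0
  refine hne ?_
  have h0 : ringKrullDim (X.presheaf.stalk x) = 0 :=
    ringKrullDim_eq_zero_of_isField (IsLocalRing.isField_iff_maximalIdeal_eq.2 hbot)
  rw [ringKrullDim_stalk_eq_coheight] at h0
  by_contra hx
  have h1 := Groth.Agent.Ref1X.coheight_add_one_le ((genericPoint_spec X).specializes (Set.mem_univ x)) (Ne.symm hx)
  have h2 : Order.coheight x = 0 := by exact_mod_cast h0
  rw [h2] at h1
  simp at h1

end Groth.Agent.S8891
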