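import Groth.Statements.S8900
import Groth.Agent.AssPtX.Basic
import Groth.Agent.H4Hens.WeakAssField
import Groth.Agent.QCoh.PullbackBC
-- import your own Groth.Agent.* helpers here

set_option autoImplicit false
universe u
open CategoryTheory CategoryTheory.Limits AlgebraicGeometry TopologicalSpace
open SDiv

set_option linter.style.haveILetI false
set_option backward.isDefEq.respectTransparency false
set_option backward.isDefEq.respectTransparency.types false
namespace Groth.Agent.S8900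

/-- Let K/k be an extension of fields, X a scheme over k, F a quasi-coherent O_X-module, and y a point
of X_K = X ×_k Spec K with image x in X. If y is weakly associated to the pullback of F to X_K, then
x is weakly associated to F. -/
theorem result (k : Type u) [Field k] (K : Type u) [Field K] [Algebra k K] (X : Scheme.{u})
    [X.Over (Spec (CommRingCat.of k))] (F : X.Modules) (hF : Coh.IsQCoh F) (y : ↥(Curv2.bc k X K))
    (hy : Curv2.IsWeakAssPoint ((Scheme.Modules.pullback (Curv2.bcFst k X K)).obj F) y) :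
    Curv2.IsWeakAssPoint F (Curv2.bcFst k X K y) := by
    open Groth.Agent Opposite in
    classical
    let e := Curv2.bcFst k X K
    let b := Curv2.bcSnd k X K
    let a := X ↘ Spec (CommRingCat.of k)
    have he : IsPullback e b a (Spec.map (CommRingCat.ofHom (algebraMap k K))) := IsPullback.of_hasPullback _ _
    obtain ⟨U, hU, hxU, -⟩ := exists_isAffineOpen_mem_and_subset (x := e y) (U := ⊤) trivial
    haveI : IsAffineHom e := MorphismProperty.of_isPullback (P := @IsAffineHom) he.flip inferInstance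
    have hWa : IsAffineOpen (e ⁻¹ᵁ U) := hU.preimage e
    have hW : e ⁻¹ᵁ U = e ⁻¹ᵁ U ⊓ b ⁻¹ᵁ ⊤ := by simp
    have hST : (⊤ : (Spec (CommRingCat.of K)).Opens) ≤ Spec.map (CommRingCat.ofHom (algebraMap k K)) ⁻¹ᵁ ⊤ := le_of_eq rfl
    have hUX : U ≤ a ⁻¹ᵁ ⊤ := fun _ _ => trivial
    have hpo := (isIso_pushoutSection_iff he hST hUX hW).mp
      (isIso_pushoutSection_of_isAffineOpen he hST hUX hW (isAffineOpen_top _) (isAffineOpen_top _) hU)
    letI : Field Γ(Spec (CommRingCat.of k), ⊤) :=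
      ((Scheme.ΓSpecIso (CommRingCat.of k)).commRingCatIsoToRingEquiv.toMulEquiv.isField (Field.toIsField k)).toField
    letI : Field Γ(Spec (CommRingCat.of K), ⊤) :=
      ((Scheme.ΓSpecIso (CommRingCat.of K)).commRingCatIsoToRingEquiv.toMulEquiv.isField (Field.toIsField K)).toField
    letI : Algebra Γ(Spec (CommRingCat.of k), ⊤) Γ(X, U) := (a.appLE ⊤ U hUX).hom.toAlgebra
    letI : Algebra Γ(Spec (CommRingCat.of k), ⊤) Γ(Spec (CommRingCat.of K), ⊤) :=
      ((Spec.map (CommRingCat.ofHom (algebraMap k K))).appLE ⊤ ⊤ hST).hom.toAlgebra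
    letI : Algebra Γ(X, U) Γ(Curv2.bc k X K, e ⁻¹ᵁ U) := (e.appLE U (e ⁻¹ᵁ U) le_rfl).hom.toAlgebra
    letI : Algebra Γ(Spec (CommRingCat.of K), ⊤) Γ(Curv2.bc k X K, e ⁻¹ᵁ U) :=
      (b.appLE ⊤ (e ⁻¹ᵁ U) (fun _ _ => trivial)).hom.toAlgebra
    letI : Algebra Γ(Spec (CommRingCat.of k), ⊤) Γ(Curv2.bc k X K, e ⁻¹ᵁ U) :=
      (a.appLE ⊤ U hUX ≫ e.appLE U (e ⁻¹ᵁ U) le_rfl).hom.toAlgebra
    haveI : IsScalarTower Γ(Spec (CommRingCat.of k), ⊤) Γ(X, U) Γ(Curv2.bc k X K, e ⁻¹ᵁ U) :=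
      .of_algebraMap_eq fun _ => rfl
    haveI : IsScalarTower Γ(Spec (CommRingCat.of k), ⊤) Γ(Spec (CommRingCat.of K), ⊤) Γ(Curv2.bc k X K, e ⁻¹ᵁ U) :=
      .of_algebraMap_eq fun r => congr($(hpo.w).hom r)
    haveI : Algebra.IsPushout Γ(Spec (CommRingCat.of k), ⊤) Γ(Spec (CommRingCat.of K), ⊤) Γ(X, U)
        Γ(Curv2.bc k X K, e ⁻¹ᵁ U) := CommRingCat.isPushout_iff_isPushout.mp hpo.flip
    letI : Module Γ(X, U) Γ((Scheme.Modules.pullback e).obj F, e ⁻¹ᵁ U) :=
      Module.compHom _ (e.appLE U (e ⁻¹ᵁ U) le_rfl).hom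
    haveI : IsScalarTower Γ(X, U) Γ(Curv2.bc k X K, e ⁻¹ᵁ U) Γ((Scheme.Modules.pullback e).obj F, e ⁻¹ᵁ U) :=
      .of_algebraMap_smul fun _ _ => rfl
    let l : Γ(F, U) →ₗ[Γ(X, U)] Γ((Scheme.Modules.pullback e).obj F, e ⁻¹ᵁ U) :=
      { toFun := QCoh.pullSec e F (V := U) le_rfl
        map_add' := QCoh.pullSec_add _ _ _
        map_smul' := QCoh.pullSec_smul _ _ _ }
    have hl : IsBaseChange Γ(Curv2.bc k X K, e ⁻¹ᵁ U) l :=
      QCoh.isBaseChange_pullback hU e hWa hF le_rfl (fun _ => rfl) l fun _ => rfl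
    have hyW : y ∈ e ⁻¹ᵁ U := hxU
    have hq := (AssPtX.isWeakAssPoint_iff_sections (QCoh.isQCoh_pullback e hF) hWa hyW).1 hy
    have hp := H4Hens.WeakAssField.pushout (k := Γ(Spec (CommRingCat.of k), ⊤))
      (K := Γ(Spec (CommRingCat.of K), ⊤)) hl hq
    refine (AssPtX.isWeakAssPoint_iff_sections hF hU hxU).2 ?_
    convert hp using 1
    exact (congrArg PrimeSpectrum.asIdeal (IsAffineOpen.comap_primeIdealOf_appLE U hU (e ⁻¹ᵁ U) hWa le_rfl hyW)).symm

end Groth.Agent.S8900
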