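import Groth.Statements.S8917
import Groth.Agent.FittX.Sheaf
import Groth.Agent.GrpOmega.Shear
import Groth.Agent.OmegaUniv.Unram
-- import your own Groth.Agent.* helpers here

set_option autoImplicit false
universe u
open CategoryTheory CategoryTheory.Limits AlgebraicGeometry TopologicalSpace
open SDiv

namespace Groth.Agent.S8917

/-- Let f : X ⟶ S be locally of finite type and quasi-separated and let g : S' ⟶ S be a morphism, X' = X
×_S S' with projections g' : X' ⟶ X and f' : X' ⟶ S'. Then for every i the inverse image ideal sheaf
under g' of the i-th Fitting ideal of Ω_{X/S} is the i-th Fitting ideal of Ω_{X'/S'}: the Fitting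
subschemes of Ω are compatible with base change. The published statement does not assume f
quasi-separated; this row does, because the module Ω_{X/S} used here is defined for quasi-separated
f. -/
theorem result {X S S' : Scheme.{u}} (f : X ⟶ S) [LocallyOfFiniteType f] [QuasiSeparated f] (g : S' ⟶ S)
    (i : ℕ) :
    (Fitt.sheafIdeal (Omega.sheaf f) i).comap (pullback.fst f g) = Fitt.sheafIdeal (Omega.sheaf (pullback.snd f g)) i := by
  let M := (Scheme.Modules.pullback (pullback.fst f g)).obj (Omega.sheaf f)
  obtain ⟨e⟩ := GrpOmega.nonempty_omega_baseChange (IsPullback.of_hasPullback f g)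
  haveI : QuasiSeparated (pullback.snd f g) := inferInstance
  haveI : LocallyOfFiniteType (pullback.snd f g) := inferInstance
  rw [FittX.sheafIdeal_comap (pullback.fst f g) (OmegaUniv.isQCoh_omega f) (OmegaUniv.isFT_omega f)]
  refine FittX.eq_of_cover fun x => ?_
  obtain ⟨U, hU, hxU, -⟩ := exists_isAffineOpen_mem_and_subset (x := x) (U := ⊤) trivial
  have hM : Coh.IsQCoh M := QCoh.isQCoh_pullback _ (OmegaUniv.isQCoh_omega f)
  have hMft : CohB1.IsFT M := FittX.isFT_pullback _ (OmegaUniv.isQCoh_omega f) (OmegaUniv.isFT_omega f)
  haveI := QCoh.finite_of_isFT hM hMft hU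
  refine ⟨⟨U, hU⟩, hxU, ?_⟩
  rw [FittX.sheafIdeal_ideal hM hMft, FittX.sheafIdeal_ideal (OmegaUniv.isQCoh_omega _) (OmegaUniv.isFT_omega _)]
  exact FittX.ideal_congr
    { toFun := e.hom.app U
      invFun := e.inv.app U
      left_inv := fun z => by
        rw [← ConcreteCategory.comp_apply, ← Scheme.Modules.Hom.comp_app, e.hom_inv_id]; rfl
      right_inv := fun z => by
        rw [← ConcreteCategory.comp_apply, ← Scheme.Modules.Hom.comp_app, e.inv_hom_id]; rfl
      map_add' := fun a b => map_add _ _ _
      map_smul' := fun a z => e.hom.app_smul _ z } i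

end Groth.Agent.S8917
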