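import Groth.Statements.S8928
import Mathlib
-- import your own Groth.Agent.* helpers here

set_option autoImplicit false
universe u
open scoped TensorProduct
open Disc

namespace Groth.Agent.S8928

/-- Let A → B be a map of Noetherian rings such that nonzerodivisors of A map to nonzerodivisors of B
and Q(A) ⊗_A B is flat over the total ring of fractions Q(A). Then B_q is flat over A for every
associated prime q of B and for every prime q of B lying over an associated prime of A. -/
theorem result (A B : Type u) [CommRing A] [CommRing B] [IsNoetherianRing A] [IsNoetherianRing B] [Algebra A B] (h1 : nonZeroDivisors A ≤ (nonZeroDivisors B).comap (algebraMap A B)) (h2 : Module.Flat (FractionRing A) (FractionRing A ⊗[A] B)) : (∀ (q : Ideal B) [q.IsPrime], IsAssociatedPrime q B → Module.Flat A (Localization.AtPrime q)) ∧ (∀ (q : Ideal B) [q.IsPrime], IsAssociatedPrime (q.comap (algebraMap A B)) A → Module.Flat A (Localization.AtPrime q)) := by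
  have key : ∀ (q : Ideal B) [q.IsPrime], (∀ s ∈ nonZeroDivisors A, algebraMap A B s ∉ q) →
      Module.Flat A (Localization.AtPrime q) := by
    intro q _ hq
    let S := Algebra.algebraMapSubmonoid B (nonZeroDivisors A)
    haveI : IsScalarTower A (FractionRing A) (FractionRing A ⊗[A] B) := inferInstance
    haveI : Module.Flat A (FractionRing A) := IsLocalization.flat _ (nonZeroDivisors A)
    haveI : Module.Flat (FractionRing A) (FractionRing A ⊗[A] B) := h2
    haveI hT0 : Module.Flat A (FractionRing A ⊗[A] B) := Module.Flat.trans A (FractionRing A) _
    haveI : IsLocalizedModule (nonZeroDivisors A) (IsScalarTower.toAlgHom A B (Localization S)).toLinearMap :=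
      isLocalizedModule_iff_isLocalization.mpr inferInstance
    haveI hT : Module.Flat A (Localization S) := Module.Flat.of_linearEquiv
      (IsLocalizedModule.linearEquiv (nonZeroDivisors A)
        (IsScalarTower.toAlgHom A B (Localization S)).toLinearMap (TensorProduct.mk A (FractionRing A) B 1))
    have hle : S ≤ q.primeCompl := by
      rintro _ ⟨s, hs, rfl⟩
      exact hq s hs
    letI : Algebra (Localization S) (Localization.AtPrime q) :=
      IsLocalization.localizationAlgebraOfSubmonoidLe (Localization S) (Localization.AtPrime q) S q.primeCompl hle
    haveI : IsScalarTower B (Localization S) (Localization.AtPrime q) :=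
      IsLocalization.localization_isScalarTower_of_submonoid_le _ _ S q.primeCompl hle
    haveI : IsLocalization (q.primeCompl.map (algebraMap B (Localization S))) (Localization.AtPrime q) :=
      IsLocalization.isLocalization_of_submonoid_le _ _ S q.primeCompl hle
    haveI : IsScalarTower A (Localization S) (Localization.AtPrime q) := IsScalarTower.to₁₃₄ A B _ _
    haveI : Module.Flat (Localization S) (Localization.AtPrime q) :=
      IsLocalization.flat _ (q.primeCompl.map (algebraMap B (Localization S)))
    exact Module.Flat.trans A (Localization S) _
  refine ⟨fun q _ hq => key q fun s hs hsq => ?_, fun q _ hq => key q fun s hs hsq => ?_⟩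
  · have hnz := h1 hs
    have := biUnion_associatedPrimes_eq_compl_nonZeroDivisors B
    exact absurd hnz (this.le (Set.mem_biUnion hq hsq))
  · have := biUnion_associatedPrimes_eq_compl_nonZeroDivisors A
    exact absurd hs (this.le (Set.mem_biUnion hq (show s ∈ q.comap (algebraMap A B) from hsq)))


end Groth.Agent.S8928
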