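import Groth.Statements.S8929
import Mathlib
-- import your own Groth.Agent.* helpers here

set_option autoImplicit false
universe u
open scoped TensorProduct
open Disc

namespace Groth.Agent.S8929

/-- Let A → B be a map of Noetherian rings with the going-up property. If B_q is flat over A for every
associated prime q of B and for every prime q of B lying over an associated prime of A, then Q(A)
⊗_A B is flat over the total ring of fractions Q(A). -/
theorem result (A B : Type u) [CommRing A] [CommRing B] [IsNoetherianRing A] [IsNoetherianRing B] [Algebra A B] [Algebra.HasGoingUp A B] (h3 : ∀ (q : Ideal B) [q.IsPrime], IsAssociatedPrime q B → Module.Flat A (Localization.AtPrime q)) (h4 : ∀ (q : Ideal B) [q.IsPrime], IsAssociatedPrime (q.comap (algebraMap A B)) A → Module.Flat A (Localization.AtPrime q)) : Module.Flat (FractionRing A) (FractionRing A ⊗[A] B) := by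
  let T := FractionRing A ⊗[A] B
  letI : Algebra B T := Algebra.TensorProduct.rightAlgebra
  haveI : IsScalarTower A B T := Algebra.TensorProduct.right_isScalarTower
  haveI : IsLocalization (Algebra.algebraMapSubmonoid B (nonZeroDivisors A)) T := inferInstance
  rw [Module.flat_iff_of_isLocalization (FractionRing A) (nonZeroDivisors A)]
  refine Module.flat_of_isLocalized_maximal T T (fun P _ => Localization.AtPrime P)
    (fun P _ => Algebra.linearMap T (Localization.AtPrime P)) fun P hP => ?_
  let q : Ideal B := P.comap (algebraMap B T)
  haveI : IsLocalization.AtPrime (Localization.AtPrime P) q :=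
    IsLocalization.isLocalization_isLocalization_atPrime_isLocalization
      (Algebra.algebraMapSubmonoid B (nonZeroDivisors A)) (Localization.AtPrime P) P
  have hsub : ((q.comap (algebraMap A B)) : Set A) ⊆ ⋃ p ∈ associatedPrimes A A, (p : Set A) := by
    rw [biUnion_associatedPrimes_eq_compl_nonZeroDivisors]
    intro a ha hn
    refine hP.ne_top (P.eq_top_of_isUnit_mem ha ?_)
    exact IsLocalization.map_units T (⟨algebraMap A B a, a, hn, rfl⟩ :
      Algebra.algebraMapSubmonoid B (nonZeroDivisors A))
  obtain ⟨p, hp, hle⟩ := (Ideal.subset_union_prime_finite (associatedPrimes.finite A A) ⊥ ⊥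
    (fun _ h _ _ => h.isPrime)).1 hsub
  haveI := hp.isPrime
  haveI : q.LiesOver (q.comap (algebraMap A B)) := ⟨rfl⟩
  obtain ⟨Q, hQ, hQp, hQo⟩ := Ideal.exists_ideal_ge_liesOver_of_le q hle
  haveI := hQp
  haveI := h4 Q (by
    have : p = Q.comap (algebraMap A B) := hQo.over
    exact this ▸ hp)
  have hle' : Q.primeCompl ≤ q.primeCompl := fun x hx h => hx (hQ h)
  letI := IsLocalization.localizationAlgebraOfSubmonoidLe (Localization.AtPrime Q) (Localization.AtPrime P) _ _ hle'
  haveI := IsLocalization.localization_isScalarTower_of_submonoid_le (Localization.AtPrime Q) (Localization.AtPrime P) _ _ hle'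
  haveI : IsScalarTower A (Localization.AtPrime Q) (Localization.AtPrime P) :=
    IsScalarTower.to₁₃₄ A B (Localization.AtPrime Q) (Localization.AtPrime P)
  haveI := IsLocalization.isLocalization_of_submonoid_le (Localization.AtPrime Q) (Localization.AtPrime P) _ _ hle'
  haveI := IsLocalization.flat (Localization.AtPrime P)
    (q.primeCompl.map (algebraMap B (Localization.AtPrime Q)))
  exact Module.Flat.trans A (Localization.AtPrime Q) (Localization.AtPrime P)

end Groth.Agent.S8929
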