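import Groth.Statements.S8930
import Mathlib
import Groth.Agent.RingPO.Open
-- import your own Groth.Agent.* helpers here

set_option autoImplicit false
universe u
open AlgebraicGeometry
open Disc

namespace Groth.Agent.S8930

open Groth.Agent TensorProduct CategoryTheory AlgebraicGeometry

/-- Given two factorizations A → B' → B and A → B'' → B of a ring map with A → B' and A → B'' finite and
Spec(B) → Spec(B'), Spec(B) → Spec(B'') open immersions, there is an A-subalgebra C of B which is
finite over A, contains the images of B' and B'', and is such that Spec(B) → Spec(C) is an open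
immersion. (Such an A → B is quasi-finite; that hypothesis of the published statement is implied by
the factorizations and is not repeated.) -/
theorem result (A B B' B'' : Type u) [CommRing A] [CommRing B] [CommRing B'] [CommRing B''] [Algebra A B] [Algebra A B'] [Algebra A B''] [Algebra B' B] [Algebra B'' B] [IsScalarTower A B' B] [IsScalarTower A B'' B] [Module.Finite A B'] [Module.Finite A B''] (h' : IsOpenImmersion (Spec.map (CommRingCat.ofHom (algebraMap B' B)))) (h'' : IsOpenImmersion (Spec.map (CommRingCat.ofHom (algebraMap B'' B)))) : ∃ C : Subalgebra A B, Module.Finite A C ∧ Set.range (algebraMap B' B) ⊆ (C : Set B) ∧ Set.range (algebraMap B'' B) ⊆ (C : Set B) ∧ IsOpenImmersion (Spec.map (CommRingCat.ofHom C.val.toRingHom)) := by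
  let φ' : B' →ₐ[A] B := IsScalarTower.toAlgHom A B' B
  let φ'' : B'' →ₐ[A] B := IsScalarTower.toAlgHom A B'' B
  let C : Subalgebra A B := (Algebra.TensorProduct.productMap φ' φ'').range
  have hC' : ∀ x, φ' x ∈ C := fun x => ⟨x ⊗ₜ 1, by simp⟩
  have hC'' : ∀ x, φ'' x ∈ C := fun x => ⟨1 ⊗ₜ x, by simp⟩
  haveI hfin : Module.Finite A C :=
    Module.Finite.of_surjective (Algebra.TensorProduct.productMap φ' φ'').rangeRestrict.toLinearMap
      (AlgHom.rangeRestrict_surjective _)
  refine ⟨C, hfin, ?_, ?_, ?_⟩
  · rintro _ ⟨x, rfl⟩; exact hC' x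
  · rintro _ ⟨x, rfl⟩; exact hC'' x
  let ψ : B' →+* C := (φ'.codRestrict C hC').toRingHom
  let ι : C →+* B := C.val.toRingHom
  have hcomp : ι.comp ψ = algebraMap B' B := rfl
  haveI := h'
  have hinj : Function.Injective (PrimeSpectrum.comap (algebraMap B' B)) :=
    (Spec.map (CommRingCat.ofHom (algebraMap B' B))).isOpenEmbedding.injective
  have hinjι : Function.Injective (PrimeSpectrum.comap ι) := by
    intro x y hxy
    apply hinj
    rw [← hcomp, PrimeSpectrum.comap_comp_apply, PrimeSpectrum.comap_comp_apply, hxy]
  refine IsOpenImmersion.of_forall_source_exists _ hinjι fun q => ?_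
  obtain ⟨_, ⟨r, rfl⟩, hqr, hsub⟩ := PrimeSpectrum.isTopologicalBasis_basic_opens.exists_subset_of_mem_open
    (Set.mem_range_self (f := PrimeSpectrum.comap (algebraMap B' B)) q)
    (Spec.map (CommRingCat.ofHom (algebraMap B' B))).isOpenEmbedding.isOpen_range
  have hb := RingPO.awayMap_bijective_of_isOpenImmersion (algebraMap B' B) r hsub
  refine ⟨Spec (.of (Localization.Away (algebraMap B' B r))),
    Spec.map (CommRingCat.ofHom (algebraMap B (Localization.Away (algebraMap B' B r)))),
    IsOpenImmersion.of_isLocalization (algebraMap B' B r), ?_, ?_⟩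
  · show q ∈ Set.range (PrimeSpectrum.comap (algebraMap B (Localization.Away (algebraMap B' B r))))
    rw [PrimeSpectrum.localization_away_comap_range (Localization.Away (algebraMap B' B r)) (algebraMap B' B r)]
    exact hqr
  · have e : Function.Bijective (Localization.awayMap ι (ψ r)) := by
      refine ⟨IsLocalization.map_injective_of_injective _ _ _ Subtype.val_injective, ?_⟩
      rw [Localization.awayMap_surjective_iff]
      intro a
      obtain ⟨x, m, hx⟩ := Localization.awayMap_surjective_iff.mp hb.2 a
      exact ⟨ψ x, m, hx⟩
    haveI : IsIso (CommRingCat.ofHom (Localization.awayMap ι (ψ r))) :=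
      (ConcreteCategory.isIso_iff_bijective _).2 e
    haveI : IsOpenImmersion (Spec.map (CommRingCat.ofHom (algebraMap C (Localization.Away (ψ r))))) :=
      IsOpenImmersion.of_isLocalization (ψ r)
    have : CommRingCat.ofHom ι ≫ CommRingCat.ofHom (algebraMap B (Localization.Away (algebraMap B' B r))) =
        CommRingCat.ofHom (algebraMap C (Localization.Away (ψ r))) ≫ CommRingCat.ofHom (Localization.awayMap ι (ψ r)) :=
      CommRingCat.hom_ext (RingHom.ext fun (x : C) => by
        show algebraMap B (Localization.Away (ι (ψ r))) (ι x) =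
          Localization.awayMap ι (ψ r) (algebraMap C (Localization.Away (ψ r)) x)
        simp [Localization.awayMap, IsLocalization.Away.map])
    have key := ((Spec.map_comp _ _).symm.trans (congrArg Spec.map this)).trans (Spec.map_comp _ _)
    refine cast (congrArg (@IsOpenImmersion _ _) key.symm) ?_
    refine @IsOpenImmersion.comp _ _ _ _ _ (@IsOpenImmersion.of_isIso _ _ _ (isIso_SpecMap_iff.mpr e)) ?_
    exact ‹IsOpenImmersion (Spec.map (CommRingCat.ofHom (algebraMap C (Localization.Away (ψ r)))))›

end Groth.Agent.S8930
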