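import Groth.Statements.S8939
import Groth.Agent.H6KosDer.Koszul
import Groth.Agent.RGammaI.KoszulInf
-- import your own Groth.Agent.* helpers here

set_option autoImplicit false
universe u
open LocCoh

namespace Groth.Agent.S8939

/-- Given a derivation θ of a Noetherian ring A and an ideal I, each local cohomology module H^i_I(A)
carries an additive operator D with D(a • ξ) = θ(a) • ξ + a • D(ξ) (existence only; the published
statement is for any ring and a finitely generated ideal with the local cohomology of the extended
alternating Čech complex, which for Noetherian A is the local cohomology used here). -/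
theorem result (A : Type u) [CommRing A] [IsNoetherianRing A] (I : Ideal A) (θ : Derivation ℤ A A) (i : ℕ) : ∃ D : LocCoh.H I i A →+ LocCoh.H I i A, ∀ (a : A) (ξ : LocCoh.H I i A), D (a • ξ) = θ a • ξ + a • D ξ := by
  obtain ⟨S, hS⟩ := (IsNoetherian.noetherian I : I.FG)
  have hI : I = Ideal.span {a | a ∈ S.toList} := by
    rw [← hS]
    simp [Ideal.span]
  subst hI
  obtain ⟨e⟩ := Groth.Agent.RGammaI.nonempty_H_equiv_koszulHLim (ModuleCat.of A A) S.toList i
  obtain ⟨D, hD⟩ := Groth.Agent.H6KosDer.exists_op_koszulHLim θ (ModuleCat.of A A)
    (θ.toLinearMap.toAddMonoidHom) (fun a x => by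
      show θ (a * x) = θ a * x + a * θ x
      rw [θ.leibniz]; simp only [smul_eq_mul]; ring) S.toList i
  refine ⟨(e.symm.toLinearMap.toAddMonoidHom.comp D).comp e.toLinearMap.toAddMonoidHom,
    fun a ξ => ?_⟩
  simp [hD]

end Groth.Agent.S8939
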