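import Groth.Statements.S8951
import Groth.Agent.CIBaseChange.Tensor
import Groth.Agent.S9294
-- import your own Groth.Agent.* helpers here

set_option autoImplicit false
set_option backward.isDefEq.respectTransparency false
universe u
open scoped TensorProduct
open CInt

namespace Groth.Agent.S8951

theorem ci_of_isRegularRing (R : Type u) [CommRing R] [IsRegularRing R] (q : Ideal R) [q.IsPrime] :
    Pi1.IsCompleteIntersection (Localization.AtPrime q) :=
  haveI := IsRegularRing.isRegularLocalRing_localization (R := R) q
  Groth.Agent.KRegLib.isCompleteIntersection_of_regular _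

/-- Complete intersection fibres are preserved by composing with a regular map. For flat maps A → B → C
of Noetherian rings, if all local rings of the fibres of A → B are complete intersections and B → C
is regular, then all local rings of the fibres of A → C are complete intersections. -/
theorem result (A B C : Type u) [CommRing A] [CommRing B] [CommRing C] [IsNoetherianRing A] [IsNoetherianRing B] [IsNoetherianRing C] [Algebra A B] [Algebra B C] [Algebra A C] [IsScalarTower A B C] [Module.Flat A B] [Module.Flat B C] (hAB : ∀ (q : Ideal A) [q.IsPrime] (P : Ideal (q.Fiber B)) [P.IsPrime], Pi1.IsCompleteIntersection (Localization.AtPrime P)) (hBC : CAlg.IsRegularHom B C) : ∀ (q : Ideal A) [q.IsPrime] (P : Ideal (q.Fiber C)) [P.IsPrime], Pi1.IsCompleteIntersection (Localization.AtPrime P) := by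
  intro p _ P _
  letI := (inferInstance : Algebra A p.ResidueField)
  haveI : Algebra.EssFiniteType A p.ResidueField := inferInstance
  let L := p.ResidueField
  haveI : IsNoetherianRing (TensorProduct A B L) := Algebra.EssFiniteType.isNoetherianRing B _
  haveI : IsNoetherianRing (TensorProduct A C L) := Algebra.EssFiniteType.isNoetherianRing C _
  haveI : IsNoetherianRing (p.Fiber B) :=
    isNoetherianRing_of_ringEquiv _ (Algebra.TensorProduct.comm A B L).toRingEquiv
  haveI : IsNoetherianRing (p.Fiber C) :=
    isNoetherianRing_of_ringEquiv _ (Algebra.TensorProduct.comm A C L).toRingEquiv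
  haveI := Groth.Agent.FlatLoc6.isNoetherianRing_tensor_finite p.ResidueField L (p.Fiber C)
  haveI : IsNoetherianRing (TensorProduct B (TensorProduct A B L) C) :=
    isNoetherianRing_of_ringEquiv _ (Groth.Agent.FlatLoc6.compEquiv A B C p L).symm
  haveI := hBC.1
  let eB : p.Fiber B ≃+* TensorProduct A B L :=
    (Algebra.TensorProduct.lid p.ResidueField (p.Fiber B)).symm.toRingEquiv.trans
      (Groth.Agent.FlatLoc6.baseEquiv A B p L)
  let eC : TensorProduct B (TensorProduct A B L) C ≃+* p.Fiber C :=
    (Groth.Agent.FlatLoc6.compEquiv A B C p L).trans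
      (Algebra.TensorProduct.lid p.ResidueField (p.Fiber C)).toRingEquiv
  refine Groth.Agent.CIBaseChange.ci_atPrime_of_ringEquiv eC (fun Q _ => ?_) P
  refine Groth.Agent.CIBaseChange.ci_of_flat_of_fibres (TensorProduct A B L) _
    (fun r _ => Groth.Agent.CIBaseChange.ci_atPrime_of_ringEquiv eB (fun q _ => hAB p q) r) (fun r _ q _ => ?_) Q
  haveI : IsRegularRing (r.Fiber (TensorProduct B (TensorProduct A B L) C)) := by
    obtain ⟨_, _, _, _⟩ := Groth.Agent.FlatLoc6.exists_instances B (TensorProduct A B L) r r.ResidueField
    obtain ⟨e⟩ := Groth.Agent.FlatLoc6.fiber_baseChange_equiv B C (TensorProduct A B L) r r.ResidueField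
      (r.comap (algebraMap B (TensorProduct A B L)))
    haveI := Groth.Agent.FlatLoc6.essFiniteType_ext B (TensorProduct A B L) r r.ResidueField
      (r.comap (algebraMap B (TensorProduct A B L)))
    haveI := (hBC.2 (r.comap (algebraMap B (TensorProduct A B L)))).1
    haveI := Groth.Agent.FlatLoc6.regular_tensor_of_geometricallyRegular
      (hBC.2 (r.comap (algebraMap B (TensorProduct A B L)))).2 r.ResidueField
    exact IsRegularRing.of_ringEquiv
      (R := TensorProduct (r.comap (algebraMap B (TensorProduct A B L))).ResidueField r.ResidueField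
        ((r.comap (algebraMap B (TensorProduct A B L))).Fiber C))
      (e.symm.trans (Algebra.TensorProduct.lid r.ResidueField _).toRingEquiv)
  exact @ci_of_isRegularRing (r.Fiber (TensorProduct B (TensorProduct A B L) C)) _ ‹_› q _

end Groth.Agent.S8951
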