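import Groth.Statements.S8954
import Mathlib
import Groth.Agent.SynLift.Adapted
import Groth.Agent.SynLift.Lift
import Groth.Agent.Synt29.Descent
import Groth.Agent.Synt29.AwayGCI


set_option autoImplicit false
universe u
open Synt

namespace Groth.Agent.S8954

open MvPolynomial Groth.Agent.Synt29

theorem finite_maximals (A B : Type u) [CommRing A] [IsLocalRing A] [CommRing B] [Algebra A B]
    [Module.Finite A B] : Finite (MaximalSpectrum B) := by
  let m := IsLocalRing.maximalIdeal A
  let I : Ideal B := m.map (algebraMap A B)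
  letI : Field (A ⧸ m) := Ideal.Quotient.field m
  haveI : Module.Finite (A ⧸ m) (B ⧸ I) := Module.Finite.of_restrictScalars_finite A _ _
  haveI : IsArtinianRing (B ⧸ I) := IsArtinianRing.of_finite (A ⧸ m) (B ⧸ I)
  have hle : ∀ M : MaximalSpectrum B, I ≤ M.asIdeal := fun M => by
    haveI := M.isMaximal
    refine Ideal.map_le_iff_le_comap.2 (le_of_eq ?_)
    exact (IsLocalRing.eq_maximalIdeal (Ideal.isMaximal_comap_of_isIntegral_of_isMaximal M.asIdeal)).symm
  have hker : ∀ M : MaximalSpectrum B, RingHom.ker (Ideal.Quotient.mk I) ≤ M.asIdeal := fun M => by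
    rw [Ideal.mk_ker]; exact hle M
  refine Finite.of_injective (fun M : MaximalSpectrum B => (⟨M.asIdeal.map (Ideal.Quotient.mk I),
    (M.isMaximal.isPrime |> fun h => Ideal.map_isPrime_of_surjective Ideal.Quotient.mk_surjective
      (H := h) (hker M))⟩ : PrimeSpectrum (B ⧸ I))) ?_
  intro M N h
  have h2 := congrArg (fun P : PrimeSpectrum (B ⧸ I) => P.asIdeal.comap (Ideal.Quotient.mk I)) h
  simp only [Ideal.comap_map_of_surjective _ Ideal.Quotient.mk_surjective, ← RingHom.ker_eq_comap_bot,
    sup_eq_left.2 (hker _)] at h2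
  exact MaximalSpectrum.ext h2

theorem dim_zero (k R : Type u) [Field k] [CommRing R] [Algebra k R] [Module.Finite k R] [Nontrivial R] :
    ringKrullDim R = 0 := by
  haveI := IsArtinianRing.of_finite k R
  exact ringKrullDimZero_iff_ringKrullDim_eq_zero.1
    (Ring.KrullDimLE.mk₀ fun I hI => (IsArtinianRing.isPrime_iff_isMaximal I).1 hI)

set_option backward.isDefEq.respectTransparency false in
theorem backward (A B : Type u) [CommRing A] [CommRing B] [Algebra A B] [Module.Finite A B] {n : ℕ}
    (F : Fin n → MvPolynomial (Fin n) A) (e : B ≃ₐ[A] Synt.RelGCIRing A n n F) : Synt.IsSyntomic A B := by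
  haveI : Module.Finite A (Synt.RelGCIRing A n n F) := Module.Finite.equiv e.toLinearEquiv
  have hG : Synt.IsRelGCI A n n F := fun p hp => by
    refine ⟨le_rfl, ?_⟩
    rw [Nat.sub_self, Nat.cast_zero]
    exact dim_zero p.asIdeal.ResidueField (p.asIdeal.Fiber (Synt.RelGCIRing A n n F))
  exact Groth.Agent.SynLift.isSyntomic_of_algEquiv e.symm (isSyntomic_relGCIRing hG)

theorem forward (A B : Type u) [CommRing A] [IsLocalRing A] [CommRing B] [Algebra A B] [Module.Finite A B]
    (h : Synt.IsSyntomic A B) :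
    ∃ (n : ℕ) (F : Fin n → MvPolynomial (Fin n) A), Nonempty (B ≃ₐ[A] Synt.RelGCIRing A n n F) := by
  classical
  haveI := h.2.1
  obtain ⟨n, φ, hφ⟩ := Algebra.FiniteType.iff_quotient_mvPolynomial''.1
    (inferInstance : Algebra.FiniteType A B)
  haveI := finite_maximals A B
  haveI := Fintype.ofFinite (MaximalSpectrum B)
  let P := MvPolynomial (Fin n) A
  let J : Ideal P := RingHom.ker φ.toRingHom
  have hφr : Function.Surjective φ.toRingHom := hφ
  have hJfg : J.FG := Algebra.FinitePresentation.ker_fG_of_surjective φ hφ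
  choose c hcn F H hH hF hHJ _hG using fun M : MaximalSpectrum B =>
    Groth.Agent.SynLift.exists_adapted h φ hφ ⟨M.asIdeal, M.isMaximal.isPrime⟩
  let F' : MaximalSpectrum B → Fin n → P := fun M l => if hl : l.1 < c M then F M ⟨l.1, hl⟩ else 0
  have hF' : ∀ M l, F' M l ∈ J := fun M l => by
    simp only [F']
    split_ifs with hl
    · exact hF M _
    · exact zero_mem J
  have hFF' : ∀ M, Ideal.span (Set.range (F M)) ≤ Ideal.span (Set.range (F' M)) := fun M => by
    rw [Ideal.span_le]
    rintro _ ⟨i, rfl⟩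
    refine Ideal.subset_span ⟨⟨i.1, lt_of_lt_of_le i.2 (hcn M)⟩, ?_⟩
    simp [F', i.2]
  have hcop : Pairwise (Function.onFun IsCoprime fun M : MaximalSpectrum B => M.asIdeal) := fun M N hMN =>
    Ideal.isCoprime_iff_sup_eq.2 (M.isMaximal.coprime_of_ne N.isMaximal fun he => hMN (MaximalSpectrum.ext he))
  choose b hb using fun M : MaximalSpectrum B =>
    Ideal.exists_forall_sub_mem_ideal hcop (fun N => if N = M then (1 : B) else 0)
  choose eM heM using fun M => hφ (b M)
  let f : Fin n → P := fun l => ∑ M, eM M * F' M l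
  let K : Ideal P := Ideal.span (Set.range f)
  have hfJ : K ≤ J := by
    rw [Ideal.span_le]
    rintro _ ⟨l, rfl⟩
    exact Ideal.sum_mem _ fun M _ => J.mul_mem_left _ (hF' M l)
  let C : Ideal P :=
    { carrier := {s | ∀ j ∈ J, s * j ∈ K}
      add_mem' := fun {a b} ha hb j hj => by rw [add_mul]; exact add_mem (ha j hj) (hb j hj)
      zero_mem' := fun j _ => by rw [zero_mul]; exact zero_mem K
      smul_mem' := fun a s hs j hj => by rw [smul_eq_mul, mul_assoc]; exact K.mul_mem_left _ (hs j hj) }
  have hCJ : C ⊔ J = ⊤ := by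
    by_contra hne
    obtain ⟨Q, hQ, hle⟩ := Ideal.exists_le_maximal _ hne
    have hJQ : J ≤ Q := le_sup_right.trans hle
    let M : MaximalSpectrum B := ⟨Q.map φ.toRingHom,
      (Ideal.map_eq_top_or_isMaximal_of_surjective φ.toRingHom hφ hQ).resolve_left fun ht => hQ.ne_top (by
        have := congrArg (Ideal.comap φ.toRingHom) ht
        rwa [Ideal.comap_map_of_surjective _ hφr, ← RingHom.ker_eq_comap_bot, sup_eq_left.2 hJQ,
          Ideal.comap_top] at this)⟩
    have hQM : ∀ x, φ x ∈ M.asIdeal ↔ x ∈ Q := fun x => by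
      show x ∈ Ideal.comap φ.toRingHom (Ideal.map φ.toRingHom Q) ↔ _
      rw [Ideal.comap_map_of_surjective _ hφr, ← RingHom.ker_eq_comap_bot, sup_eq_left.2 hJQ]
    have hdiff : ∀ l, f l - F' M l ∈ Q * J := fun l => by
      have he : f l - F' M l = ∑ N, (eM N - if N = M then 1 else 0) * F' N l := by
        simp only [f, sub_mul, Finset.sum_sub_distrib, ite_mul, one_mul, zero_mul, Finset.sum_ite_eq',
          Finset.mem_univ, if_true]
      rw [he]
      refine Ideal.sum_mem _ fun N _ => Ideal.mul_mem_mul ((hQM _).1 ?_) (hF' N l)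
      have h1 := hb N M
      rw [map_sub, heM, apply_ite φ, map_one, map_zero]
      by_cases hNM : N = M
      · subst hNM; simpa using h1
      · simpa [hNM, Ne.symm hNM] using h1
    have hF'le : Ideal.span (Set.range (F' M)) ≤ K ⊔ Q * J := by
      rw [Ideal.span_le]
      rintro _ ⟨l, rfl⟩
      rw [← sub_sub_cancel (f l) (F' M l)]
      exact sub_mem (Ideal.mem_sup_left (Ideal.subset_span ⟨l, rfl⟩)) (Ideal.mem_sup_right (hdiff l))
    have hHQ : H M ∉ Q := fun hm => hH M ((hQM _).2 hm)
    obtain ⟨u, q, hqQ, huq⟩ := hQ.exists_inv hHQ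
    have hJle : J ≤ K ⊔ Q * J := fun j hj => by
      have h1 : j = u * (H M * j) + q * j := by rw [← mul_assoc, ← add_mul, huq, one_mul]
      rw [h1]
      exact add_mem (Ideal.mul_mem_left _ _ (hF'le (hFF' M (hHJ M j hj))))
        (Ideal.mem_sup_right (Ideal.mul_mem_mul hqQ hj))
    obtain ⟨r, hr1, hr2⟩ := Submodule.exists_sub_one_mem_and_smul_eq_zero_of_fg_of_le_smul Q
      (Submodule.map K.mkQ J) (Submodule.FG.map _ hJfg) (by
        rw [← Submodule.map_smul'', smul_eq_mul]
        rintro _ ⟨j, hj, rfl⟩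
        obtain ⟨k, hk, y, hy, rfl⟩ := Submodule.mem_sup.1 (hJle hj)
        refine ⟨y, hy, ?_⟩
        rw [map_add, show K.mkQ k = 0 from (Submodule.Quotient.mk_eq_zero K).2 hk, zero_add])
    have hrC : r ∈ C := fun j hj => by
      have := hr2 _ (Submodule.mem_map_of_mem hj)
      rw [← map_smul] at this
      exact (Submodule.Quotient.mk_eq_zero K).1 this
    have : (1 : P) ∈ Q := by
      have h1 := sub_mem (hle (Ideal.mem_sup_left hrC)) hr1
      simpa using h1
    exact hQ.ne_top ((Ideal.eq_top_iff_one _).2 this)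
  obtain ⟨g, hgC, j, hjJ, hgj⟩ := Submodule.mem_sup.1 (show (1 : P) ∈ C ⊔ J by rw [hCJ]; trivial)
  have hφg : φ g = 1 := by
    have := congrArg φ hgj
    rwa [map_add, map_one, show φ j = 0 from hjJ, add_zero] at this
  let S := Synt.RelGCIRing A n n f
  let π : S →ₐ[A] B := Ideal.Quotient.liftₐ _ φ (fun x hx => hfJ hx)
  let gS : S := Ideal.Quotient.mk _ g
  have hπg : π gS = 1 := hφg
  have hu : IsUnit (π gS) := by rw [hπg]; exact isUnit_one
  let T := Localization.Away gS
  let ρ : T →ₐ[A] B := IsLocalization.Away.liftAlgHom gS (f := π) hu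
  have hρ0 : ∀ y, ρ (algebraMap S T y) = π y := fun y => IsLocalization.Away.lift_eq gS hu y
  have hρ : Function.Bijective ρ := by
    refine ⟨(injective_iff_map_eq_zero ρ).2 fun x hx => ?_, fun y => ?_⟩
    · obtain ⟨N, a, ha⟩ := IsLocalization.Away.surj gS x
      obtain ⟨a, rfl⟩ := Ideal.Quotient.mk_surjective a
      have h0 : φ a = 0 := by
        show π (Ideal.Quotient.mk _ a) = 0
        rw [← hρ0, ← ha, map_mul, hx, zero_mul]
      have h1 : algebraMap S T (Ideal.Quotient.mk _ a) = 0 := by
        refine (IsLocalization.Away.algebraMap_isUnit gS).mul_right_eq_zero.1 ?_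
        rw [← map_mul, ← map_mul, Ideal.Quotient.eq_zero_iff_mem.2 (hgC a h0), map_zero]
      rw [h1] at ha
      exact ((IsLocalization.Away.algebraMap_isUnit gS).pow N).mul_left_eq_zero.1 ha
    · obtain ⟨x, rfl⟩ := hφ y
      exact ⟨algebraMap S T (Ideal.Quotient.mk _ x), (hρ0 _).trans rfl⟩
  obtain ⟨e⟩ := awayEquiv f g
  exact ⟨n + 1, snocPoly f g, ⟨((AlgEquiv.ofBijective ρ hρ).symm).trans e⟩⟩

end Groth.Agent.S8954

namespace Groth.Agent.S8954

/-- The equivalence of being finite syntomic with having a square presentation, stated over a local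
base. For a local ring A and a finite A-algebra B, the map A → B is syntomic if and only if B ≅
A[x_1, …, x_n]/(f_1, …, f_n) as A-algebras for some n and f_1, …, f_n ∈ A[x_1, …, x_n]. (The
published statement is for a finite morphism of schemes and asserts such a presentation over some
affine open neighbourhood of each point of the base; over a local base that neighbourhood is the
whole spectrum.) -/
theorem result (A B : Type u) [CommRing A] [IsLocalRing A] [CommRing B] [Algebra A B] [Module.Finite A B] : Synt.IsSyntomic A B ↔ ∃ (n : ℕ) (F : Fin n → MvPolynomial (Fin n) A), Nonempty (B ≃ₐ[A] Synt.RelGCIRing A n n F) := by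
  refine ⟨forward A B, ?_⟩
  rintro ⟨n, F, ⟨e⟩⟩
  exact backward A B F e

end Groth.Agent.S8954
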