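import Groth.Statements.S8956
import Groth.Agent.RGammaI.ShriekDual
import Groth.Agent.RGammaI.RHomBridge
import Groth.Agent.KFlatLib.Ring.Dualizing
import Groth.Agent.KFlatLib.Ring.ShriekVia
import Groth.Agent.KFlatLib.Ring.DualizingFibreRows
import Groth.Agent.KFlatLib.Ring.ShriekPerfect
-- import your own Groth.Agent.* helpers here

set_option autoImplicit false
universe u
open CategoryTheory
attribute [local instance] HasDerivedCategory.standard
open Dual2

namespace Groth.Agent.S8956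

open Groth.Agent.KFlatLib in
lemma core {A B P : Type u} [CommRing A] [CommRing B] [CommRing P] [IsNoetherianRing A]
    (ι : A →+* P) (hι : ι.Flat) (ψ : P →+* B) (χ : A →+* B) (hχ : ψ.comp ι = χ)
    [DTen.HasLTen A] [DTen.HasRHom A] [DTen.HasLTen B] [DTen.HasRHom B] [DTen.HasLBase ι] [DTen.HasLBase χ]
    {Rψ : Dual.D P ⥤ Dual.D B} (adj : DRing.restrictD ψ ⊣ Rψ) {ω : Dual.D A} (hω : Dual.IsDualizing A ω)
    (hN : DRing.HasFiniteInjDim P ((DTen.LBase ι).obj ω)) {K : Dual.D A}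
    (hK : ∀ i : ℤ, Module.Finite A (Dual.HD A K i)) (n : ℤ) :
    Nonempty ((Rψ.obj ((DTen.LBase ι).obj K))⟦n⟧ ≅
      (DTen.RHomR B ((DTen.LBase χ).obj ((DTen.RHomR A K).obj ω))).obj ((Rψ.obj ((DTen.LBase ι).obj ω))⟦n⟧)) := by
  haveI := hasLTen P
  haveI : DTen.HasRHom P := hasRHom
  haveI := hasLTen₃ P
  haveI := isSymMonoidal P
  haveI := hasLTen₃ B
  haveI := isSymMonoidal B
  haveI := hasLBase ψ
  haveI := hasResTen ι
  haveI := resLegIso ι
  haveI := hasResTen ψ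
  haveI := resLegIso ψ
  have hinj := finiteInjDim_of_isDualizing hω
  have hX : ∀ i : ℤ, Module.Finite A (Dual.HD A ((DTen.RHomR A K).obj ω) i) :=
    finite_hd_RHom_of_finite_hd hK hω.finite_cohomology hinj
  obtain ⟨eK⟩ := nonempty_biduality hω hK
  let X := (DTen.RHomR A K).obj ω
  haveI := isIso_rhomBC ι X ((DTen.LBase ι).obj ω)
  haveI := Groth.Agent.RGammaI.ShriekDual.isIso_bcRHom_of_finite_hd ι (hasTorAmplitudeIn_resUnitCx ι hι) X ω hX hinj hN
  obtain ⟨c⟩ := Groth.Agent.RGammaI.ShriekDual.nonempty_shriek_RHom ψ adj ((DTen.LBase ι).obj X)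
  obtain ⟨s⟩ := Groth.Agent.RGammaI.ShriekDual.nonempty_RHomR_shift (A := B)
    ((DTen.LBase ψ).obj ((DTen.LBase ι).obj X)) n
  obtain ⟨l⟩ := nonempty_LBase_comp ι ψ χ hχ
  exact ⟨(shiftFunctor _ n).mapIso (Rψ.mapIso ((DTen.LBase ι).mapIso eK.symm ≪≫ asIso (DTen.bcRHom ι X ω)) ≪≫ c.app _) ≪≫
    (s.app (Rψ.obj ((DTen.LBase ι).obj ω))).symm ≪≫ ((DTen.RHom B).mapIso (l.app X).op.symm).app _⟩

/-- Let φ : A → B be a finite type map of Noetherian rings, ω_A a dualizing complex for A and ω_B =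
φ^!(ω_A), with φ^! computed through a presentation ψ : A[x_1, …, x_n] → B (derived base change
assumed to exist, RHom_P(B, −) a right adjoint of restriction of scalars); write D_A = RHom_A(−,
ω_A) and D_B = RHom_B(−, ω_B). For every complex K of A-modules with finite cohomology modules
(RHom_A(K, −) assumed to exist) and every complex E of B-modules representing D_A(K) ⊗^L_A B
(RHom_B(E, −) assumed to exist), φ^!(K) is isomorphic in D(B) to RHom_B(E, ω_B) = D_B(D_A(K) ⊗^L_A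
B). -/
theorem result (A B : Type u) [CommRing A] [CommRing B] [IsNoetherianRing A] [IsNoetherianRing B] [Algebra A B] (n : ℕ) (ψ : MvPolynomial (Fin n) A →ₐ[A] B) (hψ : Function.Surjective ψ) [DRing.HasLBaseChange (algebraMap A (MvPolynomial (Fin n) A))] (Rψ : Dual.D (MvPolynomial (Fin n) A) ⥤ Dual.D B) (adj : DRing.restrictD ψ.toRingHom ⊣ Rψ) [DRing.HasLBaseChange (algebraMap A B)] (ω : Dual.D A) (hω : Dual.IsDualizing A ω) (K : DRing.Cx A) [DRing.HasRHomCx K] (hK : ∀ i : ℤ, Module.Finite A (Dual.HD A (DRing.toD K) i)) (E : DRing.Cx B) [DRing.HasRHomCx E] (hE : Nonempty (DRing.toD E ≅ (DRing.LBaseChange (algebraMap A B)).obj ((DRing.RHomCx K).obj ω))) : Nonempty (Dual2.shriekVia n Rψ (DRing.toD K) ≅ (DRing.RHomCx E).obj (Dual2.shriekVia n Rψ ω)) := by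
  let P := MvPolynomial (Fin n) A
  haveI := Groth.Agent.KFlatLib.hasLBase (algebraMap A P)
  haveI := Groth.Agent.KFlatLib.hasLBase (algebraMap A B)
  haveI := Groth.Agent.KFlatLib.hasLTen A
  haveI : DTen.HasRHom A := Groth.Agent.KFlatLib.hasRHom
  haveI := Groth.Agent.KFlatLib.hasLTen B
  haveI : DTen.HasRHom B := Groth.Agent.KFlatLib.hasRHom
  have hN : Dual.IsDualizing P ((DTen.LBase (algebraMap A P)).obj ω) := by
    refine Groth.Agent.KFlatLib.isDualizing_LBase_of_gorenstein_fibres hω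
      (Groth.Agent.KFlatLib.ringKrullDim_lt_top_of_finiteType (Groth.Agent.KFlatLib.ringKrullDim_lt_top_of_isDualizing hω))
      fun q => Groth.Agent.LC.fibLoc_of_fiber q.asIdeal fun p _ => ?_
    haveI := Groth.Agent.LC.gorensteinRing_of_isRegularRing p.ResidueField
    haveI := Groth.Agent.LC.gorensteinRing_mvPolynomial_fin p.ResidueField n
    exact Groth.Agent.LC.gorensteinRing_of_ringEquiv
      (MvPolynomial.algebraTensorAlgEquiv (σ := Fin n) A p.ResidueField).toRingEquiv.symm inferInstance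
  obtain ⟨c⟩ := core (algebraMap A P) (RingHom.flat_algebraMap_iff.2 inferInstance) ψ.toRingHom (algebraMap A B)
    (RingHom.ext fun r => ψ.commutes r) adj hω (Groth.Agent.KFlatLib.finiteInjDim_of_isDualizing hN) hK n
  obtain ⟨e₁⟩ := Groth.Agent.KFlatLib.nonempty_LBaseChange_iso (algebraMap A P)
  obtain ⟨e₂⟩ := Groth.Agent.KFlatLib.nonempty_LBaseChange_iso (algebraMap A B)
  obtain ⟨eK⟩ := Groth.Agent.RGammaI.nonempty_RHomR_iso_RHomCx K ω
  obtain ⟨e⟩ := hE
  obtain ⟨eE⟩ := Groth.Agent.RGammaI.nonempty_RHomR_iso_RHomCx E (Dual2.shriekVia n Rψ ω)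
  let t : (DTen.LBase (algebraMap A B)).obj ((DTen.RHomR A (DRing.toD K)).obj ω) ≅ DRing.toD E :=
    (DTen.LBase (algebraMap A B)).mapIso eK ≪≫ (e₂.app _).symm ≪≫ e.symm
  exact ⟨(shiftFunctor _ (n : ℤ)).mapIso (Rψ.mapIso (e₁.app (DRing.toD K))) ≪≫ c ≪≫
    ((DTen.RHom B).mapIso t.op.symm).app _ ≪≫
      (DTen.RHomR B (DRing.toD E)).mapIso ((shiftFunctor _ (n : ℤ)).mapIso (Rψ.mapIso (e₁.app ω).symm)) ≪≫ eE⟩


end Groth.Agent.S8956
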