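import Groth.Statements.S8972
import Mathlib

set_option autoImplicit false
open Synt

namespace Groth.Agent.S8972

open MvPolynomial

/-- The universal algebra is a polynomial ring: eliminate the constant coefficients. -/
theorem exists_equiv (n d : ℕ) :
    Nonempty ((MvPolynomial (Fin n) (MvPolynomial {p : Fin n × UnivIdx n d // p.2.exponent ≠ 0} ℤ)) ≃+* UnivAlg n d) := by
  classical
  let P := {p : Fin n × UnivIdx n d // p.2.exponent ≠ 0}
  let C' := MvPolynomial (Fin n) (MvPolynomial P ℤ)
  let E₀ : UnivIdx n d := ⟨fun _ => 0, by simp⟩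
  have hE₀ : E₀.exponent = 0 := by ext j; simp [E₀, UnivIdx.exponent]
  have hinj : Function.Injective (UnivIdx.exponent (n := n) (d := d)) := fun E E' h => by
    refine Subtype.ext (funext fun j => Fin.ext ?_)
    exact DFunLike.congr_fun h j
  let g : Fin n → C' := fun i => ∑ E : UnivIdx n d,
    if hE : E.exponent ≠ 0 then monomial E.exponent (X ⟨(i, E), hE⟩ : MvPolynomial P ℤ) else 0
  let φA : Fin n × UnivIdx n d → C' := fun p =>
    if h : p.2.exponent ≠ 0 then MvPolynomial.C (X ⟨p, h⟩) else -g p.1
  let Φ : MvPolynomial (Fin n) (UnivBase n d) →+* C' :=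
    eval₂Hom (eval₂Hom (Int.castRingHom C') φA) fun i => X i
  have hX : ∀ (E : UnivIdx n d) (i : Fin n), Φ (monomial E.exponent (X (i, E))) = φA (i, E) * monomial E.exponent 1 := by
    intro E i
    show eval₂ _ _ (monomial E.exponent (X (i, E))) = _
    rw [eval₂_monomial, eval₂Hom_X', monomial_eq, map_one, one_mul]
  have hΦ : ∀ i, Φ (univPoly n d i) = 0 := by
    intro i
    rw [univPoly, map_sum, Finset.sum_congr rfl fun E _ => hX E i, ← Finset.add_sum_erase _ _ (Finset.mem_univ E₀)]
    have h0 : φA (i, E₀) = -g i := dif_neg (not_not.2 hE₀)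
    rw [h0, hE₀, monomial_zero', map_one, mul_one, show g i = ∑ E : UnivIdx n d,
      (if hE : E.exponent ≠ 0 then monomial E.exponent (X ⟨(i, E), hE⟩ : MvPolynomial P ℤ) else 0) from rfl,
      ← Finset.add_sum_erase (f := fun E : UnivIdx n d =>
        if hE : E.exponent ≠ 0 then monomial E.exponent (X ⟨(i, E), hE⟩ : MvPolynomial P ℤ) else 0) _ (Finset.mem_univ E₀),
      dif_neg (not_not.2 hE₀), zero_add, neg_add_eq_zero]
    refine Finset.sum_congr rfl fun E hE => ?_
    have hne : E.exponent ≠ 0 := fun h => Finset.ne_of_mem_erase hE (hinj (h.trans hE₀.symm))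
    rw [dif_pos hne, show φA (i, E) = MvPolynomial.C (X ⟨(i, E), hne⟩) from dif_pos hne, C_mul_monomial, mul_one]
  let mkB : MvPolynomial (Fin n) (UnivBase n d) →+* MvPolynomial (Fin n) (UnivBase n d) ⧸ univIdeal n d :=
    Ideal.Quotient.mk _
  let inc : C' →+* MvPolynomial (Fin n) (UnivBase n d) := MvPolynomial.map (rename Subtype.val).toRingHom
  let Ψ : C' →+* MvPolynomial (Fin n) (UnivBase n d) ⧸ univIdeal n d := mkB.comp inc
  have hker : univIdeal n d ≤ RingHom.ker Φ := Ideal.span_le.2 (Set.range_subset_iff.2 hΦ)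
  let Φ' : MvPolynomial (Fin n) (UnivBase n d) ⧸ univIdeal n d →+* C' := Ideal.Quotient.lift _ Φ fun a ha => hker ha
  have h1 : Φ'.comp Ψ = RingHom.id C' := by
    refine MvPolynomial.ringHom_ext' (MvPolynomial.ringHom_ext (fun z => by simp) fun p => ?_) fun i => ?_
    · show Φ (MvPolynomial.map _ (MvPolynomial.C (X p))) = MvPolynomial.C (X p)
      rw [map_C]
      show eval₂ _ _ (MvPolynomial.C (rename Subtype.val (X p))) = _
      rw [rename_X, eval₂_C, eval₂Hom_X']
      exact dif_pos p.2
    · show Φ (MvPolynomial.map _ (X i)) = X i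
      rw [map_X]
      exact eval₂Hom_X' _ _ i
  have hincA : ∀ (i : Fin n) (E : UnivIdx n d), Ψ (φA (i, E)) = mkB (MvPolynomial.C (X (i, E))) := by
    intro i E
    by_cases h : E.exponent ≠ 0
    · rw [show φA (i, E) = MvPolynomial.C (X ⟨(i, E), h⟩) from dif_pos h]
      exact congrArg mkB ((map_C _ _).trans (congrArg MvPolynomial.C (rename_X _ _)))
    · obtain rfl : E = E₀ := hinj ((not_not.1 h).trans hE₀.symm)
      rw [show φA (i, E₀) = -g i from dif_neg h, map_neg]
      show -mkB (inc _) = _
      rw [neg_eq_iff_add_eq_zero, ← map_add mkB, Ideal.Quotient.eq_zero_iff_mem,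
        show inc (g i) + MvPolynomial.C (X (i, E₀)) = univPoly n d i from ?_]
      · exact Ideal.subset_span ⟨i, rfl⟩
      rw [univPoly, ← Finset.add_sum_erase _ _ (Finset.mem_univ E₀), hE₀, monomial_zero', add_comm, show g i = ∑ E : UnivIdx n d,
        (if hE : E.exponent ≠ 0 then monomial E.exponent (X ⟨(i, E), hE⟩ : MvPolynomial P ℤ) else 0) from rfl, map_sum,
        ← Finset.add_sum_erase (f := fun E : UnivIdx n d =>
          inc (if hE : E.exponent ≠ 0 then monomial E.exponent (X ⟨(i, E), hE⟩ : MvPolynomial P ℤ) else 0)) _ (Finset.mem_univ E₀),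
        dif_neg (not_not.2 hE₀), map_zero, zero_add]
      congr 1
      refine Finset.sum_congr rfl fun E hE => ?_
      have hne : E.exponent ≠ 0 := fun h => Finset.ne_of_mem_erase hE (hinj (h.trans hE₀.symm))
      rw [dif_pos hne]
      exact (map_monomial _ _ _).trans (congrArg _ (rename_X _ _))
  have h2 : Ψ.comp Φ = mkB := by
    refine MvPolynomial.ringHom_ext' (MvPolynomial.ringHom_ext (fun z => by simp) fun p => ?_) fun i => ?_
    · show Ψ (eval₂ _ _ (MvPolynomial.C (X p))) = mkB (MvPolynomial.C (X p))
      rw [eval₂_C, eval₂Hom_X']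
      exact hincA p.1 p.2
    · show Ψ (eval₂ _ _ (X i)) = mkB (X i)
      rw [eval₂_X]
      exact congrArg mkB (map_X _ i)
  exact ⟨RingEquiv.ofRingHom Ψ Φ' (Ideal.Quotient.ringHom_ext (RingHom.ext fun x => RingHom.congr_fun h2 x)) h1⟩

/-- Let n, d ≥ 1 and let B = A[x_1, …, x_n]/(f_1, …, f_n) be the universal algebra over A = ℤ[a_{i,E}],
f_i = Σ_E a_{i,E} x^E summed over exponent vectors E with |E| ≤ d. Then B is an integral domain and
every localization of B at a prime ideal is a regular local ring. (The published statement says that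
X_{n,d} = Spec A and the quasi-finite locus Y_{n,d} ⊆ Spec B are regular and irreducible; for A, a
polynomial ring over ℤ, this is standard, and for the open Y_{n,d} it follows from the assertion
about all of Spec B made here, which is what the printed argument shows. The published statement
also asserts that Y_{n,d} → X_{n,d} is locally quasi-finite and syntomic, an instance of the general
characterisation of quasi-finite syntomic maps; that clause is not part of this row.) -/
theorem result (n d : ℕ) (hn : 1 ≤ n) (hd : 1 ≤ d) : IsDomain (Synt.UnivAlg n d) ∧ ∀ q : PrimeSpectrum (Synt.UnivAlg n d), IsRegularLocalRing (Localization.AtPrime q.asIdeal) := by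
  obtain ⟨e⟩ := exists_equiv n d
  haveI : IsRegularRing (UnivAlg n d) := IsRegularRing.of_ringEquiv e
  exact ⟨e.symm.injective.isDomain e.symm.toRingHom, fun q => inferInstance⟩

end Groth.Agent.S8972
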