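import Groth.Statements.S8977
import Groth.Agent.SubtrRef.HTop
import Groth.Agent.S14770
import Groth.Agent.ModPairLib.CoprodAdm
import Groth.Agent.HTopCov.Misc
import Groth.Agent.HTopCov.Spec

set_option linter.style.haveILetI false
set_option backward.isDefEq.respectTransparency false
set_option backward.isDefEq.respectTransparency.types false


set_option autoImplicit false
universe u
open HTop

namespace Groth.Agent.S8977

open CategoryTheory CategoryTheory.Limits AlgebraicGeometry in
/-- For a Noetherian scheme X and a finite family of finite type morphisms X_i → X, the induced morphism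
from the coproduct of the X_i to X is universally submersive if and only if the family is an h
covering. -/
theorem result {X : Scheme.{u}} [IsNoetherian X] (E : PreZeroHypercover.{u} X) [Finite E.I₀] [∀ i, LocallyOfFiniteType (E.f i)] [∀ i, QuasiCompact (E.f i)] : SGA1.UnivSubmersive (Sigma.desc E.f) ↔ HTop.IsHCover E := by
  refine ⟨fun h => ⟨fun i => ?_, ?_⟩, fun h => Groth.Agent.HTopCov.univSubmersive_sigmaDesc E h.2⟩
  · haveI : IsLocallyNoetherian X := inferInstance
    infer_instance
  · haveI : QuasiCompact (Sigma.desc E.f) := (quasiCompact_iff _).mpr fun U hU hc => by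
      have e : (Sigma.desc E.f) ⁻¹' U = ⋃ i, Sigma.ι E.X i '' (E.f i ⁻¹' U) := by
        ext x
        obtain ⟨i, y, rfl⟩ := ModPairLib.sigma_surj E.X x
        simp only [Set.mem_preimage, Set.mem_iUnion, Set.mem_image]
        constructor
        · intro hx
          exact ⟨i, y, by rwa [← Scheme.Hom.comp_apply, Sigma.ι_desc] at hx, rfl⟩
        · rintro ⟨i', y', hy', he⟩
          rw [← he, ← Scheme.Hom.comp_apply, Sigma.ι_desc]
          exact hy'
      rw [e]
      exact isCompact_iUnion fun i => (QuasiCompact.isCompact_preimage _ hU hc).image (Sigma.ι E.X i).continuous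
    exact (Groth.Agent.HTopCov.isVCover_singleton_sigmaDesc_iff E).1
      (Groth.Agent.HTopCov.isVCover_of_hasValLift _ (Groth.Agent.SubtrRef.hasValLift_of_univSSubtrusive _
        ((Groth.Agent.S14770.result _).1 h)))
end Groth.Agent.S8977
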