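import Groth.Statements.S8999
-- import your own Groth.Agent.* helpers here
import Groth.Agent.H4RG.ImpurityClosed

set_option backward.isDefEq.respectTransparency.types false

set_option autoImplicit false
universe u
open FlatMor

namespace Groth.Agent.S8999

attribute [local instance] Algebra.TensorProduct.rightAlgebra

/-- For affine finite type schemes over Spec A: purity and universal purity along a fibre of a finite
module are unchanged when the module is pushed forward along a closed immersion Spec C → Spec B (a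
surjective algebra map B → C). -/
theorem result {A B C : Type u} [CommRing A] [CommRing B] [CommRing C] [Algebra A B] [Algebra B C] [Algebra A C] [IsScalarTower A B C] [Algebra.FiniteType A B] (hBC : Function.Surjective (algebraMap B C)) (N : Type u) [AddCommGroup N] [Module C N] [Module B N] [IsScalarTower B C N] [Module.Finite C N] (p : Ideal A) [p.IsPrime] : (FlatCA.IsPureAlong A C N p ↔ FlatCA.IsPureAlong A B N p) ∧ (FlatCA.IsUnivPureAlong A C N p ↔ FlatCA.IsUnivPureAlong A B N p) := by
  constructor
  · constructor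
    · intro h A' B' N' _ _ _ _ _ _ _ _ _ _ _ _ _ _ f t' t _ _ P _ het himp
      obtain ⟨A2, B2, N2, _, _, _, _, _, _, _, _, _, _, _, _, _, _, g, u', u, _, _, P2, _, himp2, _, het2⟩ :=
        (H4RG.hasImpurity_closed (A := A) (B := B) N hBC p
          (fun X [CommRing X] [Algebra A X] T => ∃ _ : T.IsPrime, FlatCA.IsEtaleNhd A X p T)).2
          ⟨_, _, _, _, _, _, _, _, _, _, _, _, _, _, _, _, _, _, _, _, _, _, _, _, himp, inferInstance, het⟩
      exact h A2 B2 N2 g u' u P2 het2 himp2
    · intro h A' B' N' _ _ _ _ _ _ _ _ _ _ _ _ _ _ f t' t _ _ P _ het himp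
      obtain ⟨A2, B2, N2, _, _, _, _, _, _, _, _, _, _, _, _, _, _, g, u', u, _, _, P2, _, himp2, _, het2⟩ :=
        (H4RG.hasImpurity_closed (A := A) (B := B) N hBC p
          (fun X [CommRing X] [Algebra A X] T => ∃ _ : T.IsPrime, FlatCA.IsEtaleNhd A X p T)).1
          ⟨_, _, _, _, _, _, _, _, _, _, _, _, _, _, _, _, _, _, _, _, _, _, _, _, himp, inferInstance, het⟩
      exact h A2 B2 N2 g u' u P2 het2 himp2
  · constructor
    · intro h A' B' N' _ _ _ _ _ _ _ _ _ _ _ _ _ _ f t' t _ _ P _ himp
      obtain ⟨A2, B2, N2, _, _, _, _, _, _, _, _, _, _, _, _, _, _, g, u', u, _, _, P2, _, himp2, -⟩ :=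
        (H4RG.hasImpurity_closed (A := A) (B := B) N hBC p (fun _ _ _ _ => True)).2
          ⟨_, _, _, _, _, _, _, _, _, _, _, _, _, _, _, _, _, _, _, _, _, _, _, _, himp, trivial⟩
      exact h A2 B2 N2 g u' u P2 himp2
    · intro h A' B' N' _ _ _ _ _ _ _ _ _ _ _ _ _ _ f t' t _ _ P _ himp
      obtain ⟨A2, B2, N2, _, _, _, _, _, _, _, _, _, _, _, _, _, _, g, u', u, _, _, P2, _, himp2, -⟩ :=
        (H4RG.hasImpurity_closed (A := A) (B := B) N hBC p (fun _ _ _ _ => True)).1
          ⟨_, _, _, _, _, _, _, _, _, _, _, _, _, _, _, _, _, _, _, _, _, _, _, _, himp, trivial⟩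
      exact h A2 B2 N2 g u' u P2 himp2

end Groth.Agent.S8999
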