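import Groth.Statements.S9000
-- import your own Groth.Agent.* helpers here
import Groth.Agent.H4RG.ImpurityDown
import Groth.Agent.Hensel.NbhdPoints
import Groth.Agent.Hensel.HenselizationProps

set_option backward.isDefEq.respectTransparency.types false

set_option autoImplicit false
universe u
open FlatMor

namespace Groth.Agent.S9000

attribute [local instance] Algebra.TensorProduct.rightAlgebra

open IsLocalRing in
/-- For Spec B → Spec A of finite type, a finite B-module N and a prime p of A, an impurity of N above p
over an elementary etale neighbourhood of (A, p) yields an impurity of N above p over the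
henselization of the local ring of A at p, based at its closed point. (The other implications of the
published equivalence are separate results: from the henselization to an elementary etale
neighbourhood, and between elementary etale neighbourhoods and base rings quasi-finite at the
point.) -/
theorem result {A B : Type u} [CommRing A] [CommRing B] [Algebra A B] [Algebra.FiniteType A B] (N : Type u) [AddCommGroup N] [Module B N] [Module.Finite B N] (p : Ideal A) [p.IsPrime] (h : FlatCA.HasImpurity A B N p (fun A' _ _ t => ∃ _ : t.IsPrime, FlatCA.IsEtaleNhd A A' p t)) : FlatCA.HasImpurity A B N p (fun A' _ _ t => ∃ (_ : IsLocalRing A') (_ : Algebra (Localization.AtPrime p) A') (_ : IsScalarTower A (Localization.AtPrime p) A') (_ : IsLocalHom (algebraMap (Localization.AtPrime p) A')), Hensel.IsHenselization (Localization.AtPrime p) A' ∧ t = maximalIdeal A') := by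
  obtain ⟨A1, B1, N1, _, _, _, _, _, _, _, _, _, _, _, _, _, _, f, t', t, _, _, P, _, himp, _, het, hover, hbij⟩ := h
  haveI := het
  let L := Localization.AtPrime p
  let H := Hensel.LocalHenz L
  letI : Algebra A H := ((algebraMap L H).comp (algebraMap A L)).toAlgebra
  haveI : IsScalarTower A L H := IsScalarTower.of_algebraMap_eq fun _ => rfl
  obtain ⟨φ, hφ, -⟩ := Hensel.existsUnique_algHom_henz A p H t hover.over hbij
  letI : Algebra A1 H := φ.toRingHom.toAlgebra
  haveI : IsScalarTower A A1 H := IsScalarTower.of_algebraMap_eq fun r => (φ.commutes r).symm
  haveI : Module.FaithfullyFlat L H := Hensel.faithfullyFlat_of_isHenselization L H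
  haveI : Module.Flat A L := IsLocalization.flat L p.primeCompl
  haveI : Module.Flat A H := Module.Flat.trans A L H
  haveI : Module.Flat A1 H := Algebra.FormallyUnramified.flat_of_restrictScalars A A1 H
  haveI : (maximalIdeal H).LiesOver t := ⟨hφ.symm⟩
  obtain ⟨t3, hle3, _, ht3⟩ := Ideal.exists_ideal_le_liesOver_of_le (p := t') (q := t) (maximalIdeal H) himp.2.2.1
  obtain ⟨P2, hP2, himp2⟩ := H4RG.exists_impurity_baseChange himp H t3 (maximalIdeal H) hle3 hφ ht3.over.symm
  exact ⟨_, _, _, _, _, _, _, _, _, _, _, _, _, _, _, _, _, _, _, _, _, _, _, _, himp2, inferInstance, inferInstance,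
    inferInstance, inferInstance, inferInstance, rfl⟩

end Groth.Agent.S9000
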