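import Groth.Statements.S9001
import Groth.Agent.CAlgUI.HenselSplit
-- import your own Groth.Agent.* helpers here

set_option backward.isDefEq.respectTransparency.types false

set_option autoImplicit false
universe u
open FlatMor

namespace Groth.Agent.S9001

open IsLocalRing TensorProduct in
/-- Over a henselian local ring R with maximal ideal m, for an R-algebra S and an S-module N which is
countably generated and Mittag-Leffler as an R-module, every associated prime q of the S-module N
⊗_R M (M any R-module) satisfies q + mS ≠ S. (Associated primes are taken here in the sense of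
primes equal to the radical of the annihilator of some element, a larger set than the annihilators
of elements used in the published statement; the published argument goes through once the chosen
element of q is replaced by a suitable power of it, so the row states this slightly stronger form.) -/
theorem result {R S : Type u} [CommRing R] [HenselianLocalRing R] [CommRing S] [Algebra R S] (N : Type u) [AddCommGroup N] [Module S N] [Module R N] [IsScalarTower R S N] (hcg : CAlg.IsCountablyGenerated R N) (hML : CAlg.IsMittagLeffler R N) (M : Type u) [AddCommGroup M] [Module R M] (q : Ideal S) [q.IsPrime] (hq : q ∈ associatedPrimes S (N ⊗[R] M)) : q ⊔ (maximalIdeal R).map (algebraMap R S) ≠ ⊤ := by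
  classical
  intro htop
  obtain ⟨hqp, z, hqz⟩ := hq
  obtain ⟨a, haq, t, ht, hat⟩ := Submodule.mem_sup.1 ((Ideal.eq_top_iff_one _).1 htop)
  rw [hqz] at haq
  obtain ⟨k, hk⟩ := haq
  have hkz : a ^ k • z = 0 := by simpa [Submodule.mem_colon_singleton] using hk
  have h1k : 1 - a ^ k ∈ (maximalIdeal R).map (algebraMap R S) := by
    have h1a : 1 - a ∈ (maximalIdeal R).map (algebraMap R S) := by
      rw [← hat, add_sub_cancel_left]; exact ht
    obtain ⟨c, hc'⟩ := sub_dvd_pow_sub_pow (1 : S) a k
    rw [one_pow] at hc'
    rw [hc']
    exact Ideal.mul_mem_right _ _ h1a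
  obtain ⟨T, hT⟩ := TensorProduct.exists_finset z
  obtain ⟨π, hππ, hfp, hfix⟩ := Groth.Agent.CAlgUI.exists_fp_projection hML hcg (T.image Prod.fst)
  haveI := hfp
  let N₀ := LinearMap.range π
  let mulA : N →ₗ[R] N := ((LinearMap.lsmul S N) (a ^ k)).restrictScalars R
  let g : N₀ →ₗ[R] N₀ := π.rangeRestrict ∘ₗ mulA ∘ₗ N₀.subtype
  have hsmul : ∀ s ∈ (maximalIdeal R).map (algebraMap R S), ∀ n : N, π.rangeRestrict (s • n) ∈
      (maximalIdeal R • ⊤ : Submodule R N₀) := by
    intro s hs
    induction hs using Submodule.span_induction with
    | mem s hs =>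
      obtain ⟨r, hr, rfl⟩ := hs
      intro n
      rw [algebraMap_smul, map_smul]
      exact Submodule.smul_mem_smul hr trivial
    | zero => intro n; simp
    | add x y _ _ hx hy => intro n; rw [add_smul, map_add]; exact add_mem (hx n) (hy n)
    | smul c x _ hx => intro n; rw [smul_eq_mul, mul_comm, mul_smul]; exact hx (c • n)
  have hsurj : Function.Surjective g := by
    refine LinearMap.range_eq_top.1 (top_le_iff.1 (Submodule.le_of_le_smul_of_le_jacobson_bot
      Module.Finite.fg_top (IsLocalRing.maximalIdeal_le_jacobson ⊥) fun x _ => ?_))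
    refine Submodule.mem_sup.2 ⟨g x, ⟨x, rfl⟩, x - g x, ?_, add_sub_cancel _ _⟩
    have hx : x = π.rangeRestrict (x : N) := Subtype.ext (by
      obtain ⟨_, y, rfl⟩ := x
      exact (hππ y).symm)
    have : x - g x = π.rangeRestrict ((1 - a ^ k) • (x : N)) := by
      rw [sub_smul, one_smul, map_sub, ← hx]
      rfl
    rw [this]
    exact hsmul _ h1k _
  have hbij : Function.Bijective g :=
    ⟨OrzechProperty.injective_of_surjective_endomorphism g hsurj, hsurj⟩
  let z₀ := LinearMap.rTensor M π.rangeRestrict z
  have hz : LinearMap.rTensor M N₀.subtype z₀ = z := by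
    rw [← LinearMap.rTensor_comp_apply, hT, map_sum]
    refine Finset.sum_congr rfl fun i hi => ?_
    simp [N₀, hfix i.1 (Finset.mem_image_of_mem _ hi)]
  have hg0 : LinearMap.rTensor M g z₀ = 0 := by
    rw [LinearMap.rTensor_comp_apply, LinearMap.rTensor_comp_apply, hz,
      show LinearMap.rTensor M mulA z = a ^ k • z from ?_, hkz, map_zero]
    clear hk hkz hqz hT hz z₀
    induction z with
    | zero => simp
    | add x y hx hy => rw [map_add, smul_add, hx, hy]
    | tmul n m => rfl
  have hz0 : z₀ = 0 := (LinearEquiv.rTensor M (LinearEquiv.ofBijective g hbij)).injective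
    (hg0.trans (map_zero _).symm)
  apply hqp.ne_top
  rw [hqz, ← hz, hz0, map_zero]
  simp

end Groth.Agent.S9001
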