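import Groth.Statements.S9008
import Groth.Agent.H4RG.ImpurityBC
-- import your own Groth.Agent.* helpers here

set_option autoImplicit false
set_option backward.isDefEq.respectTransparency.types false
set_option linter.style.haveILetI false
universe u
open FlatMor
open scoped TensorProduct
attribute [local instance] Algebra.TensorProduct.rightAlgebra

namespace Groth.Agent.S9008

/-- For Spec B → Spec A affine of finite type: a finite B-module is universally pure along the fibre
over a prime p of A exactly when every base change of it along a ring map A → A' is pure along the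
fibre over every prime of A' above p. -/
theorem result {A B : Type u} [CommRing A] [CommRing B] [Algebra A B] [Algebra.FiniteType A B] (N : Type u) [AddCommGroup N] [Module B N] [Module.Finite B N] (p : Ideal A) [p.IsPrime] : FlatCA.IsUnivPureAlong A B N p ↔ ∀ (A' B' N' : Type u) [CommRing A'] [CommRing B'] [Algebra A A'] [Algebra B B'] [Algebra A' B'] [Algebra A B'] [IsScalarTower A B B'] [IsScalarTower A A' B'] [Algebra.IsPushout A B A' B'] [AddCommGroup N'] [Module B' N'] [Module B N'] [IsScalarTower B B' N'] (g : N →ₗ[B] N'), IsBaseChange B' g → ∀ (p' : Ideal A') [p'.IsPrime], p'.LiesOver p → FlatCA.IsPureAlong A' B' N' p' := by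
  refine ⟨fun h A' B' N' _ _ _ _ _ _ _ _ _ _ _ _ _ g hg p' _ hp' => ?_, fun h => ?_⟩
  · intro A2 B2 N2 _ _ _ _ _ _ _ _ _ _ _ _ _ _ g2 t' t _ _ P _ _ himp
    obtain ⟨hpush, hbc, hle, htp, hPt, hass, hno⟩ := himp
    letI : Algebra A A2 := ((algebraMap A' A2).comp (algebraMap A A')).toAlgebra
    haveI : IsScalarTower A A' A2 := IsScalarTower.of_algebraMap_eq fun _ => rfl
    letI : Algebra B B2 := ((algebraMap B' B2).comp (algebraMap B B')).toAlgebra
    haveI : IsScalarTower B B' B2 := IsScalarTower.of_algebraMap_eq fun _ => rfl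
    letI : Algebra A B2 := ((algebraMap A2 B2).comp (algebraMap A A2)).toAlgebra
    haveI : IsScalarTower A A2 B2 := IsScalarTower.of_algebraMap_eq fun _ => rfl
    haveI : IsScalarTower A B' B2 := IsScalarTower.of_algebraMap_eq fun a => by
      show algebraMap A2 B2 (algebraMap A' A2 (algebraMap A A' a)) = _
      rw [← IsScalarTower.algebraMap_apply, IsScalarTower.algebraMap_apply A A' B', IsScalarTower.algebraMap_apply A' B' B2]
    haveI : IsScalarTower A B B2 := IsScalarTower.of_algebraMap_eq fun a => by
      show _ = algebraMap B' B2 (algebraMap B B' (algebraMap A B a))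
      rw [← IsScalarTower.algebraMap_apply A B B', ← IsScalarTower.algebraMap_apply A B' B2]
    haveI := hpush
    haveI : Algebra.IsPushout A' A2 B' B2 := Algebra.IsPushout.symm inferInstance
    haveI : Algebra.IsPushout A A' B B' := Algebra.IsPushout.symm inferInstance
    haveI : Algebra.IsPushout A A2 B B2 := (Algebra.IsPushout.comp_iff A A' B B' (T := A2) (T' := B2)).2 inferInstance
    letI : Module B N2 := Module.compHom N2 (algebraMap B B2)
    haveI : IsScalarTower B B2 N2 := IsScalarTower.of_algebraMap_smul fun _ _ => rfl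
    haveI : IsScalarTower B B' N2 := IsScalarTower.of_algebraMap_smul fun b y => by
      rw [← algebraMap_smul B2 (algebraMap B B' b), ← IsScalarTower.algebraMap_apply, algebraMap_smul]
    refine h A2 B2 N2 ((g2.restrictScalars B) ∘ₗ g) t' t P
      ⟨Algebra.IsPushout.symm inferInstance, (hg.comp_iff (T := B2) (h := g2)).2 hbc, hle, ⟨?_⟩, hPt, hass, hno⟩
    show p = t.comap ((algebraMap A' A2).comp (algebraMap A A'))
    rw [← Ideal.comap_comap, show t.comap (algebraMap A' A2) = p' from htp.over.symm]
    exact hp'.over
  · intro A' B' N' _ _ _ _ _ _ _ _ _ _ _ _ _ _ f t' t _ _ P _ ⟨hpush, hbc, hle, htp, hPt, hass, hno⟩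
    haveI := hpush
    refine h A' B' N' f hbc t htp A' B' N' LinearMap.id t' t P ⟨inferInstance, ⟨(Ideal.comap_id t).symm⟩, ?_⟩
      ⟨inferInstance, IsBaseChange.ofEquiv (LinearEquiv.refl B' N'), hle, ⟨(Ideal.comap_id t).symm⟩, hPt, hass, hno⟩
    refine ⟨RingHom.injective _, fun x => ⟨x, ?_⟩⟩
    exact DFunLike.congr_fun (Ideal.ResidueField.mapₐ_id t) x

end Groth.Agent.S9008
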