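import Groth.Statements.S9011
import Groth.Agent.H4RG.FiberTools
-- import your own Groth.Agent.* helpers here

set_option autoImplicit false
set_option backward.isDefEq.respectTransparency.types false
set_option linter.style.haveILetI false
universe u
open FlatMor

open scoped TensorProduct
attribute [local instance] Algebra.TensorProduct.rightAlgebra
namespace Groth.Agent.S9011

open IsLocalRing in
/-- For a local ring R with maximal ideal m, an R-algebra S with S/mS Noetherian and an S-module N with
N/mN finite over S/mS which is projective as an R-module, every element of S that is a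
nonzerodivisor on N/mN acts R-universally injectively on N, and the map from N to its localization
at all such elements is R-universally injective. -/
theorem result {R S : Type u} [CommRing R] [IsLocalRing R] [CommRing S] [Algebra R S] (N : Type u) [AddCommGroup N] [Module S N] [Module R N] [IsScalarTower R S N] [IsNoetherianRing ((maximalIdeal R).Fiber S)] [Module.Finite ((maximalIdeal R).Fiber S) (FlatCA.fiberMod (maximalIdeal R) S N)] [Module.Projective R N] : (∀ s ∈ FlatCA.nzdFiber R S N, FlatCA.UnivInj R ((LinearMap.lsmul S N s).restrictScalars R)) ∧ FlatCA.UnivInj R ((LocalizedModule.mkLinearMap (FlatCA.nzdFiber R S N) N).restrictScalars R) := by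
  set m := maximalIdeal R
  obtain ⟨e⟩ := H4RG.exists_fiber_equiv (R := R) (S := S) N m
  have key : ∀ s ∈ FlatCA.nzdFiber R S N, ∀ (Q : Type u) [AddCommGroup Q] [Module R Q] (w : N ⊗[R] Q),
      s • w = 0 → w = 0 := fun s hs Q _ _ w hw => by
    obtain ⟨v, hv, hv0⟩ := H4RG.eq_zero_of_projective N (H4RG.residueField_frac m) s (fun z hz => by
      refine e.injective ((hs (e z) (by rw [← map_smul, hz, map_zero])).trans (map_zero e).symm)) Q w hw
    have hu : IsUnit v := IsLocalRing.notMem_maximalIdeal.1 fun h => hv (Ideal.algebraMap_residueField_eq_zero.2 h)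
    exact hu.smul_eq_zero.1 hv0
  have hcomm : ∀ (N₁ N₂ : Type u) [AddCommGroup N₁] [Module R N₁] [AddCommGroup N₂] [Module R N₂] (g : N₁ →ₗ[R] N₂),
      (∀ (Q : Type u) [AddCommGroup Q] [Module R Q] (w : N₁ ⊗[R] Q), g.rTensor Q w = 0 → w = 0) →
      FlatCA.UnivInj R g := by
    intro N₁ N₂ _ _ _ _ g hg Q _ _
    exact (LinearMap.lTensor_inj_iff_rTensor_inj Q g).2 ((injective_iff_map_eq_zero _).2 fun w hw => hg Q w hw)
  refine ⟨fun s hs => hcomm _ _ _ fun Q _ _ w hw => key s hs Q w (by rw [← H4RG.rTensor_lsmul]; exact hw),
    hcomm _ _ _ fun Q _ _ w hw => ?_⟩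
  let W := FlatCA.nzdFiber R S N
  obtain ⟨⟨s, hs⟩, hs0⟩ := (IsLocalizedModule.eq_zero_iff W
    (TensorProduct.AlgebraTensorModule.rTensor R Q (LocalizedModule.mkLinearMap W N))).1 hw
  exact key s hs Q w hs0

end Groth.Agent.S9011
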