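import Groth.Statements.S9025
-- import your own Groth.Agent.* helpers here
import Groth.Agent.H4RG.ClosedRestriction
import Groth.Agent.S1219

set_option linter.style.haveILetI false
set_option backward.isDefEq.respectTransparency false
set_option backward.isDefEq.respectTransparency.types false

set_option autoImplicit false
universe u
open FlatMor

namespace Groth.Agent.S9025

open CategoryTheory CategoryTheory.Limits AlgebraicGeometry Opposite in
theorem isIso_snd_iff {Y X P : Scheme.{u}} (i : Y ⟶ X) [Mono i] (f : P ⟶ X) :
    IsIso (pullback.snd i f) ↔ ∃ l : P ⟶ Y, l ≫ i = f := by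
  refine ⟨fun _ => ⟨inv (pullback.snd i f) ≫ pullback.fst i f, ?_⟩, fun ⟨l, hl⟩ =>
    ⟨⟨pullback.lift l (𝟙 P) (by rw [hl, Category.id_comp]), ?_, pullback.lift_snd _ _ _⟩⟩⟩
  · rw [Category.assoc, pullback.condition, IsIso.inv_hom_id_assoc]
  · rw [← cancel_mono (pullback.snd i f), Category.assoc, pullback.lift_snd, Category.comp_id, Category.id_comp]

open CategoryTheory CategoryTheory.Limits AlgebraicGeometry Opposite in
/-- For X = Spec B and S = Spec A affine (purity of a morphism is available here only in ring form), let
A → B be a flat ring map of finite presentation such that the structure sheaf of X = Spec B is pure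
relative to S = Spec A, and let i : Y → Spec B be a closed immersion (a closed subscheme Y of X).
Then the Weil restriction functor of Y along X → S, the functor on schemes over S with one point on
T when the base change Y_T → X_T of i is an isomorphism and empty otherwise (the subfunctor of the
final functor generated by that condition), is representable by a scheme Z over S whose structure
morphism Z → S is a closed immersion. If moreover Y → S is locally of finite presentation (hence of
finite presentation) then Z → S is locally of finite presentation. -/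
theorem result {A B : Type u} [CommRing A] [CommRing B] [Algebra A B] [Algebra.FinitePresentation A B] [Module.Flat A B]
    (hpure : FlatCA.IsPure A B B) {Y : Scheme.{u}} (i : Y ⟶ Spec (CommRingCat.of B)) [IsClosedImmersion i] :
    ∃ Z : Over (Spec (CommRingCat.of A)), IsClosedImmersion Z.hom ∧
      Nonempty ((FlatFun.genPSp (Spec (CommRingCat.of A)) (fun T =>
        IsIso (pullback.snd i (pullback.fst (Spec.map (CommRingCat.ofHom (algebraMap A B))) T.hom)))).RepresentableBy Z) ∧
      (LocallyOfFinitePresentation (i ≫ Spec.map (CommRingCat.ofHom (algebraMap A B))) →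
        LocallyOfFinitePresentation Z.hom) := by
  haveI : Module.Projective A B := (Groth.Agent.S1219.result (A := A) B).2 hpure
  obtain ⟨J, e, he⟩ := IsClosedImmersion.Spec_iff.1 ‹IsClosedImmersion i›
  let K : Ideal A := Groth.Agent.H4RG.ClosedRestriction.coeffIdeal (A := A) J
  haveI hZc : IsClosedImmersion (Spec.map (CommRingCat.ofHom (Ideal.Quotient.mk K))) :=
    IsClosedImmersion.spec_of_surjective _ Ideal.Quotient.mk_surjective
  let Z : Over (Spec (CommRingCat.of A)) := Over.mk (Spec.map (CommRingCat.ofHom (Ideal.Quotient.mk K)))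
  let P : Over (Spec (CommRingCat.of A)) → Prop := fun T =>
    IsIso (pullback.snd i (pullback.fst (Spec.map (CommRingCat.ofHom (algebraMap A B))) T.hom))
  have hP : ∀ T, P T ↔ Nonempty (T ⟶ Z) := fun T => by
    show IsIso _ ↔ _
    rw [isIso_snd_iff]
    constructor
    · rintro ⟨l, hl⟩
      obtain ⟨m, hm⟩ := (Groth.Agent.H4RG.ClosedRestriction.factors_iff A J T.hom).1
        ⟨l ≫ e.hom, by rw [Category.assoc, ← he]; exact hl⟩
      exact ⟨Over.homMk m hm⟩
    · rintro ⟨m⟩
      obtain ⟨l, hl⟩ := (Groth.Agent.H4RG.ClosedRestriction.factors_iff A J T.hom).2 ⟨m.left, Over.w m⟩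
      exact ⟨l ≫ e.inv, by rw [he, Category.assoc, Iso.inv_hom_id_assoc]; exact hl⟩
  have hgen : ∀ T, Nonempty ((FlatFun.genPSp (Spec (CommRingCat.of A)) P).obj (Opposite.op T)) ↔ Nonempty (T ⟶ Z) :=
    fun T => by
    rw [FlatFun.genPSp_nonempty_iff]
    constructor
    · rintro ⟨T₀, k, hk⟩
      obtain ⟨m⟩ := (hP T₀).1 hk
      exact ⟨k ≫ m⟩
    · intro h
      exact ⟨T, 𝟙 T, (hP T).2 h⟩
  have hsub : ∀ T, Subsingleton (T ⟶ Z) := fun T => ⟨fun a b => Over.OverMorphism.ext (by
    rw [← cancel_mono (Spec.map (CommRingCat.ofHom (Ideal.Quotient.mk K)))]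
    exact (Over.w a).trans (Over.w b).symm)⟩
  refine ⟨Z, hZc, ⟨{
    homEquiv := fun {T} => {
      toFun := fun m => Classical.choice ((hgen T).2 ⟨m⟩)
      invFun := fun x => Classical.choice ((hgen T).1 ⟨x⟩)
      left_inv := fun _ => (hsub T).elim _ _
      right_inv := fun _ => Subsingleton.elim _ _ }
    homEquiv_comp := fun _ _ => Subsingleton.elim _ _ }⟩, fun hfp => ?_⟩
  have h1 : LocallyOfFinitePresentation (Spec.map (CommRingCat.ofHom (algebraMap A B) ≫
      CommRingCat.ofHom (Ideal.Quotient.mk J))) := by
    have h2 := hfp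
    rw [he, Category.assoc, ← Spec.map_comp] at h2
    exact (MorphismProperty.cancel_left_of_respectsIso (P := @LocallyOfFinitePresentation) e.hom _).1 h2
  haveI : Algebra.FinitePresentation A (B ⧸ J) :=
    RingHom.finitePresentation_algebraMap.1 (HasRingHomProperty.Spec_iff.1 h1)
  have hJ : J.FG := by
    have := Algebra.FinitePresentation.ker_fG_of_surjective (Ideal.Quotient.mkₐ A J) Ideal.Quotient.mk_surjective
    simpa [Ideal.Quotient.mkₐ_ker] using this
  show LocallyOfFinitePresentation (Spec.map (CommRingCat.ofHom (Ideal.Quotient.mk K)))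
  rw [HasRingHomProperty.Spec_iff (P := @LocallyOfFinitePresentation)]
  exact (RingHom.finitePresentation_algebraMap (A := A) (B := A ⧸ K)).2
    (Algebra.FinitePresentation.quotient (Groth.Agent.H4RG.ClosedRestriction.coeffIdeal_fg J hJ))

end Groth.Agent.S9025
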