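import Groth.Statements.S9032
import Groth.Agent.H4RG.FlatIdealScheme
-- import your own Groth.Agent.* helpers here

set_option autoImplicit false
set_option backward.isDefEq.respectTransparency.types false
universe u
open FlatMor

namespace Groth.Agent.S9032

open CategoryTheory CategoryTheory.Limits AlgebraicGeometry in
/-- An element killed in the stalk at the closed point of a local spectrum vanishes. -/
theorem germ_closedPoint_injective (R : Type u) [CommRing R] [IsLocalRing R] (r : R)
    (h : ((Spec (CommRingCat.of R)).presheaf.germ ⊤ (IsLocalRing.closedPoint R) trivial).hom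
      ((Scheme.ΓSpecIso (CommRingCat.of R)).inv.hom r) = 0) : r = 0 := by
  let T := Spec (CommRingCat.of R)
  let hT := isAffineOpen_top T
  let t : T := IsLocalRing.closedPoint R
  letI : Algebra Γ(T, ⊤) (T.presheaf.stalk t) := (T.presheaf.germ ⊤ t trivial).hom.toAlgebra
  haveI : IsLocalization.AtPrime (T.presheaf.stalk t) (hT.primeIdealOf ⟨t, trivial⟩).asIdeal :=
    hT.isLocalization_stalk ⟨t, trivial⟩
  obtain ⟨s, hs⟩ := (IsLocalization.map_eq_zero_iff (hT.primeIdealOf ⟨t, trivial⟩).asIdeal.primeCompl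
    (T.presheaf.stalk t) _).1 h
  have hinv : Function.Bijective (Scheme.ΓSpecIso (CommRingCat.of R)).inv.hom :=
    (ConcreteCategory.isIso_iff_bijective _).1 inferInstance
  obtain ⟨s', hs'⟩ := hinv.2 (s : Γ(T, ⊤))
  have hu : IsUnit s' := IsLocalRing.notMem_maximalIdeal.1 fun hm => s.2 (hs' ▸
    ((Groth.Agent.GrFlat5.comap_primeIdealOf_top t).ge hm : s' ∈ _))
  have h0 : s' * r = 0 := hinv.1 (by rw [map_mul, map_zero, hs']; exact hs)
  exact hu.mul_right_eq_zero.1 h0

open CategoryTheory CategoryTheory.Limits AlgebraicGeometry Opposite in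
/-- Let A be a henselian local ring, s the closed point of S = Spec A, f : X → S a morphism locally of
finite type, F a quasi-coherent O_X-module of finite type and E a subset of the closed fibre X_s.
Then there is a closed subscheme Z = V(I) of S with the following property: for every morphism of
pointed schemes (T, t) → (S, s), the base change F_T on X_T = X ×_S T is T-flat at each point over t
whose image in X lies in E if and only if Spec(O_{T,t}) → S factors through Z, that is, the map A →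
O_{T,t} sends I to zero. Assume in addition that the morphism f is locally finitely presented, that
the module F is finitely presented, and that the subset E is both quasi-compact and closed; in that
case the closed immersion Z → S is finitely presented, meaning the ideal I is finitely generated. -/
theorem result {A : Type u} [CommRing A] [HenselianLocalRing A] {X : Scheme.{u}} (f : X ⟶ Spec (CommRingCat.of A))
    [LocallyOfFiniteType f] (F : X.Modules) [Coh.IsQCoh F] (hF : CohB1.IsFT F)
    (E : Set X) (hE : ∀ x ∈ E, f.base x = IsLocalRing.closedPoint A) :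
    ∃ I : Ideal A,
      (∀ (T : Scheme.{u}) (g : T ⟶ Spec (CommRingCat.of A)) (t : T), g.base t = IsLocalRing.closedPoint A →
        ((∀ x' : ↑(pullback f g), (pullback.snd f g).base x' = t → (pullback.fst f g).base x' ∈ E →
            FlatMod.IsFlatOverAt (pullback.snd f g) ((Scheme.Modules.pullback (pullback.fst f g)).obj F) x') ↔
          ∀ a ∈ I, (T.presheaf.germ ⊤ t trivial).hom
            (g.appTop.hom ((Scheme.ΓSpecIso (CommRingCat.of A)).inv.hom a)) = 0)) ∧
      (LocallyOfFinitePresentation f → CohB1.IsFP F → IsClosed E → IsCompact E → I.FG) := by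
  classical
  let S₀ := Spec (CommRingCat.of A)
  let A₀ := Γ(S₀, ⊤)
  let inv := (Scheme.ΓSpecIso (CommRingCat.of A)).inv.hom
  let eR : A ≃+* A₀ := (Scheme.ΓSpecIso (CommRingCat.of A)).symm.commRingCatIsoToRingEquiv
  have hinv : Function.Surjective inv := eR.surjective
  haveI : IsLocalRing A₀ := eR.isLocalRing
  haveI : HenselianLocalRing A₀ := Groth.Agent.AnLocal.henselianLocalRing_of_surjective' inv hinv
  have hFt : Coh.IsQCoh F ∧ CohB1.IsFT F := ⟨inferInstance, hF⟩
  -- data at a point of a chart over the closed point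
  have point : ∀ (U : X.Opens) (hU : IsAffineOpen U) (x : X) (hx : x ∈ U),
      f.base x = IsLocalRing.closedPoint A →
      letI : Algebra A₀ Γ(X, U) := (f.appLE ⊤ U le_top).hom.toAlgebra
      letI : Module A₀ Γ(F, U) := Module.compHom _ (f.appLE ⊤ U le_top).hom
      haveI : IsScalarTower A₀ Γ(X, U) Γ(F, U) := IsScalarTower.of_algebraMap_smul fun _ _ => rfl
      ∃ I : Ideal A₀, I ≤ IsLocalRing.maximalIdeal A₀ ∧
        (LocallyOfFinitePresentation f → CohB1.IsFP F → I.FG) ∧
        (∀ (A' : Type u) [CommRing A'] [IsLocalRing A'] [Algebra A₀ A'] [IsLocalHom (algebraMap A₀ A')],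
          (Groth.Agent.H4RG.FlatPts A₀ A' (Localization.AtPrime (hU.primeIdealOf ⟨x, hx⟩).asIdeal)
            (LocalizedModule (hU.primeIdealOf ⟨x, hx⟩).asIdeal.primeCompl Γ(F, U)) ↔
              I ≤ RingHom.ker (algebraMap A₀ A'))) := by
    intro U hU x hx hxc
    letI : Algebra A₀ Γ(X, U) := (f.appLE ⊤ U le_top).hom.toAlgebra
    letI : Module A₀ Γ(F, U) := Module.compHom _ (f.appLE ⊤ U le_top).hom
    haveI : IsScalarTower A₀ Γ(X, U) Γ(F, U) := IsScalarTower.of_algebraMap_smul fun _ _ => rfl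
    let q := (hU.primeIdealOf ⟨x, hx⟩).asIdeal
    let Bq := Localization.AtPrime q
    haveI : Algebra.FiniteType A₀ Γ(X, U) := Scheme.Hom.finiteType_appLE f (isAffineOpen_top _) hU le_top
    haveI : Module.Finite Γ(X, U) Γ(F, U) := Groth.Agent.QCoh.finite_sections hFt hU
    haveI : Algebra.EssFiniteType A₀ Bq := Algebra.EssFiniteType.comp A₀ Γ(X, U) Bq
    have hq := Groth.Agent.H4RG.comap_prime_of_closedPoint f hU hx hxc
    haveI : IsLocalHom (algebraMap A₀ Bq) := ⟨fun r hr => by
      by_contra h0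
      rw [IsScalarTower.algebraMap_apply A₀ Γ(X, U) Bq, IsLocalization.AtPrime.isUnit_to_map_iff Bq q] at hr
      exact hr (show r ∈ q.comap (algebraMap A₀ Γ(X, U)) from hq.ge ((IsLocalRing.mem_maximalIdeal r).2 h0))⟩
    haveI : Module.Finite Bq (LocalizedModule q.primeCompl Γ(F, U)) :=
      Module.Finite.of_isLocalizedModule q.primeCompl (LocalizedModule.mkLinearMap q.primeCompl Γ(F, U))
    obtain ⟨I, hIm, hflat, hmin⟩ :=
      Groth.Agent.H4RG.exists_flattening_ideal (A := A₀) (B := Bq) (LocalizedModule q.primeCompl Γ(F, U))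
    haveI := hflat
    refine ⟨I, hIm, fun hf hFP => ?_, fun A' _ _ _ _ => ⟨fun h => hmin A' h,
      fun h => Groth.Agent.H4RG.flatPts_of_flat_quot (LocalizedModule q.primeCompl Γ(F, U)) I A' h⟩⟩
    haveI : Algebra.FinitePresentation A₀ Γ(X, U) := f.finitePresentation_appLE (isAffineOpen_top _) hU le_top
    haveI : Module.FinitePresentation Γ(X, U) Γ(F, U) := Groth.Agent.QCoh.finitePresentation_of_isFP hFP hU
    haveI : Module.FinitePresentation Bq (LocalizedModule q.primeCompl Γ(F, U)) :=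
      inferInstanceAs (Module.FinitePresentation (Localization q.primeCompl) (LocalizedModule q.primeCompl Γ(F, U)))
    obtain ⟨n, a, R₀, _, _, _, K₀, P, _, hP, ⟨e⟩⟩ := Groth.Agent.H4RG.exists_presented_model
      (show FlatCA.EssFinitePresentation A₀ Bq from
        ⟨Γ(X, U), inferInstance, inferInstance, inferInstance, inferInstance, q.primeCompl, inferInstance, inferInstance⟩)
      (LocalizedModule q.primeCompl Γ(F, U))
    obtain ⟨J, hJ, hJI, hJflat⟩ := Groth.Agent.H4RG.exists_fg_flat_quot K₀ P hP e I hIm hflat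
    haveI := hJflat
    haveI : Nontrivial (A₀ ⧸ J) := Ideal.Quotient.nontrivial_iff.2 fun h =>
      (IsLocalRing.maximalIdeal.isMaximal A₀).ne_top (top_le_iff.1 (h ▸ hJI.trans hIm))
    haveI := IsLocalRing.of_surjective' (Ideal.Quotient.mk J) Ideal.Quotient.mk_surjective
    haveI : IsLocalHom (algebraMap A₀ (A₀ ⧸ J)) := IsLocalHom.of_surjective _ Ideal.Quotient.mk_surjective
    have hIJ := hmin (A₀ ⧸ J) (Groth.Agent.H4RG.flatPts_of_flat_quot (LocalizedModule q.primeCompl Γ(F, U)) J (A₀ ⧸ J)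
      (by rw [Ideal.Quotient.algebraMap_eq, Ideal.mk_ker]))
    rw [Ideal.Quotient.algebraMap_eq, Ideal.mk_ker] at hIJ
    rwa [le_antisymm hIJ hJI]
  -- the ideal of a point
  have hchart : ∀ x : X, ∃ U : X.Opens, IsAffineOpen U ∧ x ∈ U := fun x => by
    obtain ⟨U, hU, hxU, -⟩ := exists_isAffineOpen_mem_and_subset (x := x) (U := (⊤ : X.Opens)) trivial
    exact ⟨U, hU, hxU⟩
  choose U hU hxU using hchart
  choose Ix hIxm hIxfg hIx using fun x : E => point (U x.1) (hU x.1) x.1 (hxU x.1) (hE x.1 x.2)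
  have hkey : ∀ (x : E) (T : Scheme.{u}) (g : T ⟶ S₀) (t : T), g.base t = IsLocalRing.closedPoint A →
      (Groth.Agent.H4RG.FlatOverPair f F x.1 g t ↔ Ix x ≤ RingHom.ker (g.appTop ≫ T.presheaf.germ ⊤ t trivial).hom) := by
    intro x T g t ht
    haveI := Groth.Agent.H4RG.isLocalHom_germ g t ht
    letI : Algebra A₀ (T.presheaf.stalk t) := (g.appTop ≫ T.presheaf.germ ⊤ t trivial).hom.toAlgebra
    haveI : IsLocalHom (algebraMap A₀ (T.presheaf.stalk t)) := Groth.Agent.H4RG.isLocalHom_germ g t ht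
    exact (Groth.Agent.H4RG.flatOverPair_iff hFt.1 (hU x.1) (hxU x.1) g t).trans (hIx x (T.presheaf.stalk t))
  let I₀ : Ideal A₀ := ⨆ x : E, Ix x
  refine ⟨I₀.comap inv, fun T g t ht => ?_, fun hf hFP hEcl hEc => ?_⟩
  · refine Iff.trans ⟨fun h => ?_, fun h => ?_⟩ (b := I₀ ≤ RingHom.ker (g.appTop ≫ T.presheaf.germ ⊤ t trivial).hom)
      ⟨fun h a ha => RingHom.mem_ker.1 (h ha), fun h => ?_⟩
    · exact iSup_le fun x => (hkey x T g t ht).1 fun x' h2 h1 => h x' h2 (h1.symm ▸ x.2)
    · intro x' h2 h1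
      exact (hkey ⟨_, h1⟩ T g t ht).2 ((le_iSup Ix ⟨_, h1⟩).trans h) x' h2 rfl
    · intro a ha
      obtain ⟨a, rfl⟩ := hinv a
      exact RingHom.mem_ker.2 (h a ha)
  · have hnhd : ∀ x : E, ∃ O : X.Opens, x.1 ∈ O ∧ ∀ y : E, y.1 ∈ O → Ix y ≤ Ix x := by
      intro x
      let V := U x.1
      letI : Algebra A₀ Γ(X, V) := (f.appLE ⊤ V le_top).hom.toAlgebra
      letI : Module A₀ Γ(F, V) := Module.compHom _ (f.appLE ⊤ V le_top).hom
      haveI : IsScalarTower A₀ Γ(X, V) Γ(F, V) := IsScalarTower.of_algebraMap_smul fun _ _ => rfl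
      haveI : Algebra.FinitePresentation A₀ Γ(X, V) := f.finitePresentation_appLE (isAffineOpen_top _) (hU x.1) le_top
      haveI : Module.FinitePresentation Γ(X, V) Γ(F, V) := Groth.Agent.QCoh.finitePresentation_of_isFP hFP (hU x.1)
      let R := A₀ ⧸ Ix x
      haveI : Nontrivial R := Ideal.Quotient.nontrivial_iff.2 fun h =>
        (IsLocalRing.maximalIdeal.isMaximal A₀).ne_top (top_le_iff.1 (h ▸ hIxm x))
      haveI : IsLocalRing R := IsLocalRing.of_surjective' (Ideal.Quotient.mk (Ix x)) Ideal.Quotient.mk_surjective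
      haveI : IsLocalHom (algebraMap A₀ R) := IsLocalHom.of_surjective _ Ideal.Quotient.mk_surjective
      have hkerR : RingHom.ker (algebraMap A₀ R) = Ix x := by rw [Ideal.Quotient.algebraMap_eq, Ideal.mk_ker]
      obtain ⟨b, hb, hbz⟩ := Groth.Agent.H4RG.exists_nhd_flatPts Γ(F, V) (Ix x)
        ((hU x.1).primeIdealOf ⟨x.1, hxU x.1⟩).asIdeal
        (Groth.Agent.H4RG.comap_prime_of_closedPoint f (hU x.1) (hxU x.1) (hE x.1 x.2)) ((hIx x R).2 hkerR.ge)
      refine ⟨X.basicOpen b, ?_, fun y hy => ?_⟩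
      · exact (Scheme.mem_basicOpen (f := b) (x := x.1) (hx := hxU x.1)).2 (by
          letI : Algebra Γ(X, V) (X.presheaf.stalk x.1) := (X.presheaf.germ V x.1 (hxU x.1)).hom.toAlgebra
          haveI : IsLocalization.AtPrime (X.presheaf.stalk x.1) ((hU x.1).primeIdealOf ⟨x.1, hxU x.1⟩).asIdeal :=
            (hU x.1).isLocalization_stalk ⟨x.1, hxU x.1⟩
          exact (IsLocalization.AtPrime.isUnit_to_map_iff (X.presheaf.stalk x.1)
            ((hU x.1).primeIdealOf ⟨x.1, hxU x.1⟩).asIdeal b).2 hb)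
      have hyV : y.1 ∈ V := X.basicOpen_le b hy
      have hby : b ∉ ((hU x.1).primeIdealOf ⟨y.1, hyV⟩).asIdeal := by
        letI : Algebra Γ(X, V) (X.presheaf.stalk y.1) := (X.presheaf.germ V y.1 hyV).hom.toAlgebra
        haveI : IsLocalization.AtPrime (X.presheaf.stalk y.1) ((hU x.1).primeIdealOf ⟨y.1, hyV⟩).asIdeal :=
          (hU x.1).isLocalization_stalk ⟨y.1, hyV⟩
        exact (IsLocalization.AtPrime.isUnit_to_map_iff (X.presheaf.stalk y.1)
          ((hU x.1).primeIdealOf ⟨y.1, hyV⟩).asIdeal b).1 ((Scheme.mem_basicOpen (f := b) (hx := hyV)).1 hy)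
      obtain ⟨Jy, -, -, hJy⟩ := point V (hU x.1) y.1 hyV (hE y.1 y.2)
      have hJle : Jy ≤ Ix x := hkerR ▸ (hJy R).1 (hbz _ hby)
      let φ : CommRingCat.of A ⟶ CommRingCat.of R := CommRingCat.ofHom ((Ideal.Quotient.mk (Ix x)).comp inv)
      let g : Spec (CommRingCat.of R) ⟶ S₀ := Spec.map φ
      let t : Spec (CommRingCat.of R) := IsLocalRing.closedPoint R
      haveI : IsLocalHom ((Ideal.Quotient.mk (Ix x)).comp inv) :=
        IsLocalHom.of_surjective _ (Ideal.Quotient.mk_surjective.comp hinv)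
      have ht : g.base t = IsLocalRing.closedPoint A :=
        IsLocalRing.comap_closedPoint ((Ideal.Quotient.mk (Ix x)).comp inv)
      have happ : ∀ a : A₀, (g.appTop ≫ (Spec (CommRingCat.of R)).presheaf.germ ⊤ t trivial).hom a =
          ((Spec (CommRingCat.of R)).presheaf.germ ⊤ t trivial).hom
            ((Scheme.ΓSpecIso (CommRingCat.of R)).inv.hom (Ideal.Quotient.mk (Ix x) a)) := fun a => by
        obtain ⟨a, rfl⟩ := hinv a
        exact congrArg _ (congr($(Scheme.ΓSpecIso_inv_naturality φ).hom a)).symm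
      have hkg : RingHom.ker (g.appTop ≫ (Spec (CommRingCat.of R)).presheaf.germ ⊤ t trivial).hom = Ix x :=
        Ideal.ext fun a => by
          rw [RingHom.mem_ker, happ]
          refine ⟨fun h => Ideal.Quotient.eq_zero_iff_mem.1 (germ_closedPoint_injective R _ h), fun h => ?_⟩
          rw [Ideal.Quotient.eq_zero_iff_mem.2 h, map_zero, map_zero]
      letI : Algebra A₀ ((Spec (CommRingCat.of R)).presheaf.stalk t) :=
        (g.appTop ≫ (Spec (CommRingCat.of R)).presheaf.germ ⊤ t trivial).hom.toAlgebra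
      haveI : IsLocalHom (algebraMap A₀ ((Spec (CommRingCat.of R)).presheaf.stalk t)) :=
        Groth.Agent.H4RG.isLocalHom_germ g t ht
      have hpair : Groth.Agent.H4RG.FlatOverPair f F y.1 g t :=
        (Groth.Agent.H4RG.flatOverPair_iff hFt.1 (hU x.1) hyV g t).2 ((hJy _).2 (hJle.trans hkg.ge))
      exact ((hkey y _ g t ht).1 hpair).trans hkg.le
    choose O hxO hO using hnhd
    obtain ⟨s, hs⟩ := hEc.elim_finite_subcover (fun x : E => (O x : Set X)) (fun x => (O x).2)
      fun x hx => Set.mem_iUnion.2 ⟨⟨x, hx⟩, hxO ⟨x, hx⟩⟩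
    have hIeq : I₀ = ⨆ x ∈ s, Ix x := by
      refine le_antisymm (iSup_le fun y => ?_) (iSup₂_le fun x _ => le_iSup Ix x)
      obtain ⟨x, hxs, hyx⟩ := Set.mem_iUnion₂.1 (hs y.2)
      exact (hO x y hyx).trans (le_iSup₂_of_le x hxs le_rfl)
    have hfg : I₀.FG := by
      rw [hIeq]
      exact Submodule.fg_biSup s Ix fun x _ => hIxfg x hf hFP
    rw [show I₀.comap inv = I₀.map (eR.symm : A₀ →+* A) from (Ideal.map_symm (f := eR) (I := I₀)).symm]
    exact hfg.map _

end Groth.Agent.S9032
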