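import Groth.Statements.S9042
import Groth.Agent.SiteCmpLib.Secs.Site
import Groth.Agent.SiteCmpLib.Secs.RlimP
-- import your own Groth.Agent.* helpers here

set_option autoImplicit false
universe u
open CategoryTheory CategoryTheory.Limits Opposite
open ModSite

namespace Groth.Agent.S9042

/-- Let (C, O) be a ringed site, E an object of D(O), B a class of objects such that every object has a
covering by members of B, and p : ℤ → ℤ a function such that H^k(V, H^{m-k}(E)) = 0 for every V in
B, every m and every k > p(m). Then the canonical map from E to the derived limit of its truncations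
τ_{≥ -n} E is an isomorphism, i.e. E is a derived limit of that tower through the canonical maps.
The derived category of O-modules and the product of the truncations are instance hypotheses; H^k(V,
-) of an O-module is the cohomology of its underlying abelian sheaf. -/
theorem result
    {C : Type u} [SmallCategory C] {J : GrothendieckTopology C} (O : Sheaf J CommRingCat.{u})
    [HasDerivedCategory.{u} (ModSite.Mod O)] (E : DerivedCategory (ModSite.Mod O))
    [HasProduct (CohCx.truncTower E)] (B : Set C)
    (hB : ∀ U : C, ∃ (ι : Type u) (Y : ι → C) (f : ∀ i, Y i ⟶ U), Sieve.ofArrows Y f ∈ J U ∧ ∀ i, Y i ∈ B)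
    (p : ℤ → ℤ)
    (h : ∀ V ∈ B, ∀ (m : ℤ) (k : ℕ), p m < k →
      Subsingleton (ModSite.HU O ((DerivedCategory.homologyFunctor (ModSite.Mod O) (m - k)).obj E) k V)) :
    CohCx.IsRlimVia (CohCx.truncTower E) (CohCx.truncTowerMap E) E (CohCx.toTruncTower E) := by
    refine (Groth.Agent.SiteCmpLib.Secs.modSecs (ModSite.ringSh O)).isRlimVia_trunc_of_goodP E hB fun V _ => ⟨p, fun T hT => ?_⟩
    choose ι Y g hg hgB using hB
    let f : (Σ (W : C) (k : {k : W ⟶ V // T k}), ι W) → C := fun t => Y t.1 t.2.2
    refine ⟨Σ (W : C) (k : {k : W ⟶ V // T k}), ι W, f, fun t => g t.1 t.2.2 ≫ t.2.1.1, fun t => ?_, ?_, fun t => ?_⟩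
    · exact T.downward_closed t.2.1.2 _
    · refine J.superset_covering ?_ (J.bind_covering hT fun W k _ => hg W)
      rintro Z _ ⟨W, a, k, hk, ha, rfl⟩
      obtain ⟨Z', b, c, ⟨i⟩, rfl⟩ := ha
      exact ⟨_, b, g W i ≫ k, ⟨(⟨W, ⟨k, hk⟩, i⟩ : Σ (W : C) (k : {k : W ⟶ V // T k}), ι W)⟩, (Category.assoc _ _ _).symm⟩
    · exact fun m k hk => Groth.Agent.SiteCmpLib.Secs.van_of_HU (ModSite.ringSh O) _ k _ (h _ (hgB _ _) m k hk)

end Groth.Agent.S9042
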