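import Groth.Statements.S9043
import Groth.Agent.SiteCmpLib.Secs.Site
import Groth.Agent.SiteCmpLib.Secs.RlimP
-- import your own Groth.Agent.* helpers here

set_option autoImplicit false
universe u
open CategoryTheory CategoryTheory.Limits Opposite
open ModSite

namespace Groth.Agent.S9043

/-- Let (C, O) be a ringed site, E an object of D(O) and B a class of objects such that every object has
a covering by members of B and every V in B admits an integer d_V ≥ 0 and a cofinal system of
coverings {V_i → V} with H^k(V_i, H^q(E)) = 0 for k > d_V and q < 0. Then E is the derived limit of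
its truncations τ_{≥ -n} E through the canonical maps. The derived category of O-modules and the
product of the truncations are instance hypotheses; H^k(V, -) of an O-module is the cohomology of
its underlying abelian sheaf; cofinality is expressed by asking every covering sieve of V to contain
such a covering family. -/
theorem result
    {C : Type u} [SmallCategory C] {J : GrothendieckTopology C} (O : Sheaf J CommRingCat.{u})
    [HasDerivedCategory.{u} (ModSite.Mod O)] (E : DerivedCategory (ModSite.Mod O))
    [HasProduct (CohCx.truncTower E)] (B : Set C)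
    (hB : ∀ U : C, ∃ (ι : Type u) (Y : ι → C) (f : ∀ i, Y i ⟶ U), Sieve.ofArrows Y f ∈ J U ∧ ∀ i, Y i ∈ B)
    (h : ∀ V ∈ B, ∃ d : ℕ, ∀ T ∈ J V, ∃ (ι : Type u) (Y : ι → C) (f : ∀ i, Y i ⟶ V),
      (∀ i, T.arrows (f i)) ∧ Sieve.ofArrows Y f ∈ J V ∧
      ∀ (i : ι) (q : ℤ) (k : ℕ), q < 0 → d < k →
        Subsingleton (ModSite.HU O ((DerivedCategory.homologyFunctor (ModSite.Mod O) q).obj E) k (Y i))) :
    CohCx.IsRlimVia (CohCx.truncTower E) (CohCx.truncTowerMap E) E (CohCx.toTruncTower E) := by
    refine (Groth.Agent.SiteCmpLib.Secs.modSecs (ModSite.ringSh O)).isRlimVia_trunc_of_goodP E hB fun V hV => ?_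
    obtain ⟨d, hd⟩ := h V hV
    refine ⟨fun m => max (d : ℤ) m, fun T hT => ?_⟩
    obtain ⟨ι, Y, f, h1, h2, h3⟩ := hd T hT
    refine ⟨ι, Y, f, h1, h2, fun i m k hk => ?_⟩
    have hk : max (d : ℤ) m < (k : ℤ) := hk
    exact Groth.Agent.SiteCmpLib.Secs.van_of_HU (ModSite.ringSh O) _ k _ (h3 i (m - k) k (by omega) (by omega))

end Groth.Agent.S9043
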