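import Groth.Statements.S9133
import Groth.Agent.KrullAki.Lattice

set_option autoImplicit false
universe u
open CAlg

namespace Groth.Agent.S9133

/-- Let R → S be a homomorphism of domains compatible with field maps K → L of their fraction fields (so
R → S is injective), where R is Noetherian local of dimension one and L is finite over K. Then each
prime n of S whose contraction to R is the maximal ideal of R is a maximal ideal of S, only finitely
many such n exist, and each quotient S/n is a finite R-module (its residue field is a finite
extension of that of R). -/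
theorem result (R S K L : Type u)
    [CommRing R] [IsDomain R] [IsNoetherianRing R] [IsLocalRing R] (hdim : ringKrullDim R = 1)
    [CommRing S] [IsDomain S] [Algebra R S] [Field K] [Field L] [Algebra R K] [IsFractionRing R K]
    [Algebra S L] [IsFractionRing S L] [Algebra K L] [Algebra R L] [IsScalarTower R K L]
    [IsScalarTower R S L] [FiniteDimensional K L] :
    (∀ n ∈ (IsLocalRing.maximalIdeal R).primesOver S, n.IsMaximal) ∧
      ((IsLocalRing.maximalIdeal R).primesOver S).Finite ∧
      ∀ n ∈ (IsLocalRing.maximalIdeal R).primesOver S, Module.Finite R (S ⧸ n) := by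
  haveI : Ring.KrullDimLE 1 R := (Ring.krullDimLE_iff).2 hdim.le
  obtain ⟨x, hx, hx0⟩ : ∃ x ∈ IsLocalRing.maximalIdeal R, x ≠ 0 := by
    refine Submodule.exists_mem_ne_zero_of_ne_bot fun h => ?_
    have hF : IsField R := (IsLocalRing.isField_iff_maximalIdeal_eq).2 h
    letI := hF.toField
    have h0 : ringKrullDim R ≤ (0 : ℕ) := Ring.krullDimLE_iff.1 inferInstance
    rw [hdim] at h0
    exact absurd h0 (by norm_num)
  have hmem : ∀ n ∈ (IsLocalRing.maximalIdeal R).primesOver S, algebraMap R S x ∈ n :=
    fun n hn => by
      haveI := hn.2
      exact (Ideal.mem_of_liesOver n (IsLocalRing.maximalIdeal R) x).1 hx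
  refine ⟨fun n hn => ?_, ?_, fun n hn => ?_⟩
  · haveI := hn.1
    exact Groth.Agent.KrullAki.isMaximal_of_mem (K := K) (L := L) hx0 (hmem n hn)
  · exact (Groth.Agent.KrullAki.finite_primes_containing (K := K) (L := L) hx0).subset
      fun n hn => ⟨hn.1, hmem n hn⟩
  · obtain ⟨hN, -⟩ := isFiniteLength_iff_isNoetherian_isArtinian.1
      (Groth.Agent.KrullAki.isFiniteLength_quot (K := K) (L := L) hx0 (hmem n hn))
    exact Module.IsNoetherian.finite R (S ⧸ n)

end Groth.Agent.S9133
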