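import Groth.Statements.S9130
import Groth.Agent.S9133
import Mathlib.RingTheory.Localization.AtPrime.Extension
import Mathlib.RingTheory.Ideal.KrullsHeightTheorem
import Mathlib.RingTheory.Algebraic.Integral

set_option autoImplicit false
universe u
open CAlg

namespace Groth.Agent.S9130

/-- Let A ⊆ B be domains with B of finite type over A and A Noetherian, and assume every element of B is
algebraic over A. For a height-one prime p of A, only finitely many primes of B lie over p and each
of them has height one. (The published statement assumes that Frac(B) is finite over Frac(A); this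
row assumes B algebraic over A, which is equivalent for a finite type extension of domains.) -/
theorem result (A B : Type u) [CommRing A] [IsDomain A]
    [IsNoetherianRing A] [CommRing B] [IsDomain B] [Algebra A B] [FaithfulSMul A B]
    [Algebra.FiniteType A B] [Algebra.IsAlgebraic A B] (p : Ideal A) [p.IsPrime]
    (hp : p.height = 1) :
    (p.primesOver B).Finite ∧ ∀ q ∈ p.primesOver B, q.height = 1 := by
  classical
  let Ap := Localization.AtPrime p
  let M := Algebra.algebraMapSubmonoid B p.primeCompl
  have hM : M ≤ nonZeroDivisors B := by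
    rintro _ ⟨a, ha, rfl⟩
    exact mem_nonZeroDivisors_of_ne_zero ((map_ne_zero_iff _ (FaithfulSMul.algebraMap_injective A B)).2
      fun h => ha (h ▸ p.zero_mem))
  let K := FractionRing A
  let L := FractionRing B
  letI : Algebra K L := FractionRing.liftAlgebra A L
  haveI : IsScalarTower A K L := FractionRing.isScalarTower_liftAlgebra A L
  haveI : FiniteDimensional K L := by
    haveI : Algebra.IsAlgebraic K L := by
      haveI : Algebra.IsAlgebraic B L := IsLocalization.isAlgebraic L (nonZeroDivisors B)
      haveI : Algebra.IsAlgebraic A L := Algebra.IsAlgebraic.trans A B L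
      exact Algebra.IsAlgebraic.extendScalars (R := A) (FaithfulSMul.algebraMap_injective A K)
    obtain ⟨t, ht⟩ := ‹Algebra.FiniteType A B›.out
    have hadj : IntermediateField.adjoin K (algebraMap B L '' t) = ⊤ := by
      rw [eq_top_iff]
      intro z _
      obtain ⟨b, c, -, rfl⟩ := IsFractionRing.div_surjective B z
      have hb : ∀ b : B, algebraMap B L b ∈ IntermediateField.adjoin K (algebraMap B L '' t) := by
        intro b
        have hb : b ∈ Algebra.adjoin A (t : Set B) := by rw [ht]; trivial
        induction hb using Algebra.adjoin_induction with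
        | mem x hx => exact IntermediateField.subset_adjoin K _ ⟨x, hx, rfl⟩
        | algebraMap r =>
          rw [← IsScalarTower.algebraMap_apply, IsScalarTower.algebraMap_apply A K L]
          exact IntermediateField.algebraMap_mem _ _
        | add x y _ _ hx hy => rw [map_add]; exact add_mem hx hy
        | mul x y _ _ hx hy => rw [map_mul]; exact mul_mem hx hy
      exact div_mem (hb b) (hb c)
    haveI := IntermediateField.finiteDimensional_adjoin (K := K) (S := algebraMap B L '' (t : Set B))
      (fun x _ => (Algebra.IsAlgebraic.isAlgebraic x).isIntegral)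
    rw [hadj] at this
    exact Module.Finite.equiv IntermediateField.topEquiv.toLinearEquiv
  let Bp := Localization M
  letI : Algebra Bp L := (IsLocalization.lift (M := M) (g := algebraMap B L) fun y =>
    IsUnit.mk0 _ (IsFractionRing.to_map_ne_zero_of_mem_nonZeroDivisors (hM y.2))).toAlgebra
  haveI : IsScalarTower B Bp L := IsScalarTower.of_algebraMap_eq fun b =>
    (IsLocalization.lift_eq _ b).symm
  haveI : IsFractionRing Bp L :=
    IsFractionRing.isFractionRing_of_isDomain_of_isLocalization M Bp L
  haveI : IsDomain Bp := IsLocalization.isDomain_localization hM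
  letI : Algebra Ap K := (IsLocalization.lift (M := p.primeCompl) (g := algebraMap A K) fun y =>
    IsUnit.mk0 _ ((map_ne_zero_iff _ (IsFractionRing.injective A K)).2 fun h => y.2 (h ▸ p.zero_mem))).toAlgebra
  haveI : IsScalarTower A Ap K := IsScalarTower.of_algebraMap_eq fun a =>
    (IsLocalization.lift_eq _ a).symm
  haveI : IsFractionRing Ap K :=
    IsFractionRing.isFractionRing_of_isDomain_of_isLocalization p.primeCompl Ap K
  letI : Algebra Ap L := ((algebraMap K L).comp (algebraMap Ap K)).toAlgebra
  haveI : IsScalarTower Ap K L := IsScalarTower.of_algebraMap_eq fun _ => rfl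
  haveI : IsScalarTower A Ap L := IsScalarTower.of_algebraMap_eq fun a => by
    show _ = algebraMap K L (algebraMap Ap K (algebraMap A Ap a))
    rw [← IsScalarTower.algebraMap_apply A Ap K, ← IsScalarTower.algebraMap_apply A K L]
  haveI : IsScalarTower A Bp L := IsScalarTower.of_algebraMap_eq fun a => by
    rw [IsScalarTower.algebraMap_apply A B Bp, ← IsScalarTower.algebraMap_apply B Bp L,
      ← IsScalarTower.algebraMap_apply A B L]
  haveI : IsScalarTower Ap Bp L := IsScalarTower.of_algebraMap_eq' <|
    IsLocalization.ringHom_ext p.primeCompl <| RingHom.ext fun a => by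
      rw [RingHom.comp_apply, RingHom.comp_apply, RingHom.comp_apply,
        ← IsScalarTower.algebraMap_apply A Ap L, ← IsScalarTower.algebraMap_apply A Ap Bp,
        ← IsScalarTower.algebraMap_apply A Bp L]
  have hdim : ringKrullDim Ap = 1 := by
    rw [IsLocalization.AtPrime.ringKrullDim_eq_height p Ap, hp]; rfl
  obtain ⟨hmax, hfin, -⟩ := Groth.Agent.S9133.result Ap Bp K L hdim
  have hq : ∀ q ∈ p.primesOver B, Disjoint (M : Set B) q := fun q hq => by
    rw [Set.disjoint_left]
    rintro _ ⟨a, ha, rfl⟩ haq
    haveI := hq.2
    exact ha ((Ideal.mem_of_liesOver q p a).2 haq)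
  have hover : ∀ q ∈ p.primesOver B,
      q.map (algebraMap B Bp) ∈ (IsLocalRing.maximalIdeal Ap).primesOver Bp := fun q hq' => by
    haveI := hq'.1
    haveI hP := IsLocalization.isPrime_of_isPrime_disjoint M Bp q hq'.1 (hq q hq')
    refine ⟨hP, ⟨?_⟩⟩
    haveI := hq'.2
    refine (IsLocalRing.eq_maximalIdeal ?_).symm
    haveI : Ring.KrullDimLE 1 Ap := Ring.krullDimLE_iff.2 hdim.le
    refine Ring.krullDimLE_one_iff_of_noZeroDivisors.1 inferInstance _ ?_ (Ideal.IsPrime.under _ _)
    intro hbot
    have hp0 : p ≠ ⊥ := fun h => by rw [h, Ideal.height_bot] at hp; exact zero_ne_one hp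
    obtain ⟨a, ha, ha0⟩ := Submodule.exists_mem_ne_zero_of_ne_bot hp0
    have hmem : algebraMap A Ap a ∈ (q.map (algebraMap B Bp)).under Ap := by
      rw [Ideal.under_def, Ideal.mem_comap, ← IsScalarTower.algebraMap_apply,
        IsScalarTower.algebraMap_apply A B Bp]
      exact Ideal.mem_map_of_mem _ ((Ideal.mem_of_liesOver q p a).1 ha)
    rw [hbot, Ideal.mem_bot] at hmem
    exact ha0 (IsLocalization.injective Ap p.primeCompl_le_nonZeroDivisors (by rw [hmem, map_zero]))
  have hinj : Set.InjOn (Ideal.map (algebraMap B Bp)) (p.primesOver B) := fun q h q' h' e => by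
    rw [← IsLocalization.under_map_of_isPrime_disjoint M Bp h.1 (hq q h), e,
      IsLocalization.under_map_of_isPrime_disjoint M Bp h'.1 (hq q' h')]
  refine ⟨Set.Finite.of_finite_image (hfin.subset (Set.image_subset_iff.2 hover)) hinj, fun q hq' => ?_⟩
  haveI := hq'.1
  have hmax' := hmax _ (hover q hq')
  have hinjAB := FaithfulSMul.algebraMap_injective A B
  have hqne : q ≠ ⊥ := by
    rintro rfl
    have hp0 : p ≠ ⊥ := fun h => by rw [h, Ideal.height_bot] at hp; exact zero_ne_one hp
    obtain ⟨a, ha, ha0⟩ := Submodule.exists_mem_ne_zero_of_ne_bot hp0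
    haveI := hq'.2
    have := (Ideal.mem_of_liesOver (⊥ : Ideal B) p a).1 ha
    rw [Ideal.mem_bot] at this
    exact ha0 (hinjAB (by rw [this, map_zero]))
  refine le_antisymm ?_ (Order.one_le_iff_pos.2 ?_)
  · refine Ideal.height_le_iff.2 fun q' hq'p hlt => ?_
    have : q' = ⊥ := by
      by_contra hne
      haveI := hq'p
      have hd : Disjoint (M : Set B) q' := (hq q hq').mono_right hlt.le
      haveI := IsLocalization.isPrime_of_isPrime_disjoint M Bp q' hq'p hd
      haveI : Ring.KrullDimLE 1 Ap := Ring.krullDimLE_iff.2 hdim.le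
      have hne' : q'.map (algebraMap B Bp) ≠ ⊥ := fun h => hne (by
        rwa [Ideal.map_eq_bot_iff_of_injective (IsLocalization.injective Bp hM)] at h)
      obtain ⟨b, hb, hb0⟩ := Submodule.exists_mem_ne_zero_of_ne_bot hne'
      obtain ⟨c, hc, hcb⟩ :=
        Groth.Agent.KrullAki.exists_ne_zero_mem_span_singleton (A := Ap) (K := K) (L := L) hb0
      have hcm : algebraMap Ap Bp c ∈ q'.map (algebraMap B Bp) :=
        (Ideal.span_singleton_le_iff_mem _).2 hb hcb
      have hm := Groth.Agent.KrullAki.isMaximal_of_mem (A := Ap) (K := K) (L := L) hc hcm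
      have e := hm.eq_of_le hmax'.ne_top (Ideal.map_mono hlt.le)
      have := congrArg (Ideal.under B) e
      rw [IsLocalization.under_map_of_isPrime_disjoint M Bp hq'p hd,
        IsLocalization.under_map_of_isPrime_disjoint M Bp hq'.1 (hq q hq')] at this
      exact hlt.ne this
    rw [this, Ideal.height_bot]; exact zero_lt_one
  · rw [pos_iff_ne_zero]
    intro h0
    exact hqne (by
      haveI := hq'.1
      have := Ideal.height_eq_zero_iff.1 h0
      rwa [IsDomain.minimalPrimes_eq_singleton_bot, Set.mem_singleton_iff] at this)

end Groth.Agent.S9130
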