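import Groth.Statements.S9131
import Groth.Agent.S6270
import Mathlib

set_option autoImplicit false
universe u
open CAlg

set_option backward.isDefEq.respectTransparency false

namespace Groth.Agent.S9131

open scoped TensorProduct

/-- A flat module which is projective modulo `I` is projective modulo every power of `I`. -/
theorem projective_quot_pow (R : Type u) [CommRing R] (I : Ideal R) (M : Type u) [AddCommGroup M]
    [Module R M] [Module.Flat R M] [Module.Projective (R ⧸ I) (M ⧸ (I • ⊤ : Submodule R M))]
    (m : ℕ) (hm : m ≠ 0) :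
    Module.Projective (R ⧸ I ^ m) (M ⧸ (I ^ m • ⊤ : Submodule R M)) := by
  let S := R ⧸ I ^ m
  let J : Ideal S := I.map (Ideal.Quotient.mk (I ^ m))
  have hJ : IsNilpotent J := ⟨m, by rw [← Ideal.map_pow, Ideal.map_quotient_self, Ideal.zero_eq_bot]⟩
  let h : R ⧸ I →+* S ⧸ J :=
    Ideal.Quotient.lift I ((Ideal.Quotient.mk J).comp (Ideal.Quotient.mk _)) fun a ha =>
      Ideal.Quotient.eq_zero_iff_mem.mpr (Ideal.mem_map_of_mem _ ha)
  letI : Algebra (R ⧸ I) (S ⧸ J) := h.toAlgebra
  haveI : IsScalarTower R (R ⧸ I) (S ⧸ J) := IsScalarTower.of_algebraMap_eq fun a => rfl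
  let e1 : (R ⧸ I) ⊗[R] M ≃ₗ[R ⧸ I] M ⧸ (I • ⊤ : Submodule R M) :=
    LinearEquiv.extendScalarsOfSurjective Ideal.Quotient.mk_surjective
      (TensorProduct.quotTensorEquivQuotSMul M I)
  haveI : Module.Projective (R ⧸ I) ((R ⧸ I) ⊗[R] M) := Module.Projective.of_equiv e1.symm
  have h1 : Module.Projective (S ⧸ J) ((S ⧸ J) ⊗[R] M) :=
    Module.Projective.of_equiv (TensorProduct.AlgebraTensorModule.cancelBaseChange R (R ⧸ I) (S ⧸ J) (S ⧸ J) M)
  have h2 : Module.Projective (S ⧸ J) ((S ⧸ J) ⊗[S] (S ⊗[R] M)) :=
    haveI := h1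
    Module.Projective.of_equiv
      (TensorProduct.AlgebraTensorModule.cancelBaseChange R S (S ⧸ J) (S ⧸ J) M).symm
  haveI := Groth.Agent.S6270.result J hJ (S ⊗[R] M) h2
  exact Module.Projective.of_equiv (LinearEquiv.extendScalarsOfSurjective (R := R) (S := S)
    Ideal.Quotient.mk_surjective (TensorProduct.quotTensorEquivQuotSMul M (I ^ m)))


/-- Let R be a ring, I an ideal, and 0 → K → P → M → 0 a short exact sequence of R-modules with M flat
over R and M/IM projective over R/I. Then the induced sequence of I-adic completions is split short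
exact: the map on completions of K → P is injective, the sequence is exact in the middle, and the
map on completions of P → M has a section linear over the completion of R (so it is surjective). -/
theorem result (R : Type u) [CommRing R] (I : Ideal R)
    (K P M : Type u) [AddCommGroup K] [Module R K] [AddCommGroup P] [Module R P]
    [AddCommGroup M] [Module R M] (f : K →ₗ[R] P) (g : P →ₗ[R] M)
    (hf : Function.Injective f) (hg : Function.Surjective g) (hfg : Function.Exact f g)
    [Module.Flat R M] [Module.Projective (R ⧸ I) (M ⧸ (I • ⊤ : Submodule R M))] :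
    Function.Injective (AdicCompletion.map I f) ∧
      Function.Exact (AdicCompletion.map I f) (AdicCompletion.map I g) ∧
      ∃ s : AdicCompletion I M →ₗ[AdicCompletion I R] AdicCompletion I P,
        AdicCompletion.map I g ∘ₗ s = LinearMap.id := by
  classical
  let gq : ∀ n, (P ⧸ (I ^ n • ⊤ : Submodule R P)) →ₗ[R] (M ⧸ (I ^ n • ⊤ : Submodule R M)) :=
    fun n => (g.reduceModIdeal (I ^ n)).restrictScalars R
  let fq : ∀ n, (K ⧸ (I ^ n • ⊤ : Submodule R K)) →ₗ[R] (P ⧸ (I ^ n • ⊤ : Submodule R P)) :=
    fun n => (f.reduceModIdeal (I ^ n)).restrictScalars R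
  have hfq : ∀ n k, fq n (Submodule.Quotient.mk k) = Submodule.Quotient.mk (f k) := fun n k => rfl
  have hgq : ∀ n p, gq n (Submodule.Quotient.mk p) = Submodule.Quotient.mk (g p) := fun n p => rfl
  -- exactness at each level
  have hinj : ∀ n, Function.Injective (fq n) := by
    intro n
    rw [injective_iff_map_eq_zero]
    intro k hk
    obtain ⟨k, rfl⟩ := Submodule.Quotient.mk_surjective _ k
    rw [hfq, Submodule.Quotient.mk_eq_zero] at hk
    have h1 : f k ∈ (I ^ n) • g.ker := by
      rw [← LinearMap.ker_inf_smul_top_eq_smul_of_flat (I ^ n) g hg]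
      exact ⟨hfg.apply_apply_eq_zero k, hk⟩
    rw [LinearMap.exact_iff.mp hfg, ← Submodule.map_top f, ← Submodule.map_smul''] at h1
    obtain ⟨k', hk', he⟩ := h1
    rw [Submodule.Quotient.mk_eq_zero, ← hf he]
    exact hk'
  have hgI : ∀ n, ∀ y ∈ (I ^ n • ⊤ : Submodule R M), ∃ x ∈ (I ^ n • ⊤ : Submodule R P), g x = y := by
    intro n y hy
    have : y ∈ Submodule.map g (I ^ n • ⊤) := by
      rw [Submodule.map_smul'', Submodule.map_top, LinearMap.range_eq_top.mpr hg]; exact hy
    exact this
  have hex : ∀ n, Function.Exact (fq n) (gq n) := by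
    intro n y
    constructor
    · intro hy
      obtain ⟨p, rfl⟩ := Submodule.Quotient.mk_surjective _ y
      rw [hgq, Submodule.Quotient.mk_eq_zero] at hy
      obtain ⟨x, hx, hxy⟩ := hgI n _ hy
      obtain ⟨k, hk⟩ := (hfg (p - x)).mp (by rw [map_sub, hxy, sub_self])
      refine ⟨Submodule.Quotient.mk k, ?_⟩
      rw [hfq, Submodule.Quotient.eq, hk]
      simpa using hx
    · rintro ⟨k, rfl⟩
      obtain ⟨k, rfl⟩ := Submodule.Quotient.mk_surjective _ k
      rw [hfq, hgq, hfg.apply_apply_eq_zero]; rfl
  -- compatible sections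
  have step : ∀ n (s : (M ⧸ (I ^ n • ⊤ : Submodule R M)) →ₗ[R] (P ⧸ (I ^ n • ⊤ : Submodule R P))),
      gq n ∘ₗ s = LinearMap.id → ∃ s' : (M ⧸ (I ^ (n + 1) • ⊤ : Submodule R M)) →ₗ[R]
        (P ⧸ (I ^ (n + 1) • ⊤ : Submodule R P)), gq (n + 1) ∘ₗ s' = LinearMap.id ∧
        AdicCompletion.transitionMap I P n.le_succ ∘ₗ s' = s ∘ₗ AdicCompletion.transitionMap I M n.le_succ := by
    intro n s hs
    have hp := projective_quot_pow R I M (n + 1) n.succ_ne_zero
    obtain ⟨t, ht⟩ := Module.projective_def'.mp hp
    have hlift : ∀ y : M ⧸ (I ^ (n + 1) • ⊤ : Submodule R M), ∃ x, gq (n + 1) x = y ∧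
        AdicCompletion.transitionMap I P n.le_succ x = s (AdicCompletion.transitionMap I M n.le_succ y) := by
      intro y
      obtain ⟨y, rfl⟩ := Submodule.Quotient.mk_surjective _ y
      obtain ⟨p, hp⟩ := Submodule.Quotient.mk_surjective _
        (s (AdicCompletion.transitionMap I M n.le_succ (Submodule.Quotient.mk y)))
      have h1 : g p - y ∈ (I ^ n • ⊤ : Submodule R M) := by
        rw [← Submodule.Quotient.eq]
        have := LinearMap.congr_fun hs (AdicCompletion.transitionMap I M n.le_succ (Submodule.Quotient.mk y))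
        rw [LinearMap.comp_apply, LinearMap.id_apply, ← hp, hgq] at this
        rw [this]; rfl
      obtain ⟨x, hx, hxy⟩ := hgI n _ h1
      refine ⟨Submodule.Quotient.mk (p - x), ?_, ?_⟩
      · rw [hgq, map_sub, hxy, sub_sub_cancel]
      · rw [← hp]
        show Submodule.Quotient.mk (p - x) = Submodule.Quotient.mk p
        rw [Submodule.Quotient.eq]
        simpa using hx
    choose x hx1 hx2 using hlift
    let Φ : ((M ⧸ (I ^ (n + 1) • ⊤ : Submodule R M)) →₀ R ⧸ I ^ (n + 1)) →ₗ[R ⧸ I ^ (n + 1)]
        (P ⧸ (I ^ (n + 1) • ⊤ : Submodule R P)) := Finsupp.linearCombination _ x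
    refine ⟨(Φ ∘ₗ t).restrictScalars R, LinearMap.ext fun y => ?_, LinearMap.ext fun y => ?_⟩
    · have e : ∀ v, gq (n + 1) (Φ v) = Finsupp.linearCombination (R ⧸ I ^ (n + 1)) id v := by
        intro v
        induction v using Finsupp.induction_linear with
        | zero => simp
        | add a b ha hb => simp only [map_add, ha, hb]
        | single i c =>
          obtain ⟨c, rfl⟩ := Ideal.Quotient.mk_surjective c
          simp only [Φ, Finsupp.linearCombination_single, id]
          show gq (n + 1) (c • x i) = c • i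
          rw [map_smul, hx1]
      exact (e (t y)).trans (LinearMap.congr_fun ht y)
    · have e : ∀ v, AdicCompletion.transitionMap I P n.le_succ (Φ v) = s (AdicCompletion.transitionMap I M
          n.le_succ (Finsupp.linearCombination (R ⧸ I ^ (n + 1)) id v)) := by
        intro v
        induction v using Finsupp.induction_linear with
        | zero => simp
        | add a b ha hb => simp only [map_add, ha, hb]
        | single i c =>
          obtain ⟨c, rfl⟩ := Ideal.Quotient.mk_surjective c
          simp only [Φ, Finsupp.linearCombination_single, id]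
          show AdicCompletion.transitionMap I P n.le_succ (c • x i) =
            s (AdicCompletion.transitionMap I M n.le_succ (c • i))
          rw [map_smul, hx2, map_smul, map_smul]
      have := LinearMap.congr_fun ht y
      rw [LinearMap.comp_apply, LinearMap.id_apply] at this
      show AdicCompletion.transitionMap I P n.le_succ (Φ (t y)) = _
      rw [e, this]; rfl
  haveI : Subsingleton (M ⧸ (I ^ 0 • ⊤ : Submodule R M)) :=
    Submodule.Quotient.subsingleton_iff.mpr (by simp)
  let sec : ∀ n, {s : (M ⧸ (I ^ n • ⊤ : Submodule R M)) →ₗ[R] (P ⧸ (I ^ n • ⊤ : Submodule R P)) //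
      gq n ∘ₗ s = LinearMap.id} := fun n =>
    Nat.rec ⟨0, LinearMap.ext fun y => Subsingleton.elim _ _⟩
      (fun k s => ⟨_, (step k s.1 s.2).choose_spec.1⟩) n
  have hsucc : ∀ k, AdicCompletion.transitionMap I P k.le_succ ∘ₗ (sec (k + 1)).1 =
      (sec k).1 ∘ₗ AdicCompletion.transitionMap I M k.le_succ :=
    fun k => (step k (sec k).1 (sec k).2).choose_spec.2
  have hcompat : ∀ {m n : ℕ} (hmn : m ≤ n) y, AdicCompletion.transitionMap I P hmn ((sec n).1 y) =
      (sec m).1 (AdicCompletion.transitionMap I M hmn y) := by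
    intro m n hmn
    induction n, hmn using Nat.le_induction with
    | base =>
      intro y
      obtain ⟨p, hp⟩ := Submodule.Quotient.mk_surjective _ ((sec m).1 y)
      obtain ⟨y, rfl⟩ := Submodule.Quotient.mk_surjective _ y
      rw [← hp]
      exact hp
    | succ n hmn ih =>
      intro y
      have h1 := LinearMap.congr_fun (hsucc n) y
      rw [LinearMap.comp_apply, LinearMap.comp_apply] at h1
      obtain ⟨p, hp⟩ := Submodule.Quotient.mk_surjective _ ((sec (n + 1)).1 y)
      obtain ⟨y, rfl⟩ := Submodule.Quotient.mk_surjective _ y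
      have h2 := ih (AdicCompletion.transitionMap I M n.le_succ (Submodule.Quotient.mk y))
      rw [← h1, ← hp] at h2
      rw [← hp]
      exact h2
  refine ⟨?_, ?_, ?_⟩
  · intro x y h
    refine Subtype.ext (funext fun n => hinj n ?_)
    exact congrArg (fun z => z.val n) h
  · intro z
    constructor
    · intro hz
      have hn : ∀ n, ∃ k, fq n k = z.val n := fun n =>
        (hex n _).mp (congrArg (fun w => w.val n) hz)
      choose k hk using hn
      refine ⟨⟨k, fun {m n} hmn => hinj m ?_⟩, Subtype.ext (funext hk)⟩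
      rw [hk, ← z.2 hmn, ← hk n]
      obtain ⟨k', hk'⟩ := Submodule.Quotient.mk_surjective _ (k n)
      rw [← hk']
      rfl
    · rintro ⟨w, rfl⟩
      exact Subtype.ext (funext fun n => (hex n).apply_apply_eq_zero (w.val n))
  · let L : AdicCompletion I M →ₗ[R] AdicCompletion I P :=
      AdicCompletion.lift I (fun n => (sec n).1 ∘ₗ AdicCompletion.eval I M n) (fun {m n} hmn => by
        refine LinearMap.ext fun x => ?_
        show AdicCompletion.transitionMap I P hmn ((sec n).1 (x.val n)) = (sec m).1 (x.val m)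
        rw [hcompat hmn, x.2 hmn])
    refine ⟨{ toFun := L, map_add' := map_add L, map_smul' := fun r x => ?_ }, ?_⟩
    · refine AdicCompletion.ext fun {n} => ?_
      show (sec n).1 (r.val n • x.val n) = r.val n • (sec n).1 (x.val n)
      obtain ⟨a, ha⟩ := Submodule.Quotient.mk_surjective _ (r.val n)
      rw [← ha]
      exact map_smul (sec n).1 a (x.val n)
    · refine LinearMap.ext fun x => Subtype.ext (funext fun n => ?_)
      exact LinearMap.congr_fun (sec n).2 (x.val n)

end Groth.Agent.S9131
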