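import Groth.Statements.S9135
import Mathlib

set_option autoImplicit false
universe u
open CAlg

open scoped TensorProduct

namespace Groth.Agent.S9135

open Polynomial in
theorem exists_poly (R S : Type u) [CommRing R] [CommRing S] [Algebra R S] [Algebra.FiniteType R S]
    (p : Ideal R) (hp : p ∈ minimalPrimes R) (hfin : (p.primesOver S).Finite) (x : S) :
    ∃ F : R[X], F.leadingCoeff ∉ p ∧ aeval x F = 0 := by
  haveI : p.IsPrime := hp.1.1
  let κ := p.ResidueField
  haveI : Module.Finite κ (p.Fiber S) := by
    rw [Module.finite_iff_isArtinianRing, isArtinianRing_iff_isNoetherianRing_krullDimLE_zero]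
    haveI : IsJacobsonRing (p.Fiber S) := isJacobsonRing_of_finiteType (A := κ)
    haveI : Finite (PrimeSpectrum (p.Fiber S)) := by
      refine (PrimeSpectrum.preimageEquivFiber R S ⟨p, inferInstance⟩).finite_iff.mp (Set.Finite.to_subtype ?_)
      refine Set.Finite.of_finite_image (f := PrimeSpectrum.asIdeal) (hfin.subset ?_)
        (Function.Injective.injOn fun _ _ => PrimeSpectrum.ext)
      rintro _ ⟨q, hq, rfl⟩
      exact ⟨q.2, ⟨(congrArg PrimeSpectrum.asIdeal hq).symm⟩⟩
    exact ⟨Algebra.FiniteType.isNoetherianRing κ _,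
      (PrimeSpectrum.discreteTopology_iff_finite_and_krullDimLE_zero.mp inferInstance).right⟩
  obtain ⟨f, hfm, hf⟩ := Algebra.IsIntegral.isIntegral (R := κ) ((1 : κ) ⊗ₜ[R] x : p.Fiber S)
  obtain ⟨b, hb⟩ := IsLocalization.integerNormalization_map_to_map (nonZeroDivisors (R ⧸ p)) f
  set G := IsLocalization.integerNormalization (nonZeroDivisors (R ⧸ p)) f
  obtain ⟨F, hFG, hFd⟩ := Polynomial.mem_lifts_and_degree_eq
    (f := Ideal.Quotient.mk p) (p := G) (Polynomial.map_surjective _ Ideal.Quotient.mk_surjective G)
  have hb0 : algebraMap (R ⧸ p) κ b ≠ 0 := IsFractionRing.to_map_ne_zero_of_mem_nonZeroDivisors b.2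
  have hmap : F.map (algebraMap R κ) = C (algebraMap (R ⧸ p) κ b) * f := by
    rw [IsScalarTower.algebraMap_eq R (R ⧸ p) κ, ← Polynomial.map_map, Ideal.Quotient.algebraMap_eq, hFG, hb,
      ← Polynomial.smul_eq_C_mul]
    exact (algebraMap_smul κ (b : R ⧸ p) f).symm
  have hlead : F.leadingCoeff ∉ p := by
    intro h
    have hG : G ≠ 0 := by
      intro h0
      rw [h0, Polynomial.map_zero] at hb
      have h1 := congrArg (fun P => P.coeff f.natDegree) hb
      simp only [Polynomial.coeff_zero, Polynomial.coeff_smul, hfm.coeff_natDegree] at h1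
      exact hb0 (by rw [Algebra.smul_def, mul_one] at h1; exact h1.symm)
    refine Polynomial.leadingCoeff_ne_zero.mpr hG ?_
    rw [← hFG, Polynomial.leadingCoeff, Polynomial.natDegree_eq_of_degree_eq (by rw [hFG, hFd] : (F.map (Ideal.Quotient.mk p)).degree = F.degree),
      Polynomial.coeff_map]
    exact Ideal.Quotient.eq_zero_iff_mem.mpr h
  by_contra hne
  push Not at hne
  let T : Submonoid S := (Algebra.algebraMapSubmonoid S p.primeCompl) ⊔ Submonoid.powers (aeval x F)
  have hT : (0 : S) ∉ T := by
    intro h
    obtain ⟨_, ⟨t, ht, rfl⟩, _, ⟨N, rfl⟩, h0⟩ := Submonoid.mem_sup.mp h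
    refine hne (C t * F ^ N) ?_ ?_
    · have hne' : t * F.leadingCoeff ^ N ∉ p := fun hm => (Ideal.IsPrime.mem_or_mem inferInstance hm).elim ht
        (fun hm => hlead (Ideal.IsPrime.mem_of_pow_mem inferInstance N hm))
      have e1 : (F ^ N).leadingCoeff = F.leadingCoeff ^ N :=
        Polynomial.leadingCoeff_pow' fun e => hne' (by rw [e, mul_zero]; exact p.zero_mem)
      rw [Polynomial.leadingCoeff_mul', Polynomial.leadingCoeff_C, e1]
      · exact hne'
      · rw [Polynomial.leadingCoeff_C, e1]
        exact fun e => hne' (by rw [e]; exact p.zero_mem)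
    · rw [map_mul, map_pow, aeval_C]
      exact h0
  obtain ⟨q, hq, -, hdisj⟩ := Ideal.exists_le_prime_disjoint (⊥ : Ideal S) T (Set.disjoint_left.mpr fun z hz hzT => hT (by
    rw [SetLike.mem_coe, Ideal.mem_bot] at hz
    rwa [hz] at hzT))
  haveI := hq
  have hle : q.comap (algebraMap R S) ≤ p := fun r hr => by
    by_contra hrp
    exact Set.disjoint_left.mp hdisj hr (Submonoid.mem_sup_left ⟨r, hrp, rfl⟩)
  have hcomap : p = q.comap (algebraMap R S) := le_antisymm (hp.2 ⟨inferInstance, bot_le⟩ hle) hle
  refine Set.disjoint_left.mp hdisj ?_ (Submonoid.mem_sup_right (Submonoid.mem_powers _))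
  rw [SetLike.mem_coe, ← Ideal.algebraMap_residueField_eq_zero]
  let φ : κ →ₐ[R] q.ResidueField := Ideal.ResidueField.mapₐ p q (Algebra.ofId R S) hcomap
  let ψ : p.Fiber S →ₐ[R] q.ResidueField :=
    Algebra.TensorProduct.lift φ (IsScalarTower.toAlgHom R S q.ResidueField) (fun _ _ => Commute.all _ _)
  have hx : ψ ((1 : κ) ⊗ₜ[R] x) = algebraMap S q.ResidueField x := by
    simp only [ψ, Algebra.TensorProduct.lift_tmul, map_one, one_mul, IsScalarTower.coe_toAlgHom']
  have h1 : aeval ((1 : κ) ⊗ₜ[R] x : p.Fiber S) (F.map (algebraMap R κ)) = 0 := by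
    rw [hmap, map_mul]
    exact mul_eq_zero_of_right _ hf
  rw [Polynomial.aeval_map_algebraMap] at h1
  have h2 := congrArg ψ h1
  rw [← Polynomial.aeval_algHom_apply, map_zero, hx] at h2
  rwa [← Polynomial.aeval_algebraMap_apply]

/-- Let R → S be of finite type and p a minimal prime of R over which only finitely many primes of S
lie. Then for some g ∈ R outside p the localized map R_g → S_g is finite. -/
theorem result (R S : Type u) [CommRing R] [CommRing S]
    [Algebra R S] [Algebra.FiniteType R S] (p : Ideal R) (hp : p ∈ minimalPrimes R)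
    (hfin : (p.primesOver S).Finite) :
    ∃ g : R, g ∉ p ∧ (Localization.awayMap (algebraMap R S) g).Finite := by
  classical
  haveI : p.IsPrime := hp.1.1
  obtain ⟨t, ht⟩ := (inferInstance : Algebra.FiniteType R S).1
  choose F hF hF0 using exists_poly R S p hp hfin
  let g : R := ∏ x ∈ t, (F x).leadingCoeff
  refine ⟨g, fun h => ?_, ?_⟩
  · obtain ⟨x, -, hx⟩ := Ideal.IsPrime.prod_mem_iff.mp h
    exact hF x hx
  let f := Localization.awayMap (algebraMap R S) g
  have hcomm : ∀ r : R, f (algebraMap R (Localization.Away g) r) =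
      algebraMap S (Localization.Away (algebraMap R S g)) (algebraMap R S r) := fun r =>
    IsLocalization.map_eq _ _
  have hxint : ∀ x : S, f.IsIntegralElem (algebraMap S (Localization.Away (algebraMap R S g)) x) := by
    intro x
    have hx : x ∈ Algebra.adjoin R (t : Set S) := ht ▸ Algebra.mem_top
    induction hx using Algebra.adjoin_induction with
    | mem x hx =>
      have hu : IsUnit (algebraMap R (Localization.Away g) (F x).leadingCoeff) :=
        isUnit_of_dvd_unit (map_dvd _ (Finset.dvd_prod_of_mem (fun x => (F x).leadingCoeff) hx))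
          (IsLocalization.Away.algebraMap_isUnit g)
      let P := (F x).map (algebraMap R (Localization.Away g))
      have hP : P.leadingCoeff = algebraMap R (Localization.Away g) (F x).leadingCoeff := by
        rcases subsingleton_or_nontrivial (Localization.Away g) with hs | hs
        · exact Subsingleton.elim _ _
        · exact Polynomial.leadingCoeff_map_of_leadingCoeff_ne_zero _ hu.ne_zero
      refine ⟨Polynomial.C (↑hu.unit⁻¹ : Localization.Away g) * P,
        Polynomial.monic_C_mul_of_mul_leadingCoeff_eq_one (by rw [hP]; exact hu.val_inv_mul), ?_⟩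
      rw [Polynomial.eval₂_mul]
      refine mul_eq_zero_of_right _ ?_
      rw [Polynomial.eval₂_map, show f.comp (algebraMap R (Localization.Away g)) =
        (algebraMap S (Localization.Away (algebraMap R S g))).comp (algebraMap R S) from RingHom.ext hcomm,
        ← Polynomial.hom_eval₂]
      exact (congrArg _ (hF0 x)).trans (map_zero _)
    | algebraMap r => rw [← hcomm r]; exact f.isIntegralElem_map
    | add x y _ _ h1 h2 => rw [map_add]; exact h1.add _ h2
    | mul x y _ _ h1 h2 => rw [map_mul]; exact h1.mul _ h2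
  refine RingHom.IsIntegral.to_finite (fun z => ?_) ?_
  · obtain ⟨s, ⟨_, n, rfl⟩, rfl⟩ := IsLocalization.exists_mk'_eq (Submonoid.powers (algebraMap R S g)) z
    obtain ⟨u, hu⟩ := (IsLocalization.Away.algebraMap_isUnit (S := Localization.Away g) g).pow n
    have hz : IsLocalization.mk' (Localization.Away (algebraMap R S g)) s
        (⟨_, n, rfl⟩ : Submonoid.powers (algebraMap R S g)) = algebraMap S _ s * f (↑u⁻¹ : Localization.Away g) := by
      rw [IsLocalization.mk'_eq_iff_eq_mul]
      simp only
      rw [mul_assoc, ← map_pow, ← hcomm, ← map_mul f]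
      rw [show (↑u⁻¹ : Localization.Away g) * algebraMap R (Localization.Away g) (g ^ n) = 1 by
        rw [map_pow, ← hu, Units.inv_mul], map_one, mul_one]
    rw [hz]
    exact (hxint s).mul _ f.isIntegralElem_map
  · have h1 : (f.comp (algebraMap R (Localization.Away g))).FiniteType := by
      rw [show f.comp (algebraMap R (Localization.Away g)) =
        (algebraMap S (Localization.Away (algebraMap R S g))).comp (algebraMap R S) from RingHom.ext hcomm]
      refine RingHom.FiniteType.comp ?_ (RingHom.finiteType_algebraMap.mpr inferInstance)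
      haveI : Algebra.FinitePresentation S (Localization.Away (algebraMap R S g)) :=
        IsLocalization.Away.finitePresentation (algebraMap R S g)
      exact RingHom.finiteType_algebraMap.mpr inferInstance
    exact RingHom.FiniteType.of_comp_finiteType h1

end Groth.Agent.S9135
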