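import Groth.Statements.S9136
import Groth.Agent.KrullAki.Lattice
import Groth.Agent.S6320
import Mathlib.RingTheory.Localization.Finiteness

set_option autoImplicit false
universe u
open CAlg

open Pointwise

namespace Groth.Agent.S9136

/-- Let A ⊆ B be a finite type extension of domains, A Noetherian local of dimension one, with
compatible fraction fields K ⊆ L and L finite over K. Then B has finitely many maximal ideals, and
for a nonzero x in the maximal ideal of A the sum over the maximal ideals m of B of (length of B/m
over A, i.e. the residue degree) times (length of B_m / x B_m over B_m) is at most the degree of L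
over K times the length of A/xA; equality holds exactly when B is a finite A-module. -/
theorem result (A B K L : Type u)
    [CommRing A] [IsDomain A] [IsNoetherianRing A] [IsLocalRing A] (hdim : ringKrullDim A = 1)
    [CommRing B] [IsDomain B] [Algebra A B] [FaithfulSMul A B] [Algebra.FiniteType A B]
    [Field K] [Field L] [Algebra A K] [IsFractionRing A K] [Algebra B L] [IsFractionRing B L]
    [Algebra K L] [Algebra A L] [IsScalarTower A K L] [IsScalarTower A B L] [FiniteDimensional K L]
    (x : A) (hx : x ∈ IsLocalRing.maximalIdeal A) (hx0 : x ≠ 0) :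
    Finite (MaximalSpectrum B) ∧
      (∑ᶠ m : MaximalSpectrum B,
          Module.length A (B ⧸ m.asIdeal) *
            Module.length (Localization.AtPrime m.asIdeal)
              (Localization.AtPrime m.asIdeal ⧸
                Ideal.span ({algebraMap A (Localization.AtPrime m.asIdeal) x} : Set _)) ≤
        (Module.finrank K L : ℕ∞) * Module.length A (A ⧸ Ideal.span ({x} : Set A))) ∧
      ((∑ᶠ m : MaximalSpectrum B,
          Module.length A (B ⧸ m.asIdeal) *
            Module.length (Localization.AtPrime m.asIdeal)
              (Localization.AtPrime m.asIdeal ⧸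
                Ideal.span ({algebraMap A (Localization.AtPrime m.asIdeal) x} : Set _)) =
        (Module.finrank K L : ℕ∞) * Module.length A (A ⧸ Ideal.span ({x} : Set A))) ↔ Module.Finite A B) := by
  haveI : Ring.KrullDimLE 1 A := (Ring.krullDimLE_iff).2 hdim.le
  have hinj : Function.Injective (algebraMap A B) := FaithfulSMul.algebraMap_injective A B
  have hdiv : ∀ m : MaximalSpectrum B, m.asIdeal ≠ ⊥ →
      m.asIdeal.comap (algebraMap A B) = IsLocalRing.maximalIdeal A := by
    intro m hm
    obtain ⟨b, hb, hb0⟩ := Submodule.exists_mem_ne_zero_of_ne_bot hm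
    obtain ⟨c, hc, hcb⟩ :=
      Groth.Agent.KrullAki.exists_ne_zero_mem_span_singleton (A := A) (K := K) (L := L) hb0
    have hcm : c ∈ m.asIdeal.comap (algebraMap A B) := (Ideal.span_singleton_le_iff_mem _).2 hb hcb
    haveI := m.isMaximal.isPrime
    exact IsLocalRing.eq_maximalIdeal
      (Groth.Agent.KrullAki.isMaximal_of_ne_bot fun h => hc (by rwa [h, Ideal.mem_bot] at hcm))
  have hxm : ∀ m : MaximalSpectrum B, m.asIdeal ≠ ⊥ → algebraMap A B x ∈ m.asIdeal := fun m hm => by
    rw [← Ideal.mem_comap, hdiv m hm]; exact hx
  have hfinM : Finite (MaximalSpectrum B) := by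
    have hfin := ((Groth.Agent.KrullAki.finite_primes_containing (A := A) (K := K) (L := L) (B := B) hx0).union
      (Set.finite_singleton (⊥ : Ideal B))).to_subtype
    refine Finite.of_injective (fun m : MaximalSpectrum B =>
      (⟨m.asIdeal, ?_⟩ : ↥({P : Ideal B | P.IsPrime ∧ algebraMap A B x ∈ P} ∪ {⊥}))) ?_
    · by_cases hm : m.asIdeal = ⊥
      · exact Or.inr hm
      · exact Or.inl ⟨m.isMaximal.isPrime, hxm m hm⟩
    · intro m m' h
      exact MaximalSpectrum.ext (congrArg Subtype.val h)
  refine ⟨hfinM, ?_⟩
  let J : Ideal B := Ideal.span {algebraMap A B x}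
  have hJ := Groth.Agent.KrullAki.isFiniteLength_quot (A := A) (K := K) (L := L)
    (J := J) hx0 (Ideal.mem_span_singleton_self _)
  have hJB : IsFiniteLength B (B ⧸ J) := by
    obtain ⟨h1, h2⟩ := isFiniteLength_iff_isNoetherian_isArtinian.1 hJ
    exact isFiniteLength_iff_isNoetherian_isArtinian.2 ⟨isNoetherian_of_tower A h1, isArtinian_of_tower A h2⟩
  have key : (∑ᶠ m : MaximalSpectrum B,
      Module.length A (B ⧸ m.asIdeal) *
        Module.length (Localization.AtPrime m.asIdeal)
          (Localization.AtPrime m.asIdeal ⧸
            Ideal.span ({algebraMap A (Localization.AtPrime m.asIdeal) x} : Set _))) =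
      Module.length A (B ⧸ x • (⊤ : Submodule A B)) := by
    rw [← Groth.Agent.KrullAki.length_span_eq]
    by_cases hB : IsField B
    · have hJtop : J = ⊤ := by
        obtain ⟨b, hb⟩ := hB.mul_inv_cancel (fun h => hx0 (hinj (by rw [h, map_zero])) :
          algebraMap A B x ≠ 0)
        exact Ideal.eq_top_of_isUnit_mem _ (Ideal.mem_span_singleton_self _) (IsUnit.of_mul_eq_one b hb)
      haveI : Subsingleton (B ⧸ Ideal.span {algebraMap A B x}) :=
        Submodule.Quotient.subsingleton_iff.2 hJtop
      rw [Module.length_eq_zero]
      refine finsum_eq_zero_of_forall_eq_zero fun m => ?_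
      have htop : Ideal.span ({algebraMap A (Localization.AtPrime m.asIdeal) x} : Set _) = ⊤ := by
        rw [Ideal.span_singleton_eq_top,
          IsScalarTower.algebraMap_apply A B (Localization.AtPrime m.asIdeal)]
        exact (Ideal.span_singleton_eq_top.1 hJtop).map _
      haveI : Subsingleton (Localization.AtPrime m.asIdeal ⧸
          Ideal.span ({algebraMap A (Localization.AtPrime m.asIdeal) x} : Set _)) :=
        Submodule.Quotient.subsingleton_iff.2 htop
      rw [Module.length_eq_zero (M := Localization.AtPrime m.asIdeal ⧸
        Ideal.span ({algebraMap A (Localization.AtPrime m.asIdeal) x} : Set _)), mul_zero]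
    have hm0 : ∀ m : MaximalSpectrum B, m.asIdeal ≠ ⊥ := fun m h =>
      hB (Ring.isField_iff_maximal_bot.2 (h ▸ m.isMaximal))
    have hquot : ∀ m : MaximalSpectrum B, Module.Finite A (B ⧸ m.asIdeal) := fun m => by
      obtain ⟨h1, -⟩ := isFiniteLength_iff_isNoetherian_isArtinian.1
        (Groth.Agent.KrullAki.isFiniteLength_quot (A := A) (K := K) (L := L) hx0 (hxm m (hm0 m)))
      exact Module.IsNoetherian.finite A (B ⧸ m.asIdeal)
    rw [Groth.Agent.S6320.result (fun m => hdiv m (hm0 m))
      (fun m => Module.Finite.of_restrictScalars_finite A _ _) _ hJB]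
    refine finsum_congr fun m => ?_
    congr 1
    · haveI : (m.asIdeal.comap (algebraMap A B)).IsMaximal := by rw [hdiv m (hm0 m)]; infer_instance
      letI := Ideal.Quotient.field (m.asIdeal.comap (algebraMap A B))
      haveI := hquot m
      haveI : Module.Finite (A ⧸ m.asIdeal.comap (algebraMap A B)) (B ⧸ m.asIdeal) :=
        Module.Finite.of_restrictScalars_finite A _ _
      rw [Module.length_eq_of_surjective (R := A ⧸ m.asIdeal.comap (algebraMap A B)) (S := A)
        Ideal.Quotient.mk_surjective, Module.length_eq_finrank]
    · let L' := Localization.AtPrime m.asIdeal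
      have hEq : (J : Submodule B B).localized' L' m.asIdeal.primeCompl (Algebra.linearMap B L') =
          Ideal.span ({algebraMap A L' x} : Set L') := by
        rw [Ideal.localized'_eq_map, Ideal.map_span, Set.image_singleton,
          ← IsScalarTower.algebraMap_apply]
      exact ((IsLocalizedModule.iso m.asIdeal.primeCompl
          ((J : Submodule B B).toLocalizedQuotient' L' m.asIdeal.primeCompl (Algebra.linearMap B L'))).extendScalarsOfIsLocalization m.asIdeal.primeCompl L'
        |>.trans (Submodule.quotEquivOfEq _ _ hEq)).length_eq.symm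
  rw [key]
  exact ⟨Groth.Agent.KrullAki.length_quot_le_finrank (K := K) (L := L) hx0,
    (Groth.Agent.KrullAki.finite_iff (K := K) (L := L) hx hx0 hinj).symm⟩

end Groth.Agent.S9136
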