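import Groth.Statements.S9154
import Groth.Agent.H4CI.GorLink
import Groth.Agent.VarDim.Basic

set_option autoImplicit false
set_option linter.style.haveILetI false
universe u
open CAlg

namespace Groth.Agent.S9154

/-- Let S be a Cohen–Macaulay finite type algebra over a field k, equidimensional of dimension d, and
f_1, …, f_i elements (i ≤ d) generating a proper ideal whose zero locus has dimension at most d − i.
Then that dimension equals d − i and the f_j form a regular sequence in S_q for every prime q
containing them. (The published statement also allows the f_j to generate the unit ideal, where the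
zero locus is empty and the equality fails, e.g. f_1 = 1 in k[x]; this row assumes the ideal is
proper.) -/
theorem result (k S : Type u) [Field k] [CommRing S] [Algebra k S]
    [Algebra.FiniteType k S] [LocCoh.IsCohenMacaulayRing S] (d : ℕ)
    (heq : ∀ p ∈ minimalPrimes S, ringKrullDim (S ⧸ p) = d) (f : List S) (hi : f.length ≤ d)
    (hne : Ideal.ofList f ≠ ⊤)
    (hle : ringKrullDim (S ⧸ Ideal.ofList f) ≤ ((d - f.length : ℕ) : WithBot ℕ∞)) :
    ringKrullDim (S ⧸ Ideal.ofList f) = ((d - f.length : ℕ) : WithBot ℕ∞) ∧
      ∀ (q : Ideal S) [q.IsPrime], Ideal.ofList f ≤ q →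
        RingTheory.Sequence.IsRegular (Localization.AtPrime q)
          (f.map (algebraMap S (Localization.AtPrime q))) := by
  classical
  haveI : IsNoetherianRing S := Algebra.FiniteType.isNoetherianRing k S
  let I := Ideal.ofList f
  have hloc : ∀ m : Ideal S, m.IsMaximal → I ≤ m → (d : ℕ∞) ≤ m.height := by
    intro m hm _
    obtain ⟨p, hp, hpm⟩ := Ideal.exists_minimalPrimes_le (bot_le : (⊥ : Ideal S) ≤ m)
    haveI := hp.1.1
    haveI : Algebra.FiniteType k (S ⧸ p) :=
      Algebra.FiniteType.of_surjective (Ideal.Quotient.mkₐ k p) Ideal.Quotient.mk_surjective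
    haveI hmp : (m.map (Ideal.Quotient.mk p)).IsMaximal :=
      Ideal.IsMaximal.map_of_surjective_of_ker_le Ideal.Quotient.mk_surjective (by rwa [Ideal.mk_ker])
    have h := VarDim.height_add_coheight_eq k d (S ⧸ p) (heq p hp) ⟨_, hmp.isPrime⟩
    have hc : Order.coheight (⟨m.map (Ideal.Quotient.mk p), hmp.isPrime⟩ : PrimeSpectrum (S ⧸ p)) = 0 :=
      Order.coheight_eq_zero.2 fun Q hQ => (PrimeSpectrum.ext (hmp.eq_of_le Q.isPrime.ne_top hQ)).ge
    rw [hc, add_zero] at h
    rw [show m.height = (⟨m, hm.isPrime⟩ : PrimeSpectrum S).asIdeal.height from rfl, PrimeSpectrum.height_eq_orderHeight, ← h]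
    refine (Order.height_le_height_apply_of_strictMono (PrimeSpectrum.comap (Ideal.Quotient.mk p))
      ((Monotone.strictMono_of_injective (fun _ _ hh => Ideal.comap_mono hh)
        (PrimeSpectrum.comap_injective_of_surjective _ Ideal.Quotient.mk_surjective))) _).trans (le_of_eq ?_)
    congr 1
    refine PrimeSpectrum.ext ?_
    show (m.map (Ideal.Quotient.mk p)).comap (Ideal.Quotient.mk p) = m
    rw [Ideal.comap_map_of_surjective _ Ideal.Quotient.mk_surjective, ← RingHom.ker_eq_comap_bot, Ideal.mk_ker,
      sup_eq_left.2 hpm]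
  have hreg : ∀ m : Ideal S, [m.IsMaximal] → I ≤ m →
      RingTheory.Sequence.IsWeaklyRegular (Localization.AtPrime m) (f.map (algebraMap S (Localization.AtPrime m))) ∧
        ((d - f.length : ℕ) : WithBot ℕ∞) ≤ ringKrullDim (S ⧸ I) := by
    intro m hm hIm
    let B := Localization.AtPrime m
    haveI : LocCoh.IsCohenMacaulayLocalRing B := LocCoh.IsCohenMacaulayRing.isCohenMacaulayLocalRing_localization m
    have hJ : Ideal.ofList (f.map (algebraMap S B)) = I.map (algebraMap S B) := (Ideal.map_ofList _ _).symm
    have hdim : (d : WithBot ℕ∞) ≤ ringKrullDim B := by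
      rw [IsLocalization.AtPrime.ringKrullDim_eq_height m B]
      exact WithBot.coe_le_coe.2 (hloc m hm hIm)
    have hle' : ringKrullDim (B ⧸ I.map (algebraMap S B)) ≤ ringKrullDim (S ⧸ I) := by
      haveI : IsLocalization (Algebra.algebraMapSubmonoid (S ⧸ I) m.primeCompl) (B ⧸ I.map (algebraMap S B)) := inferInstance
      exact Order.krullDim_le_of_strictMono _ (Monotone.strictMono_of_injective (fun _ _ hh => Ideal.comap_mono hh)
        (PrimeSpectrum.localization_comap_injective (B ⧸ I.map (algebraMap S B)) (Algebra.algebraMapSubmonoid (S ⧸ I) m.primeCompl)))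
    have hmem : ∀ r ∈ f.map (algebraMap S B), r ∈ IsLocalRing.maximalIdeal B := fun r hr => by
      obtain ⟨a, ha, rfl⟩ := List.mem_map.1 hr
      exact (IsLocalization.AtPrime.to_map_mem_maximal_iff B m a).2 (hIm (Ideal.subset_span ha))
    have hd' : ((d - f.length : ℕ) : WithBot ℕ∞) + ((f.length : ℕ) : WithBot ℕ∞) = (d : WithBot ℕ∞) := by
      rw [← Nat.cast_add, Nat.sub_add_cancel hi]
    refine ⟨H4CI.GorLink.isWeaklyRegular_of_dim_le _ hmem ?_, ?_⟩
    · rw [hJ, List.length_map]
      exact ((add_le_add (hle'.trans hle) le_rfl).trans hd'.le).trans hdim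
    · have hw := H4CI.GorLink.isWeaklyRegular_of_dim_le _ hmem (by
        rw [hJ, List.length_map]
        exact ((add_le_add (hle'.trans hle) le_rfl).trans hd'.le).trans hdim)
      refine le_trans ?_ hle'
      rw [← hJ]
      have h := LC.supportDim_eq_add_idealDepth B LocCoh.IsCohenMacaulayLocalRing.supportDim_eq_depth
        (I := Ideal.ofList (f.map (algebraMap S B))) (fun htop => (IsLocalRing.maximalIdeal.isMaximal B).ne_top
          (top_le_iff.1 (htop ▸ Ideal.span_le.2 hmem)))
      rw [Module.supportDim_eq_of_equiv (Submodule.quotEquivOfEq (Ideal.ofList (f.map (algebraMap S B)) • ⊤ : Submodule B B)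
          (Ideal.ofList (f.map (algebraMap S B))) (by rw [Ideal.smul_eq_mul, Ideal.mul_top])),
        Module.supportDim_quotient_eq_ringKrullDim, Module.supportDim_self_eq_ringKrullDim,
        (LC.idealDepth_ofList_eq_length_iff _ hmem).2 hw, List.length_map] at h
      rw [h, ← hd'] at hdim
      exact ENat.WithBot.add_le_add_natCast_right_iff.1 hdim
  refine ⟨le_antisymm hle ?_, fun q _ hq => ?_⟩
  · obtain ⟨m, hm, hIm⟩ := Ideal.exists_le_maximal I hne
    exact (hreg m hIm).2
  · obtain ⟨m, hm, hqm⟩ := Ideal.exists_le_maximal q (Ideal.IsPrime.ne_top inferInstance)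
    obtain ⟨hw, -⟩ := hreg m (hq.trans hqm)
    let B := Localization.AtPrime m
    let C := Localization.AtPrime q
    letI : Algebra B C := IsLocalization.localizationAlgebraOfSubmonoidLe B C m.primeCompl q.primeCompl
      (fun a ha haq => ha (hqm haq))
    haveI : IsScalarTower S B C := IsLocalization.localization_isScalarTower_of_submonoid_le B C m.primeCompl q.primeCompl
      (fun a ha haq => ha (hqm haq))
    haveI : Module.Flat B C := by
      haveI := IsLocalization.isLocalization_of_submonoid_le B C m.primeCompl q.primeCompl (fun a ha haq => ha (hqm haq))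
      exact IsLocalization.flat C (Submonoid.map (algebraMap S B) q.primeCompl)
    have h := hw.of_flat (S := C)
    rw [List.map_map, ← RingHom.coe_comp, ← IsScalarTower.algebraMap_eq] at h
    refine ⟨h, fun htop => ?_⟩
    have hle2 : Ideal.ofList (f.map (algebraMap S C)) ≤ IsLocalRing.maximalIdeal C := Ideal.span_le.2 fun r hr => by
      obtain ⟨a, ha, rfl⟩ := List.mem_map.1 hr
      exact (IsLocalization.AtPrime.to_map_mem_maximal_iff C q a).2 (hq (Ideal.subset_span ha))
    rw [Ideal.smul_eq_mul, Ideal.mul_top] at htop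
    exact (IsLocalRing.maximalIdeal.isMaximal C).ne_top (top_le_iff.1 (htop ▸ hle2))

end Groth.Agent.S9154
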