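import Groth.Statements.S9156
import Groth.Agent.H4CMDecomp.Basic
-- import your own Groth.Agent.* helpers here

set_option autoImplicit false
universe u
open CAlg

namespace Groth.Agent.S9156

open TensorProduct in
/-- over a field, the fibre is the algebra itself -/
noncomputable def fibreEquiv (k S : Type u) [Field k] [CommRing S] [Algebra k S] (p : PrimeSpectrum k) :
    S ≃ₐ[k] p.asIdeal.Fiber S :=
  (Algebra.TensorProduct.lid k S).symm.trans (Algebra.TensorProduct.congr
    (AlgEquiv.ofBijective (Algebra.ofId k p.asIdeal.ResidueField) (by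
      refine ⟨(algebraMap k p.asIdeal.ResidueField).injective, ?_⟩
      have hp : p.asIdeal.IsMaximal := by
        rw [(Ideal.eq_bot_or_top p.asIdeal).resolve_right p.2.ne_top]
        exact Ideal.bot_isMaximal
      exact p.asIdeal.algebraMap_residueField_surjective))
    AlgEquiv.refl)

/-- A Cohen–Macaulay finite type algebra S over a field k decomposes as a finite product of k-algebras
S_0 × ⋯ × S_N in which every maximal ideal of the factor S_d has height d (so Spec S is a finite
disjoint union of equidimensional open and closed pieces). -/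
theorem result (k S : Type u) [Field k] [CommRing S]
    [Algebra k S] [Algebra.FiniteType k S] [LocCoh.IsCohenMacaulayRing S] :
    ∃ (N : ℕ) (T : Fin (N + 1) → Type u) (_ : ∀ d, CommRing (T d)) (_ : ∀ d, Algebra k (T d)),
      Nonempty (S ≃ₐ[k] ((d : Fin (N + 1)) → T d)) ∧
        ∀ (d : Fin (N + 1)) (m : Ideal (T d)), m.IsMaximal → m.height = (d : ℕ) := by
  have hcm : ∀ p : PrimeSpectrum k, LocCoh.IsCohenMacaulayRing (p.asIdeal.Fiber S) := by
    intro p
    let e := (fibreEquiv k S p).toRingEquiv
    haveI : IsNoetherianRing (p.asIdeal.Fiber S) := isNoetherianRing_of_ringEquiv S e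
    refine ⟨fun Q _ => ?_⟩
    let Q₀ : Ideal S := Q.comap e.toRingHom
    haveI := LocCoh.IsCohenMacaulayRing.isCohenMacaulayLocalRing_localization (R := S) Q₀
    have hQ : Submonoid.map e.toMonoidHom Q₀.primeCompl = Q.primeCompl := by
      ext x
      exact ⟨fun ⟨y, hy, hyx⟩ => hyx ▸ hy, fun hx => ⟨e.symm x, fun h => hx (by simpa [Q₀] using h), e.apply_symm_apply x⟩⟩
    exact Triage.CMMor.isCM_of_equiv (R := Localization.AtPrime Q₀) (S := Localization.AtPrime Q)
      (IsLocalization.ringEquivOfRingEquiv (Localization.AtPrime Q₀) (Localization.AtPrime Q) e hQ) inferInstance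
  haveI : Algebra.FinitePresentation k S := Algebra.FinitePresentation.of_finiteType.1 inferInstance
  obtain ⟨N, φ, hlc, hdim⟩ := H4CMDecomp.exists_dimFun k S hcm
  obtain ⟨e, he, hφ⟩ := H4CMDecomp.exists_idempotents S φ hlc
  refine ⟨N, fun d => S ⧸ Ideal.span {1 - e d}, inferInstance, inferInstance,
    H4CMDecomp.nonempty_equiv_pieces φ e he hφ, fun d m hm => ?_⟩
  haveI := H4CMDecomp.isLocalization_away (he d)
  haveI := hm.isPrime
  let q : PrimeSpectrum S := ⟨m.comap (algebraMap S (S ⧸ Ideal.span {1 - e d})), inferInstance⟩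
  haveI hqmax : q.asIdeal.IsMaximal :=
    Ideal.comap_isMaximal_of_surjective _ Ideal.Quotient.mk_surjective
  have hd : φ q = d := by
    refine (hφ d q).2 fun h => ?_
    exact hm.ne_top (Ideal.eq_top_of_isUnit_mem _ h (IsLocalization.Away.algebraMap_isUnit (e d)))
  rw [← IsLocalization.height_under (Submonoid.powers (e d)) m]
  show q.asIdeal.height = _
  let p₀ : PrimeSpectrum k := ⟨⊥, Ideal.isPrime_bot⟩
  let E := (fibreEquiv k S p₀).toRingEquiv
  let h : PrimeSpectrum (p₀.asIdeal.Fiber S) ≃ₜ PrimeSpectrum S := PrimeSpectrum.homeomorphOfRingEquiv E.symm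
  have key := hdim p₀ (h.symm q) q (by
    ext x
    show E.symm (Algebra.TensorProduct.includeRight x) ∈ q.asIdeal ↔ _
    have hx : E x = Algebra.TensorProduct.includeRight x := by
      simp [E, fibreEquiv]
    rw [← hx, RingEquiv.symm_apply_apply])
  rw [FibDim.localDim_homeomorph h.symm, CAlgOdd.LocalDimSpec.localDim_eq_add k, hd,
    ← PrimeSpectrum.height_eq_orderHeight] at key
  have hco : Order.coheight q = 0 := Order.coheight_eq_zero.2 fun r hr =>
    PrimeSpectrum.asIdeal_le_asIdeal _ _ |>.1 (hqmax.eq_of_le r.2.ne_top hr).ge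
  rw [hco, add_zero] at key
  exact WithBot.coe_injective key

end Groth.Agent.S9156
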