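import Groth.Statements.S9162
import Mathlib

set_option autoImplicit false
set_option backward.isDefEq.respectTransparency false
universe u
open CAlg

namespace Groth.Agent.S9162

open MvPolynomial Algebra.Extension

noncomputable section

variable {R S : Type u} [CommRing R] [CommRing S] [Algebra R S] {σ τ : Type} [Fintype τ]

theorem smul_mk (P : Algebra.Extension R S) (r : P.Ring) (z : P.ker) :
    algebraMap P.Ring S r • Cotangent.mk (P := P) z = Cotangent.mk (r • z) := by
  rw [map_smul, algebraMap_smul]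

/-- Combining a presentation with extra variables splits the conormal module. -/
theorem cotangent_sum (α : MvPolynomial σ R →ₐ[R] S) (hα : Function.Surjective α)
    (γ : MvPolynomial (σ ⊕ τ) R →ₐ[R] S) (hγ : Function.Surjective γ)
    (hi : γ.comp (rename Sum.inl) = α) :
    Nonempty ((Algebra.Extension.ofSurjective γ hγ).Cotangent ≃ₗ[S]
      (Algebra.Extension.ofSurjective α hα).Cotangent × (τ → S)) := by
  classical
  let EG := Algebra.Extension.ofSurjective γ hγ
  let EA := Algebra.Extension.ofSurjective α hα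
  have hiz : ∀ z, γ (rename Sum.inl z) = α z := fun z => AlgHom.congr_fun hi z
  choose p hp using fun j : τ => hα (γ (X (Sum.inr j)))
  let ρ : MvPolynomial (σ ⊕ τ) R →ₐ[R] MvPolynomial σ R := aeval (Sum.elim X p)
  have hρ : α.comp ρ = γ := algHom_ext fun x => by
    cases x with
    | inl i => simp [ρ, ← hiz]
    | inr j => simp [ρ, hp]
  let fρ : EG.Hom EA := Hom.mk ρ.toRingHom (fun x => ρ.commutes x) (fun x => AlgHom.congr_fun hρ x)
  let fi : EA.Hom EG := Hom.mk (rename Sum.inl : MvPolynomial σ R →ₐ[R] MvPolynomial (σ ⊕ τ) R).toRingHom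
    (fun x => (rename Sum.inl : MvPolynomial σ R →ₐ[R] MvPolynomial (σ ⊕ τ) R).commutes x) hiz
  have hker : ∀ z : EG.ker, γ z.1 = 0 := fun z => z.2
  -- the derivative part
  let θ0 : EG.ker → (τ → S) := fun z j => γ (pderiv (Sum.inr j) z.1)
  have hθadd : ∀ z w, θ0 (z + w) = θ0 z + θ0 w := fun z w => funext fun j => by
    have hadd : ∀ a b : MvPolynomial (σ ⊕ τ) R, γ (pderiv (Sum.inr j) (a + b)) =
        γ (pderiv (Sum.inr j) a) + γ (pderiv (Sum.inr j) b) := fun a b => by rw [map_add, map_add]
    exact hadd _ _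
  have hθmul : ∀ (r : MvPolynomial (σ ⊕ τ) R) (z : EG.ker), θ0 (r • z) = γ r • θ0 z := fun r z => funext fun j => by
    have hmul : ∀ a : MvPolynomial (σ ⊕ τ) R, γ a = 0 →
        γ (pderiv (Sum.inr j) (r * a)) = γ r * γ (pderiv (Sum.inr j) a) := fun a ha => by
      rw [pderiv_mul, map_add, map_mul, map_mul, ha, mul_zero, zero_add]
    exact hmul _ (hker z)
  have hθ : ∀ z w : EG.ker, Cotangent.mk (P := EG) z = Cotangent.mk w → θ0 z = θ0 w := by
    intro z w h
    have hmem := (Cotangent.mk_eq_mk_iff_sub_mem z w).1 h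
    suffices ∀ y : MvPolynomial (σ ⊕ τ) R, y ∈ RingHom.ker γ ^ 2 → ∀ j, γ (pderiv (Sum.inr j) y) = 0 by
      funext j
      have h2 := this _ hmem j
      rw [map_sub, map_sub, sub_eq_zero] at h2
      exact h2
    intro y hy
    rw [pow_two] at hy
    refine Submodule.mul_induction_on hy (fun a ha b hb j => ?_) (fun a b ha hb j => ?_)
    · rw [pderiv_mul, map_add, map_mul, map_mul, show γ a = 0 from ha, show γ b = 0 from hb, mul_zero, zero_mul, add_zero]
    · rw [map_add, map_add, ha, hb, add_zero]
  let inv : EG.Cotangent → EG.ker := fun x => (Cotangent.mk_surjective (P := EG) x).choose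
  have hinv : ∀ x, Cotangent.mk (P := EG) (inv x) = x := fun x => (Cotangent.mk_surjective (P := EG) x).choose_spec
  let θ : EG.Cotangent →ₗ[S] (τ → S) :=
    { toFun := fun x => θ0 (inv x)
      map_add' := fun x y => by
        rw [← hθadd]
        exact hθ _ _ (by rw [hinv, map_add, hinv, hinv])
      map_smul' := fun r x => by
        obtain ⟨r, rfl⟩ := hγ r
        rw [RingHom.id_apply, ← hθmul]
        exact hθ _ _ (by rw [hinv, ← smul_mk EG r (inv x), hinv]; rfl) }
  have hθmk : ∀ z, θ (Cotangent.mk z) = θ0 z := fun z => hθ _ _ (hinv _)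
  -- the elements `y_j - p_j`
  let d : τ → EG.ker := fun j => ⟨X (Sum.inr j) - rename Sum.inl (p j), by
    show γ _ = 0
    rw [map_sub, hiz, hp, sub_self]⟩
  let g : EA.Cotangent × (τ → S) →ₗ[S] EG.Cotangent :=
    (Cotangent.map fi).coprod (Fintype.linearCombination S fun j => Cotangent.mk (d j))
  let f : EG.Cotangent →ₗ[S] EA.Cotangent × (τ → S) := (Cotangent.map fρ).prod θ
  have hpz : ∀ (j : τ) (z : MvPolynomial σ R), pderiv (Sum.inr j) (rename Sum.inl z : MvPolynomial (σ ⊕ τ) R) = 0 := by
    intro j z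
    induction z using MvPolynomial.induction_on with
    | C a => simp
    | add a b ha hb => rw [map_add, map_add, ha, hb, add_zero]
    | mul_X a i ha => rw [map_mul, pderiv_mul, ha, rename_X, pderiv_X_of_ne (by simp), zero_mul, mul_zero, add_zero]
  have hρi : ∀ z : MvPolynomial σ R, ρ (rename Sum.inl z) = z := fun z => by
    show (ρ.comp (rename Sum.inl)) z = AlgHom.id R _ z
    refine AlgHom.congr_fun (algHom_ext fun i => ?_) z
    simp [ρ]
  have hfg : ∀ x, f (g x) = x := by
    rintro ⟨c, v⟩
    have h1 : ∀ c, f (Cotangent.map fi c) = (c, 0) := by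
      intro c
      obtain ⟨z, rfl⟩ := Cotangent.mk_surjective (P := EA) c
      refine Prod.ext ?_ ?_
      · show Cotangent.map fρ (Cotangent.map fi (Cotangent.mk z)) = _
        rw [Cotangent.map_mk, Cotangent.map_mk]
        exact congrArg _ (Subtype.ext (hρi z.1))
      · show θ (Cotangent.map fi (Cotangent.mk z)) = _
        rw [Cotangent.map_mk, hθmk]
        funext j
        show γ (pderiv (Sum.inr j) (rename Sum.inl z.1)) = _
        rw [hpz, map_zero]; rfl
    have h2 : ∀ j, f (Cotangent.mk (d j)) = (0, Pi.single j 1) := by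
      intro j
      refine Prod.ext ?_ ?_
      · show Cotangent.map fρ (Cotangent.mk (d j)) = _
        rw [Cotangent.map_mk, ← map_zero (Cotangent.mk (P := EA))]
        refine congrArg _ (Subtype.ext ?_)
        show ρ (X (Sum.inr j) - rename Sum.inl (p j)) = 0
        rw [map_sub, hρi]; simp [ρ]
      · show θ (Cotangent.mk (d j)) = _
        rw [hθmk]
        funext k
        show γ (pderiv (Sum.inr k) (X (Sum.inr j) - rename Sum.inl (p j))) = (Pi.single j (1 : S) : τ → S) k
        rw [map_sub, hpz, sub_zero]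
        rcases eq_or_ne j k with rfl | h
        · rw [pderiv_X_self, map_one, Pi.single_eq_same]
        · rw [pderiv_X_of_ne (by simpa using h), map_zero, Pi.single_eq_of_ne h.symm]
    show f (Cotangent.map fi c + Fintype.linearCombination S (fun j => Cotangent.mk (d j)) v) = _
    rw [map_add, h1, Fintype.linearCombination_apply, map_sum]
    simp only [map_smul, h2, Prod.smul_mk, smul_zero]
    refine Prod.ext (by simp [Prod.fst_sum]) ?_
    simp only [Prod.snd_add, zero_add, Prod.snd_sum]
    funext k
    simp [Finset.sum_apply, Pi.single_apply]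
  have hgf : ∀ x, g (f x) = x := by
    intro x
    obtain ⟨z, rfl⟩ := Cotangent.mk_surjective (P := EG) x
    let zz : MvPolynomial (σ ⊕ τ) R := z.1
    let D : Ideal (MvPolynomial (σ ⊕ τ) R) := Ideal.span (Set.range fun j => (d j).1)
    have hmem : zz - rename Sum.inl (ρ zz) ∈ D := by
      rw [← Ideal.Quotient.mk_eq_mk_iff_sub_mem]
      show Ideal.Quotient.mkₐ R D zz = ((Ideal.Quotient.mkₐ R D).comp ((rename Sum.inl).comp ρ)) zz
      refine AlgHom.congr_fun (algHom_ext fun x => ?_) zz
      cases x with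
      | inl i => simp [ρ]
      | inr j =>
        show Ideal.Quotient.mk D (X (Sum.inr j)) = Ideal.Quotient.mk D (rename Sum.inl (ρ (X (Sum.inr j))))
        rw [Ideal.Quotient.mk_eq_mk_iff_sub_mem, show ρ (X (Sum.inr j)) = p j by simp [ρ]]
        exact Ideal.subset_span ⟨j, rfl⟩
    obtain ⟨q, hq⟩ := Ideal.mem_span_range_iff_exists_fun.1 hmem
    let z' : EA.ker := ⟨ρ z.1, by show α _ = 0; rw [← AlgHom.comp_apply, hρ]; exact z.2⟩
    let z'' : EG.ker := ⟨rename Sum.inl (ρ zz), by show γ _ = 0; rw [hiz]; exact z'.2⟩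
    have hz : z = z'' + ∑ j, q j • d j := by
      apply Subtype.ext
      rw [Submodule.coe_add, Submodule.coe_sum]
      simp only [SetLike.val_smul, smul_eq_mul]
      exact eq_add_of_sub_eq' hq.symm
    have hθz : θ0 z = fun j => γ (q j) := by
      funext k
      show γ (pderiv (Sum.inr k) zz) = γ (q k)
      rw [← sub_add_cancel zz (rename Sum.inl (ρ zz)), ← hq, map_add, hpz, add_zero, map_sum, map_sum,
        Finset.sum_eq_single k]
      · show γ (pderiv (Sum.inr k) (q k * (X (Sum.inr k) - rename Sum.inl (p k)))) = γ (q k)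
        rw [pderiv_mul, map_add, map_mul, map_mul, map_sub, map_sub, hpz, sub_zero, pderiv_X_self, map_one, mul_one]
        simp [hiz, hp]
      · intro j _ hj
        show γ (pderiv (Sum.inr k) (q j * (X (Sum.inr j) - rename Sum.inl (p j)))) = 0
        rw [pderiv_mul, map_add, map_mul, map_mul, map_sub, map_sub, hpz, sub_zero, pderiv_X_of_ne (by simpa using hj)]
        simp [hiz, hp]
      · simp
    show Cotangent.map fi (Cotangent.map fρ (Cotangent.mk z)) +
      Fintype.linearCombination S (fun j => Cotangent.mk (d j)) (θ (Cotangent.mk z)) = _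
    rw [Cotangent.map_mk, Cotangent.map_mk, hθmk, hθz, Fintype.linearCombination_apply]
    conv_rhs => rw [hz, map_add, map_sum]
    refine congrArg₂ (· + ·) (congrArg _ (Subtype.ext rfl)) (Finset.sum_congr rfl fun j _ => ?_)
    exact smul_mk EG (q j) (d j)
  exact ⟨LinearEquiv.ofLinearMap f g (LinearMap.ext hfg) (LinearMap.ext hgf)⟩

/-- An equivalence of variables gives the same conormal module. -/
theorem cotangent_congr {ι κ : Type} (e : ι ≃ κ) (γ : MvPolynomial κ R →ₐ[R] S) (hγ : Function.Surjective γ)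
    (γ' : MvPolynomial ι R →ₐ[R] S) (hγ' : Function.Surjective γ') (h : γ.comp (rename e) = γ') :
    Nonempty ((Algebra.Extension.ofSurjective γ' hγ').Cotangent ≃ₗ[S] (Algebra.Extension.ofSurjective γ hγ).Cotangent) := by
  let E := Algebra.Extension.ofSurjective γ hγ
  let E' := Algebra.Extension.ofSurjective γ' hγ'
  let a : E'.Hom E := Hom.mk (rename e : MvPolynomial ι R →ₐ[R] MvPolynomial κ R).toRingHom
    (fun x => (rename e : MvPolynomial ι R →ₐ[R] MvPolynomial κ R).commutes x) (fun x => AlgHom.congr_fun h x)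
  let b : E.Hom E' := Hom.mk (rename e.symm : MvPolynomial κ R →ₐ[R] MvPolynomial ι R).toRingHom
    (fun x => (rename e.symm : MvPolynomial κ R →ₐ[R] MvPolynomial ι R).commutes x) (fun x => by
      show γ' (rename e.symm x) = γ x
      rw [← h, AlgHom.comp_apply, rename_rename]
      simp)
  refine ⟨LinearEquiv.ofLinearMap (Cotangent.map a) (Cotangent.map b) (LinearMap.ext fun x => ?_) (LinearMap.ext fun x => ?_)⟩
  · obtain ⟨z, rfl⟩ := Cotangent.mk_surjective (P := E) x
    rw [LinearMap.comp_apply, Cotangent.map_mk, Cotangent.map_mk]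
    refine congrArg _ (Subtype.ext ?_)
    show rename e (rename e.symm z.1) = z.1
    rw [rename_rename]; simp
  · obtain ⟨z, rfl⟩ := Cotangent.mk_surjective (P := E') x
    rw [LinearMap.comp_apply, Cotangent.map_mk, Cotangent.map_mk]
    refine congrArg _ (Subtype.ext ?_)
    show rename e.symm (rename e z.1) = z.1
    rw [rename_rename]; simp

end

/-- Let S be an R-algebra and α : R[x_1, …, x_n] → S, β : R[y_1, …, y_m] → S surjective R-algebra maps
(presentations by polynomial rings in finitely many variables; the kernels I and J need not be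
finitely generated). Then I/I² ⊕ S^m and J/J² ⊕ S^n are isomorphic S-modules. -/
theorem result (R S : Type u) [CommRing R] [CommRing S]
    [Algebra R S] (n m : ℕ) (α : MvPolynomial (Fin n) R →ₐ[R] S) (hα : Function.Surjective α)
    (β : MvPolynomial (Fin m) R →ₐ[R] S) (hβ : Function.Surjective β) :
    Nonempty (((Algebra.Extension.ofSurjective α hα).Cotangent × (Fin m → S)) ≃ₗ[S]
      ((Algebra.Extension.ofSurjective β hβ).Cotangent × (Fin n → S))) := by
  classical
  let γ : MvPolynomial (Fin n ⊕ Fin m) R →ₐ[R] S :=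
    MvPolynomial.aeval (Sum.elim (fun i => α (MvPolynomial.X i)) fun j => β (MvPolynomial.X j))
  let γ' : MvPolynomial (Fin m ⊕ Fin n) R →ₐ[R] S :=
    MvPolynomial.aeval (Sum.elim (fun j => β (MvPolynomial.X j)) fun i => α (MvPolynomial.X i))
  have h1 : γ.comp (MvPolynomial.rename Sum.inl) = α := MvPolynomial.algHom_ext fun i => by simp [γ]
  have h2 : γ'.comp (MvPolynomial.rename Sum.inl) = β := MvPolynomial.algHom_ext fun i => by simp [γ']
  have hγ : Function.Surjective γ := fun s => by
    obtain ⟨x, hx⟩ := hα s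
    exact ⟨MvPolynomial.rename Sum.inl x, by rw [← AlgHom.comp_apply, h1, hx]⟩
  have hγ' : Function.Surjective γ' := fun s => by
    obtain ⟨x, hx⟩ := hβ s
    exact ⟨MvPolynomial.rename Sum.inl x, by rw [← AlgHom.comp_apply, h2, hx]⟩
  obtain ⟨e1⟩ := cotangent_sum α hα γ hγ h1
  obtain ⟨e2⟩ := cotangent_sum β hβ γ' hγ' h2
  obtain ⟨e3⟩ := cotangent_congr (Equiv.sumComm (Fin n) (Fin m)) γ' hγ' γ hγ
    (MvPolynomial.algHom_ext fun i => by cases i <;> simp [γ, γ'])
  exact ⟨(e1.symm.trans e3).trans e2⟩

end Groth.Agent.S9162
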