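import Groth.Statements.S9174
import Groth.Agent.H4CI.GorLink
import Groth.Agent.FibDim.RingLoc
import Groth.Agent.FibDim.Semicont
import Groth.Agent.FlatLoc6.FiberRing
import Groth.Agent.CAlgOdd.LocalDimSpec
import Groth.Agent.Synt29.RelFlatTake

set_option autoImplicit false
set_option linter.style.haveILetI false
set_option backward.isDefEq.respectTransparency false
set_option backward.isDefEq.respectTransparency.types false
universe u
open CAlg

namespace Groth.Agent.S9174

open TensorProduct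

/-- A fibre criterion for regular sequences, in terms of the local dimensions of the fibres. -/
theorem key (R S : Type u) [CommRing R] [CommRing S] [Algebra R S] [Algebra.FiniteType R S] (d : ℕ)
    (hCM : ∀ p : PrimeSpectrum R, LocCoh.IsCohenMacaulayRing (p.asIdeal.Fiber S))
    (heq : ∀ p : PrimeSpectrum R, ∀ P ∈ minimalPrimes (p.asIdeal.Fiber S),
      ringKrullDim (p.asIdeal.Fiber S ⧸ P) = (d : WithBot ℕ∞))
    (f : List S) (qT : PrimeSpectrum (S ⧸ Ideal.ofList f)) :
    RingTheory.Sequence.IsRegular (EGA4.FibLocRing R S (qT.asIdeal.comap (Ideal.Quotient.mk (Ideal.ofList f))))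
        (f.map (algebraMap S (EGA4.FibLocRing R S (qT.asIdeal.comap (Ideal.Quotient.mk (Ideal.ofList f)))))) ↔
      FlatMor.fibreDimAt (AlgebraicGeometry.Spec.map (CommRingCat.ofHom (algebraMap R (S ⧸ Ideal.ofList f)))) qT +
        ((f.length : ℕ) : WithBot ℕ∞) ≤ (d : WithBot ℕ∞) := by
  let T := S ⧸ Ideal.ofList f
  let p : Ideal R := qT.asIdeal.under R
  let q : Ideal S := qT.asIdeal.comap (Ideal.Quotient.mk (Ideal.ofList f))
  have hpq : q.comap (algebraMap R S) = p := rfl
  have hIq : Ideal.ofList f ≤ q := fun a ha => by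
    show Ideal.Quotient.mk (Ideal.ofList f) a ∈ qT.asIdeal
    rw [Ideal.Quotient.eq_zero_iff_mem.2 ha]
    exact qT.asIdeal.zero_mem
  haveI := hCM ⟨p, inferInstance⟩
  obtain ⟨QT, hQT⟩ := FibDim.exists_fiber_point (A := R) qT
  let ψ : p.Fiber S →ₐ[R] p.Fiber T :=
    Algebra.TensorProduct.map (AlgHom.id R p.ResidueField) (Ideal.Quotient.mkₐ R (Ideal.ofList f))
  have hψ : Function.Surjective ψ := by
    intro z
    induction z using TensorProduct.induction_on with
    | zero => exact ⟨0, map_zero _⟩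
    | tmul c t =>
      obtain ⟨s, rfl⟩ := Ideal.Quotient.mk_surjective t
      exact ⟨c ⊗ₜ[R] s, Algebra.TensorProduct.map_tmul _ _ _ _⟩
    | add a b ha hb =>
      obtain ⟨a, rfl⟩ := ha
      obtain ⟨b, rfl⟩ := hb
      exact ⟨a + b, map_add _ _ _⟩
  let Q : PrimeSpectrum (p.Fiber S) := PrimeSpectrum.comap ψ.toRingHom QT
  have hQ : Q.asIdeal.comap (Algebra.TensorProduct.includeRight : S →ₐ[R] p.Fiber S) = q := by
    ext s
    simp only [Ideal.mem_comap, q, ← hQT]
    show ψ ((1 : p.ResidueField) ⊗ₜ[R] s) ∈ QT.asIdeal ↔ _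
    rw [Algebra.TensorProduct.map_tmul]
    rfl
  let L := EGA4.FibLocRing R S q
  haveI : IsNoetherianRing (p.Fiber S) := inferInstance
  haveI : IsLocalRing L := FlatLoc6.isLocalRing_fibLocRing (A := R) q
  obtain ⟨hdimQ, -⟩ := FlatLoc6.fib_of_fiber_prime p Q.asIdeal q hQ
  rw [FlatLoc6.fibDim_self] at hdimQ
  haveI : LocCoh.IsCohenMacaulayLocalRing L := by
    obtain ⟨e⟩ : Nonempty (Localization.AtPrime Q.asIdeal ≃+* L) := by
      have key : ∀ (q' : Ideal S) [q'.IsPrime], Q.asIdeal.comap (Algebra.TensorProduct.includeRight : S →ₐ[R] p.Fiber S) = q' →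
          Nonempty (Localization.AtPrime Q.asIdeal ≃+* EGA4.FibLocRing R S q') := by
        intro q' _ h
        subst h
        exact FlatLoc6.exists_fibLocEquiv p Q.asIdeal
      exact key q hQ
    haveI : IsNoetherianRing L := isNoetherianRing_of_ringEquiv _ e
    have h := FlatLoc6.fib_eq_of_fiber_isCM (A := R) p q hpq
    rw [FlatLoc6.fibDim_self, FlatLoc6.fibDepth_self] at h
    exact { supportDim_eq_depth := (Module.supportDim_self_eq_ringKrullDim _).trans h }
  obtain ⟨hdimT, -⟩ := FlatLoc6.fib_of_fiber_prime (B := T) p QT.asIdeal qT.asIdeal hQT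
  rw [FlatLoc6.fibDim_self] at hdimT
  let fl := f.map (algebraMap S L)
  have hmem : ∀ r ∈ fl, r ∈ IsLocalRing.maximalIdeal L := by
    intro r hr
    obtain ⟨a, ha, rfl⟩ := List.mem_map.1 hr
    haveI : IsLocalHom (algebraMap (Localization.AtPrime q) L) := IsLocalHom.of_surjective _ Ideal.Quotient.mk_surjective
    intro hu
    rw [IsScalarTower.algebraMap_apply S (Localization.AtPrime q) L] at hu
    exact (IsLocalization.AtPrime.to_map_mem_maximal_iff (Localization.AtPrime q) q a).2 (hIq (Ideal.subset_span ha))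
      ((isUnit_map_iff (algebraMap (Localization.AtPrime q) L) _).1 hu)
  -- the quotient of the fibre local ring is the fibre local ring of the zero locus
  have hdimquot : ringKrullDim (L ⧸ Ideal.ofList fl) = (QT.asIdeal.height : WithBot ℕ∞) := by
    rw [← hdimT]
    obtain ⟨e⟩ := Synt29.atPrime_quotient_equiv R (Ideal.ofList f) q qT.asIdeal rfl
    let Sq := Localization.AtPrime q
    let J : Ideal Sq := (q.comap (algebraMap R S)).map (algebraMap R Sq)
    let I : Ideal Sq := (Ideal.ofList f).map (algebraMap S Sq)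
    have hfl : Ideal.ofList fl = I.map (Ideal.Quotient.mk J) := by
      rw [Ideal.map_map, Ideal.map_ofList]
      rfl
    have hT : (qT.asIdeal.comap (algebraMap R T)).map (algebraMap R (Localization.AtPrime qT.asIdeal)) =
        (J.map (Ideal.Quotient.mk I)).map e.toRingEquiv.toRingHom := by
      rw [Ideal.map_map, Ideal.map_map]
      refine congrArg (fun φ => Ideal.map φ _) ?_
      exact (RingHom.ext fun r => (e.commutes r).symm)
    exact ringKrullDim_eq_of_ringEquiv ((Ideal.quotEquivOfEq hfl).trans ((DoubleQuot.quotQuotEquivComm J I).trans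
      (Ideal.quotientEquiv _ _ e.toRingEquiv hT)))
  -- the coheights agree
  have hco : Order.coheight Q = Order.coheight QT := by
    refine WithBot.coe_inj.1 ?_
    rw [VarDim.coheight_eq_ringKrullDim_quotient, VarDim.coheight_eq_ringKrullDim_quotient]
    refine ringKrullDim_eq_of_ringEquiv ((Ideal.quotEquivOfEq ?_).trans
      (RingHom.quotientKerEquivOfSurjective (f := (Ideal.Quotient.mk QT.asIdeal).comp ψ.toRingHom)
        (Ideal.Quotient.mk_surjective.comp hψ)))
    rw [← RingHom.comap_ker, Ideal.mk_ker]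
    rfl
  -- local dimensions
  have hldQ : FlatMor.localDim (PrimeSpectrum (p.Fiber S)) Q = (d : WithBot ℕ∞) := by
    refine le_antisymm ?_ ?_
    · obtain ⟨P, -, hP⟩ := CAlgOdd.LocalDimSpec.exists_coheight_eq p.ResidueField Q
      rw [hP]
      obtain ⟨P₀, hP₀, hle⟩ := Ideal.exists_minimalPrimes_le (bot_le : (⊥ : Ideal (p.Fiber S)) ≤ P.asIdeal)
      haveI := hP₀.1.1
      calc ((Order.coheight P : ℕ∞) : WithBot ℕ∞) ≤ ((Order.coheight (⟨P₀, inferInstance⟩ : PrimeSpectrum (p.Fiber S)) : ℕ∞) : WithBot ℕ∞) :=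
            WithBot.coe_le_coe.2 (Order.coheight_anti hle)
        _ = _ := (VarDim.coheight_eq_ringKrullDim_quotient _).trans (heq ⟨p, inferInstance⟩ P₀ hP₀)
    · obtain ⟨P₀, hP₀, hle⟩ := Ideal.exists_minimalPrimes_le (bot_le : (⊥ : Ideal (p.Fiber S)) ≤ Q.asIdeal)
      haveI := hP₀.1.1
      have h := CAlgOdd.LocalDimSpec.coheight_le_of_le p.ResidueField (q := (⟨P₀, inferInstance⟩ : PrimeSpectrum (p.Fiber S))) (p := Q) hle
      rw [VarDim.coheight_eq_ringKrullDim_quotient, heq ⟨p, inferInstance⟩ P₀ hP₀] at h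
      exact h
  rw [CAlgOdd.LocalDimSpec.localDim_eq_add p.ResidueField, hco] at hldQ
  have hld : Order.height Q + Order.coheight QT = (d : ℕ∞) := WithBot.coe_inj.1 hldQ
  rw [← FibDim.localDim_fiber_eq_fibreDimAt qT QT hQT, CAlgOdd.LocalDimSpec.localDim_eq_add p.ResidueField]
  -- the criterion
  have hcrit : RingTheory.Sequence.IsWeaklyRegular L fl ↔
      (QT.asIdeal.height : WithBot ℕ∞) + ((f.length : ℕ) : WithBot ℕ∞) ≤ (Q.asIdeal.height : WithBot ℕ∞) := by
    rw [← hdimquot, ← hdimQ, ← List.length_map (algebraMap S L) (as := f)]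
    refine ⟨fun h => ?_, H4CI.GorLink.isWeaklyRegular_of_dim_le fl hmem⟩
    have h' := LC.supportDim_eq_add_idealDepth L LocCoh.IsCohenMacaulayLocalRing.supportDim_eq_depth
      (I := Ideal.ofList fl) (fun htop => (IsLocalRing.maximalIdeal.isMaximal L).ne_top
        (top_le_iff.1 (htop ▸ Ideal.span_le.2 hmem)))
    rw [Module.supportDim_eq_of_equiv (Submodule.quotEquivOfEq (Ideal.ofList fl • ⊤ : Submodule L L)
        (Ideal.ofList fl) (by rw [Ideal.smul_eq_mul, Ideal.mul_top])),
      Module.supportDim_quotient_eq_ringKrullDim, Module.supportDim_self_eq_ringKrullDim,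
      (LC.idealDepth_ofList_eq_length_iff fl hmem).2 h] at h'
    exact h'.ge
  have hreg : RingTheory.Sequence.IsRegular L fl ↔ RingTheory.Sequence.IsWeaklyRegular L fl := by
    refine ⟨fun h => h.toIsWeaklyRegular, fun h => ⟨h, fun htop => ?_⟩⟩
    rw [Ideal.smul_eq_mul, Ideal.mul_top] at htop
    exact (IsLocalRing.maximalIdeal.isMaximal L).ne_top (top_le_iff.1 (htop ▸ Ideal.span_le.2 hmem))
  refine (hreg.trans hcrit).trans ?_
  rw [PrimeSpectrum.height_eq_orderHeight QT, PrimeSpectrum.height_eq_orderHeight Q]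
  have hfin : Order.coheight QT ≠ ⊤ := fun h => by simp [h] at hld
  generalize Order.coheight QT = c at hld hfin ⊢
  rw [← WithBot.coe_natCast, ← WithBot.coe_natCast (n := d), ← WithBot.coe_add, ← WithBot.coe_add, WithBot.coe_le_coe,
    WithBot.coe_le_coe, ← hld, add_right_comm]
  exact (ENat.add_le_add_iff_right hfin).symm

/-- Let R → S be of finite type with every fibre ring κ(p) ⊗ S Cohen–Macaulay and equidimensional of
dimension d, and let f_1, …, f_i ∈ S. The primes q ⊇ (f_1, …, f_i) at which the f_j form a regular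
sequence in the fibre local ring S_q/pS_q (p = q ∩ R) form an open subset of V(f_1, …, f_i): there
is an open U of Spec S whose trace on V(f_1, …, f_i) is exactly this set. -/
theorem result (R S : Type u) [CommRing R] [CommRing S]
    [Algebra R S] [Algebra.FiniteType R S] (d : ℕ)
    (hCM : ∀ p : PrimeSpectrum R, LocCoh.IsCohenMacaulayRing (p.asIdeal.Fiber S))
    (heq : ∀ p : PrimeSpectrum R, ∀ P ∈ minimalPrimes (p.asIdeal.Fiber S),
      ringKrullDim (p.asIdeal.Fiber S ⧸ P) = (d : WithBot ℕ∞))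
    (f : List S) :
    ∃ U : Set (PrimeSpectrum S), IsOpen U ∧ ∀ q : PrimeSpectrum S, Ideal.ofList f ≤ q.asIdeal →
      (q ∈ U ↔ RingTheory.Sequence.IsRegular (EGA4.FibLocRing R S q.asIdeal)
        (f.map (algebraMap S (EGA4.FibLocRing R S q.asIdeal)))) := by
  classical
  let T := S ⧸ Ideal.ofList f
  let g := AlgebraicGeometry.Spec.map (CommRingCat.ofHom (algebraMap R T))
  haveI : AlgebraicGeometry.LocallyOfFiniteType g :=
    (AlgebraicGeometry.HasRingHomProperty.Spec_iff (P := @AlgebraicGeometry.LocallyOfFiniteType)).2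
      (RingHom.finiteType_algebraMap.2 inferInstance)
  let V : Set (PrimeSpectrum T) := {x | FlatMor.fibreDimAt g x + ((f.length : ℕ) : WithBot ℕ∞) ≤ (d : WithBot ℕ∞)}
  have hV : IsOpen V := by
    by_cases hi : f.length ≤ d
    · have : V = {x | FlatMor.fibreDimAt g x ≤ ((d - f.length : ℕ) : WithBot ℕ∞)} := by
        ext x
        show FlatMor.fibreDimAt g x + _ ≤ _ ↔ FlatMor.fibreDimAt g x ≤ _
        rw [show (d : WithBot ℕ∞) = ((d - f.length : ℕ) : WithBot ℕ∞) + ((f.length : ℕ) : WithBot ℕ∞) by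
          rw [← Nat.cast_add, Nat.sub_add_cancel hi]]
        exact ENat.WithBot.add_le_add_natCast_right_iff
      rw [this]
      exact FibDim.isOpen_fibreDimAt_le g (d - f.length)
    · have : V = ∅ := by
        refine Set.eq_empty_of_forall_notMem fun x hx => hi ?_
        obtain ⟨Q, hQ⟩ := FibDim.exists_fiber_point (A := R) (B := T) x
        have h : FlatMor.fibreDimAt g x + ((f.length : ℕ) : WithBot ℕ∞) ≤ (d : WithBot ℕ∞) := hx
        rw [← FibDim.localDim_fiber_eq_fibreDimAt x Q hQ,
          CAlgOdd.LocalDimSpec.localDim_eq_add (x.asIdeal.under R).ResidueField] at h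
        have h2 : ((f.length : ℕ) : WithBot ℕ∞) ≤ (d : WithBot ℕ∞) :=
          (le_add_of_nonneg_left (WithBot.coe_nonneg.2 zero_le)).trans h
        exact_mod_cast h2
      rw [this]
      exact isOpen_empty
  obtain ⟨U, hU, hUV⟩ := (PrimeSpectrum.isClosedEmbedding_comap_of_surjective _ _
    (Ideal.Quotient.mk_surjective (I := Ideal.ofList f))).isInducing.isOpen_iff.1 hV
  refine ⟨U, hU, fun q hq => ?_⟩
  haveI hprime : (q.asIdeal.map (Ideal.Quotient.mk (Ideal.ofList f))).IsPrime :=
    Ideal.map_isPrime_of_surjective Ideal.Quotient.mk_surjective (by rwa [Ideal.mk_ker])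
  let qT : PrimeSpectrum T := ⟨_, hprime⟩
  have hcomap : qT.asIdeal.comap (Ideal.Quotient.mk (Ideal.ofList f)) = q.asIdeal := by
    show (q.asIdeal.map _).comap _ = q.asIdeal
    rw [Ideal.comap_map_of_surjective _ Ideal.Quotient.mk_surjective, ← RingHom.ker_eq_comap_bot, Ideal.mk_ker,
      sup_eq_left.2 hq]
  have hiff := key R S d hCM heq f qT
  have htrans : ∀ (q' : Ideal S) [q'.IsPrime], qT.asIdeal.comap (Ideal.Quotient.mk (Ideal.ofList f)) = q' →
      (RingTheory.Sequence.IsRegular (EGA4.FibLocRing R S q') (f.map (algebraMap S (EGA4.FibLocRing R S q'))) ↔ qT ∈ V) := by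
    intro q' _ h
    subst h
    exact hiff
  rw [htrans q.asIdeal hcomap, ← hUV]
  show q ∈ U ↔ PrimeSpectrum.comap _ qT ∈ U
  rw [show PrimeSpectrum.comap (Ideal.Quotient.mk (Ideal.ofList f)) qT = q from PrimeSpectrum.ext hcomap]

end Groth.Agent.S9174
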