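import Groth.Statements.S9179
import Mathlib
-- import your own Groth.Agent.* helpers here

set_option autoImplicit false
universe u
open CategoryTheory CategoryTheory.Limits
open CAlg

namespace Groth.Agent.S9179

/-- An R-algebra of finite type is the colimit of a filtered system of finitely presented R-algebras
whose transition maps are all surjective. -/
theorem result (R A : Type u) [CommRing R] [CommRing A]
    [Algebra R A] [Algebra.FiniteType R A] :
    ∃ (I : Type u) (_ : SmallCategory I) (_ : IsFiltered I) (D : I ⥤ Under (CommRingCat.of R))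
      (c : Cocone D) (_ : IsColimit c),
      (∀ i, (D.obj i).hom.hom.FinitePresentation) ∧
      (∀ (i j : I) (φ : i ⟶ j), Function.Surjective (D.map φ).right.hom) ∧
      Nonempty (c.pt ≅ Under.mk (CommRingCat.ofHom (algebraMap R A))) := by
  classical
  obtain ⟨n, π, hπ⟩ := Algebra.FiniteType.iff_quotient_mvPolynomial''.1 (inferInstance : Algebra.FiniteType R A)
  let I : Type u := Finset (RingHom.ker π)
  let J : I → Ideal (MvPolynomial (Fin n) R) := fun s => Ideal.span (Subtype.val '' (s : Set (RingHom.ker π)))
  have hJ : ∀ {s t : I}, s ≤ t → J s ≤ J t := fun h => Ideal.span_mono (Set.image_mono h)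
  have hk : ∀ s : I, ∀ a ∈ J s, π a = 0 := fun s a ha => by
    have : J s ≤ RingHom.ker π := Ideal.span_le.2 (by rintro _ ⟨x, -, rfl⟩; exact x.2)
    exact this ha
  let D : I ⥤ Under (CommRingCat.of R) :=
    { obj := fun s => Under.mk (CommRingCat.ofHom (algebraMap R (MvPolynomial (Fin n) R ⧸ J s)))
      map := fun f => Under.homMk (CommRingCat.ofHom (Ideal.Quotient.factor (hJ f.le))) (by ext r; rfl)
      map_id := fun s => by
        apply Under.UnderMorphism.ext
        ext x
        obtain ⟨x, rfl⟩ := Ideal.Quotient.mk_surjective x
        rfl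
      map_comp := fun f g => by
        apply Under.UnderMorphism.ext
        ext x
        obtain ⟨x, rfl⟩ := Ideal.Quotient.mk_surjective x
        rfl }
  let c : Cocone D :=
    { pt := Under.mk (CommRingCat.ofHom (algebraMap R A))
      ι :=
        { app := fun s => Under.homMk (CommRingCat.ofHom (Ideal.Quotient.lift (J s) π.toRingHom (hk s)))
            (by ext r; exact π.commutes r)
          naturality := fun s t f => by
            apply Under.UnderMorphism.ext
            ext x
            obtain ⟨x, rfl⟩ := Ideal.Quotient.mk_surjective x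
            rfl } }
  have : IsConnected I := IsFiltered.isConnected _
  have : ReflectsColimit (D ⋙ Under.forget _) (forget CommRingCat.{u}) :=
    have : PreservesColimit (D ⋙ Under.forget _) (forget CommRingCat.{u}) := inferInstance
    reflectsColimit_of_reflectsIsomorphisms _ _
  have hc : IsColimit c := isColimitOfReflects (Under.forget _) (isColimitOfReflects (forget CommRingCat.{u})
    (Types.FilteredColimit.isColimitOf' _ _
      (fun z => by
        obtain ⟨q, rfl⟩ := hπ z
        exact ⟨(∅ : I), Ideal.Quotient.mk _ q, rfl⟩)
      fun s (x : MvPolynomial (Fin n) R ⧸ J s) (y : MvPolynomial (Fin n) R ⧸ J s) hxy => by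
        obtain ⟨a, rfl⟩ := Ideal.Quotient.mk_surjective x
        obtain ⟨b, rfl⟩ := Ideal.Quotient.mk_surjective y
        have hab : a - b ∈ RingHom.ker π := by
          rw [RingHom.mem_ker, map_sub, sub_eq_zero]
          exact hxy
        refine ⟨insert ⟨a - b, hab⟩ s, homOfLE (Finset.subset_insert _ _), ?_⟩
        exact Ideal.Quotient.eq.2 (Ideal.subset_span ⟨⟨a - b, hab⟩, Finset.mem_insert_self _ _, rfl⟩)))
  refine ⟨I, inferInstance, inferInstance, D, c, hc, fun s => ?_, fun s t f => ?_, ⟨Iso.refl _⟩⟩
  · exact RingHom.finitePresentation_algebraMap.2 (Algebra.FinitePresentation.quotient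
      (Submodule.fg_span (Set.Finite.image _ (Finset.finite_toSet _))))
  · intro x
    obtain ⟨a, rfl⟩ := Ideal.Quotient.mk_surjective x
    exact ⟨Ideal.Quotient.mk _ a, rfl⟩

end Groth.Agent.S9179
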