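import Groth.Statements.S9180
import Groth.Agent.VarDim.Basic
import Mathlib

set_option autoImplicit false
set_option maxHeartbeats 1000000
set_option linter.style.haveILetI false
universe u
open CAlg

namespace Groth.Agent.S9180

section

open TensorProduct Algebra.TensorProduct

/-- Nonzero elements of `P ⊗ K` stay regular in `E ⊗ K` when `E` is flat over the domain `P`. -/
theorem regular_map {k K P E : Type u} [Field k] [Field K] [Algebra k K] [CommRing P] [Algebra k P]
    [CommRing E] [Algebra k E] [Algebra P E] [IsScalarTower k P E] [Module.Flat P E]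
    [IsDomain (P ⊗[k] K)] (t : P ⊗[k] K) (ht : t ≠ 0) (y : E ⊗[k] K)
    (h : Algebra.TensorProduct.map (IsScalarTower.toAlgHom k P E) (AlgHom.id k K) t * y = 0) :
    y = 0 := by
  let e := Algebra.TensorProduct.cancelBaseChange k P P E K
  have he : ∀ t, e (1 ⊗ₜ[P] t) =
      Algebra.TensorProduct.map (IsScalarTower.toAlgHom k P E) (AlgHom.id k K) t := by
    intro t
    induction t using TensorProduct.induction_on with
    | zero => simp
    | tmul a b => simp [e, Algebra.smul_def]
    | add a b ha hb => rw [TensorProduct.tmul_add, map_add, map_add, ha, hb]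
  have hinj : Function.Injective ((LinearMap.mulLeft P t).lTensor E) :=
    Module.Flat.lTensor_preserves_injective_linearMap _ (mul_right_injective₀ ht)
  have hmul : ∀ z, (LinearMap.mulLeft P t).lTensor E z = (1 ⊗ₜ[P] t) * z := by
    intro z
    induction z using TensorProduct.induction_on with
    | zero => simp
    | tmul a b => simp
    | add a b ha hb => rw [map_add, mul_add, ha, hb]
  obtain ⟨z, rfl⟩ := e.surjective y
  rw [← he, ← map_mul, EmbeddingLike.map_eq_zero_iff, ← hmul] at h
  rw [hinj (h.trans (map_zero _).symm), map_zero]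

variable {k D : Type u} [Field k] [CommRing D] [IsDomain D] [Algebra k D]
  (K : Type u) [Field K] [Algebra k K]

theorem comap_minimalPrime (M : Ideal (K ⊗[k] D)) (hM : M ∈ minimalPrimes (K ⊗[k] D)) :
    M.comap (includeRight (R := k) (A := K) (B := D)) = ⊥ := by
  refine le_bot_iff.1 fun d hd => ?_
  by_contra hd0
  refine Set.disjoint_left.1 (Ideal.disjoint_nonZeroDivisors_of_mem_minimalPrimes hM) (Ideal.mem_comap.1 hd) ?_
  have hinj : Function.Injective ((LinearMap.mulLeft k d).lTensor K) :=
    Module.Flat.lTensor_preserves_injective_linearMap _ (mul_right_injective₀ (by simpa using hd0))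
  have hmul : ∀ z, (LinearMap.mulLeft k d).lTensor K z = ((1 : K) ⊗ₜ[k] d) * z := by
    intro z
    induction z using TensorProduct.induction_on with
    | zero => simp
    | tmul a b => simp
    | add a b ha hb => rw [map_add, mul_add, ha, hb]
  refine mem_nonZeroDivisors_iff_left.2 fun y hy => hinj ?_
  rw [map_zero, hmul]
  exact hy

/-- All components of `K ⊗ D` have dimension `trdeg D`. -/
theorem height_add_coheight [Algebra.FiniteType k D] (r : ℕ) (hr : Algebra.trdeg k D = r)
    (Q : PrimeSpectrum (K ⊗[k] D)) : Order.height Q + Order.coheight Q = r := by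
  obtain ⟨s, g, hinj, hint⟩ := exists_integral_inj_algHom_of_fg k D
  letI : Algebra (MvPolynomial (Fin s) k) D := g.toRingHom.toAlgebra
  haveI : IsScalarTower k (MvPolynomial (Fin s) k) D :=
    IsScalarTower.of_algebraMap_eq fun x => (g.commutes x).symm
  haveI : FaithfulSMul (MvPolynomial (Fin s) k) D := (faithfulSMul_iff_algebraMap_injective _ _).2 hinj
  haveI : Algebra.IsIntegral (MvPolynomial (Fin s) k) D := ⟨hint⟩
  have hsr : s = r := by
    have h := lift_trdeg_add_eq k (MvPolynomial (Fin s) k) D
    rw [MvPolynomial.trdeg_of_isDomain, trdeg_eq_zero (R := MvPolynomial (Fin s) k), Cardinal.lift_zero,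
      add_zero, hr] at h
    simpa using h
  subst hsr
  let α := MvPolynomial.algebraTensorAlgEquiv (σ := Fin s) k K
  let ψ₀ : K ⊗[k] MvPolynomial (Fin s) k →ₐ[K] K ⊗[k] D := Algebra.TensorProduct.map (AlgHom.id K K) g
  let ψ : MvPolynomial (Fin s) K →ₐ[K] K ⊗[k] D := ψ₀.comp α.symm.toAlgHom
  letI : Algebra (MvPolynomial (Fin s) K) (K ⊗[k] D) := ψ.toRingHom.toAlgebra
  have hψint : ψ.toRingHom.IsIntegral := by
    intro x
    induction x using TensorProduct.induction_on with
    | zero => exact RingHom.isIntegralElem_zero _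
    | tmul c d =>
      rw [← mul_one c, ← one_mul d, ← Algebra.TensorProduct.tmul_mul_tmul]
      refine RingHom.IsIntegralElem.mul _ ?_ ?_
      · have : c ⊗ₜ[k] (1 : D) = ψ.toRingHom (MvPolynomial.C c) := (ψ.commutes c).symm
        rw [this]
        exact RingHom.isIntegralElem_map _
      · obtain ⟨p, hp, hp0⟩ := hint d
        refine ⟨p.map (MvPolynomial.map (algebraMap k K)), hp.map _, ?_⟩
        have hcomp : ψ.toRingHom.comp (MvPolynomial.map (algebraMap k K)) =
            (includeRight (R := k) (A := K) (B := D)).toRingHom.comp g.toRingHom := by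
          refine RingHom.ext fun a => ?_
          show ψ₀ (α.symm (MvPolynomial.map (algebraMap k K) a)) = (1 : K) ⊗ₜ[k] g a
          simp [α, ψ₀]
        rw [Polynomial.eval₂_map, hcomp]
        have := Polynomial.hom_eval₂ p g.toRingHom (includeRight (R := k) (A := K) (B := D)).toRingHom d
        rw [hp0, map_zero] at this
        exact this.symm
    | add a b ha hb => exact RingHom.IsIntegralElem.add _ ha hb
  haveI hI : Algebra.IsIntegral (MvPolynomial (Fin s) K) (K ⊗[k] D) := ⟨hψint⟩
  haveI : Algebra.FiniteType K (K ⊗[k] D) := inferInstance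
  have hKdim : ringKrullDim (MvPolynomial (Fin s) K) = s := by
    rw [MvPolynomial.ringKrullDim_of_isNoetherianRing, ringKrullDim_eq_zero_of_field, zero_add,
      Nat.card_fin]
  have hNZD : ∀ p : MvPolynomial (Fin s) K, p ≠ 0 → ψ p ∈ nonZeroDivisors (K ⊗[k] D) := by
    intro p hp
    let P := MvPolynomial (Fin s) k
    let E := FractionRing D
    haveI : IsDomain (P ⊗[k] K) :=
      ((Algebra.TensorProduct.comm k P K).toRingEquiv.trans α.toRingEquiv).toMulEquiv.isDomain
    let φ : FractionRing P →+* E := IsFractionRing.lift (K := FractionRing P) (g := algebraMap P E)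
      (FaithfulSMul.algebraMap_injective P E)
    letI : Algebra (FractionRing P) E := φ.toAlgebra
    haveI : IsScalarTower P (FractionRing P) E :=
      IsScalarTower.of_algebraMap_eq fun x => (IsFractionRing.lift_algebraMap _ x).symm
    haveI : Module.Flat P E := Module.Flat.trans P (FractionRing P) E
    haveI : IsScalarTower k P E := IsScalarTower.of_algebraMap_eq fun x => by
      rw [IsScalarTower.algebraMap_apply P D E, ← IsScalarTower.algebraMap_apply k P D,
        ← IsScalarTower.algebraMap_apply k D E]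
    refine mem_nonZeroDivisors_iff_left.2 fun y hy => ?_
    let t := Algebra.TensorProduct.comm k K P (α.symm p)
    let ι : K ⊗[k] D →ₐ[k] E ⊗[k] K := (Algebra.TensorProduct.map (IsScalarTower.toAlgHom k D E)
      (AlgHom.id k K)).comp (Algebra.TensorProduct.comm k K D).toAlgHom
    have hιinj : Function.Injective ι := by
      refine Function.Injective.comp (g := Algebra.TensorProduct.map (IsScalarTower.toAlgHom k D E)
        (AlgHom.id k K)) ?_ (Algebra.TensorProduct.comm k K D).injective
      exact Module.Flat.rTensor_preserves_injective_linearMap (M := K)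
        (IsScalarTower.toAlgHom k D E).toLinearMap (IsFractionRing.injective D E)
    have hι : ∀ z : K ⊗[k] P, ι (ψ₀ z) = Algebra.TensorProduct.map (IsScalarTower.toAlgHom k P E)
        (AlgHom.id k K) (Algebra.TensorProduct.comm k K P z) := by
      intro z
      induction z using TensorProduct.induction_on with
      | zero => simp
      | tmul a b =>
        simp [ι, ψ₀, IsScalarTower.algebraMap_apply P D E]
        rfl
      | add a b ha hb => simp only [map_add, ha, hb]
    have h1 : ι (ψ p) * ι y = 0 := by rw [← map_mul, hy, map_zero]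
    rw [show ψ p = ψ₀ (α.symm p) from rfl, hι] at h1
    refine hιinj ((regular_map t ?_ _ h1).trans (map_zero ι).symm)
    simpa [t] using hp
  have hmin : ∀ M ∈ minimalPrimes (K ⊗[k] D), M ≤ Q.asIdeal →
      ringKrullDim ((K ⊗[k] D) ⧸ M) = s := by
    intro M hM _
    haveI : FaithfulSMul (MvPolynomial (Fin s) K) ((K ⊗[k] D) ⧸ M) := by
      refine (faithfulSMul_iff_algebraMap_injective _ _).2 ((injective_iff_map_eq_zero _).2 fun p hp => ?_)
      by_contra hp0
      exact Set.disjoint_left.1 (Ideal.disjoint_nonZeroDivisors_of_mem_minimalPrimes hM)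
        (Ideal.Quotient.eq_zero_iff_mem.1 hp) (hNZD p hp0)
    haveI : Algebra.IsIntegral (MvPolynomial (Fin s) K) ((K ⊗[k] D) ⧸ M) :=
      inferInstance
    exact (Groth.Agent.VarDim.ringKrullDim_eq_of_isIntegral
      (R := MvPolynomial (Fin s) K) (S := (K ⊗[k] D) ⧸ M)).trans hKdim
  refine le_antisymm ?_ ?_
  · have h := Groth.Agent.VarDim.height_add_coheight_le Q
    have h2 : ringKrullDim (K ⊗[k] D) ≤ s := by
      rw [← hKdim]
      exact Order.krullDim_le_of_strictMono _ Groth.Agent.VarDim.strictMono_comap_of_isIntegral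
    exact WithBot.coe_le_coe.1 (h.trans h2)
  · obtain ⟨M, hM, hMQ⟩ := Ideal.exists_minimalPrimes_le (bot_le : ⊥ ≤ Q.asIdeal)
    haveI := hM.1.1
    let π := Ideal.Quotient.mk M
    have hmono : StrictMono (PrimeSpectrum.comap π) :=
      RingHom.strictMono_comap_of_surjective Ideal.Quotient.mk_surjective
    let Q' : PrimeSpectrum ((K ⊗[k] D) ⧸ M) := ⟨Q.asIdeal.map π,
      Ideal.map_isPrime_of_surjective Ideal.Quotient.mk_surjective (by rw [Ideal.mk_ker]; exact hMQ)⟩
    have hQ' : PrimeSpectrum.comap π Q' = Q := PrimeSpectrum.ext (by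
      show (Q.asIdeal.map π).comap π = Q.asIdeal
      rw [Ideal.comap_map_of_surjective π Ideal.Quotient.mk_surjective, sup_eq_left.2]
      rw [← RingHom.ker_eq_comap_bot, Ideal.mk_ker]
      exact hMQ)
    rw [← Groth.Agent.VarDim.height_add_coheight_eq K s _ (hmin M hM hMQ) Q', ← hQ']
    exact add_le_add (Order.height_le_height_apply_of_strictMono _ hmono Q')
      (Order.coheight_le_coheight_apply_of_strictMono _ hmono Q')

end

open TensorProduct in
/-- Let S be of finite type over a field k, K an extension field of k, S_K = S ⊗_k K, q a prime of S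
whose residue field has transcendence degree r over k, and q_K a prime of S_K lying over q whose
residue field has transcendence degree r_K over K. Then the local ring at q_K of the fibre of S →
S_K over q has dimension dim (S_K)_{q_K} − dim S_q = r − r_K (stated additively), and there is a
prime of S_K over q for which this dimension is zero. -/
theorem result (k S K : Type u) [Field k] [CommRing S] [Algebra k S]
    [Algebra.FiniteType k S] [Field K] [Algebra k K] (q : Ideal S) [q.IsPrime] (r : ℕ)
    (hr : Algebra.trdeg k q.ResidueField = r) (qK : Ideal (S ⊗[k] K)) [qK.IsPrime] [qK.LiesOver q]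
    (rK : ℕ)
    (hrK : letI : Algebra K (S ⊗[k] K) := Algebra.TensorProduct.rightAlgebra
      Algebra.trdeg K qK.ResidueField = rK) :
    ringKrullDim (EGA4.FibLocRing S (S ⊗[k] K) qK) + ringKrullDim (Localization.AtPrime q) =
        ringKrullDim (Localization.AtPrime qK) ∧
      ringKrullDim (EGA4.FibLocRing S (S ⊗[k] K) qK) + (rK : WithBot ℕ∞) = (r : WithBot ℕ∞) ∧
      ∃ (q' : Ideal (S ⊗[k] K)) (_ : q'.IsPrime), q'.LiesOver q ∧
        ringKrullDim (EGA4.FibLocRing S (S ⊗[k] K) q') = 0 := by
  let g : S ⊗[k] K →ₐ[k] K ⊗[k] (S ⧸ q) :=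
    (Algebra.TensorProduct.map (AlgHom.id k K) (Ideal.Quotient.mkₐ k q)).comp
      (Algebra.TensorProduct.comm k S K).toAlgHom
  have hgt : ∀ (s : S) (c : K), g (s ⊗ₜ c) = c ⊗ₜ Ideal.Quotient.mk q s := fun s c => rfl
  have hgsurj : Function.Surjective g := by
    refine Function.Surjective.comp (g := Algebra.TensorProduct.map (AlgHom.id k K) (Ideal.Quotient.mkₐ k q))
      ?_ (Algebra.TensorProduct.comm k S K).surjective
    exact LinearMap.lTensor_surjective K (g := (Ideal.Quotient.mkₐ k q).toLinearMap) Ideal.Quotient.mk_surjective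
  have hker : RingHom.ker g.toRingHom = q.map (algebraMap S (S ⊗[k] K)) := by
    have h1 : RingHom.ker (Algebra.TensorProduct.map (AlgHom.id k K) (Ideal.Quotient.mkₐ k q)) =
        (RingHom.ker (Ideal.Quotient.mkₐ k q)).map
          (Algebra.TensorProduct.includeRight : S →ₐ[k] K ⊗[k] S) :=
      Algebra.TensorProduct.lTensor_ker _ Ideal.Quotient.mk_surjective
    refine le_antisymm (fun x hx => ?_) ?_
    · have hx' : Algebra.TensorProduct.comm k S K x ∈ (RingHom.ker (Ideal.Quotient.mkₐ k q)).map
          (Algebra.TensorProduct.includeRight : S →ₐ[k] K ⊗[k] S) := h1.le hx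
      have hle : (RingHom.ker (Ideal.Quotient.mkₐ k q)).map
          (Algebra.TensorProduct.includeRight : S →ₐ[k] K ⊗[k] S) ≤
          (q.map (algebraMap S (S ⊗[k] K))).comap (Algebra.TensorProduct.comm k K S).toAlgHom := by
        rw [Ideal.map_le_iff_le_comap]
        intro s hs
        exact Ideal.mem_map_of_mem (algebraMap S (S ⊗[k] K)) (Ideal.Quotient.eq_zero_iff_mem.1 hs)
      have h2 : Algebra.TensorProduct.comm k K S (Algebra.TensorProduct.comm k S K x) ∈
          q.map (algebraMap S (S ⊗[k] K)) := hle hx'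
      rwa [← Algebra.TensorProduct.comm_symm k S K, AlgEquiv.symm_apply_apply] at h2
    · rw [Ideal.map_le_iff_le_comap]
      intro s hs
      show g (s ⊗ₜ (1 : K)) = 0
      rw [hgt, Ideal.Quotient.eq_zero_iff_mem.2 hs, TensorProduct.tmul_zero]
  have hr' : Algebra.trdeg k (S ⧸ q) = r := by
    haveI : Algebra.IsAlgebraic (S ⧸ q) q.ResidueField :=
      IsLocalization.isAlgebraic (R := S ⧸ q) (S := q.ResidueField) (nonZeroDivisors (S ⧸ q))
    haveI : FaithfulSMul (S ⧸ q) q.ResidueField :=
      (faithfulSMul_iff_algebraMap_injective _ _).2 (IsFractionRing.injective _ _)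
    have h := lift_trdeg_add_eq k (S ⧸ q) q.ResidueField
    rw [trdeg_eq_zero (R := S ⧸ q), Cardinal.lift_zero, add_zero, hr] at h
    simpa using h
  haveI : Algebra.FiniteType k (S ⧸ q) :=
    Algebra.FiniteType.of_surjective (Ideal.Quotient.mkₐ k q) Ideal.Quotient.mk_surjective
  haveI : IsNoetherianRing S := Algebra.FiniteType.isNoetherianRing k S
  haveI : IsNoetherianRing (S ⊗[k] K) :=
    haveI : IsNoetherianRing (K ⊗[k] S) := Algebra.FiniteType.isNoetherianRing K _
    isNoetherianRing_of_ringEquiv (K ⊗[k] S) (Algebra.TensorProduct.comm k K S).toRingEquiv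
  have fib : ∀ (P : Ideal (S ⊗[k] K)) [P.IsPrime] [P.LiesOver q],
      ringKrullDim (Localization.AtPrime P) =
          ringKrullDim (EGA4.FibLocRing S (S ⊗[k] K) P) + ringKrullDim (Localization.AtPrime q) ∧
        ringKrullDim (EGA4.FibLocRing S (S ⊗[k] K) P) = (P.map g.toRingHom).height := by
    intro P _ hP
    have hqP : q = P.comap (algebraMap S (S ⊗[k] K)) := hP.over
    let L := Localization.AtPrime P
    haveI : IsNoetherianRing L := IsLocalization.isNoetherianRing P.primeCompl L inferInstance
    haveI : Module.Flat S L := Module.Flat.trans S (S ⊗[k] K) L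
    haveI : (IsLocalRing.maximalIdeal L).LiesOver q := ⟨by
      rw [Ideal.under_def, IsScalarTower.algebraMap_eq S (S ⊗[k] K) L, ← Ideal.comap_comap,
        ← Ideal.under_def (S ⊗[k] K), IsLocalization.AtPrime.under_maximalIdeal L P]
      exact hqP⟩
    have e1 : P.height = q.height + (P.map g.toRingHom).height := by
      rw [Ideal.height_eq_height_add_of_liesOver_of_hasGoingDown q P]
      congr 1
      let e : (S ⊗[k] K) ⧸ q.map (algebraMap S (S ⊗[k] K)) ≃+* K ⊗[k] (S ⧸ q) :=
        (Ideal.quotEquivOfEq hker.symm).trans (RingHom.quotientKerEquivOfSurjective (f := g.toRingHom) hgsurj)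
      rw [← RingEquiv.height_map e]
      exact congrArg Ideal.height (Ideal.map_map (I := P) (Ideal.Quotient.mk _) e.toRingHom)
    have e2 : (IsLocalRing.maximalIdeal L).height =
        q.height + ((IsLocalRing.maximalIdeal L).map (Ideal.Quotient.mk (q.map (algebraMap S L)))).height :=
      Ideal.height_eq_height_add_of_liesOver_of_hasGoingDown q _
    have e3 : ringKrullDim (EGA4.FibLocRing S (S ⊗[k] K) P) =
        ((IsLocalRing.maximalIdeal L).map (Ideal.Quotient.mk (q.map (algebraMap S L)))).height := by
      rw [ringKrullDim_eq_of_ringEquiv (Ideal.quotEquivOfEq (by rw [← hqP]) :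
        EGA4.FibLocRing S (S ⊗[k] K) P ≃+* L ⧸ q.map (algebraMap S L))]
      have hne : q.map (algebraMap S L) ≤ IsLocalRing.maximalIdeal L :=
        Ideal.map_le_iff_le_comap.2 (Ideal.LiesOver.over (P := IsLocalRing.maximalIdeal L) (p := q)).le
      haveI : Nontrivial (L ⧸ q.map (algebraMap S L)) := Ideal.Quotient.nontrivial_iff.2
        (ne_top_of_le_ne_top (IsLocalRing.maximalIdeal.isMaximal L).ne_top hne)
      haveI : IsLocalRing (L ⧸ q.map (algebraMap S L)) :=
        IsLocalRing.of_surjective' _ Ideal.Quotient.mk_surjective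
      rw [IsLocalRing.map_maximalIdeal_of_surjective _ Ideal.Quotient.mk_surjective,
        IsLocalRing.maximalIdeal_height_eq_ringKrullDim]
    have eL : ((IsLocalRing.maximalIdeal L).height : WithBot ℕ∞) = (P.height : WithBot ℕ∞) := by
      rw [IsLocalRing.maximalIdeal_height_eq_ringKrullDim,
        IsLocalization.AtPrime.ringKrullDim_eq_height P L]
    have hfin : q.height ≠ ⊤ := Ideal.height_ne_top_of_isPrime
    have e4 := WithBot.coe_inj.1 eL
    rw [e2, e1] at e4
    have e5 := WithTop.add_left_cancel hfin e4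
    refine ⟨?_, e3.trans (by rw [e5])⟩
    rw [e3, e5, IsLocalization.AtPrime.ringKrullDim_eq_height P L,
      IsLocalization.AtPrime.ringKrullDim_eq_height q (Localization.AtPrime q), e1, add_comm q.height]
    rfl
  obtain ⟨hd, hf⟩ := fib qK
  refine ⟨hd.symm, ?_, ?_⟩
  · letI : Algebra K (S ⊗[k] K) := Algebra.TensorProduct.rightAlgebra
    haveI : Algebra.FiniteType K (S ⊗[k] K) := Algebra.FiniteType.equiv inferInstance
      (AlgEquiv.ofRingEquiv (f := (Algebra.TensorProduct.comm k K S).toRingEquiv) fun c => rfl :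
        K ⊗[k] S ≃ₐ[K] S ⊗[k] K)
    haveI : Algebra.FiniteType K ((S ⊗[k] K) ⧸ qK) :=
      Algebra.FiniteType.of_surjective (Ideal.Quotient.mkₐ K qK) Ideal.Quotient.mk_surjective
    have hrK' : Algebra.trdeg K ((S ⊗[k] K) ⧸ qK) = rK := by
      haveI : Algebra.IsAlgebraic ((S ⊗[k] K) ⧸ qK) qK.ResidueField :=
        IsLocalization.isAlgebraic (R := (S ⊗[k] K) ⧸ qK) (S := qK.ResidueField) (nonZeroDivisors ((S ⊗[k] K) ⧸ qK))
      haveI : FaithfulSMul ((S ⊗[k] K) ⧸ qK) qK.ResidueField :=
        (faithfulSMul_iff_algebraMap_injective _ _).2 (IsFractionRing.injective _ _)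
      have h := lift_trdeg_add_eq K ((S ⊗[k] K) ⧸ qK) qK.ResidueField
      rw [trdeg_eq_zero (R := (S ⊗[k] K) ⧸ qK), Cardinal.lift_zero, add_zero, hrK] at h
      simpa using h
    obtain ⟨n, hn, hnt⟩ := Groth.Agent.VarDim.exists_dim_eq_trdeg K ((S ⊗[k] K) ⧸ qK)
    have hn' : n = rK := by exact_mod_cast hnt.symm.trans hrK'
    subst hn'
    have hle : RingHom.ker g.toRingHom ≤ qK := by
      rw [hker, Ideal.map_le_iff_le_comap]
      exact (Ideal.LiesOver.over (P := qK) (p := q)).le
    let Q : PrimeSpectrum (K ⊗[k] (S ⧸ q)) :=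
      ⟨qK.map g.toRingHom, Ideal.map_isPrime_of_surjective hgsurj hle⟩
    have hcomap : qK = Q.asIdeal.comap g.toRingHom := by
      show qK = (qK.map g.toRingHom).comap g.toRingHom
      exact ((Ideal.comap_map_of_surjective' (f := g.toRingHom) hgsurj qK).trans (sup_eq_left.2 hle)).symm
    have hco : (Order.coheight Q : WithBot ℕ∞) = (n : WithBot ℕ∞) := by
      rw [Groth.Agent.VarDim.coheight_eq_ringKrullDim_quotient, ← hn]
      exact ringKrullDim_eq_of_ringEquiv ((RingHom.quotientKerEquivOfSurjective
        (f := (Ideal.Quotient.mk Q.asIdeal).comp g.toRingHom)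
        (Ideal.Quotient.mk_surjective.comp hgsurj)).symm.trans
          (Ideal.quotEquivOfEq (by rw [← RingHom.comap_ker, Ideal.mk_ker]; exact hcomap.symm)))
    have h := height_add_coheight K r hr' Q
    rw [hf, show qK.map g.toRingHom = Q.asIdeal from rfl, PrimeSpectrum.height_eq_orderHeight, ← hco]
    exact_mod_cast h
  · haveI : Nontrivial (K ⊗[k] (S ⧸ q)) :=
      Algebra.TensorProduct.nontrivial_of_algebraMap_injective_of_isDomain k K (S ⧸ q)
        (algebraMap k K).injective (algebraMap k (S ⧸ q)).injective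
    obtain ⟨M, hM, -⟩ := Ideal.exists_minimalPrimes_le (bot_le : ⊥ ≤ (Classical.choice
      (inferInstance : Nonempty (PrimeSpectrum (K ⊗[k] (S ⧸ q))))).asIdeal)
    haveI := hM.1.1
    haveI : (M.comap g.toRingHom).LiesOver q := ⟨by
      have h0 := comap_minimalPrime K M hM
      ext s
      rw [Ideal.under_def, Ideal.comap_comap, Ideal.mem_comap]
      show s ∈ q ↔ g (s ⊗ₜ (1 : K)) ∈ M
      rw [hgt, ← Ideal.Quotient.eq_zero_iff_mem (I := q), ← Ideal.mem_bot, ← h0]
      rfl⟩
    refine ⟨M.comap g.toRingHom, inferInstance, inferInstance, ?_⟩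
    rw [(fib (M.comap g.toRingHom)).2, Ideal.map_comap_of_surjective g.toRingHom hgsurj M, Ideal.height_eq_zero_iff.2 hM]
    rfl

end Groth.Agent.S9180
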