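import Groth.Statements.S9181
import Groth.Agent.H4RG.QFPoint
import Mathlib

set_option autoImplicit false
set_option maxHeartbeats 1000000
set_option linter.style.haveILetI false
set_option backward.isDefEq.respectTransparency.types false
universe u
open CAlg

namespace Groth.Agent.S9181

section

open TensorProduct

/-- Modulo the variables of index `≥ r` a polynomial only involves the first ones. -/
theorem sub_rename_mem {R : Type u} [CommRing R] {n : ℕ} (r : ℕ) (P : MvPolynomial (Fin n) R) :
    ∃ G : MvPolynomial {j : Fin n // (j : ℕ) < r} R,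
      P - MvPolynomial.rename Subtype.val G ∈ Ideal.span (Set.range fun i : {i : Fin n // r ≤ (i : ℕ)} =>
        (MvPolynomial.X (i : Fin n) : MvPolynomial (Fin n) R)) := by
  induction P using MvPolynomial.induction_on with
  | C c => exact ⟨MvPolynomial.C c, by simp⟩
  | add a b ha hb =>
    obtain ⟨G, hG⟩ := ha
    obtain ⟨G', hG'⟩ := hb
    refine ⟨G + G', ?_⟩
    rw [map_add, add_sub_add_comm]
    exact add_mem hG hG'
  | mul_X a j ha =>
    obtain ⟨G, hG⟩ := ha
    by_cases hj : (j : ℕ) < r
    · refine ⟨G * MvPolynomial.X ⟨j, hj⟩, ?_⟩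
      rw [map_mul, MvPolynomial.rename_X, ← sub_mul]
      exact Ideal.mul_mem_right _ _ hG
    · refine ⟨0, ?_⟩
      rw [map_zero, sub_zero]
      exact Ideal.mul_mem_left _ _ (Ideal.subset_span ⟨⟨j, not_lt.1 hj⟩, rfl⟩)

/-- The residue field of a point of a fibre is that of the point. -/
theorem trdeg_fiber_residueField {R S : Type u} [CommRing R] [CommRing S] [Algebra R S] (p : Ideal R) [p.IsPrime]
    (q : Ideal S) [q.IsPrime] [Algebra p.ResidueField q.ResidueField]
    [IsScalarTower R p.ResidueField q.ResidueField]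
    (Q : PrimeSpectrum (p.Fiber S))
    (hQ : Q.asIdeal.comap (Algebra.TensorProduct.includeRight.toRingHom) = q) :
    Algebra.trdeg p.ResidueField Q.asIdeal.ResidueField = Algebra.trdeg p.ResidueField q.ResidueField := by
  let L := Q.asIdeal.ResidueField
  let incl : S →ₐ[R] p.Fiber S := Algebra.TensorProduct.includeRight
  let ν : q.ResidueField →ₐ[R] L := Ideal.ResidueField.mapₐ q Q.asIdeal incl hQ.symm
  let χ : S →+* L := (algebraMap (p.Fiber S) L).comp incl.toRingHom
  have hν : ∀ s : S, ν (algebraMap S q.ResidueField s) = χ s := fun s => by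
    show Ideal.ResidueField.map q Q.asIdeal incl.toRingHom hQ.symm (algebraMap S q.ResidueField s) = _
    simp [χ]
    rfl
  have hk : ν.toRingHom.comp (algebraMap p.ResidueField q.ResidueField) = algebraMap p.ResidueField L := by
    refine Ideal.ResidueField.ringHom_ext (RingHom.ext fun c => ?_)
    show ν (algebraMap p.ResidueField q.ResidueField (algebraMap R p.ResidueField c)) =
      algebraMap p.ResidueField L (algebraMap R p.ResidueField c)
    rw [← IsScalarTower.algebraMap_apply, AlgHom.commutes, ← IsScalarTower.algebraMap_apply]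
  let ν' : q.ResidueField →ₐ[p.ResidueField] L := { ν.toRingHom with commutes' := RingHom.congr_fun hk }
  have hmem : ∀ z : p.Fiber S, algebraMap (p.Fiber S) L z ∈ ν'.range := by
    intro z
    obtain ⟨c, hc, s, hs⟩ := Ideal.Fiber.exists_smul_eq_one_tmul p z
    have hc0 : algebraMap R L c ≠ 0 := by
      rw [IsScalarTower.algebraMap_apply R p.ResidueField L, ne_eq,
        map_eq_zero_iff _ (algebraMap p.ResidueField L).injective, Ideal.algebraMap_residueField_eq_zero]
      exact hc
    have h1 : algebraMap R L c * algebraMap (p.Fiber S) L z = χ s := by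
      rw [IsScalarTower.algebraMap_apply R (p.Fiber S) L, ← map_mul, ← Algebra.smul_def, hs]
      rfl
    have h2 : algebraMap (p.Fiber S) L z = (algebraMap R L c)⁻¹ * χ s := by
      rw [← h1, inv_mul_cancel_left₀ hc0]
    rw [h2]
    refine ⟨(algebraMap R q.ResidueField c)⁻¹ * algebraMap S q.ResidueField s, ?_⟩
    show ν _ = _
    rw [map_mul, map_inv₀, AlgHom.commutes, hν]
  have hsurj : Function.Surjective ν' := fun w => by
    obtain ⟨a, b, -, rfl⟩ := IsFractionRing.div_surjective (A := p.Fiber S ⧸ Q.asIdeal) w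
    obtain ⟨a, rfl⟩ := Ideal.Quotient.mk_surjective a
    obtain ⟨b, rfl⟩ := Ideal.Quotient.mk_surjective b
    rw [Ideal.algebraMap_quotient_residueField_mk, Ideal.algebraMap_quotient_residueField_mk]
    obtain ⟨a', ha'⟩ := hmem a
    obtain ⟨b', hb'⟩ := hmem b
    exact ⟨a' / b', by rw [map_div₀]; exact congrArg₂ (· / ·) ha' hb'⟩
  exact (AlgEquiv.ofBijective ν' ⟨ν'.toRingHom.injective, hsurj⟩).trdeg_eq.symm

end

/-- Let R → S be of finite type, q a prime of S over p, Q the prime of κ(p) ⊗ S over q, with the fibre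
of local dimension n at Q and κ(q) of transcendence degree r over κ(p). Then for some f ∉ p and g ∉
q there is an R-algebra map φ : R_f[x_1, …, x_n] → S_g, of finite type and quasi-finite, such that
the inverse image of q S_g under φ is the ideal generated by p and the variables x_{r+1}, …, x_n. -/
theorem result (R S : Type u) [CommRing R] [CommRing S]
    [Algebra R S] [Algebra.FiniteType R S] (p : Ideal R) [p.IsPrime] (q : Ideal S) [q.IsPrime] [q.LiesOver p]
    [Algebra (Localization.AtPrime p) (Localization.AtPrime q)]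
    [Localization.AtPrime.IsLiesOverAlgebra p q] (Q : PrimeSpectrum (p.Fiber S))
    (hQ : Q.asIdeal.comap (Algebra.TensorProduct.includeRight.toRingHom) = q) (n r : ℕ)
    (hdim : FlatMor.localDim (PrimeSpectrum (p.Fiber S)) Q = (n : WithBot ℕ∞))
    (hr : Algebra.trdeg p.ResidueField q.ResidueField = r) :
    ∃ (f : R) (g : S), f ∉ p ∧ g ∉ q ∧
      ∃ φ : MvPolynomial (Fin n) (Localization.Away f) →ₐ[R] Localization.Away g,
        φ.toRingHom.FiniteType ∧ φ.toRingHom.QuasiFinite ∧
        (q.map (algebraMap S (Localization.Away g))).comap φ =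
          p.map (algebraMap R (MvPolynomial (Fin n) (Localization.Away f))) ⊔
            Ideal.span (Set.range fun i : {i : Fin n // r ≤ (i : ℕ)} =>
              (MvPolynomial.X (i : Fin n) : MvPolynomial (Fin n) (Localization.Away f))) := by
  obtain ⟨φ, ⟨hQF, -⟩, r', d, hrd, hr', hd, hX, hind⟩ :=
    H4RG.exists_quasiFiniteAt_strong p q Q hQ n hdim.le
  have hrr : r' = r := by
    have h : (r' : Cardinal.{u}) = r := by
      rw [← hr', ← hr]
      exact trdeg_fiber_residueField p q Q hQ
    exact_mod_cast h
  subst hrr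
  letI : Algebra (MvPolynomial (Fin n) R) S := φ.toRingHom.toAlgebra
  haveI : IsScalarTower R (MvPolynomial (Fin n) R) S :=
    IsScalarTower.of_algebraMap_eq fun c => (φ.commutes c).symm
  haveI : Algebra.FiniteType (MvPolynomial (Fin n) R) S :=
    Algebra.FiniteType.of_restrictScalars_finiteType R _ _
  haveI : Algebra.QuasiFiniteAt (MvPolynomial (Fin n) R) q := hQF
  obtain ⟨S', hS', g₀, hg, hbij⟩ :=
    Algebra.QuasiFiniteAt.exists_fg_and_exists_notMem_and_awayMap_bijective
      (R := MvPolynomial (Fin n) R) q
  haveI : Module.Finite (MvPolynomial (Fin n) R) S' := ⟨(Submodule.fg_top _).mpr hS'⟩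
  haveI : Algebra.QuasiFinite (MvPolynomial (Fin n) R) (Localization.Away g₀) := .trans _ S' _
  haveI hQF' : Algebra.QuasiFinite (MvPolynomial (Fin n) R) (Localization.Away (g₀ : S)) :=
    Algebra.QuasiFinite.of_surjective_algHom (R := MvPolynomial (Fin n) R)
      (S := Localization.Away g₀) (Localization.awayMapₐ S'.val g₀) hbij.2
  let g : S := g₀
  let e : MvPolynomial (Fin n) (Localization.Away (1 : R)) ≃ₐ[R] MvPolynomial (Fin n) R :=
    MvPolynomial.mapAlgEquiv (Fin n) (IsLocalization.atOne R (Localization.Away (1 : R))).symm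
  let ψ : MvPolynomial (Fin n) R →ₐ[R] Localization.Away g := (IsScalarTower.toAlgHom R S _).comp φ
  have hψ : ψ.toRingHom = algebraMap (MvPolynomial (Fin n) R) (Localization.Away g) :=
    RingHom.ext fun P => (IsScalarTower.algebraMap_apply (MvPolynomial (Fin n) R) S (Localization.Away g) P).symm
  refine ⟨1, g, fun h => (inferInstance : p.IsPrime).ne_top ((Ideal.eq_top_iff_one p).2 h), hg,
    ψ.comp e.toAlgHom, ?_, ?_, ?_⟩
  · show (ψ.toRingHom.comp e.toAlgHom.toRingHom).FiniteType
    refine RingHom.FiniteType.comp ?_ (RingHom.FiniteType.of_surjective _ e.surjective)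
    rw [hψ, RingHom.finiteType_algebraMap]
    exact Algebra.FiniteType.trans (S := S) inferInstance
      (IsLocalization.finiteType_of_monoid_fg (.powers g) _)
  · show (ψ.toRingHom.comp e.toAlgHom.toRingHom).QuasiFinite
    refine RingHom.QuasiFinite.comp ?_ (RingHom.QuasiFinite.of_finite
      (RingHom.Finite.of_surjective _ e.surjective))
    rw [hψ, RingHom.quasiFinite_algebraMap]
    exact hQF'
  · have hgq : Disjoint (Submonoid.powers g : Set S) q := by
      rw [Ideal.disjoint_powers_iff_notMem_of_isPrime]
      exact hg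
    have h1 : (q.map (algebraMap S (Localization.Away g))).comap (algebraMap S (Localization.Away g)) = q :=
      IsLocalization.under_map_of_isPrime_disjoint _ _ inferInstance hgq
    ext P
    rw [Ideal.mem_comap]
    show algebraMap S (Localization.Away g) (φ (e P)) ∈ _ ↔ _
    rw [← Ideal.mem_comap, h1]
    let J : Ideal (MvPolynomial (Fin n) R) :=
      Ideal.span (Set.range fun i : {i : Fin n // r' ≤ (i : ℕ)} => (MvPolynomial.X (i : Fin n) : MvPolynomial (Fin n) R))
    have hpq : ∀ c ∈ p, algebraMap R S c ∈ q := fun c hc =>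
      (Ideal.LiesOver.over (P := q) (p := p)).le hc
    have key : ∀ P₀ : MvPolynomial (Fin n) R, φ P₀ ∈ q ↔ P₀ ∈ p.map (algebraMap R (MvPolynomial (Fin n) R)) ⊔ J := by
      intro P₀
      have hle : p.map (algebraMap R (MvPolynomial (Fin n) R)) ⊔ J ≤ q.comap φ := by
        refine sup_le (Ideal.map_le_iff_le_comap.2 fun c hc => ?_) (Ideal.span_le.2 ?_)
        · show φ (algebraMap R _ c) ∈ q
          rw [AlgHom.commutes]
          exact hpq c hc
        · rintro _ ⟨i, rfl⟩
          exact hX _ i.2
      refine ⟨fun h => ?_, fun h => hle h⟩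
      obtain ⟨G, hG⟩ := sub_rename_mem r' P₀
      have h3 : φ (MvPolynomial.rename Subtype.val G) ∈ q := by
        have h4 : φ (P₀ - MvPolynomial.rename Subtype.val G) ∈ q := hle (Ideal.mem_sup_right hG)
        rw [map_sub] at h4
        have := Ideal.sub_mem q h h4
        rwa [sub_sub_cancel] at this
      rw [← sub_add_cancel P₀ (MvPolynomial.rename Subtype.val G)]
      refine add_mem (Ideal.mem_sup_right hG) (Ideal.mem_sup_left ?_)
      have h5 : G ∈ p.map (MvPolynomial.C : R →+* MvPolynomial {j : Fin n // (j : ℕ) < r'} R) :=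
        MvPolynomial.mem_map_C_iff.2 (hind G h3)
      have h6 := Ideal.mem_map_of_mem (MvPolynomial.rename (R := R) (Subtype.val : {j : Fin n // (j : ℕ) < r'} → Fin n)).toRingHom h5
      rw [Ideal.map_map] at h6
      have h7 : (MvPolynomial.rename (R := R) (Subtype.val : {j : Fin n // (j : ℕ) < r'} → Fin n)).toRingHom.comp
          MvPolynomial.C = algebraMap R (MvPolynomial (Fin n) R) :=
        RingHom.ext fun c => MvPolynomial.rename_C _ c
      rw [h7] at h6
      exact h6
    rw [key]
    have hT : (p.map (algebraMap R (MvPolynomial (Fin n) (Localization.Away (1 : R)))) ⊔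
        Ideal.span (Set.range fun i : {i : Fin n // r' ≤ (i : ℕ)} =>
          (MvPolynomial.X (i : Fin n) : MvPolynomial (Fin n) (Localization.Away (1 : R))))).map e.toRingEquiv.toRingHom =
        p.map (algebraMap R (MvPolynomial (Fin n) R)) ⊔ J := by
      rw [Ideal.map_sup, Ideal.map_map, Ideal.map_span, ← Set.range_comp]
      congr 2
      · exact RingHom.ext fun c => e.commutes c
      · refine congrArg Set.range (funext fun i => ?_)
        show e (MvPolynomial.X (i : Fin n)) = _
        simp [e]
    rw [← hT]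
    exact (Ideal.mem_map_of_equiv e.toRingEquiv (e P)).trans
      ⟨fun ⟨x, hx, hxe⟩ => e.injective hxe ▸ hx, fun h => ⟨P, h, rfl⟩⟩

end Groth.Agent.S9181
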