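import Groth.Statements.S9182
import Mathlib.RingTheory.Etale.Kaehler

set_option autoImplicit false
universe u
open CAlg


namespace S9182Aux

open TensorProduct Algebra Algebra.Extension

variable {R S T : Type u} [CommRing R] [CommRing S] [CommRing T] [Algebra R S] [Algebra R T]
  [Algebra S T] [IsScalarTower R S T]

noncomputable def homOfSurj {ι : Type*} (φ : MvPolynomial ι R →ₐ[R] S) (hφ : Function.Surjective φ)
    (Q : Algebra.Extension R T) : (Algebra.Extension.ofSurjective φ hφ).Hom Q where
  toRingHom := (MvPolynomial.aeval fun i ↦ Q.σ (algebraMap S T (φ (MvPolynomial.X i)))).toRingHom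
  toRingHom_algebraMap x :=
    (MvPolynomial.aeval fun i ↦ Q.σ (algebraMap S T (φ (MvPolynomial.X i)))).commutes x
  algebraMap_toRingHom x := by
    have : (IsScalarTower.toAlgHom R Q.Ring T).comp
        (MvPolynomial.aeval fun i ↦ Q.σ (algebraMap S T (φ (MvPolynomial.X i)))) =
        (IsScalarTower.toAlgHom R S T).comp φ := by
      ext i; simp
    exact DFunLike.congr_fun this x

noncomputable def homOfGen {ι : Type*} (G : Algebra.Generators R S ι)
    (Q : Algebra.Extension R T) : G.toExtension.Hom Q where
  toRingHom := (MvPolynomial.aeval fun i ↦ Q.σ (algebraMap S T (G.val i))).toRingHom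
  toRingHom_algebraMap x :=
    (MvPolynomial.aeval fun i ↦ Q.σ (algebraMap S T (G.val i))).commutes x
  algebraMap_toRingHom x := by
    have : (IsScalarTower.toAlgHom R Q.Ring T).comp
        (MvPolynomial.aeval fun i ↦ Q.σ (algebraMap S T (G.val i))) =
        (IsScalarTower.toAlgHom R S T).comp (MvPolynomial.aeval G.val) := by
      ext i; simp
    exact (DFunLike.congr_fun this x).trans
      (congrArg (algebraMap S T) (G.algebraMap_apply x).symm)

theorem bij_H1 {ι κ : Type*} (φ : MvPolynomial ι R →ₐ[R] S) (hφ : Function.Surjective φ)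
    (ψ : MvPolynomial κ R →ₐ[R] T) (hψ : Function.Surjective ψ)
    (M : Submonoid S) [IsLocalization M T]
    (f : (Algebra.Extension.ofSurjective φ hφ).Hom (Algebra.Extension.ofSurjective ψ hψ)) :
    Function.Bijective ((Algebra.Extension.H1Cotangent.map f).liftBaseChange T) := by
  let eS := Algebra.Extension.H1Cotangent.equiv (homOfSurj φ hφ (Algebra.Generators.self R S).toExtension)
    (homOfGen (Algebra.Generators.self R S) (Algebra.Extension.ofSurjective φ hφ))
  let eT := Algebra.Extension.H1Cotangent.equiv
    (homOfGen (Algebra.Generators.self R T) (Algebra.Extension.ofSurjective ψ hψ))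
    (homOfSurj ψ hψ (Algebra.Generators.self R T).toExtension)
  have hloc : IsLocalizedModule M (Algebra.H1Cotangent.map R R S T) := inferInstance
  have key : Algebra.Extension.H1Cotangent.map f =
      ((eT.toLinearMap.restrictScalars S).comp (Algebra.H1Cotangent.map R R S T)).comp
        eS.toLinearMap := by
    apply LinearMap.ext
    intro x
    change Algebra.Extension.H1Cotangent.map f x =
      Algebra.Extension.H1Cotangent.map _ (Algebra.Extension.H1Cotangent.map _
        (Algebra.Extension.H1Cotangent.map _ x))
    rw [← Algebra.Extension.H1Cotangent.map_comp_apply, ← Algebra.Extension.H1Cotangent.map_comp_apply]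
    exact congrFun (congrArg DFunLike.coe (Algebra.Extension.H1Cotangent.map_eq f _)) x
  have : IsLocalizedModule M (Algebra.Extension.H1Cotangent.map f) := by
    rw [key]
    have : IsLocalizedModule M ((eT.toLinearMap.restrictScalars S).comp
        (Algebra.H1Cotangent.map R R S T)) :=
      IsLocalizedModule.of_linearEquiv M (Algebra.H1Cotangent.map R R S T) (eT.restrictScalars S)
    exact IsLocalizedModule.of_linearEquiv_right M _ eS
  exact (isLocalizedModule_iff_isBaseChange M T _).mp this

noncomputable def basisCS {ι : Type} (φ : MvPolynomial ι R →ₐ[R] S) (hφ : Function.Surjective φ) :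
    Module.Basis ι S (Algebra.Extension.ofSurjective φ hφ).CotangentSpace :=
  letI : Algebra (MvPolynomial ι R) S := φ.toRingHom.toAlgebra
  (KaehlerDifferential.mvPolynomialBasis R ι).baseChange S

theorem core {ι κ : Type} (φ : MvPolynomial ι R →ₐ[R] S) (hφ : Function.Surjective φ)
    (ψ : MvPolynomial κ R →ₐ[R] T) (hψ : Function.Surjective ψ)
    (M : Submonoid S) [IsLocalization M T] :
    Nonempty (((T ⊗[S] (Algebra.Extension.ofSurjective φ hφ).Cotangent) ×
        (Algebra.Extension.ofSurjective ψ hψ).CotangentSpace) ≃ₗ[T]
      ((Algebra.Extension.ofSurjective ψ hψ).Cotangent ×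
        (T ⊗[S] (Algebra.Extension.ofSurjective φ hφ).CotangentSpace))) := by
  let P := Algebra.Extension.ofSurjective φ hφ
  let Q := Algebra.Extension.ofSurjective ψ hψ
  let f : P.Hom Q := homOfSurj φ hφ Q
  haveI : Algebra.FormallyEtale S T := Algebra.FormallyEtale.of_isLocalization (Rₘ := T) M
  haveI : Module.Flat S T := IsLocalization.flat T M
  haveI : Module.Free T Q.CotangentSpace :=
    Module.Free.of_basis (basisCS ψ hψ)
  let ι₁ := (h1Cotangentι (P := P)).baseChange T
  let dP := P.cotangentComplex.baseChange T
  let uT : T ⊗[S] P.Cotangent →ₗ[T] Q.Cotangent := (Cotangent.map f).liftBaseChange T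
  let vT : T ⊗[S] P.CotangentSpace →ₗ[T] Q.CotangentSpace := (CotangentSpace.map f).liftBaseChange T
  let wT := (Algebra.Extension.H1Cotangent.map f).liftBaseChange T
  have hw : Function.Bijective wT := bij_H1 φ hφ ψ hψ M f
  have comm : ∀ x, vT (dP x) = Q.cotangentComplex (uT x) := by
    intro x
    induction x with
    | zero => simp
    | add x y hx hy => simp [map_add, hx, hy]
    | tmul a b =>
      simp [vT, dP, uT, Algebra.Extension.CotangentSpace.map_cotangentComplex]
  have comm₁ : ∀ h, uT (ι₁ h) = h1Cotangentι (wT h) := by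
    intro h
    induction h with
    | zero => simp
    | add x y hx hy => simp [map_add, hx, hy]
    | tmul a b =>
      simp only [uT, ι₁, wT, LinearMap.baseChange_tmul, LinearMap.liftBaseChange_tmul, map_smul]
      rfl
  have ex₁ : Function.Exact ι₁ dP :=
    Module.Flat.lTensor_exact T P.exact_hCotangentι_cotangentComplex
  let kP := P.toKaehler.baseChange T
  have ex₂ : Function.Exact dP kP :=
    lTensor_exact T P.exact_cotangentComplex_toKaehler P.toKaehler_surjective
  have kPs : Function.Surjective kP := LinearMap.lTensor_surjective T P.toKaehler_surjective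
  let e := KaehlerDifferential.mapBaseChange R S T
  have he : Function.Bijective e :=
    (KaehlerDifferential.tensorKaehlerEquivOfFormallyEtale R S T).bijective
  have comm₂ : ∀ x, Q.toKaehler (vT x) = e (kP x) := by
    have : Q.toKaehler ∘ₗ vT = e ∘ₗ kP := by
      ext a
      simp only [AlgebraTensorModule.curry_apply, TensorProduct.curry_apply,
        LinearMap.coe_restrictScalars, LinearMap.coe_comp, Function.comp_apply, vT, kP, e,
        LinearMap.liftBaseChange_tmul, one_smul, LinearMap.baseChange_tmul,
        KaehlerDifferential.mapBaseChange_tmul]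
      induction a using TensorProduct.induction_on with
      | zero => simp
      | add x y hx hy => simp [map_add, hx, hy]
      | tmul s x =>
        have hx : x ∈ Submodule.span P.Ring (Set.range (KaehlerDifferential.D R P.Ring)) :=
          KaehlerDifferential.span_range_derivation R P.Ring ▸ Submodule.mem_top
        induction hx using Submodule.span_induction generalizing s with
        | mem x h =>
          obtain ⟨x, rfl⟩ := h
          simp [Algebra.Extension.CotangentSpace.map_tmul, f.algebraMap_toRingHom]
        | zero => simp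
        | add x y _ _ hx hy => simp [TensorProduct.tmul_add, map_add, hx, hy]
        | smul r x _ hx =>
          rw [← TensorProduct.smul_tmul]
          exact hx _
    exact fun x ↦ DFunLike.congr_fun this x
  let i : T ⊗[S] P.Cotangent →ₗ[T] Q.Cotangent × (T ⊗[S] P.CotangentSpace) := uT.prod dP
  let p : Q.Cotangent × (T ⊗[S] P.CotangentSpace) →ₗ[T] Q.CotangentSpace :=
    Q.cotangentComplex.coprod (-vT)
  have hi : Function.Injective i := by
    rw [injective_iff_map_eq_zero]
    intro x hx
    obtain ⟨h, rfl⟩ := (ex₁ x).mp (congrArg Prod.snd hx)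
    have : wT h = 0 := h1Cotangentι_injective (by
      rw [← comm₁]; exact (congrArg Prod.fst hx).trans (map_zero _).symm)
    rw [hw.1 (this.trans (map_zero _).symm), map_zero]
  have hp : Function.Surjective p := by
    intro z
    obtain ⟨b, hb⟩ := he.2 (Q.toKaehler z)
    obtain ⟨a, ha⟩ := kPs b
    have h0 : Q.toKaehler (z - vT a) = 0 := by rw [map_sub, comm₂, ha, hb, sub_self]
    obtain ⟨y, hy⟩ := (Q.exact_cotangentComplex_toKaehler _).mp h0
    exact ⟨(y, -a), by simp [p, hy]⟩
  have hip : Function.Exact i p := by
    rintro ⟨y, a⟩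
    constructor
    · intro h
      have h' : Q.cotangentComplex y = vT a := by
        simpa [p, add_neg_eq_zero] using h
      have hk : kP a = 0 := he.1 (by
        rw [← comm₂, ← h', Q.exact_cotangentComplex_toKaehler.apply_apply_eq_zero, map_zero])
      obtain ⟨x, rfl⟩ := (ex₂ a).mp hk
      have h2 : Q.cotangentComplex (y - uT x) = 0 := by
        rw [map_sub, ← comm, h', sub_self]
      obtain ⟨h₁, hh₁⟩ := (Q.exact_hCotangentι_cotangentComplex _).mp h2
      obtain ⟨h₀, rfl⟩ := hw.2 h₁
      refine ⟨x + ι₁ h₀, Prod.ext ?_ ?_⟩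
      · change uT (x + ι₁ h₀) = y
        rw [map_add, comm₁, hh₁]
        abel
      · change dP (x + ι₁ h₀) = dP x
        rw [map_add, ex₁.apply_apply_eq_zero, add_zero]
    · rintro ⟨x, hx⟩
      rw [← hx]
      simp [i, p, comm]
  obtain ⟨s, hs⟩ := Module.projective_lifting_property p LinearMap.id hp
  obtain ⟨l, hl, -⟩ := hip.splitSurjectiveEquiv hi ⟨s, hs⟩
  exact ⟨l.symm⟩

end S9182Aux

theorem S9182Aux.main (R S : Type u) [CommRing R] [CommRing S] [Algebra R S]
    (g : S) (n m : ℕ) (α : MvPolynomial (Fin n) R →ₐ[R] S) (hα : Function.Surjective α)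
    (β : MvPolynomial (Fin m) R →ₐ[R] Localization.Away g) (hβ : Function.Surjective β) :
    Nonempty ((LocalizedModule (Submonoid.powers g) (Algebra.Extension.ofSurjective α hα).Cotangent ×
        (Fin m → Localization.Away g)) ≃ₗ[Localization.Away g]
      ((Algebra.Extension.ofSurjective β hβ).Cotangent × (Fin n → Localization.Away g))) := by
  obtain ⟨E⟩ := S9182Aux.core α hα β hβ (Submonoid.powers g)
  let e₁ : LocalizedModule (Submonoid.powers g) (Algebra.Extension.ofSurjective α hα).Cotangent
      ≃ₗ[Localization.Away g] _ :=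
    (LocalizedModule.equivTensorProduct (Submonoid.powers g)
      (Algebra.Extension.ofSurjective α hα).Cotangent)
  let b₂ : Module.Basis (Fin m) (Localization.Away g) (Algebra.Extension.ofSurjective β hβ).CotangentSpace :=
    S9182Aux.basisCS β hβ
  let b₁ : Module.Basis (Fin n) S (Algebra.Extension.ofSurjective α hα).CotangentSpace :=
    S9182Aux.basisCS α hα
  exact ⟨((LinearEquiv.prodCongr e₁ b₂.equivFun.symm).trans E).trans
    (LinearEquiv.prodCongr (LinearEquiv.refl _ _) (b₁.baseChange (Localization.Away g)).equivFun)⟩

namespace Groth.Agent.S9182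

/-- For presentations α : R[x_1, …, x_n] → S and β : R[y_1, …, y_m] → S_g (g ∈ S) with kernels I and J,
the S_g-modules (I/I²)_g ⊕ S_g^m and J/J² ⊕ S_g^n are isomorphic. -/
theorem result (R S : Type u) [CommRing R] [CommRing S] [Algebra R S]
    (g : S) (n m : ℕ) (α : MvPolynomial (Fin n) R →ₐ[R] S) (hα : Function.Surjective α)
    (β : MvPolynomial (Fin m) R →ₐ[R] Localization.Away g) (hβ : Function.Surjective β) :
    Nonempty ((LocalizedModule (Submonoid.powers g) (Algebra.Extension.ofSurjective α hα).Cotangent ×
        (Fin m → Localization.Away g)) ≃ₗ[Localization.Away g]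
      ((Algebra.Extension.ofSurjective β hβ).Cotangent × (Fin n → Localization.Away g))) := by
  exact S9182Aux.main R S g n m α hα β hβ

end Groth.Agent.S9182
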