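import Groth.Statements.S9214
import Groth.Agent.Graft.Model
import Groth.Agent.S0591

set_option autoImplicit false
universe u
open CategoryTheory CategoryTheory.Limits AlgebraicGeometry
open Lim

set_option linter.style.haveILetI false
set_option backward.isDefEq.respectTransparency false
set_option backward.isDefEq.respectTransparency.types false

namespace Groth.Agent.S9214

/-- Let S = lim S_i be a cofiltered limit of Noetherian schemes with affine transition morphisms, and
suppose X → S is of finite type and quasi-separated. One can then find an index i, a finite type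
morphism W → S_i and a morphism X → W over S_i (compatible with X → S → S_i) for which the resulting
map X → S ×_{S_i} W into the fibre product is a closed immersion. -/
theorem result {I : Type u} [SmallCategory I] [IsCofiltered I]
    (D : I ⥤ Scheme.{u}) (c : Limits.Cone D) (hc : Limits.IsLimit c)
    [∀ (i j : I) (f : i ⟶ j), IsAffineHom (D.map f)] [∀ i, IsNoetherian (D.obj i)]
    {X : Scheme.{u}} (a : X ⟶ c.pt) [QuasiSeparated a] [QuasiCompact a] [LocallyOfFiniteType a] :
    ∃ (i : I) (W : Scheme.{u}) (w : W ⟶ D.obj i) (b : X ⟶ W) (hb : a ≫ c.π.app i = b ≫ w),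
      LocallyOfFiniteType w ∧ QuasiCompact w ∧ IsClosedImmersion (pullback.lift a b hb) := by
  haveI : ∀ {i j : I} (f : i ⟶ j), IsAffineHom (D.map f) := fun {i j} f => inferInstance
  haveI : CompactSpace c.pt := Scheme.compactSpace_of_isLimit D c hc
  obtain ⟨i₀⟩ : Nonempty I := IsCofiltered.nonempty
  haveI : IsAffineHom (c.π.app i₀) := isAffineHom_π_app D c hc i₀
  haveI : QuasiSeparatedSpace c.pt := quasiSeparatedSpace_of_quasiSeparated (c.π.app i₀)
  haveI : CompactSpace X := QuasiCompact.compactSpace_of_compactSpace a
  haveI : QuasiSeparatedSpace X := quasiSeparatedSpace_of_quasiSeparated a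
  obtain ⟨P, p, k, hPc, hPq, hp, hk, hkp⟩ := Graft.exists_hasModel a
  haveI := hPc; haveI := hPq; haveI := hp; haveI := hk
  haveI : QuasiCompact p := quasiCompact_of_compactSpace p
  haveI : QuasiSeparated p := QuasiSeparated.of_quasiSeparatedSpace p
  obtain ⟨i, W, w, g, hw, hwc, -, sq⟩ := S0591.result D c hc P p
  haveI := hw
  have hb : a ≫ c.π.app i = (k ≫ g) ≫ w := by
    rw [← hkp, Category.assoc, Category.assoc, sq.w]
  refine ⟨i, W, w, k ≫ g, hb, inferInstance, hwc, ?_⟩
  have e : Limits.pullback.lift a (k ≫ g) hb = k ≫ sq.flip.isoPullback.hom := by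
    apply Limits.pullback.hom_ext
    · rw [Limits.pullback.lift_fst, Category.assoc, IsPullback.isoPullback_hom_fst]
      exact hkp.symm
    · rw [Limits.pullback.lift_snd, Category.assoc, IsPullback.isoPullback_hom_snd]
  rw [e]
  infer_instance

end Groth.Agent.S9214
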