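import Groth.Statements.S9215
import Groth.Agent.MorLib.LimSpace
import Groth.Agent.MorLib.LimPoints
import Groth.Agent.FibDim.RelDim
import Groth.Agent.FibDim.Comp
import Groth.Agent.AlgSpDec.FibreDimEtale

set_option autoImplicit false
set_option linter.style.haveILetI false
set_option backward.isDefEq.respectTransparency false
set_option backward.isDefEq.respectTransparency.types false
universe u
open CategoryTheory CategoryTheory.Limits AlgebraicGeometry
open Lim

namespace Groth.Agent.S9215

section

open CategoryTheory.Limits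

variable {I : Type u} [SmallCategory I] {DX DS : I ⥤ Scheme.{u}} (φ : DX ⟶ DS) (cS : Cone DS)
  {K : Scheme.{u}} (w : K ⟶ cS.pt)

/-- The system of fibres over a point of the limit. -/
noncomputable def fibres : I ⥤ Scheme.{u} where
  obj j := pullback (φ.app j) (w ≫ cS.π.app j)
  map {k j} a := pullback.map _ _ _ _ (DX.map a) (𝟙 K) (DS.map a) (φ.naturality a).symm
    (by rw [Category.assoc, cS.w, Category.id_comp])
  map_id j := by
    apply pullback.hom_ext <;> simp
  map_comp a b := by
    apply pullback.hom_ext <;> simp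

theorem fibres_fst {k j : I} (a : k ⟶ j) :
    (fibres φ cS w).map a ≫ pullback.fst (φ.app j) (w ≫ cS.π.app j) = pullback.fst _ _ ≫ DX.map a :=
  pullback.lift_fst _ _ _

theorem fibres_snd {k j : I} (a : k ⟶ j) :
    (fibres φ cS w).map a ≫ pullback.snd (φ.app j) (w ≫ cS.π.app j) = pullback.snd _ _ :=
  (pullback.lift_snd _ _ _).trans (Category.comp_id _)

theorem isClosedImmersion_fibres {k j : I} (a : k ⟶ j)
    [IsClosedImmersion (pullback.lift (DX.map a) (φ.app k) (φ.naturality a) :
      DX.obj k ⟶ pullback (φ.app j) (DS.map a))] :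
    IsClosedImmersion ((fibres φ cS w).map a) := by
  let v : DX.obj k ⟶ pullback (φ.app j) (DS.map a) := pullback.lift (DX.map a) (φ.app k) (φ.naturality a)
  have hv : v ≫ pullback.snd _ _ = φ.app k := pullback.lift_snd _ _ _
  have hv' : v ≫ pullback.fst _ _ = DX.map a := pullback.lift_fst _ _ _
  let m : pullback (φ.app j) (w ≫ cS.π.app j) ⟶ pullback (φ.app j) (DS.map a) :=
    pullback.lift (pullback.fst _ _) (pullback.snd _ _ ≫ w ≫ cS.π.app k)
      (by rw [Category.assoc, Category.assoc, cS.w, pullback.condition])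
  have sm : IsPullback m (pullback.snd _ _) (pullback.snd (φ.app j) (DS.map a)) (w ≫ cS.π.app k) := by
    refine IsPullback.of_right ?_ (pullback.lift_snd _ _ _) (IsPullback.of_hasPullback (φ.app j) (DS.map a))
    rw [pullback.lift_fst, Category.assoc, cS.w]
    exact IsPullback.of_hasPullback _ _
  have s : IsPullback (pullback.fst (φ.app k) (w ≫ cS.π.app k)) ((fibres φ cS w).map a) v m := by
    refine IsPullback.of_bot ?_ ?_ sm
    · rw [hv, fibres_snd]
      exact IsPullback.of_hasPullback _ _
    · apply pullback.hom_ext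
      · rw [Category.assoc, hv', Category.assoc, pullback.lift_fst, fibres_fst]
      · rw [Category.assoc, hv, Category.assoc, pullback.lift_snd, ← Category.assoc, fibres_snd, pullback.condition]
  exact MorphismProperty.of_isPullback s inferInstance

variable (cX : Cone DX) (f : cX.pt ⟶ cS.pt) (hf : ∀ i, f ≫ cS.π.app i = cX.π.app i ≫ φ.app i)

/-- The fibre of the limit morphism as a cone. -/
noncomputable def fibreCone : Cone (fibres φ cS w) where
  pt := pullback f w
  π :=
    { app := fun j => pullback.lift (pullback.fst f w ≫ cX.π.app j) (pullback.snd f w)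
        (by rw [Category.assoc, ← hf, ← Category.assoc, pullback.condition, Category.assoc])
      naturality := fun k j a => by
        refine (Category.id_comp _).trans ?_
        apply pullback.hom_ext
        · rw [pullback.lift_fst, Category.assoc, fibres_fst, ← Category.assoc, pullback.lift_fst, Category.assoc, cX.w]
        · rw [pullback.lift_snd, Category.assoc, fibres_snd, pullback.lift_snd] }

/-- The fibre of the limit morphism is the limit of the fibres. -/
noncomputable def isLimitFibreCone [IsCofiltered I] (hX : IsLimit cX) (hS : IsLimit cS) :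
    IsLimit (fibreCone φ cS w cX f hf) := by
  let i₁ : I := Classical.choice IsCofiltered.nonempty
  let sX : Cone (fibres φ cS w) → Cone DX := fun s =>
    { pt := s.pt
      π :=
        { app := fun j => s.π.app j ≫ pullback.fst _ _
          naturality := fun k j a => by
            refine (Category.id_comp _).trans ?_
            rw [Category.assoc, ← fibres_fst φ cS w a, ← Category.assoc, s.w] } }
  have hb : ∀ (s : Cone (fibres φ cS w)) (j : I),
      s.π.app j ≫ pullback.snd _ _ = s.π.app i₁ ≫ pullback.snd _ _ := fun s j => by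
    rw [← s.w (IsCofiltered.minToLeft i₁ j), ← s.w (IsCofiltered.minToRight i₁ j), Category.assoc,
      fibres_snd, Category.assoc, fibres_snd]
  exact
    { lift := fun s => pullback.lift (hX.lift (sX s)) (s.π.app i₁ ≫ pullback.snd _ _)
        (hS.hom_ext fun j => by
          rw [Category.assoc, hf, ← Category.assoc, hX.fac, ← hb s j, Category.assoc (s.π.app j ≫ _), Category.assoc (s.π.app j) _ _]
          show (s.π.app j ≫ pullback.fst _ _) ≫ φ.app j = _
          rw [Category.assoc, pullback.condition]
          exact (Category.assoc _ _ _).symm)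
      fac := fun s j => by
        apply pullback.hom_ext
        · show (_ ≫ pullback.lift _ _ _) ≫ _ = _
          rw [Category.assoc, pullback.lift_fst, ← Category.assoc, pullback.lift_fst, hX.fac]
        · show (_ ≫ pullback.lift _ _ _) ≫ _ = _
          rw [Category.assoc, pullback.lift_snd, pullback.lift_snd, hb s j]
      uniq := fun s m hm => by
        apply pullback.hom_ext
        · rw [pullback.lift_fst]
          refine hX.hom_ext fun j => ?_
          rw [hX.fac, Category.assoc]
          show _ = s.π.app j ≫ _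
          rw [← hm j, Category.assoc]
          exact congrArg (m ≫ ·) (pullback.lift_fst _ _ _).symm
        · rw [pullback.lift_snd, ← hm i₁, Category.assoc]
          exact congrArg (m ≫ ·) (pullback.lift_snd _ _ _).symm }

end

/-- Consider a system of scheme morphisms (f_i : X_i → S_i) indexed by a cofiltered category: two
diagrams X_•, S_• with a natural transformation between them, such that all transition morphisms
S_{i'} → S_i are affine, all S_i are quasi-compact and quasi-separated, all f_i are of finite type,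
and for every arrow i' → i the induced morphism X_{i'} → X_i ×_{S_i} S_{i'} is a closed immersion.
Let X = lim X_i and S = lim S_i (limit cones) and f : X → S the induced morphism. Let d be a natural
number. Suppose each fibre of f is of dimension at most d; then there is an index i for which all
fibres of f_i are of dimension at most d. -/
theorem result {I : Type u} [SmallCategory I] [IsCofiltered I]
    (DX DS : I ⥤ Scheme.{u}) (φ : DX ⟶ DS) (cX : Limits.Cone DX) (cS : Limits.Cone DS)
    (hX : Limits.IsLimit cX) (hS : Limits.IsLimit cS)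
    [∀ (i j : I) (a : i ⟶ j), IsAffineHom (DS.map a)] [∀ i, CompactSpace (DS.obj i)]
    [∀ i, QuasiSeparatedSpace (DS.obj i)] [∀ i, LocallyOfFiniteType (φ.app i)] [∀ i, QuasiCompact (φ.app i)]
    (hcl : ∀ (i j : I) (a : i ⟶ j), IsClosedImmersion (pullback.lift (DX.map a) (φ.app i) (φ.naturality a)))
    (f : cX.pt ⟶ cS.pt) (hf : ∀ i, f ≫ cS.π.app i = cX.π.app i ≫ φ.app i) (d : ℕ)
    (hd : ∀ s : cS.pt, topologicalKrullDim ↥(f.fiber s) ≤ d) :
    ∃ i : I, ∀ s : DS.obj i, topologicalKrullDim ↥((φ.app i).fiber s) ≤ d := by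
  classical
  haveI hcl' : ∀ {k j : I} (a : k ⟶ j), IsClosedImmersion
      (pullback.lift (DX.map a) (φ.app k) (φ.naturality a) : DX.obj k ⟶ pullback (φ.app j) (DS.map a)) :=
    fun {k j} a => hcl k j a
  haveI hDS : ∀ {k j : I} (a : k ⟶ j), IsAffineHom (DS.map a) := fun a => inferInstance
  haveI hDX : ∀ {k j : I} (a : k ⟶ j), IsAffineHom (DX.map a) := fun {k j} a => by
    have e : DX.map a = pullback.lift (DX.map a) (φ.app k) (φ.naturality a) ≫ pullback.fst (φ.app j) (DS.map a) :=
      (pullback.lift_fst _ _ _).symm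
    haveI : IsAffineHom (pullback.fst (φ.app j) (DS.map a)) := MorphismProperty.pullback_fst _ _ inferInstance
    rw [e]; infer_instance
  haveI : ∀ i, CompactSpace (DX.obj i) := fun i => QuasiCompact.compactSpace_of_compactSpace (φ.app i)
  suffices h : ∃ i : I, ∀ x : DX.obj i, FlatMor.fibreDimAt (φ.app i) x ≤ d by
    obtain ⟨i, hi⟩ := h
    exact ⟨i, fun s => (Groth.Agent.FibDim.topologicalKrullDim_fiber_le_iff (φ.app i) s d).2 fun z _ =>
      (Groth.Agent.FibDim.fibreDimAt_le_iff (φ.app i) z d).1 (hi z) z specializes_rfl rfl⟩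
  by_contra! hbad
  have hmono : ∀ {k j : I} (a : k ⟶ j) (x : DX.obj k),
      FlatMor.fibreDimAt (φ.app k) x ≤ FlatMor.fibreDimAt (φ.app j) (DX.map a x) := by
    intro k j a x
    let v : DX.obj k ⟶ pullback (φ.app j) (DS.map a) := pullback.lift (DX.map a) (φ.app k) (φ.naturality a)
    haveI : IsClosedImmersion v := hcl k j a
    haveI : LocallyOfFiniteType (pullback.snd (φ.app j) (DS.map a)) := MorphismProperty.pullback_snd _ _ inferInstance
    have h := Groth.Agent.FibDim.fibreDimAt_comp_le v (pullback.snd (φ.app j) (DS.map a)) x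
    rw [Groth.Agent.AlgSpDec.fibreDimAt_eq_zero_of_lqf v x, zero_add,
      Groth.Agent.FibDim.fibreDimAt_baseChange (IsPullback.of_hasPullback (φ.app j) (DS.map a)) (v x)] at h
    rw [show v ≫ pullback.snd (φ.app j) (DS.map a) = φ.app k from pullback.lift_snd _ _ _] at h
    rwa [← show pullback.fst (φ.app j) (DS.map a) (v x) = DX.map a x from
      congr($(pullback.lift_fst (DX.map a) (φ.app k) (φ.naturality a)).base x)]
  let Z : ∀ i, Set (DX.obj i) := fun i => {x | FlatMor.fibreDimAt (φ.app i) x ≤ d}ᶜ
  have hZc : ∀ i, IsClosed (Z i) := fun i => (Groth.Agent.FibDim.isOpen_fibreDimAt_le (φ.app i) d).isClosed_compl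
  obtain ⟨x, hx⟩ := exists_mem_of_isClosed_of_nonempty DX cX hX Z hZc
    (fun i => (hbad i).imp fun y hy h => not_le.2 hy h) (fun i => (hZc i).isCompact)
    (fun {k j} a y hy h => hy ((hmono a y).trans h))
  let s := f x
  let w : Spec (cS.pt.residueField s) ⟶ cS.pt := cS.pt.fromSpecResidueField s
  let T := fibres φ cS w
  haveI : ∀ {k j : I} (a : k ⟶ j), IsClosedImmersion (T.map a) := fun a => isClosedImmersion_fibres φ cS w a
  have hT := isLimitFibreCone φ cS w cX f hf hX hS
  let i₁ : I := Classical.choice IsCofiltered.nonempty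
  haveI : ∀ i, LocallyOfFiniteType (pullback.snd (φ.app i) (w ≫ cS.π.app i)) :=
    fun i => MorphismProperty.pullback_snd _ _ inferInstance
  haveI : ∀ i, QuasiCompact (pullback.snd (φ.app i) (w ≫ cS.π.app i)) :=
    fun i => MorphismProperty.pullback_snd _ _ inferInstance
  haveI : IsNoetherian (pullback (φ.app i₁) (w ≫ cS.π.app i₁)) :=
    { toIsLocallyNoetherian := LocallyOfFiniteType.isLocallyNoetherian (pullback.snd (φ.app i₁) (w ≫ cS.π.app i₁))
      toCompactSpace := QuasiCompact.compactSpace_of_compactSpace (pullback.snd (φ.app i₁) (w ≫ cS.π.app i₁)) }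
  haveI : TopologicalSpace.NoetherianSpace ↥(T.obj i₁) :=
    inferInstanceAs (TopologicalSpace.NoetherianSpace ↥(pullback (φ.app i₁) (w ≫ cS.π.app i₁)))
  obtain ⟨C, ⟨⟨i, b⟩, rfl⟩, hmin⟩ := (wellFounded_lt (α := TopologicalSpace.Closeds ↥(T.obj i₁))).has_min
    (Set.range fun a : Σ k, k ⟶ i₁ =>
      (⟨Set.range (T.map a.2), (T.map a.2).isClosedEmbedding.isClosed_range⟩ : TopologicalSpace.Closeds ↥(T.obj i₁)))
    ⟨_, ⟨i₁, 𝟙 i₁⟩, rfl⟩
  have hsurj : ∀ (k : I) (a : k ⟶ i), Surjective (T.map a) := by
    intro k a
    refine ⟨fun t => ?_⟩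
    have hle : Set.range (T.map (a ≫ b)) ⊆ Set.range (T.map b) := by
      rintro _ ⟨y, rfl⟩
      exact ⟨T.map a y, by rw [T.map_comp, Scheme.Hom.comp_apply]⟩
    have hge : Set.range (T.map b) ⊆ Set.range (T.map (a ≫ b)) := by
      by_contra hne
      exact hmin ⟨Set.range (T.map (a ≫ b)), (T.map (a ≫ b)).isClosedEmbedding.isClosed_range⟩
        ⟨⟨k, a ≫ b⟩, rfl⟩ (lt_of_le_not_ge hle hne)
    obtain ⟨y, hy⟩ := hge ⟨t, rfl⟩
    exact ⟨y, (T.map b).isClosedEmbedding.injective (by rwa [T.map_comp, Scheme.Hom.comp_apply] at hy)⟩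
  let P := fibreCone φ cS w cX f hf
  let p : P.pt ⟶ T.obj i := P.π.app i
  have hpsurj : Surjective p := (Groth.Agent.MorLib.LimPts.surjective_π_iff hT).2 hsurj
  have hpinj : Function.Injective p := by
    intro a a' h
    refine Groth.Agent.MorLib.LimSpace.point_ext hT fun j => ?_
    have h1 : P.π.app (IsCofiltered.min i j) a = P.π.app (IsCofiltered.min i j) a' := by
      refine (T.map (IsCofiltered.minToLeft i j)).isClosedEmbedding.injective ?_
      rw [Groth.Agent.MorLib.LimTop.π_apply, Groth.Agent.MorLib.LimTop.π_apply]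
      exact h
    rw [← Groth.Agent.MorLib.LimTop.π_apply (IsCofiltered.minToRight i j) a, h1, Groth.Agent.MorLib.LimTop.π_apply]
  have hpopen : IsOpenMap p := by
    refine (Groth.Agent.MorLib.LimTop.isOpenMap_π_iff hT i fun k a => ?_).2 fun k a => ?_
    · refine (Groth.Agent.MorLib.LimPts.surjective_π_iff hT).2 fun l e => ⟨fun t => ?_⟩
      obtain ⟨y, hy⟩ := (hsurj l (e ≫ a)).surj (T.map a t)
      exact ⟨y, (T.map a).isClosedEmbedding.injective (by rwa [T.map_comp, Scheme.Hom.comp_apply] at hy)⟩
    · exact ((T.map a).isClosedEmbedding.isEmbedding.toHomeomorphOfSurjective (hsurj k a).surj).isOpenMap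
  let hp : ↥P.pt ≃ₜ ↥(T.obj i) :=
    (Equiv.ofBijective p ⟨hpinj, hpsurj.surj⟩).toHomeomorphOfContinuousOpen p.continuous hpopen
  have hdim : topologicalKrullDim ↥(T.obj i) ≤ d := by
    rw [← IsHomeomorph.topologicalKrullDim_eq _ hp.isHomeomorph]
    exact hd s
  obtain ⟨z, hz⟩ : ∃ z : ↥P.pt, pullback.fst f w z = x := by
    refine ⟨f.asFiber x, ?_⟩
    exact f.fiberι_asFiber x
  refine hx i ?_
  show FlatMor.fibreDimAt (φ.app i) (cX.π.app i x) ≤ d
  have e : pullback.fst (φ.app i) (w ≫ cS.π.app i) (p z) = cX.π.app i x := by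
    rw [← hz]
    exact congr($(pullback.lift_fst (pullback.fst f w ≫ cX.π.app i) (pullback.snd f w) _).base z)
  rw [← e, ← Groth.Agent.FibDim.fibreDimAt_baseChange (IsPullback.of_hasPullback (φ.app i) (w ≫ cS.π.app i)) (p z)]
  refine (Groth.Agent.FibDim.fibreDimAt_le_iff _ _ d).2 fun u _ _ => ?_
  refine (Groth.Agent.FibDim.topologicalKrullDim_fiber_le_iff _ _ d).1 ?_ u rfl
  exact ((pullback.snd (φ.app i) (w ≫ cS.π.app i)).fiberι _).isEmbedding.isInducing.topologicalKrullDim_le.trans hdim

end Groth.Agent.S9215
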