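import Groth.Statements.S9217
import Groth.Agent.MorLib.SpreadFP
import Groth.Agent.SpreadUniq.Basic
import Groth.Agent.NmpDescent.Spread
import Groth.Agent.SBAut.Yoneda
import Groth.Agent.EtRep9.TwoOpen
import Groth.Agent.QCoh.Stalk
import Groth.Agent.QCoh.Support
import Groth.Agent.AssLib.Basic

set_option autoImplicit false
set_option linter.style.haveILetI false
universe u
open CategoryTheory AlgebraicGeometry
open Lim

namespace Groth.Agent.S9217

open AlgebraicGeometry CategoryTheory in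
/-- In an affine open, an open containing every generization of `x` lying in a basic open contains a
basic neighbourhood of `x` intersected with it. -/
theorem exists_nhd_basic {X : Scheme.{u}} {W : X.Opens} (hW : IsAffineOpen W) {x : X} (hx : x ∈ W)
    (g : Γ(X, W)) (Ω : X.Opens) (h : ∀ z, z ⤳ x → z ∈ X.basicOpen g → z ∈ Ω) :
    ∃ s : Γ(X, W), x ∈ X.basicOpen s ∧ X.basicOpen s ⊓ X.basicOpen g ≤ Ω := by
  obtain ⟨J, hJ⟩ := (PrimeSpectrum.isClosed_iff_zeroLocus_ideal _).1 (hW.fromSpec ⁻¹ᵁ Ω).isOpen.isClosed_compl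
  have hmem : ∀ (z : X) (hz : z ∈ W), z ∈ Ω ↔ ¬ J ≤ (hW.primeIdealOf ⟨z, hz⟩).asIdeal := fun z hz => by
    have h1 : hW.primeIdealOf ⟨z, hz⟩ ∈
        ((hW.fromSpec ⁻¹ᵁ Ω : (Spec Γ(X, W)).Opens) : Set (Spec Γ(X, W))) ↔ z ∈ Ω := by
      show hW.fromSpec _ ∈ Ω ↔ _
      rw [hW.fromSpec_primeIdealOf]
    have e := Set.ext_iff.1 hJ (hW.primeIdealOf ⟨z, hz⟩)
    rw [← h1]
    exact ⟨fun hm hle => e.2 hle hm, fun hn => by_contra fun hm => hn (e.1 hm)⟩
  let p := (hW.primeIdealOf ⟨x, hx⟩).asIdeal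
  let R := Localization.AtPrime p
  have hrad : algebraMap Γ(X, W) R g ∈ (J.map (algebraMap Γ(X, W) R)).radical := by
    rw [Ideal.radical_eq_sInf, Submodule.mem_sInf]
    rintro P ⟨hJP, hP⟩
    by_contra hg
    haveI := hP
    obtain ⟨z, hz, hzP⟩ := QCoh.exists_point hW ⟨Ideal.comap (algebraMap Γ(X, W) R) P, inferInstance⟩
    have hzP' : (hW.primeIdealOf ⟨z, hz⟩).asIdeal = Ideal.comap (algebraMap Γ(X, W) R) P := by rw [hzP]
    have hle : (hW.primeIdealOf ⟨z, hz⟩).asIdeal ≤ p := by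
      rw [hzP']
      intro r hr
      by_contra hrp
      exact hP.ne_top (Ideal.eq_top_of_isUnit_mem _ hr (IsLocalization.map_units R (⟨r, hrp⟩ : p.primeCompl)))
    have hzΩ := h z ((AssLib.primeIdealOf_le_iff hW hx hz).1 hle) ((QCoh.mem_basicOpen_iff_notMem hW hz g).2 (by
      rw [hzP']; exact hg))
    exact (hmem z hz).1 hzΩ (by rw [hzP']; exact Ideal.map_le_iff_le_comap.1 hJP)
  obtain ⟨n, hn⟩ := hrad
  rw [← map_pow, IsLocalization.mem_map_algebraMap_iff p.primeCompl] at hn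
  obtain ⟨⟨j, t⟩, hjt⟩ := hn
  rw [← map_mul, IsLocalization.eq_iff_exists p.primeCompl] at hjt
  obtain ⟨c, hc⟩ := hjt
  refine ⟨c.1 * t.1, (QCoh.mem_basicOpen_iff_notMem hW hx _).2 (p.primeCompl.mul_mem c.2 t.2), ?_⟩
  rintro z ⟨hzs, hzg⟩
  have hz : z ∈ W := X.basicOpen_le _ hzs
  refine (hmem z hz).2 fun hJ' => ?_
  have hprime : (hW.primeIdealOf ⟨z, hz⟩).asIdeal.IsPrime := (hW.primeIdealOf ⟨z, hz⟩).isPrime
  have h1 : c.1 * (g ^ n * t.1) ∈ (hW.primeIdealOf ⟨z, hz⟩).asIdeal := by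
    rw [hc]; exact Ideal.mul_mem_left _ _ (hJ' j.2)
  rw [mul_left_comm] at h1
  rcases hprime.mem_or_mem h1 with h2 | h2
  · exact (QCoh.mem_basicOpen_iff_notMem hW hz g).1 hzg (hprime.mem_of_pow_mem n h2)
  · exact (QCoh.mem_basicOpen_iff_notMem hW hz _).1 hzs h2

open AlgebraicGeometry CategoryTheory in
/-- Let S be a scheme, X and Y schemes over S with Y locally of finite presentation over S, and x a
closed point of X such that the inclusion of U = X - {x} in X is quasi-compact; let V be the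
complement of the closed point in Spec O_{X,x}, i.e. the preimage of U under the canonical morphism
Spec O_{X,x} → X. Then restriction is a bijection from the S-morphisms X → Y to the pairs (a, b) of
S-morphisms a : U → Y, b : Spec O_{X,x} → Y which agree on V: two morphisms X → Y with the same
restrictions to U and to Spec O_{X,x} are equal, and every such compatible pair of S-morphisms is
the pair of restrictions of an S-morphism X → Y. -/
theorem result {X Y S : Scheme.{u}} (p : X ⟶ S) (q : Y ⟶ S) [LocallyOfFinitePresentation q]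
    (x : X) (U : X.Opens) (hU : (U : Set X) = {x}ᶜ) [QuasiCompact U.ι] :
    (∀ g₁ g₂ : X ⟶ Y, U.ι ≫ g₁ = U.ι ≫ g₂ → X.fromSpecStalk x ≫ g₁ = X.fromSpecStalk x ≫ g₂ → g₁ = g₂) ∧
    (∀ (a : (U : Scheme.{u}) ⟶ Y) (b : Spec (X.presheaf.stalk x) ⟶ Y), a ≫ q = U.ι ≫ p →
      b ≫ q = X.fromSpecStalk x ≫ p → ((X.fromSpecStalk x) ⁻¹ᵁ U).ι ≫ b = ((X.fromSpecStalk x) ∣_ U) ≫ a →
        ∃ g : X ⟶ Y, g ≫ q = p ∧ U.ι ≫ g = a ∧ X.fromSpecStalk x ≫ g = b) := by
  refine ⟨fun g₁ g₂ h₁ h₂ => SBAut.hom_ext_fromSpecStalk g₁ g₂ fun u => ?_, fun a b ha hb hab => ?_⟩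
  · by_cases hu : u ∈ U
    · rw [← Scheme.Opens.fromSpecStalkOfMem_ι U u hu, Category.assoc, Category.assoc, h₁]
    · have hu' : u = x := not_not.1 fun hne => hu (hU.ge hne)
      subst hu'
      exact h₂
  obtain ⟨W₀, hxW₀, f₀, hf₀, hf₀q⟩ := MorLib.SFP.spread_out p q b hb
  obtain ⟨W, hW, hxW, hWle'⟩ := exists_isAffineOpen_mem_and_subset (x := x) (U := W₀) hxW₀
  have hWle : W ≤ W₀ := hWle'
  let α : ((W ⊓ U : X.Opens) : Scheme.{u}) ⟶ Y := X.homOfLE (inf_le_left.trans hWle) ≫ f₀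
  let β : ((W ⊓ U : X.Opens) : Scheme.{u}) ⟶ Y := X.homOfLE inf_le_right ≫ a
  have hαq : α ≫ q = (W ⊓ U : X.Opens).ι ≫ p := by simp [α, hf₀q]
  have hβq : β ≫ q = (W ⊓ U : X.Opens).ι ≫ p := by simp [β, ha]
  have hgen : ∀ z : X, z ⤳ x → ∀ hz : z ∈ W ⊓ U,
      ∃ O : ((W ⊓ U : X.Opens) : Scheme.{u}).Opens, ⟨z, hz⟩ ∈ O ∧ O.ι ≫ α = O.ι ≫ β := by
    intro z hzx hz
    have hm : (W ⊓ U : X.Opens).fromSpecStalkOfMem z hz ≫ α = (W ⊓ U : X.Opens).fromSpecStalkOfMem z hz ≫ β := by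
      have hr : Set.range (Spec.map (X.presheaf.stalkSpecializes hzx)) ⊆
          Set.range ((X.fromSpecStalk x) ⁻¹ᵁ U).ι := by
        rintro _ ⟨P, rfl⟩
        rw [Scheme.Opens.range_ι]
        show X.fromSpecStalk x _ ∈ U
        rw [← Scheme.Hom.comp_apply, Scheme.SpecMap_stalkSpecializes_fromSpecStalk,
          ← Scheme.Opens.fromSpecStalkOfMem_ι U z hz.2]
        exact (U.fromSpecStalkOfMem z hz.2 P).2
      let t := IsOpenImmersion.lift ((X.fromSpecStalk x) ⁻¹ᵁ U).ι (Spec.map (X.presheaf.stalkSpecializes hzx)) hr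
      have ht : t ≫ ((X.fromSpecStalk x) ⁻¹ᵁ U).ι = Spec.map (X.presheaf.stalkSpecializes hzx) :=
        IsOpenImmersion.lift_fac _ _ _
      have h1 : (W ⊓ U : X.Opens).fromSpecStalkOfMem z hz ≫ X.homOfLE (inf_le_left.trans hWle) =
          Spec.map (X.presheaf.stalkSpecializes hzx) ≫ W₀.fromSpecStalkOfMem x hxW₀ := by
        rw [← cancel_mono W₀.ι]
        simp [Scheme.SpecMap_stalkSpecializes_fromSpecStalk]
      have h2 : (W ⊓ U : X.Opens).fromSpecStalkOfMem z hz ≫ X.homOfLE inf_le_right =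
          t ≫ ((X.fromSpecStalk x) ∣_ U) := by
        rw [← cancel_mono U.ι, Category.assoc, Category.assoc, morphismRestrict_ι, reassoc_of% ht]
        simp [Scheme.SpecMap_stalkSpecializes_fromSpecStalk]
      simp only [α, β]
      rw [reassoc_of% h1, ← hf₀, reassoc_of% h2, ← hab, reassoc_of% ht]
    refine SpreadUniq.spread_out_unique q α β (hαq.trans hβq.symm) ?_
    have hiso : Spec.map (inv ((W ⊓ U : X.Opens).ι.stalkMap ⟨z, hz⟩)) ≫
        ((W ⊓ U : X.Opens) : Scheme.{u}).fromSpecStalk ⟨z, hz⟩ = (W ⊓ U : X.Opens).fromSpecStalkOfMem z hz := rfl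
    rw [← cancel_epi (Spec.map (inv ((W ⊓ U : X.Opens).ι.stalkMap ⟨z, hz⟩))), reassoc_of% hiso, reassoc_of% hiso]
    exact hm
  let Ω₀ : ((W ⊓ U : X.Opens) : Scheme.{u}).Opens :=
    ⨆ O : {O : ((W ⊓ U : X.Opens) : Scheme.{u}).Opens // O.ι ≫ α = O.ι ≫ β}, O.1
  let Ω : X.Opens := (W ⊓ U : X.Opens).ι ''ᵁ Ω₀
  haveI : CompactSpace ↥(W : Scheme.{u}) := isCompact_iff_compactSpace.mp hW.isCompact
  have hc : IsCompact ((W ⊓ U : X.Opens) : Set X) := by
    have h := (QuasiCompact.isCompact_preimage (f := U.ι) (W : Set X) W.2 hW.isCompact).image U.ι.continuous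
    rw [Set.image_preimage_eq_inter_range, Scheme.Opens.range_ι] at h
    exact h
  have hloc : ∀ y : ((W ⊓ U : X.Opens) : Set X), ∃ g : Γ(X, W), y.1 ∈ X.basicOpen g ∧ X.basicOpen g ≤ U := fun y => by
    obtain ⟨g, hg, hyg⟩ := hW.exists_basicOpen_le (V := U) ⟨y.1, y.2.2⟩ y.2.1
    exact ⟨g, hyg, hg⟩
  choose g hyg hgU using hloc
  obtain ⟨T, hT⟩ := hc.elim_finite_subcover (fun y => (X.basicOpen (g y) : Set X)) (fun y => (X.basicOpen (g y)).2)
    (fun y hy => Set.mem_iUnion.2 ⟨⟨y, hy⟩, hyg ⟨y, hy⟩⟩)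
  choose s hxs hs using fun y => exists_nhd_basic hW hxW (g y) Ω fun z hzx hzg => by
    have hz : z ∈ W ⊓ U := ⟨X.basicOpen_le _ hzg, hgU y hzg⟩
    obtain ⟨O, hzO, hO⟩ := hgen z hzx hz
    exact ⟨⟨z, hz⟩, TopologicalSpace.Opens.mem_iSup.2 ⟨⟨O, hO⟩, hzO⟩, rfl⟩
  let V : X.Opens := X.basicOpen (∏ y ∈ T, s y)
  have hxV : x ∈ V := by
    refine (QCoh.mem_basicOpen_iff_notMem hW hxW _).2 fun hmem => ?_
    obtain ⟨y, -, hy⟩ := (hW.primeIdealOf ⟨x, hxW⟩).isPrime.prod_mem_iff.1 hmem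
    exact (QCoh.mem_basicOpen_iff_notMem hW hxW _).1 (hxs y) hy
  have hVW : V ≤ W := X.basicOpen_le _
  have hVU : ∀ z ∈ V, z ∈ U → z ∈ Ω := fun z hzV hzU => by
    obtain ⟨y, hyT, hy⟩ := Set.mem_iUnion₂.1 (hT (show z ∈ ((W ⊓ U : X.Opens) : Set X) from ⟨hVW hzV, hzU⟩))
    refine hs y ⟨(QCoh.mem_basicOpen_iff_notMem hW (hVW hzV) _).2 fun hmem => ?_, hy⟩
    exact (QCoh.mem_basicOpen_iff_notMem hW (hVW hzV) _).1 hzV (Ideal.prod_mem _ hyT hmem)
  let fV : (V : Scheme.{u}) ⟶ Y := X.homOfLE (hVW.trans hWle) ≫ f₀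
  obtain ⟨G, hGU, hGV⟩ := EtRep9.exists_glue_two (a := U.ι) (b := V.ι) (fun y => by
      by_cases hy : y ∈ U
      · exact Or.inl ⟨⟨y, hy⟩, rfl⟩
      · have hy' : y = x := not_not.1 fun hne => hy (hU.ge hne)
        exact Or.inr ⟨⟨y, hy' ▸ hxV⟩, rfl⟩) a fV fun T p₁ p₂ hp => by
    have hr : Set.range (p₂ ≫ V.ι) ⊆ Set.range (W ⊓ U : X.Opens).ι := by
      rintro _ ⟨τ, rfl⟩
      rw [Scheme.Opens.range_ι]
      refine ⟨hVW (p₂ τ).2, ?_⟩
      show (p₂ ≫ V.ι) τ ∈ U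
      rw [← hp]
      exact (p₁ τ).2
    let l := IsOpenImmersion.lift (W ⊓ U : X.Opens).ι (p₂ ≫ V.ι) hr
    have hl : l ≫ (W ⊓ U : X.Opens).ι = p₂ ≫ V.ι := IsOpenImmersion.lift_fac _ _ _
    have h1 : l ≫ X.homOfLE inf_le_right = p₁ := by rw [← cancel_mono U.ι]; simp [hl, hp]
    have h2 : l ≫ X.homOfLE (inf_le_left.trans hWle) = p₂ ≫ X.homOfLE (hVW.trans hWle) := by
      rw [← cancel_mono W₀.ι]; simp [hl]
    have hlab : l ≫ α = l ≫ β := by
      refine NmpDescent.hom_ext_local _ _ fun τ => ?_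
      have hmem : l τ ∈ Ω₀ := by
        obtain ⟨w, hw, hwz⟩ := hVU (p₂ τ).1 (p₂ τ).2 (by
          show (p₂ ≫ V.ι) τ ∈ U
          rw [← hp]
          exact (p₁ τ).2)
        have : w = l τ := (W ⊓ U : X.Opens).ι.isOpenEmbedding.injective (by
          rw [← Scheme.Hom.comp_apply, hl]; exact hwz)
        exact this ▸ hw
      obtain ⟨O, hO⟩ := TopologicalSpace.Opens.mem_iSup.1 hmem
      refine ⟨l ⁻¹ᵁ O.1, hO, ?_⟩
      rw [← morphismRestrict_ι_assoc, ← morphismRestrict_ι_assoc, O.2]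
    simp only [α, β, reassoc_of% h1, reassoc_of% h2] at hlab
    exact hlab.symm
  refine ⟨G, ?_, hGU, ?_⟩
  · refine NmpDescent.hom_ext_local _ _ fun y => ?_
    by_cases hy : y ∈ U
    · exact ⟨U, hy, by rw [reassoc_of% hGU, ha]⟩
    · have hy' : y = x := not_not.1 fun hne => hy (hU.ge hne)
      refine ⟨V, hy' ▸ hxV, ?_⟩
      rw [reassoc_of% hGV]
      simp [fV, hf₀q]
  · rw [← Scheme.Opens.fromSpecStalkOfMem_ι V x hxV, Category.assoc, hGV, hf₀]
    simp only [fV, ← Category.assoc]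
    congr 1
    rw [← cancel_mono W₀.ι]
    simp

end Groth.Agent.S9217
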