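import Groth.Statements.S9227
import Groth.Agent.RegDeriv.Basic

set_option autoImplicit false
universe u
open CAlg

namespace Groth.Agent.S9227

/-- Let R be a regular ring, f an element of R and D a derivation of R with D(f) a unit of R. Then for
every polynomial p with integer coefficients the ring R[z]/(p(z) - f) is regular; in particular
R[z]/(z^n - f) is regular for every n ≥ 1. -/
theorem result (R : Type u) [CommRing R]
    [IsRegularRing R] (f : R) (D : Derivation ℤ R R) (hD : IsUnit (D f)) (p : Polynomial ℤ) :
    IsRegularRing (Polynomial R ⧸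
      Ideal.span ({Polynomial.map (Int.castRingHom R) p - Polynomial.C f} : Set (Polynomial R))) := by
  let D' : Derivation ℤ (Polynomial R) (Polynomial R) :=
    ((PolynomialModule.equivPolynomialSelf (R := R)).toLinearMap.compDer D.mapCoeffs)
  have hD' : ∀ (q : Polynomial R) (i : ℕ), (D' q).coeff i = D (q.coeff i) := fun q i => rfl
  refine RegDeriv.isRegularRing_quot_of_derivation _ D' fun q hq _ hmem => ?_
  have hval : D' (Polynomial.map (Int.castRingHom R) p - Polynomial.C f) = - Polynomial.C (D f) := by
    refine Polynomial.ext fun i => ?_
    rw [hD', Polynomial.coeff_sub, Polynomial.coeff_map, map_sub, Polynomial.coeff_neg,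
      Polynomial.coeff_C, Polynomial.coeff_C, eq_intCast, Derivation.map_intCast, zero_sub]
    split <;> simp
  replace hmem := neg_mem_iff.1 (Eq.mp (congrArg (· ∈ q) hval) hmem)
  exact hq.ne_top (Ideal.eq_top_of_isUnit_mem _ hmem (Polynomial.isUnit_C.2 hD))

end Groth.Agent.S9227
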