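import Groth.Statements.S9232
import Groth.Agent.S9231
import Mathlib

set_option autoImplicit false
universe u
open CAlg

namespace Groth.Agent.S9232

/-- Suppose A → B is a flat local ring map between Noetherian local rings, the maximal ideal of A
generates that of B, and the residue field map is bijective. Then the induced map between the
completions of A and B (a ring map of the completions compatible with A → B; it is unique since A is
Noetherian) is an isomorphism. -/
theorem result (A B : Type u) [CommRing A]
    [CommRing B] [IsLocalRing A] [IsLocalRing B] [IsNoetherianRing A] [IsNoetherianRing B]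
    [Algebra A B] [IsLocalHom (algebraMap A B)] [Module.Flat A B]
    (hm : Ideal.map (algebraMap A B) (IsLocalRing.maximalIdeal A) = IsLocalRing.maximalIdeal B)
    (hk : Function.Bijective (IsLocalRing.ResidueField.map (algebraMap A B)))
    (ψ : AdicCompletion (IsLocalRing.maximalIdeal A) A →+* AdicCompletion (IsLocalRing.maximalIdeal B) B)
    (hψ : ψ.comp (algebraMap A (AdicCompletion (IsLocalRing.maximalIdeal A) A)) =
      (algebraMap B (AdicCompletion (IsLocalRing.maximalIdeal B) B)).comp (algebraMap A B)) :
    Function.Bijective ψ := by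
  haveI := LC.Canon.isNoetherianRing_completion (R := A)
  haveI := LC.Canon.isNoetherianRing_completion (R := B)
  let m := IsLocalRing.maximalIdeal A
  let n := IsLocalRing.maximalIdeal B
  let Ah := AdicCompletion m A
  let Bh := AdicCompletion n B
  have hflat : ψ.Flat := (S9231.result A B ψ hψ).2 (RingHom.flat_algebraMap_iff.mpr inferInstance)
  have hmA : IsLocalRing.maximalIdeal Ah = m.map (algebraMap A Ah) := AdicCompletion.maximalIdeal_eq_map
  have hmB : IsLocalRing.maximalIdeal Bh = n.map (algebraMap B Bh) := AdicCompletion.maximalIdeal_eq_map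
  have hmap : (IsLocalRing.maximalIdeal Ah).map ψ = IsLocalRing.maximalIdeal Bh := by
    rw [hmA, hmB, Ideal.map_map, hψ, ← Ideal.map_map, hm]
  haveI : IsLocalHom ψ := ((IsLocalRing.local_hom_TFAE ψ).out 0 2).mpr hmap.le
  letI : Algebra Ah Bh := ψ.toAlgebra
  haveI : Module.Flat Ah Bh := hflat
  haveI : Module.FaithfullyFlat Ah Bh :=
    haveI : IsLocalHom (algebraMap Ah Bh) := ‹IsLocalHom ψ›
    Module.FaithfullyFlat.of_flat_of_isLocalHom
  refine ⟨FaithfulSMul.algebraMap_injective Ah Bh, ?_⟩
  haveI : IsAdicComplete (m.map (algebraMap A Ah)) Ah :=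
    AdicCompletion.isAdicComplete_self m m.fg_of_isNoetherianRing
  haveI : IsAdicComplete (n.map (algebraMap B Bh)) Bh :=
    AdicCompletion.isAdicComplete_self n n.fg_of_isNoetherianRing
  haveI : IsHausdorff ((m.map (algebraMap A Ah)).map ψ) Bh := by
    rw [← hmA, hmap, hmB]; infer_instance
  refine surjective_of_mk_map_comp_surjective ψ (I := m.map (algebraMap A Ah)) fun z => ?_
  obtain ⟨x, rfl⟩ := Ideal.Quotient.mk_surjective z
  obtain ⟨b, hb⟩ := Ideal.Quotient.mk_surjective (AdicCompletion.evalOneₐ n x)
  obtain ⟨r, hr⟩ := hk.2 (IsLocalRing.residue B b)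
  obtain ⟨a, rfl⟩ := Ideal.Quotient.mk_surjective r
  refine ⟨algebraMap A Ah a, ?_⟩
  show Ideal.Quotient.mk _ (ψ (algebraMap A Ah a)) = Ideal.Quotient.mk _ x
  rw [show ψ (algebraMap A Ah a) = algebraMap B Bh (algebraMap A B a) from RingHom.congr_fun hψ a,
    Ideal.Quotient.eq, ← hmA, hmap, hmB, ← AdicCompletion.ker_evalOneₐ_eq_map n n.fg_of_isNoetherianRing,
    RingHom.mem_ker, map_sub, sub_eq_zero]
  show AdicCompletion.evalOneₐ n (algebraMap B Bh (algebraMap A B a)) = AdicCompletion.evalOneₐ n x
  rw [AlgHom.commutes, ← hb]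
  exact hr

end Groth.Agent.S9232
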