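import Groth.Statements.S9279
import Groth.Agent.BrnchLib.PuncturedTop
import Groth.Agent.BrnchLib.Compl
import Groth.Agent.FormalFib6.Cplt

set_option autoImplicit false
universe u
open Brnch

namespace Groth.Agent.S9279

open IsLocalRing

theorem completion_data (A S : Type u) [CommRing A] [IsLocalRing A] [IsNoetherianRing A] [CommRing S]
    [IsLocalRing S] [Algebra A S] [IsLocalHom (algebraMap A S)] [Hensel.IsHenselization A S]
    (ψ : S →+* AdicCompletion (maximalIdeal A) A)
    (hψ : ψ.comp (algebraMap A S) = algebraMap A (AdicCompletion (maximalIdeal A) A)) :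
    (maximalIdeal S).map ψ = maximalIdeal (AdicCompletion (maximalIdeal A) A) ∧
      ∀ t, ∃ s, t - ψ s ∈ maximalIdeal (AdicCompletion (maximalIdeal A) A) := by
  refine ⟨?_, fun t => ?_⟩
  · rw [← Groth.Agent.Hensel.map_maximalIdeal_of_isHenselization A S, Ideal.map_map, hψ,
      AdicCompletion.maximalIdeal_eq_map]
  · obtain ⟨x, hx⟩ := (AdicCompletion.residueField_map_bijective A).2 (residue _ t)
    obtain ⟨a, rfl⟩ := residue_surjective x
    refine ⟨algebraMap A S a, Ideal.Quotient.eq.1 ?_⟩
    change residue _ t = residue _ ((ψ.comp (algebraMap A S)) a)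
    rw [hψ, ← hx, ResidueField.map_residue]

/-- For a Noetherian local ring A with henselization S and completion A^ at its maximal ideal, the
spectrum of A^ with its closed point removed is preconnected exactly when the spectrum of S with its
closed point removed is (the two sets are empty together, namely when A has dimension zero). Stated
as: the complement of the closed point in Spec A^ is preconnected iff the complement of the closed
point in Spec S is. -/
theorem result (A S : Type u) [CommRing A]
    [IsLocalRing A] [IsNoetherianRing A] [CommRing S] [IsLocalRing S] [Algebra A S]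
    [IsLocalHom (algebraMap A S)] [Hensel.IsHenselization A S] :
    IsPreconnected
        ({IsLocalRing.closedPoint (AdicCompletion (IsLocalRing.maximalIdeal A) A)}ᶜ :
          Set (PrimeSpectrum (AdicCompletion (IsLocalRing.maximalIdeal A) A))) ↔
      IsPreconnected ({IsLocalRing.closedPoint S}ᶜ : Set (PrimeSpectrum S)) := by
  haveI : IsNoetherianRing (AdicCompletion (maximalIdeal A) A) :=
    Groth.Agent.FormalFib6.isNoetherianRing_adicCompletion A _
  haveI : IsNoetherianRing S := (Groth.Agent.Hensel.isHenzLike_of_isHenselization A S).isNoetherianRing_iff.1 inferInstance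
  haveI hS : HenselianLocalRing S := _root_.Hensel.IsHenselization.henselian (R := A)
  haveI hT := Groth.Agent.BrnchLib.henselianLocalRing_completion A
  obtain ⟨ψ, hψ, -⟩ := _root_.Hensel.IsHenselization.universal (R := A) (S := S) (AdicCompletion (maximalIdeal A) A) (algebraMap A _) inferInstance
  obtain ⟨hm, hres⟩ := completion_data A S ψ hψ
  letI := ψ.toAlgebra
  exact Groth.Agent.BrnchLib.isPreconnected_punctured_iff_of_ext S _
    (Groth.Agent.BrnchLib.faithfullyFlat_psi A S ψ hψ) hm hres

end Groth.Agent.S9279
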