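import Groth.Statements.S9242
import Groth.Agent.S9279
import Groth.Agent.BrnchLib.ComplMin
import Mathlib.RingTheory.KrullDimension.Basic

set_option autoImplicit false
universe u
open Brnch

namespace Groth.Agent.S9242

open IsLocalRing Groth.Agent

theorem radical_map_comap_eq {S T : Type u} [CommRing S] [HenselianLocalRing S] [IsNoetherianRing S]
    [CommRing T] [IsLocalRing T] [IsNoetherianRing T] [Algebra S T] (hff : Module.FaithfullyFlat S T)
    (hm : (maximalIdeal S).map (algebraMap S T) = maximalIdeal T)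
    (hres : ∀ t : T, ∃ s : S, t - algebraMap S T s ∈ maximalIdeal T)
    {q : Ideal T} (hq : q ∈ minimalPrimes T) (hdim : ringKrullDim (T ⧸ q) = 1) :
    ((q.comap (algebraMap S T)).map (algebraMap S T)).radical = q := by
  classical
  haveI := hff
  haveI := hq.1.1
  set f := algebraMap S T
  set q' := q.comap f
  set K := q'.map f
  have hKq : K ≤ q := Ideal.map_comap_le
  have hqm : ¬ maximalIdeal T ≤ q := fun hle => by
    have e : q = maximalIdeal T := le_antisymm (le_maximalIdeal hq.1.1.ne_top) hle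
    subst e
    letI := Ideal.Quotient.field (maximalIdeal T)
    rw [ringKrullDim_eq_zero_of_field] at hdim
    exact zero_ne_one hdim
  refine le_antisymm (hq.1.1.radical_le_iff.2 hKq) ?_
  by_contra hne
  have hfin := Ideal.finite_minimalPrimes_of_isNoetherianRing T K
  set J : Ideal T := (hfin.toFinset.erase q).inf id with hJ
  have hq'top : q' ≠ ⊤ := (Ideal.IsPrime.comap f).ne_top
  haveI : Nontrivial (T ⧸ K) := Ideal.Quotient.nontrivial_iff.2 fun e => hq.1.1.ne_top (top_le_iff.1 (e ▸ hKq))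
  haveI : Nontrivial (S ⧸ q') := Ideal.Quotient.nontrivial_iff.2 hq'top
  haveI hH : HenselianLocalRing (S ⧸ q') := IsoNatLib.henselianLocalRing_quotient q' hq'top
  haveI : IsLocalRing (T ⧸ K) := IsLocalRing.of_surjective' _ Ideal.Quotient.mk_surjective
  letI : Algebra (S ⧸ q') (T ⧸ K) := (Ideal.quotientMap K f Ideal.le_comap_map).toAlgebra
  haveI : Module.Flat (S ⧸ q') (T ⧸ K) :=
    RingHom.flat_algebraMap_iff.1 (Synt29.FlatFS.flat_quotientMap q')
  have hmS : maximalIdeal (S ⧸ q') = (maximalIdeal S).map (Ideal.Quotient.mk q') :=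
    (map_maximalIdeal_of_surjective _ Ideal.Quotient.mk_surjective).symm
  have hmT : maximalIdeal (T ⧸ K) = (maximalIdeal T).map (Ideal.Quotient.mk K) :=
    (map_maximalIdeal_of_surjective _ Ideal.Quotient.mk_surjective).symm
  have hcomp : (algebraMap (S ⧸ q') (T ⧸ K)).comp (Ideal.Quotient.mk q') =
      (Ideal.Quotient.mk K).comp f := RingHom.ext fun x => rfl
  have hm' : (maximalIdeal (S ⧸ q')).map (algebraMap (S ⧸ q') (T ⧸ K)) = maximalIdeal (T ⧸ K) := by
    rw [hmS, hmT, Ideal.map_map, hcomp, ← Ideal.map_map, hm]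
  haveI : IsLocalHom (algebraMap (S ⧸ q') (T ⧸ K)) := ⟨fun x hx => by
    by_contra hn
    exact (Ideal.map_le_iff_le_comap.1 hm'.le hn) hx⟩
  have hff' : Module.FaithfullyFlat (S ⧸ q') (T ⧸ K) := Module.FaithfullyFlat.of_flat_of_isLocalHom
  have hres' : ∀ t : T ⧸ K, ∃ s, t - algebraMap (S ⧸ q') (T ⧸ K) s ∈ maximalIdeal (T ⧸ K) := by
    intro t
    obtain ⟨t, rfl⟩ := Ideal.Quotient.mk_surjective t
    obtain ⟨s, hs⟩ := hres t
    refine ⟨Ideal.Quotient.mk q' s, ?_⟩
    rw [hmT, show algebraMap (S ⧸ q') (T ⧸ K) (Ideal.Quotient.mk q' s) = Ideal.Quotient.mk K (f s) from rfl, ← map_sub]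
    exact Ideal.mem_map_of_mem _ hs
  haveI : IsDomain (S ⧸ q') := by
    haveI : q'.IsPrime := Ideal.IsPrime.comap f
    infer_instance
  -- the two closed pieces
  set π := Ideal.Quotient.mk K with hπ
  have hcm : ∀ P : Ideal T, K ≤ P → (P.map π).comap π = P := fun P hP => by
    rw [Ideal.comap_map_of_surjective _ Ideal.Quotient.mk_surjective, sup_eq_left,
      ← RingHom.ker_eq_comap_bot, Ideal.mk_ker]
    exact hP
  have hKJ : K ≤ J := Finset.le_inf fun P hP => (hfin.mem_toFinset.1 (Finset.mem_of_mem_erase hP)).1.2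
  have hqK : q ∈ K.minimalPrimes := ⟨⟨hq.1.1, hKq⟩, fun P hP hle => hq.2 ⟨hP.1, bot_le⟩ hle⟩
  have hprimes : ∀ P : Ideal T, P.IsPrime → q ≤ P → P = q ∨ maximalIdeal T ≤ P := by
    intro P hP hqP
    haveI : Ring.KrullDimLE 1 (T ⧸ q) := Ring.krullDimLE_iff.2 (by rw [hdim]; simp)
    haveI := hP
    have hcm' : (P.map (Ideal.Quotient.mk q)).comap (Ideal.Quotient.mk q) = P := by
      rw [Ideal.comap_map_of_surjective _ Ideal.Quotient.mk_surjective, sup_eq_left,
        ← RingHom.ker_eq_comap_bot, Ideal.mk_ker]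
      exact hqP
    haveI hPq : (P.map (Ideal.Quotient.mk q)).IsPrime :=
      Ideal.map_isPrime_of_surjective Ideal.Quotient.mk_surjective (by rw [Ideal.mk_ker]; exact hqP)
    rcases Ring.krullDimLE_one_iff.1 ‹Ring.KrullDimLE 1 (T ⧸ q)› _ hPq with h | h
    · left
      refine le_antisymm ?_ hqP
      have : P.map (Ideal.Quotient.mk q) ≤ ⊥ := h.2 ⟨Ideal.isPrime_bot, bot_le⟩ bot_le
      rw [← hcm', eq_bot_iff.2 this, ← RingHom.ker_eq_comap_bot, Ideal.mk_ker]
    · right
      haveI := h
      have : P.IsMaximal := hcm' ▸ Ideal.comap_isMaximal_of_surjective _ Ideal.Quotient.mk_surjective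
      rw [eq_maximalIdeal this]
  obtain ⟨P₁, hP₁, hP₁q⟩ : ∃ P₁ ∈ K.minimalPrimes, P₁ ≠ q := by
    by_contra! hc
    refine hne ?_
    rw [← Ideal.sInf_minimalPrimes]
    exact le_sInf fun P hP => (hc P hP).symm.le
  have hd : BrnchLib.IsDecomp (q.map π) (J.map π) := by
    refine ⟨?_, ?_, ?_, ?_⟩
    · rw [← Ideal.map_mul, Ideal.map_le_iff_le_comap]
      intro x hx
      have hxr : x ∈ K.radical := by
        rw [← Ideal.sInf_minimalPrimes, Ideal.mem_sInf]
        intro P hP
        rcases eq_or_ne P q with rfl | hPne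
        · exact Ideal.mul_le_left hx
        · exact Finset.inf_le (f := id) (Finset.mem_erase.2 ⟨hPne, hfin.mem_toFinset.2 hP⟩)
            (Ideal.mul_le_right hx)
      obtain ⟨n, hn⟩ := hxr
      exact mem_nilradical.2 ⟨n, by rw [← map_pow, Ideal.Quotient.eq_zero_iff_mem.2 hn]⟩
    · rw [hmT, Ideal.map_le_iff_le_comap, ← Ideal.map_sup, Ideal.comap_radical,
        hcm _ (hKq.trans le_sup_left), Ideal.radical_eq_sInf]
      refine le_sInf ?_
      rintro P ⟨hP, hPp⟩
      rcases hprimes P hPp (le_sup_left.trans hP) with rfl | h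
      · exfalso
        obtain ⟨P', hP', hle⟩ := hPp.inf_le'.1 (le_sup_right.trans hP)
        obtain ⟨hne', hmem⟩ := Finset.mem_erase.1 hP'
        rw [hfin.mem_toFinset] at hmem
        exact hne' (le_antisymm hle (hqK.2 hmem.1 hle))
      · exact h
    · rw [hmT, Ideal.map_le_iff_le_comap, Ideal.comap_radical, hcm q hKq, hq.1.1.radical]
      exact hqm
    · rw [hmT, Ideal.map_le_iff_le_comap, Ideal.comap_radical, hcm J hKJ]
      intro hle
      have hJP : J ≤ P₁ := Finset.inf_le (f := id) (Finset.mem_erase.2 ⟨hP₁q, hfin.mem_toFinset.2 hP₁⟩)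
      have hP1m : maximalIdeal T ≤ P₁ := hle.trans (hP₁.1.1.radical_le_iff.2 hJP)
      exact hqm (hP1m.trans (hP₁.2 hqK.1 ((le_maximalIdeal hq.1.1.ne_top).trans hP1m)))
  obtain ⟨I₀, J₀, h0, h1, h2, h3⟩ := BrnchLib.exists_decomp (S ⧸ q') (T ⧸ K) hff' hm' hres' _ _ hd
  rw [nilradical_eq_zero, Ideal.zero_eq_bot, le_bot_iff, Ideal.mul_eq_bot] at h0
  rcases h0 with e | e
  · rw [e, bot_sup_eq] at h1; exact h3 h1
  · rw [e, sup_bot_eq] at h1; exact h2 h1

/-- Let A be a Noetherian local ring with henselization S and completion A^, let ψ : S → A^ be the ring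
map compatible with the structure maps from A, and let q be a minimal prime of A^ with dim(A^/q) =
1. Then q is the radical of the extension along ψ of some minimal prime of S. -/
theorem result (A S : Type u) [CommRing A]
    [IsLocalRing A] [IsNoetherianRing A] [CommRing S] [IsLocalRing S] [Algebra A S]
    [IsLocalHom (algebraMap A S)] [Hensel.IsHenselization A S]
    (ψ : S →+* AdicCompletion (IsLocalRing.maximalIdeal A) A)
    (hψ : ψ.comp (algebraMap A S) = algebraMap A (AdicCompletion (IsLocalRing.maximalIdeal A) A))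
    (q : Ideal (AdicCompletion (IsLocalRing.maximalIdeal A) A))
    (hq : q ∈ minimalPrimes (AdicCompletion (IsLocalRing.maximalIdeal A) A))
    (hdim : ringKrullDim (AdicCompletion (IsLocalRing.maximalIdeal A) A ⧸ q) = 1) :
    ∃ q' ∈ minimalPrimes S, (Ideal.map ψ q').radical = q := by
  haveI : IsNoetherianRing (AdicCompletion (maximalIdeal A) A) :=
    Groth.Agent.FormalFib6.isNoetherianRing_adicCompletion A _
  haveI : IsNoetherianRing S := (Groth.Agent.Hensel.isHenzLike_of_isHenselization A S).isNoetherianRing_iff.1 inferInstance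
  haveI hS : HenselianLocalRing S := _root_.Hensel.IsHenselization.henselian (R := A)
  obtain ⟨hm, hres⟩ := Groth.Agent.S9279.completion_data A S ψ hψ
  have hff := Groth.Agent.BrnchLib.faithfullyFlat_psi A S ψ hψ
  refine ⟨q.comap ψ, Groth.Agent.BrnchLib.comap_mem_minimalPrimes ψ hff hq, ?_⟩
  letI := ψ.toAlgebra
  exact radical_map_comap_eq hff hm hres hq hdim

end Groth.Agent.S9242
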