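import Groth.Statements.S9244
import Groth.Agent.BrnchLib.GNFF
import Groth.Agent.BrnchLib.SHIntegral
import Groth.Agent.BrnchLib.SHBaseChange
import Groth.Agent.BrnchLib.MinBij
import Groth.Agent.BrnchLib.HenzStrict
import Groth.Agent.S9239
import Groth.Agent.S9279
import Groth.Agent.S0506
import Groth.Agent.FormalFib6.Cplt

set_option autoImplicit false
universe u
open Brnch

namespace Groth.Agent.S9244

open IsLocalRing TensorProduct Groth.Agent

theorem card_eq_of_domain_fibre {S T S' : Type u} [CommRing S] [CommRing T] [CommRing S'] [Algebra S T]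
    [Algebra S S'] [Module.FaithfullyFlat S T] (hdom : ∀ (Q : Ideal S') [Q.IsPrime], IsDomain (T ⊗[S] Q.ResidueField)) :
    ENat.card (minimalPrimes (T ⊗[S] S')) = ENat.card (minimalPrimes S') := by
  let iR : S' →+* T ⊗[S] S' := (Algebra.TensorProduct.includeRight : S' →ₐ[S] T ⊗[S] S').toRingHom
  have hff : letI := iR.toAlgebra; Module.FaithfullyFlat S' (T ⊗[S] S') := by
    letI := iR.toAlgebra
    exact Module.FaithfullyFlat.of_linearEquiv S' (S' ⊗[S] T)
      (LinearEquiv.symm
        { (Algebra.TensorProduct.comm S S' T).toAddEquiv with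
          map_smul' := fun b z => by
            change Algebra.TensorProduct.comm S S' T (b • z) = iR b * Algebra.TensorProduct.comm S S' T z
            induction z using TensorProduct.induction_on with
            | zero => simp
            | tmul u v => simp [iR, TensorProduct.smul_tmul']
            | add u v hu hv => simp only [smul_add, map_add, mul_add, hu, hv] })
  refine ENat.card_congr (Equiv.ofBijective
    (fun P => ⟨P.1.comap iR, BrnchLib.comap_mem_minimalPrimes iR hff P.2⟩) ⟨?_, ?_⟩)
  · intro P₁ P₂ h
    haveI := P₁.2.1.1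
    haveI : (P₁.1.comap iR).IsPrime := Ideal.IsPrime.comap iR
    exact Subtype.ext (BrnchLib.eq_of_minimal_of_isDomain_fibre (P₁.1.comap iR) (hdom _) P₁.2 P₂.2 rfl
      (congrArg Subtype.val h).symm)
  · intro q
    obtain ⟨P, hP, hPq⟩ := BrnchLib.surjOn_minimalPrimes iR hff q.2
    exact ⟨⟨P, hP⟩, Subtype.ext hPq⟩

set_option maxHeartbeats 800000 in
/-- Let A be a Noetherian local ring all of whose formal fibres are geometrically normal (for example a
quasi-excellent local ring). Then A and its completion A^ have the same number of branches and the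
same number of geometric branches. (The published statement also concludes that A is Nagata; this
row omits that conclusion.) -/
theorem result (A : Type u) [CommRing A]
    [IsLocalRing A] [IsNoetherianRing A] (hA : EGA4.HasGeomNormalFormalFibres A) :
    Brnch.numBranches (AdicCompletion (IsLocalRing.maximalIdeal A) A) = Brnch.numBranches A ∧
      Brnch.numGeomBranches (AdicCompletion (IsLocalRing.maximalIdeal A) A) =
        Brnch.numGeomBranches A := by
  haveI : IsNoetherianRing (AdicCompletion (maximalIdeal A) A) :=
    Groth.Agent.FormalFib6.isNoetherianRing_adicCompletion A _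
  haveI hT := BrnchLib.henselianLocalRing_completion A
  haveI hl : IsLocalHom (algebraMap (AdicCompletion (maximalIdeal A) A) (AdicCompletion (maximalIdeal A) A)) := ⟨fun _ hu => hu⟩
  haveI := Groth.Agent.Hensel.isHenselization_self (AdicCompletion (maximalIdeal A) A) hT
  obtain ⟨S, _, _, _, _, hS⟩ := Groth.Agent.S0506.result A
  haveI := hS
  haveI : HenselianLocalRing S := hS.henselian
  haveI : IsNoetherianRing S := (Groth.Agent.Hensel.isHenzLike_of_isHenselization A S).isNoetherianRing_iff.1 inferInstance
  have hGN := FormCat.hasGeomNormalFormalFibres_henselization (S := S) hA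
  obtain ⟨ψ, hψ, -⟩ := hS.universal (AdicCompletion (maximalIdeal A) A) (algebraMap A _) inferInstance
  obtain ⟨hm, hres⟩ := Groth.Agent.S9279.completion_data A S ψ hψ
  have hff := BrnchLib.faithfullyFlat_psi A S ψ hψ
  letI := ψ.toAlgebra
  haveI := hff
  haveI : IsLocalHom (algebraMap S (AdicCompletion (maximalIdeal A) A)) := ⟨fun x hx => by
    by_contra hn
    exact (Ideal.map_le_iff_le_comap.1 hm.le hn) hx⟩
  let e := BrnchLib.cplAlgEquiv A S hψ
  constructor
  · rw [← BrnchLib.card_minimalPrimes_henselization A S,
      ← BrnchLib.card_minimalPrimes_henselization (AdicCompletion (maximalIdeal A) A) (AdicCompletion (maximalIdeal A) A),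
      ← card_eq_of_domain_fibre (T := AdicCompletion (maximalIdeal A) A) (S' := S)
        (fun Q _ => BrnchLib.isDomain_tensor_field hGN _ e S Q)]
    let r := (Algebra.TensorProduct.rid S S (AdicCompletion (maximalIdeal A) A)).toRingEquiv
    refine ENat.card_congr (Equiv.ofBijective
      (fun P => ⟨P.1.comap r.toRingHom, (BrnchLib.comap_mem_minimalPrimes_iff r P.1).2 P.2⟩) ⟨?_, ?_⟩)
    · exact fun P Q h => Subtype.ext (Ideal.comap_injective_of_surjective r.toRingHom r.surjective (congrArg Subtype.val h))
    · intro q
      refine ⟨⟨q.1.comap r.symm.toRingHom, (BrnchLib.comap_mem_minimalPrimes_iff r.symm q.1).2 q.2⟩, Subtype.ext ?_⟩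
      change (q.1.comap r.symm.toRingHom).comap r.toRingHom = q.1
      rw [Ideal.comap_comap]; simp
  · obtain ⟨S', _, _, _, _, hS'⟩ := Groth.Agent.S0537.result A
    haveI := hS'
    haveI : HenselianLocalRing S' := hS'.henselian
    obtain ⟨g, hg, -⟩ := hS.universal S' (algebraMap A S') inferInstance
    letI := g.toAlgebra
    haveI : IsScalarTower A S S' := IsScalarTower.of_algebraMap_eq' hg.symm
    haveI : IsLocalHom (algebraMap S S') := ⟨fun x hx => by
      by_contra hn
      have h1 : (maximalIdeal S).map (algebraMap S S') ≤ maximalIdeal S' := by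
        rw [← Groth.Agent.Hensel.map_maximalIdeal_of_isHenselization A S, Ideal.map_map,
          ← IsScalarTower.algebraMap_eq A S S']
        exact Ideal.map_le_iff_le_comap.2 (maximalIdeal_comap (algebraMap A S')).ge
      exact (Ideal.map_le_iff_le_comap.1 h1 hn) hx⟩
    haveI := BrnchLib.isIntegral_of_isStrictHenselization A S S'
    obtain ⟨_, _, _⟩ := BrnchLib.isStrictHenselization_baseChange A S (AdicCompletion (maximalIdeal A) A) S' hres
    rw [← BrnchLib.card_minimalPrimes_strictHenselization A S',
      ← BrnchLib.card_minimalPrimes_strictHenselization (AdicCompletion (maximalIdeal A) A) ((AdicCompletion (maximalIdeal A) A) ⊗[S] S'),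
      ← card_eq_of_domain_fibre (T := AdicCompletion (maximalIdeal A) A) (S' := S')
        (fun Q _ => BrnchLib.isDomain_tensor_field hGN _ e S' Q)]

end Groth.Agent.S9244
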