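import Groth.Statements.S9248
import Groth.Agent.H4ValPd.Basic
-- import your own Groth.Agent.* helpers here

set_option autoImplicit false
universe u
open CAlg

namespace Groth.Agent.S9248

open scoped TensorProduct
open CategoryTheory Groth.Agent.H4ValPd

section

variable {R A : Type u} [CommRing R] [IsDomain R] [ValuationRing R] [CommRing A] [IsLocalRing A]
  [Algebra R A]

/-- Localizing a torsion-free module of finite projective dimension: projective implies stably free. -/
theorem stablyFree_tensor (hfp : ∀ (M : Type u) [AddCommGroup M] [Module A M] [Module.Finite A M],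
      TF R A M → Module.FinitePresentation A M) (hA : TF R A A)
    (T : Type u) [CommRing T] [Algebra A T] [Module.Flat A T] :
    ∀ (n : ℕ) (M : Type u) [AddCommGroup M] [Module A M] [Module.Finite A M], TF R A M →
      HasProjectiveDimensionLT (ModuleCat.of A M) (n + 1) → Module.Projective T (T ⊗[A] M) →
      Module.IsStablyFree T (T ⊗[A] M) := by
  intro n
  induction n with
  | zero =>
    intro M _ _ _ _ h _
    haveI : Projective (ModuleCat.of A M) := projective_iff_hasProjectiveDimensionLT_one.2 h
    haveI : Module.Projective A M := (IsProjective.iff_projective (R := A) M).2 inferInstance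
    haveI : Module.Free A M := Module.free_of_flat_of_isLocalRing
    infer_instance
  | succ n ih =>
    intro M _ _ _ hM h hproj
    obtain ⟨r, g, hg⟩ := exists_pres (A := A) M
    haveI := hfp M hM
    haveI := finite_ker_of_fp g hg
    haveI := projective_free A (ULift.{u} (Fin r) → A)
    have hK := (shortExact_ker g hg).hasProjectiveDimensionLT_X₁ (n + 1) inferInstance h
    set K := LinearMap.ker g
    let ι : T ⊗[A] K →ₗ[T] T ⊗[A] (ULift.{u} (Fin r) → A) := K.subtype.baseChange T
    let g' : T ⊗[A] (ULift.{u} (Fin r) → A) →ₗ[T] T ⊗[A] M := g.baseChange T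
    have hex : Function.Exact ι g' := lTensor_exact T (LinearMap.exact_subtype_ker_map g) hg
    have hι : Function.Injective ι :=
      Module.Flat.lTensor_preserves_injective_linearMap (M := T) K.subtype Subtype.val_injective
    have hg' : Function.Surjective g' := LinearMap.lTensor_surjective T hg
    obtain ⟨l, hl⟩ := Module.projective_lifting_property g' LinearMap.id hg'
    obtain ⟨e, he⟩ := (Function.Exact.splitSurjectiveEquiv (R := T) (M := T ⊗[A] K)
      (N := T ⊗[A] (ULift.{u} (Fin r) → A)) (P := T ⊗[A] M) (f := ι) (g := g') hex hι) ⟨l, hl⟩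
    haveI hKproj : Module.Projective T (T ⊗[A] K) := by
      have : Module.Projective T ((T ⊗[A] K) × (T ⊗[A] M)) := Module.Projective.of_equiv e
      exact Module.Projective.of_split (LinearMap.inl T (T ⊗[A] K) (T ⊗[A] M))
        (LinearMap.fst T (T ⊗[A] K) (T ⊗[A] M)) rfl
    have hsf := ih K ((TF.pi hA).submodule _) hK hKproj
    obtain ⟨N, _, _, _, _, hfree⟩ :=
      @Module.IsStablyFree.exist_free_prod T _ (T ⊗[A] K) _ _ hsf
    have e' : ((T ⊗[A] (ULift.{u} (Fin r) → A)) × N) ≃ₗ[T] ((T ⊗[A] M) × ((T ⊗[A] K) × N)) :=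
      ((e.trans (LinearEquiv.prodComm _ _ _)).prodCongr (LinearEquiv.refl _ N)).trans
        (LinearEquiv.prodAssoc _ _ _ _)
    have : Module.Free T ((T ⊗[A] M) × ((T ⊗[A] K) × N)) := Module.Free.of_equiv e'
    exact Module.IsStablyFree.of_free_prod T (T ⊗[A] M) ((T ⊗[A] K) × N)

theorem subsingleton_pic [IsLocalHom (algebraMap R A)] [Module.Flat R A] [Algebra.EssFiniteType R A]
    (hreg : IsRegularLocalRing (A ⧸ (IsLocalRing.maximalIdeal R).map (algebraMap R A)))
    (T : Type u) [CommRing T] [Algebra A T]
    [IsLocalization (Algebra.algebraMapSubmonoid A (nonZeroDivisors R)) T] :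
    Subsingleton (CommRing.Pic T) := by
  classical
  let S := Algebra.algebraMapSubmonoid A (nonZeroDivisors R)
  have hmax : (IsLocalRing.maximalIdeal R).map (algebraMap R A) ≤ IsLocalRing.maximalIdeal A :=
    Ideal.map_le_iff_le_comap.2 (fun r hr => map_nonunit (algebraMap R A) r hr)
  have hA : TF R A A := by
    intro v hv x hx
    have ht : x ∈ Submodule.torsion R A :=
      (Submodule.mem_torsion_iff x).2 ⟨⟨v, mem_nonZeroDivisors_of_ne_zero hv⟩,
        (algebraMap_smul A v x).symm.trans hx⟩
    rwa [Module.Flat.torsion_eq_bot, Submodule.mem_bot] at ht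
  have hfp : ∀ (M : Type u) [AddCommGroup M] [Module A M] [Module.Finite A M],
      TF R A M → Module.FinitePresentation A M := by
    intro M _ _ _ hM
    letI : Module R M := Module.compHom M (algebraMap R A)
    haveI : IsScalarTower R A M := IsScalarTower.of_algebraMap_smul fun _ _ => rfl
    haveI : Module.Flat R M := by
      rw [Module.Flat.flat_iff_torsion_eq_bot_of_isBezout, eq_bot_iff]
      intro x hx
      obtain ⟨⟨v, hv⟩, hvx⟩ := (Submodule.mem_torsion_iff x).1 hx
      exact (Submodule.mem_bot _).2 (hM v (nonZeroDivisors.ne_zero hv) x hvx)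
    exact S2049.result (A := R)
  have : Module.Flat A T := IsLocalization.flat T S
  haveI := hreg
  rw [CommRing.Pic.subsingleton_iff]
  intro L _ _ _
  letI : Module A L := Module.compHom L (algebraMap A T)
  haveI : IsScalarTower A T L := IsScalarTower.of_algebraMap_smul fun _ _ => rfl
  obtain ⟨G, hG⟩ := Module.Finite.fg_top (R := T) (M := L)
  let M : Submodule A L := Submodule.span A (G : Set L)
  haveI : Module.Finite A M := Module.Finite.iff_fg.2 ⟨G, rfl⟩
  have hunit : ∀ s ∈ S, ∀ x : L, s • x = 0 → x = 0 := by
    intro s hs x hx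
    exact (IsLocalization.map_units T (⟨s, hs⟩ : S)).smul_eq_zero.1 hx
  have hM : TF R A M := by
    intro v hv x hx
    exact Subtype.ext (hunit _ ⟨v, mem_nonZeroDivisors_of_ne_zero hv, rfl⟩ _ (congrArg Subtype.val hx))
  haveI : IsLocalizedModule S M.subtype := by
    constructor
    · intro s
      rw [Module.End.isUnit_iff]
      obtain ⟨u, hu⟩ := IsLocalization.map_units T s
      refine ⟨fun x y h => ?_, fun y => ⟨(↑u⁻¹ : T) • y, ?_⟩⟩
      · exact sub_eq_zero.1 (hunit _ s.2 _ (by rw [smul_sub]; exact sub_eq_zero.2 h))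
      · show algebraMap A T s • ((↑u⁻¹ : T) • y) = y
        rw [smul_smul, ← hu, Units.mul_inv, one_smul]
    · intro y
      have hy : y ∈ Submodule.span T (G : Set L) := hG ▸ Submodule.mem_top
      induction hy using Submodule.span_induction with
      | mem x hx => exact ⟨⟨⟨x, Submodule.subset_span hx⟩, 1⟩, one_smul _ _⟩
      | zero => exact ⟨⟨0, 1⟩, by simp⟩
      | add a b _ _ ha hb =>
        obtain ⟨⟨m, s⟩, hm⟩ := ha
        obtain ⟨⟨m', s'⟩, hm'⟩ := hb
        refine ⟨⟨(s' : A) • m + (s : A) • m', s * s'⟩, ?_⟩
        simp only [Submonoid.smul_def, Submonoid.coe_mul, map_add, map_smul] at hm hm' ⊢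
        rw [← hm, ← hm', smul_add, smul_smul, smul_smul, mul_comm (s' : A) s]
      | smul c a _ ha =>
        obtain ⟨⟨m, s⟩, hm⟩ := ha
        obtain ⟨c', t, rfl⟩ := IsLocalization.exists_mk'_eq S c
        refine ⟨⟨c' • m, t * s⟩, ?_⟩
        simp only [Submonoid.smul_def, Submonoid.coe_mul, map_smul] at hm ⊢
        rw [← hm]
        show algebraMap A T (t * s) • (IsLocalization.mk' T c' t • a) = algebraMap A T c' • (algebraMap A T s • a)
        rw [smul_smul, smul_smul, map_mul, mul_comm (algebraMap A T (t : A)), mul_assoc,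
          IsLocalization.mk'_spec', mul_comm]
    · intro x y h
      exact ⟨1, by rw [Subtype.ext h]⟩
  let eL : T ⊗[A] M ≃ₗ[T] L := ((isLocalizedModule_iff_isBaseChange S T M.subtype).1 inferInstance).equiv
  haveI : Module.Projective T (T ⊗[A] M) := Module.Projective.of_equiv eL.symm
  obtain ⟨n, hn⟩ : ∃ n : ℕ, ringKrullDim (A ⧸ (IsLocalRing.maximalIdeal R).map (algebraMap R A)) = n :=
    ⟨_, ((isRegularLocalRing_iff _).1 hreg).symm⟩
  have hpd := pd_of_reduction _ hmax hfp hA n M hM (S0563.result _ n hn _)
  have hsf := stablyFree_tensor hfp hA T n M hM hpd inferInstance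
  haveI : Module.IsStablyFree T L := Module.IsStablyFree.equiv eL
  exact Module.free_of_isStablyFree_of_invertible T L

end

/-- Let R be a valuation ring, K its field of fractions and κ its residue field, and let A be a local
ring with a flat, local homomorphism R → A essentially of finite type such that κ ⊗_R A is a regular
ring. Then K ⊗_R A has trivial Picard group. -/
theorem result (R A : Type u) [CommRing R] [IsDomain R]
    [ValuationRing R] [CommRing A] [IsLocalRing A] [Algebra R A] [IsLocalHom (algebraMap R A)]
    [Module.Flat R A] [Algebra.EssFiniteType R A]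
    (hreg : IsRegularRing (TensorProduct R (IsLocalRing.ResidueField R) A)) :
    Subsingleton (CommRing.Pic (TensorProduct R (FractionRing R) A)) := by
  letI : Algebra A (TensorProduct R (FractionRing R) A) := Algebra.TensorProduct.rightAlgebra
  haveI : IsLocalization (Algebra.algebraMapSubmonoid A (nonZeroDivisors R))
      (TensorProduct R (FractionRing R) A) :=
    IsLocalization.tensorRight (FractionRing R) (nonZeroDivisors R)
  let e₁ := (Algebra.TensorProduct.quotIdealMapEquivTensorQuot A (IsLocalRing.maximalIdeal R)).toRingEquiv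
  let e₂ := (Algebra.TensorProduct.comm R A (IsLocalRing.ResidueField R)).toRingEquiv
  let e : (A ⧸ (IsLocalRing.maximalIdeal R).map (algebraMap R A)) ≃+*
      TensorProduct R (IsLocalRing.ResidueField R) A := e₁.trans e₂
  haveI : Nontrivial (A ⧸ (IsLocalRing.maximalIdeal R).map (algebraMap R A)) :=
    Ideal.Quotient.nontrivial_iff.2 fun h => (IsLocalRing.maximalIdeal.isMaximal A).ne_top
      (top_le_iff.1 (h ▸ Ideal.map_le_iff_le_comap.2 (fun r hr => map_nonunit (algebraMap R A) r hr)))
  haveI : IsLocalRing (A ⧸ (IsLocalRing.maximalIdeal R).map (algebraMap R A)) :=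
    IsLocalRing.of_surjective' _ Ideal.Quotient.mk_surjective
  haveI : IsLocalRing (TensorProduct R (IsLocalRing.ResidueField R) A) := e.isLocalRing
  haveI := hreg
  haveI : IsRegularLocalRing (TensorProduct R (IsLocalRing.ResidueField R) A) :=
    IsRegularLocalRing.of_isRegularRing_of_isLocalRing _
  exact subsingleton_pic (R := R) (IsRegularLocalRing.of_ringEquiv e.symm) _

end Groth.Agent.S9248
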