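import Groth.Statements.S9273
import Mathlib
-- import your own Groth.Agent.* helpers here

set_option autoImplicit false
universe u
open CAlgX

namespace Groth.Agent.S9273

/-- Let A → B and A → A' be ring maps and B' = A' ⊗_A B. If f_1, ..., f_r is an H_1-regular sequence in
B with B/(f_1, ..., f_r) flat over A, then the images of the f_i in B' form an H_1-regular sequence. -/
theorem result (A B A' : Type u) [CommRing A] [CommRing B]
    [CommRing A'] [Algebra A B] [Algebra A A'] (r : ℕ) (f : Fin r → B)
    (hflat : Module.Flat A (B ⧸ Ideal.span (Set.range f))) (hq : CAlgX.IsH1Regular f) :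
    CAlgX.IsH1Regular (fun i => ((1 : A') ⊗ₜ[A] f i : TensorProduct A A' B)) := by
  classical
  intro v hv
  haveI := hflat
  let φ : (Fin r → B) →ₗ[A] B := (Fintype.linearCombination B f).restrictScalars A
  have hr : LinearMap.range φ = (Ideal.span (Set.range f)).restrictScalars A := by
    rw [show LinearMap.range φ = (LinearMap.range (Fintype.linearCombination B f)).restrictScalars A from rfl,
      Fintype.range_linearCombination]
  let q : B →ₗ[A] B ⧸ Ideal.span (Set.range f) := (Ideal.Quotient.mkₐ A _).toLinearMap
  have hq' : Function.Exact (LinearMap.range φ).subtype q := by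
    intro b
    rw [show Set.range (LinearMap.range φ).subtype = (LinearMap.range φ : Set B) from Subtype.range_coe, hr]
    exact Ideal.Quotient.eq_zero_iff_mem
  have hinj : Function.Injective ((LinearMap.range φ).subtype.lTensor A') :=
    LinearMap.lTensor_injective_of_exact_of_flat q (Ideal.Quotient.mk_surjective) _ Subtype.val_injective hq' A'
  have hex : Function.Exact ((LinearMap.ker φ).subtype.lTensor A') (φ.rangeRestrict.lTensor A') := by
    refine lTensor_exact A' ?_ φ.surjective_rangeRestrict
    rw [LinearMap.exact_iff, LinearMap.ker_rangeRestrict, Submodule.range_subtype]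
  let e := TensorProduct.piRight A A A' (fun _ : Fin r => B)
  have key : ∀ x, ∑ i, e x i * ((1 : A') ⊗ₜ[A] f i) = φ.lTensor A' x := by
    intro x
    induction x using TensorProduct.induction_on with
    | zero => simp
    | tmul a w => simp [e, φ, TensorProduct.tmul_sum, Fintype.linearCombination_apply, smul_eq_mul]
    | add x y hx hy => simp [add_mul, Finset.sum_add_distrib, hx, hy]
  obtain ⟨x, rfl⟩ := e.surjective v
  rw [key] at hv
  have : φ.rangeRestrict.lTensor A' x = 0 := hinj (by
    rw [← LinearMap.lTensor_comp_apply, show (LinearMap.range φ).subtype.comp φ.rangeRestrict = φ from rfl, hv, map_zero])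
  obtain ⟨z, rfl⟩ := (hex x).1 this
  induction z using TensorProduct.induction_on with
  | zero => simp
  | add x y hx hy =>
    rw [map_add, map_add]
    refine add_mem (hx ?_ ?_) (hy ?_ ?_)
    all_goals first
      | exact hex.apply_apply_eq_zero _
      | (rw [show φ.lTensor A' = (((LinearMap.range φ).subtype).comp φ.rangeRestrict).lTensor A' from rfl, LinearMap.lTensor_comp_apply, hex.apply_apply_eq_zero, map_zero])
  | tmul a w =>
    have hw : (w : Fin r → B) ∈ Submodule.span B {v : Fin r → B | ∃ i j : Fin r, v = Pi.single i (f j) - Pi.single j (f i)} :=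
      hq w ((Fintype.linearCombination_apply B f (w : Fin r → B)).symm.trans (LinearMap.mem_ker.1 w.2))
    let ψ : B →+* TensorProduct A A' B := (Algebra.TensorProduct.includeRight (R := A) (A := A') (B := B)).toRingHom
    have hgen : ∀ u ∈ Submodule.span B {v : Fin r → B | ∃ i j : Fin r, v = Pi.single i (f j) - Pi.single j (f i)},
        (fun i => ψ (u i)) ∈ Submodule.span (TensorProduct A A' B) {v : Fin r → TensorProduct A A' B |
          ∃ i j : Fin r, v = Pi.single i ((1 : A') ⊗ₜ[A] f j) - Pi.single j ((1 : A') ⊗ₜ[A] f i)} := by
      intro u hu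
      induction hu using Submodule.span_induction with
      | mem u hu =>
        obtain ⟨i, j, rfl⟩ := hu
        refine Submodule.subset_span ⟨i, j, funext fun l => ?_⟩
        simp only [Pi.sub_apply, map_sub, Pi.single_apply, apply_ite ψ, map_zero]
        rfl
      | zero =>
        simp only [Pi.zero_apply, map_zero]
        exact zero_mem _
      | add u u' _ _ hu hu' =>
        simp only [Pi.add_apply, map_add]
        exact add_mem hu hu'
      | smul b u _ hu =>
        simp only [Pi.smul_apply, smul_eq_mul, map_mul]
        exact Submodule.smul_mem _ (ψ b) hu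
    have h2 := Submodule.smul_mem _ (a ⊗ₜ[A] (1 : B)) (hgen w hw)
    convert! h2 using 1
    funext i
    simp [e, ψ]

end Groth.Agent.S9273
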