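import Groth.Statements.S9306
import Groth.Agent.EtRamLib.UnrBaseChange
-- import your own Groth.Agent.* helpers here

set_option autoImplicit false
universe u
open EtRam

attribute [-instance] CategoryTheory.catToReflQuiver

namespace Groth.Agent.S9306

open TensorProduct in
/-- Let A → B be an injective local homomorphism of discrete valuation rings with fraction fields K ⊆ L,
and let K' be a finite separable extension of K that is unramified relative to A. Then every field F
onto which K' ⊗_K L surjects is, as an extension of L, unramified relative to B. (The published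
statement also records that K' ⊗_K L is a finite product of fields, whose factors are these F; this
row does not state that part.) -/
theorem result (A B K L K' : Type u) [CommRing A] [IsDomain A]
    [IsDiscreteValuationRing A] [CommRing B] [IsDomain B] [IsDiscreteValuationRing B] [Algebra A B]
    [IsLocalHom (algebraMap A B)] (hinj : Function.Injective (algebraMap A B))
    [Field K] [Field L] [Field K'] [Algebra A K] [IsFractionRing A K] [Algebra B L] [IsFractionRing B L]
    [Algebra K L] [Algebra A L] [IsScalarTower A K L] [IsScalarTower A B L]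
    [Algebra K K'] [FiniteDimensional K K'] [Algebra.IsSeparable K K']
    (h : EtRam.IsUnramifiedExt A ((algebraMap K K').comp (algebraMap A K)))
    (F : Type u) [Field F] [Algebra (K' ⊗[K] L) F] (hF : Function.Surjective (algebraMap (K' ⊗[K] L) F)) :
    EtRam.IsUnramifiedExt B ((algebraMap (K' ⊗[K] L) F).comp
      ((Algebra.TensorProduct.includeRight : L →ₐ[K] K' ⊗[K] L).toRingHom.comp (algebraMap B L))) := by
  haveI := hinj
  let p : (K' ⊗[K] L) →+* F := algebraMap (K' ⊗[K] L) F
  refine Groth.Agent.EtRamLib.unramified_base_change A K h
    (p.comp (Algebra.TensorProduct.includeLeftRingHom : K' →+* K' ⊗[K] L))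
    (p.comp (Algebra.TensorProduct.includeRight : L →ₐ[K] K' ⊗[K] L).toRingHom) ?_ ?_
  · ext x
    refine congrArg p ?_
    show algebraMap K K' x ⊗ₜ[K] (1 : L) = (1 : K') ⊗ₜ[K] algebraMap K L x
    rw [Algebra.algebraMap_eq_smul_one, Algebra.algebraMap_eq_smul_one, TensorProduct.smul_tmul]
  · refine eq_top_iff.2 fun z _ => ?_
    obtain ⟨t, rfl⟩ := hF z
    induction t with
    | zero => rw [map_zero]; exact zero_mem _
    | tmul x y =>
      rw [show x ⊗ₜ[K] y = (x ⊗ₜ[K] (1 : L)) * ((1 : K') ⊗ₜ[K] y) by rw [Algebra.TensorProduct.tmul_mul_tmul, mul_one, one_mul], map_mul]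
      exact mul_mem (Subfield.subset_closure (Or.inl ⟨x, rfl⟩)) (Subfield.subset_closure (Or.inr ⟨y, rfl⟩))
    | add a b ha hb => rw [map_add]; exact add_mem (ha trivial) (hb trivial)

end Groth.Agent.S9306
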