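import Groth.Statements.S9312
import Mathlib

set_option autoImplicit false
universe u
open CAlg

open scoped TensorProduct

namespace Groth.Agent.S9312

section
open MvPolynomial

variable (R G : Type u) [CommRing R] [Group G] [Fintype G] [MulSemiringAction G R]

local notation "R0" => FixedPoints.subring R G

/-- `∏ (T - σ g)` has invariant coefficients. -/
theorem exists_norm {V : Type u} (g : MvPolynomial V R) :
    ∃ Q : Polynomial (MvPolynomial V R0), Q.map (MvPolynomial.map (R0).subtype) =
      ∏ σ : G, (Polynomial.X - Polynomial.C (MvPolynomial.map (MulSemiringAction.toRingHom G R σ) g)) ∧ Q.Monic := by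
  set N := ∏ σ : G, (Polynomial.X - Polynomial.C (MvPolynomial.map (MulSemiringAction.toRingHom G R σ) g)) with hN
  have hinv : ∀ τ : G, N.map (MvPolynomial.map (MulSemiringAction.toRingHom G R τ)) = N := by
    intro τ
    rw [hN, Polynomial.map_prod]
    refine Fintype.prod_equiv (Equiv.mulLeft τ) _ _ fun σ => ?_
    rw [Polynomial.map_sub, Polynomial.map_X, Polynomial.map_C, MvPolynomial.map_map]
    have hcomp : (MulSemiringAction.toRingHom G R τ).comp (MulSemiringAction.toRingHom G R σ) =
        MulSemiringAction.toRingHom G R (τ * σ) := RingHom.ext fun r => (mul_smul τ σ r).symm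
    rw [hcomp]
    rfl
  have hinj : Function.Injective (MvPolynomial.map (σ := V) (R0).subtype) :=
    MvPolynomial.map_injective _ Subtype.val_injective
  have hmem : N ∈ Polynomial.lifts (MvPolynomial.map (σ := V) (R0).subtype) := by
    rw [Polynomial.lifts_iff_coeff_lifts]
    intro k
    have h : N.coeff k ∈ Set.range (MvPolynomial.map (σ := V) (R0).subtype) := by
      rw [MvPolynomial.mem_range_map_iff_coeffs_subset]
      intro c hc
      obtain ⟨d, -, rfl⟩ := MvPolynomial.mem_coeffs_iff.mp hc
      refine ⟨⟨_, fun τ => ?_⟩, rfl⟩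
      have := congr_arg (fun q => (Polynomial.coeff q k).coeff d) (hinv τ)
      simp only [Polynomial.coeff_map, MvPolynomial.coeff_map] at this
      exact this
    exact h
  obtain ⟨Q, hQ⟩ := hmem
  refine ⟨Q, hQ, Polynomial.monic_of_injective hinj ?_⟩
  rw [← Polynomial.coe_mapRingHom, hQ, hN]
  exact Polynomial.monic_prod_of_monic _ _ fun σ _ => Polynomial.monic_X_sub_C _

end

/-- Let a finite group G with n elements act on a ring R by ring automorphisms, with invariant ring R^G,
and let A be an algebra over R^G; G acts on A ⊗ R through the factor R. (1) For every G-invariant b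
∈ A ⊗ R there is a monic polynomial over A whose image in (A ⊗ R)[T] is (T - b)^n. (2) For every a
in the kernel of A → A ⊗ R, all coefficients of (T - a)^n below degree n vanish, that is (T - a)^n =
T^n in A[T]. -/
theorem result (R G A : Type u) [CommRing R] [Group G] [Fintype G]
    [MulSemiringAction G R] [CommRing A] [Algebra (FixedPoints.subring R G) A] :
    (∀ b : TensorProduct (FixedPoints.subring R G) A R,
      (∀ σ : G, Algebra.TensorProduct.map (AlgHom.id (FixedPoints.subring R G) A)
        (MulSemiringAction.toAlgHom (FixedPoints.subring R G) R σ) b = b) →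
      ∃ P : Polynomial A, P.Monic ∧
        Polynomial.map (algebraMap A (TensorProduct (FixedPoints.subring R G) A R)) P =
          (Polynomial.X - Polynomial.C b) ^ Fintype.card G) ∧
    (∀ a : A, algebraMap A (TensorProduct (FixedPoints.subring R G) A R) a = 0 →
      ∀ i : ℕ, i < Fintype.card G → ((Polynomial.X - Polynomial.C a) ^ Fintype.card G).coeff i = 0) := by
  let R0 := FixedPoints.subring R G
  let ι : MvPolynomial A R0 →+* MvPolynomial A R := MvPolynomial.map R0.subtype
  let π : MvPolynomial A R0 →ₐ[R0] A := MvPolynomial.aeval id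
  have hπ : Function.Surjective π := fun a => ⟨MvPolynomial.X a, MvPolynomial.aeval_X _ _⟩
  refine ⟨fun b hb => ?_, fun a ha => ?_⟩
  · let θ : MvPolynomial A R →+* TensorProduct R0 A R :=
      MvPolynomial.eval₂Hom (Algebra.TensorProduct.includeRight : R →ₐ[R0] _).toRingHom
        (fun x => x ⊗ₜ[R0] (1 : R))
    have hθ : Function.Surjective θ := by
      intro t
      induction t using TensorProduct.induction_on with
      | zero => exact ⟨0, map_zero _⟩
      | tmul x r => exact ⟨MvPolynomial.C r * MvPolynomial.X x, by simp [θ]⟩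
      | add t t' h h' =>
        obtain ⟨p, rfl⟩ := h
        obtain ⟨q, rfl⟩ := h'
        exact ⟨p + q, map_add _ _ _⟩
    have h1 : θ.comp ι = (algebraMap A (TensorProduct R0 A R)).comp π.toRingHom := by
      refine MvPolynomial.ringHom_ext (fun r => ?_) (fun x => ?_)
      · simp only [θ, ι, π, RingHom.comp_apply, MvPolynomial.map_C, MvPolynomial.eval₂Hom_C,
          AlgHom.toRingHom_eq_coe, RingHom.coe_coe, MvPolynomial.algHom_C,
          Algebra.TensorProduct.includeRight_apply, Algebra.TensorProduct.algebraMap_apply]
        exact ((Algebra.TensorProduct.algebraMap_apply (R := R0) (A := A) (B := R) r).trans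
          (Algebra.TensorProduct.algebraMap_apply' (R := R0) (A := A) (B := R) r)).symm
      · simp [θ, ι, π]
    have h2 : ∀ σ : G, ∀ q, θ (MvPolynomial.map (MulSemiringAction.toRingHom G R σ) q) =
        Algebra.TensorProduct.map (AlgHom.id R0 A) (MulSemiringAction.toAlgHom R0 R σ) (θ q) := by
      intro σ
      apply RingHom.congr_fun (g := (Algebra.TensorProduct.map (AlgHom.id R0 A)
        (MulSemiringAction.toAlgHom R0 R σ)).toRingHom.comp θ) (f := θ.comp (MvPolynomial.map _))
      refine MvPolynomial.ringHom_ext (fun r => ?_) (fun x => ?_)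
      · simp [θ]
      · simp [θ]
    obtain ⟨g, hg⟩ := hθ b
    obtain ⟨Q, hQ, hQm⟩ := exists_norm R G g
    refine ⟨Q.map π.toRingHom, hQm.map _, ?_⟩
    rw [Polynomial.map_map, ← h1, ← Polynomial.map_map]
    show (Q.map (MvPolynomial.map R0.subtype)).map θ = _
    rw [hQ, Polynomial.map_prod, ← Finset.card_univ, ← Finset.prod_const]
    refine Finset.prod_congr rfl fun σ _ => ?_
    rw [Polynomial.map_sub, Polynomial.map_X, Polynomial.map_C, h2, hg, hb σ]
  · let ψ : TensorProduct R0 (MvPolynomial A R0) R →ₐ[R0] MvPolynomial A R :=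
      Algebra.TensorProduct.lift (MvPolynomial.aeval MvPolynomial.X) (IsScalarTower.toAlgHom R0 R _)
        (fun _ _ => Commute.all _ _)
    have hψ : ∀ p : MvPolynomial A R0, ψ (p ⊗ₜ 1) = ι p := by
      intro p
      simp only [ψ, Algebra.TensorProduct.lift_tmul, map_one, mul_one]
      induction p using MvPolynomial.induction_on with
      | C r => simp only [ι, MvPolynomial.algHom_C, MvPolynomial.map_C]; rfl
      | add p q hp hq => rw [map_add, map_add, hp, hq]
      | mul_X p x hp => rw [map_mul, map_mul, hp]; simp [ι]
    have hker : (MvPolynomial.X a : MvPolynomial A R0) ⊗ₜ[R0] (1 : R) ∈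
        Ideal.map (Algebra.TensorProduct.includeLeft : MvPolynomial A R0 →ₐ[R0] _) (RingHom.ker π) := by
      rw [← Algebra.TensorProduct.rTensor_ker π hπ, RingHom.mem_ker, Algebra.TensorProduct.map_tmul,
        MvPolynomial.aeval_X, map_one]
      exact ha
    have hspan : (MvPolynomial.X a : MvPolynomial A R) ∈
        Submodule.span (MvPolynomial A R) (Set.range fun u : RingHom.ker π => ι u.1) := by
      have h3 := Ideal.mem_map_of_mem ψ hker
      rw [show Ideal.map ψ (Ideal.map (Algebra.TensorProduct.includeLeft : MvPolynomial A R0 →ₐ[R0] _) (RingHom.ker π)) =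
        Ideal.map (ψ.comp (Algebra.TensorProduct.includeLeft : MvPolynomial A R0 →ₐ[R0] _)) (RingHom.ker π) from Ideal.map_map _ _] at h3
      rw [show ψ (MvPolynomial.X a ⊗ₜ[R0] (1 : R)) = MvPolynomial.X a by rw [hψ]; simp [ι]] at h3
      refine Ideal.map_le_iff_le_comap.mpr ?_ h3
      intro p hp
      refine Ideal.mem_comap.mpr (Submodule.subset_span ⟨⟨p, hp⟩, ?_⟩)
      exact (hψ p).symm
    obtain ⟨c, hc⟩ := Finsupp.mem_span_range_iff_exists_finsupp.mp hspan
    let V := A ⊕ (RingHom.ker π : Ideal (MvPolynomial A R0))
    let g : MvPolynomial V R := MvPolynomial.X (Sum.inl a) -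
      c.sum fun u r => MvPolynomial.rename Sum.inl r * MvPolynomial.X (Sum.inr u)
    obtain ⟨Q, hQ, hQm⟩ := exists_norm R G g
    let α : V → MvPolynomial A R0 := Sum.elim MvPolynomial.X Subtype.val
    let β : V → MvPolynomial A R0 := Sum.elim MvPolynomial.X 0
    have key : ∀ (f : V → MvPolynomial A R0) (y : MvPolynomial A R),
        (∀ σ : G, MvPolynomial.bind₁ (fun v => ι (f v)) (MvPolynomial.map (MulSemiringAction.toRingHom G R σ) g) = y) →
        (Q.map (MvPolynomial.bind₁ f).toRingHom).map ι = (Polynomial.X - Polynomial.C y) ^ Fintype.card G := by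
      intro f y hy
      have : ι.comp (MvPolynomial.bind₁ f).toRingHom =
          (MvPolynomial.bind₁ (fun v => ι (f v))).toRingHom.comp (MvPolynomial.map R0.subtype) := by
        refine RingHom.ext fun p => ?_
        exact MvPolynomial.map_bind₁ _ _ _
      rw [Polynomial.map_map, this, ← Polynomial.map_map, hQ, Polynomial.map_prod, ← Finset.card_univ,
        ← Finset.prod_const]
      refine Finset.prod_congr rfl fun σ _ => ?_
      rw [Polynomial.map_sub, Polynomial.map_X, Polynomial.map_C]
      exact congrArg (fun z => Polynomial.X - Polynomial.C z) (hy σ)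
    have hι : Function.Injective (Polynomial.map ι) :=
      Polynomial.map_injective _ (MvPolynomial.map_injective _ Subtype.val_injective)
    have hfix : ∀ (σ : G) (p : MvPolynomial A R0), MvPolynomial.map (MulSemiringAction.toRingHom G R σ) (ι p) = ι p := by
      intro σ p
      rw [MvPolynomial.map_map]
      congr 2
      ext r
      exact r.2 σ
    have hbind : ∀ (f : V → MvPolynomial A R0) (σ : G) (q : MvPolynomial V R),
        MvPolynomial.bind₁ (fun v => ι (f v)) (MvPolynomial.map (MulSemiringAction.toRingHom G R σ) q) =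
        MvPolynomial.map (MulSemiringAction.toRingHom G R σ) (MvPolynomial.bind₁ (fun v => ι (f v)) q) := by
      intro f σ q
      rw [MvPolynomial.map_bind₁]
      simp_rw [hfix]
    have hα : Q.map (MvPolynomial.bind₁ α).toRingHom = Polynomial.X ^ Fintype.card G := by
      apply hι
      rw [key α 0 fun σ => ?_, Polynomial.map_pow, Polynomial.map_X, map_zero, sub_zero]
      rw [hbind]
      convert map_zero (MvPolynomial.map (MulSemiringAction.toRingHom G R σ))
      simp only [g, map_sub, map_finsuppSum, map_mul, MvPolynomial.bind₁_X_right, MvPolynomial.bind₁_rename]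
      simp only [α, Sum.elim_inl, Sum.elim_inr, Function.comp_def, ι, MvPolynomial.map_X,
        MvPolynomial.bind₁_X_left, AlgHom.id_apply]
      rw [← hc, sub_eq_zero]
      rfl
    have hβ : Q.map (MvPolynomial.bind₁ β).toRingHom =
        (Polynomial.X - Polynomial.C (MvPolynomial.X a)) ^ Fintype.card G := by
      apply hι
      rw [key β (MvPolynomial.X a) fun σ => ?_, Polynomial.map_pow, Polynomial.map_sub, Polynomial.map_X,
        Polynomial.map_C, MvPolynomial.map_X]
      rw [hbind]
      simp [g, β, ι, map_finsuppSum]
    have hab : π.toRingHom.comp (MvPolynomial.bind₁ α).toRingHom = π.toRingHom.comp (MvPolynomial.bind₁ β).toRingHom := by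
      refine MvPolynomial.ringHom_ext (fun r => by simp) (fun v => ?_)
      rcases v with x | u
      · simp [α, β]
      · have hu : π u.1 = 0 := u.2
        simp [α, β, hu]
    intro i hi
    have h4 := congrArg (fun φ => Q.map φ) hab
    simp only [← Polynomial.map_map, hα, hβ, Polynomial.map_pow, Polynomial.map_sub, Polynomial.map_X,
      Polynomial.map_C] at h4
    rw [show π.toRingHom (MvPolynomial.X a) = a from MvPolynomial.aeval_X _ _] at h4
    rw [← h4, Polynomial.coeff_X_pow, if_neg hi.ne]

end Groth.Agent.S9312
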