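import Groth.Statements.S9329
import Groth.Agent.EtRamLib.RootUnif
-- import your own Groth.Agent.* helpers here

set_option autoImplicit false
universe u
open EtRam

attribute [-instance] CategoryTheory.catToReflQuiver

namespace Groth.Agent.S9329

open Polynomial IsLocalRing in
/-- Let `K` be the fraction field of a discrete valuation ring `A`, let `π` be a uniformizer of `A`, and
let `L` be a finite separable extension of `K` which is tamely ramified with respect to `A`. Then
there is `e₀ ≥ 1` invertible in the residue field of `A` such that for each `d ≥ 1` that is also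
invertible in the residue field, setting `e = d e₀` and `A' = A[z]/(z^e - π)`, there is a finite
separable extension `L'` of `K` into which `L` embeds over `K`, carrying an `A'`-algebra structure
extending `A → K → L'`, such that `L'` is unramified with respect to `A'`. (The local-ring instance
on `A'`, which holds, is quantified as a hypothesis.) -/
theorem result
    {A K L : Type u} [CommRing A] [IsDomain A]
    [IsDiscreteValuationRing A] [Field K] [Algebra A K] [IsFractionRing A K] [Field L] [Algebra K L]
    [Algebra A L] [IsScalarTower A K L] [FiniteDimensional K L] [Algebra.IsSeparable K L]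
    (π : A) (hπ : maximalIdeal A = Ideal.span {π}) (h : EtRam.IsTamelyRamified A (algebraMap A L)) :
    ∃ e₀ : ℕ, 0 < e₀ ∧ (e₀ : ResidueField A) ≠ 0 ∧
      ∀ d : ℕ, 0 < d → (d : ResidueField A) ≠ 0 →
        ∃ (L' : Type u) (_ : Field L') (_ : Algebra K L')
          (_ : Algebra (AdjoinRoot (X ^ (d * e₀) - C π : A[X])) L') (_ : L →ₐ[K] L'),
          FiniteDimensional K L' ∧ Algebra.IsSeparable K L' ∧
          (algebraMap (AdjoinRoot (X ^ (d * e₀) - C π : A[X])) L').comp (AdjoinRoot.of (X ^ (d * e₀) - C π)) =
            (algebraMap K L').comp (algebraMap A K) ∧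
          ∀ [IsLocalRing (AdjoinRoot (X ^ (d * e₀) - C π : A[X]))],
            EtRam.IsUnramifiedExt (AdjoinRoot (X ^ (d * e₀) - C π : A[X]))
              (algebraMap (AdjoinRoot (X ^ (d * e₀) - C π : A[X])) L') := by
  have hirr : Irreducible π := (IsDiscreteValuationRing.irreducible_iff_uniformizer π).2 hπ
  have hunit : ∀ m : ℕ, (m : IsLocalRing.ResidueField A) ≠ 0 → IsUnit (m : A) := fun m hm => by
    rw [← map_natCast (IsLocalRing.residue A)] at hm
    exact IsLocalRing.notMem_maximalIdeal.1 fun hmem => hm ((IsLocalRing.residue_eq_zero_iff _).2 hmem)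
  have hg : algebraMap A L = (algebraMap K L).comp (algebraMap A K) := IsScalarTower.algebraMap_eq A K L
  rw [hg] at h
  let e₀ := Groth.Agent.H9Abh.exponent A (Module.finrank K L)
  have he₀ : IsUnit (e₀ : A) := Groth.Agent.H9Abh.exponent_isUnit A _
  refine ⟨e₀, Groth.Agent.H9Abh.exponent_pos A _, ?_, fun d hd hd' => ?_⟩
  · rw [← map_natCast (IsLocalRing.residue A)]
    exact (he₀.map _).ne_zero
  refine Groth.Agent.EtRamLib.exists_unramified_over_root hirr (Nat.mul_pos hd (Groth.Agent.H9Abh.exponent_pos A _))
    (by rw [Nat.cast_mul]; exact (hunit d hd').mul he₀) ?_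
  intro V hV
  letI : Algebra A V := (RingHom.codRestrict _ V hV.1).toAlgebra
  intro _
  obtain ⟨hs, hdv⟩ := Groth.Agent.H9Abh.good_of_tame A K h (N := Module.finrank K L) le_rfl V hV
  exact ⟨hs, hdv.trans (Dvd.intro_left d rfl)⟩

end Groth.Agent.S9329
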