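import Groth.Statements.S9333
import Groth.Agent.S9332
-- import your own Groth.Agent.* helpers here

set_option autoImplicit false
universe u
open QFin

namespace Groth.Agent.S9333

open AlgebraicGeometry CategoryTheory in
/-- Let f : X → S be locally of finite type, g : S' → S any morphism and X' = X ×_S S' with projections
g' : X' → X and f' : X' → S'. If x' ∈ X' maps to x ∈ X and x is closed in the fibre X_{f x}, then x'
is closed in the fibre X'_{f' x'}. -/
theorem result {X S X' S' : Scheme.{u}} (f : X ⟶ S) [LocallyOfFiniteType f] (g : S' ⟶ S)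
    (g' : X' ⟶ X) (f' : X' ⟶ S') (hsq : IsPullback g' f' f g) (x' : X')
    (hx : IsClosed ({f.asFiber (g'.base x')} : Set ↑(f.fiber (f.base (g'.base x'))))) :
    IsClosed ({f'.asFiber x'} : Set ↑(f'.fiber (f'.base x'))) := by
  have hfin : (f.residueFieldMap (g'.base x')).hom.Finite := (Groth.Agent.S9332.result f (g'.base x')).1 hx
  have : IsFinite (Spec.map (f.residueFieldMap (g'.base x'))) := (IsFinite.SpecMap_iff _).2 hfin
  have : LocallyQuasiFinite (X.fromSpecResidueField (g'.base x') ≫ f) := by
    rw [← Scheme.Hom.SpecMap_residueFieldMap_fromSpecResidueField]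
    infer_instance
  let p₁ := Limits.pullback.fst (X.fromSpecResidueField (g'.base x')) g'
  let p₂ := Limits.pullback.snd (X.fromSpecResidueField (g'.base x')) g'
  have hp : IsPullback p₁ (p₂ ≫ f') (X.fromSpecResidueField (g'.base x') ≫ f) g :=
    (IsPullback.of_hasPullback _ _).paste_vert hsq
  have : LocallyQuasiFinite (p₂ ≫ f') := MorphismProperty.of_isPullback hp ‹_›
  have : IsPreimmersion p₂ := inferInstanceAs (IsPreimmersion (Limits.pullback.snd _ _))
  refine isClosed_of_closure_subset fun y hy => ?_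
  have hs : f'.asFiber x' ⤳ y := specializes_iff_mem_closure.2 hy
  have h' : x' ⤳ f'.fiberι _ y := by
    have := hs.map (f'.fiberι (f'.base x')).continuous
    rwa [f'.fiberι_asFiber] at this
  have hy' : f'.base (f'.fiberι _ y) = f'.base x' := by
    have hm : f'.fiberι _ y ∈ Set.range (f'.fiberι (f'.base x')) := ⟨y, rfl⟩
    rwa [f'.range_fiberι] at hm
  -- the image in `X` stays in the fibre, so it is the closed point
  have hyx : g'.base (f'.fiberι _ y) = g'.base x' := by
    have e : f.base (g'.base (f'.fiberι _ y)) = f.base (g'.base x') := by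
      rw [← Scheme.Hom.comp_apply, hsq.w, Scheme.Hom.comp_apply, hy', ← Scheme.Hom.comp_apply, ← hsq.w, Scheme.Hom.comp_apply]
    obtain ⟨z, hz⟩ : g'.base (f'.fiberι _ y) ∈ Set.range (f.fiberι (f.base (g'.base x'))) := by
      rw [f.range_fiberι]; exact e
    have hz' : f.asFiber (g'.base x') ⤳ z := by
      rw [← (f.fiberι _).isEmbedding.specializes_iff, f.fiberι_asFiber, hz]
      exact h'.map g'.continuous
    rw [← hz, show z = f.asFiber (g'.base x') from hz'.mem_closed hx rfl, f.fiberι_asFiber]
  have hr : Set.range p₂ = g' ⁻¹' {g'.base x'} := by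
    rw [Scheme.Pullback.range_snd, Scheme.range_fromSpecResidueField]
  obtain ⟨q, hq⟩ : x' ∈ Set.range p₂ := hr ▸ rfl
  obtain ⟨r, hr'⟩ : f'.fiberι _ y ∈ Set.range p₂ := hr ▸ hyx
  have hqr : q ⤳ r := p₂.isEmbedding.specializes_iff.1 (by rw [hq, hr']; exact h')
  have : q = r := by
    have hd := (p₂ ≫ f').isDiscrete_preimage_singleton ((p₂ ≫ f') q)
    have hr2 : r ∈ (p₂ ≫ f') ⁻¹' {(p₂ ≫ f') q} := by
      simp only [Set.mem_preimage, Set.mem_singleton_iff, Scheme.Hom.comp_apply, hq, hr']
      exact hy'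
    haveI := hd.to_subtype
    exact congrArg Subtype.val (specializes_iff_eq.1
      ((subtype_specializes_iff _ _).2 hqr : (⟨q, rfl⟩ : (p₂ ≫ f') ⁻¹' {(p₂ ≫ f') q}) ⤳ ⟨r, hr2⟩))
  exact (f'.fiberι _).isEmbedding.injective (by rw [f'.fiberι_asFiber, ← hr', ← this, hq])

end Groth.Agent.S9333
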