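import Groth.Statements.S9334
-- import your own Groth.Agent.* helpers here

set_option autoImplicit false
universe u
open QFin

namespace Groth.Agent.S9334

set_option backward.isDefEq.respectTransparency.types false
set_option backward.isDefEq.respectTransparency false
set_option linter.style.haveILetI false

open AlgebraicGeometry CategoryTheory in
/-- Let f : X → S be locally of finite type, x ∈ X, and write s = f x. The morphism f is quasi-finite at
x exactly when x is a closed point of the fibre X_s and no point x' ≠ x of X_s specializes to x. -/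
theorem result {X S : Scheme.{u}} (f : X ⟶ S) [LocallyOfFiniteType f] (x : X) :
    f.QuasiFiniteAt x ↔
      (IsClosed ({f.asFiber x} : Set ↑(f.fiber (f.base x))) ∧
        ∀ x' : ↑(f.fiber (f.base x)), x' ⤳ f.asFiber x → x' = f.asFiber x) := by
  constructor
  · intro h
    have hc := h.isClopen_singleton_asFiber
    exact ⟨hc.1, fun x' hx' => hx'.mem_open hc.2 rfl⟩
  · rintro ⟨hcl, hgen⟩
    rw [Scheme.Hom.quasiFiniteAt_iff_isOpen_singleton_asFiber]
    let Z := f.fiber (f.base x)
    let p : Z := f.asFiber x
    haveI : LocallyOfFiniteType (f.fiberToSpecResidueField (f.base x)) := by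
      exact MorphismProperty.of_isPullback (IsPullback.of_hasPullback f (S.fromSpecResidueField (f.base x))) ‹LocallyOfFiniteType f›
    haveI : IsLocallyNoetherian Z := LocallyOfFiniteType.isLocallyNoetherian (f.fiberToSpecResidueField (f.base x))
    obtain ⟨_, ⟨W, hW, rfl⟩, hpW, -⟩ :=
      Z.isBasis_affineOpens.exists_subset_of_mem_open (Set.mem_univ p) isOpen_univ
    haveI : IsNoetherianRing Γ(Z, W) := IsLocallyNoetherian.component_noetherian ⟨W, hW⟩
    haveI : TopologicalSpace.NoetherianSpace W := noetherianSpace_of_isAffineOpen W hW
    haveI : QuasiSober W := inferInstanceAs (QuasiSober (Scheme.Opens.toScheme (X := Z) W))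
    let q : W := ⟨p, hpW⟩
    let T : Set W := ⋃ C ∈ {C ∈ irreducibleComponents W | C ≠ {q}}, C
    have hT : IsClosed T := Set.Finite.isClosed_biUnion
      (TopologicalSpace.NoetherianSpace.finite_irreducibleComponents.subset fun _ h => h.1)
      fun C hC => isClosed_of_mem_irreducibleComponents C hC.1
    have hqc : IsClosed ({q} : Set W) := by
      rw [show ({q} : Set W) = Subtype.val ⁻¹' {p} from Set.ext fun z => ⟨fun h => by rw [Set.mem_singleton_iff] at h; subst h; exact rfl, fun h => Subtype.ext h⟩]
      exact hcl.preimage continuous_subtype_val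
    have hq : ∀ C ∈ irreducibleComponents W, q ∈ C → C = {q} := by
      intro C hC hqC
      obtain ⟨g, hg⟩ := QuasiSober.sober hC.1 (isClosed_of_mem_irreducibleComponents C hC)
      have hgq : g = q := Subtype.ext (hgen _ ((hg.specializes hqC).map continuous_subtype_val))
      rw [← hg.def, hgq]
      exact hqc.closure_eq
    have e : ({q} : Set W) = Tᶜ := by
      ext z
      simp only [Set.mem_singleton_iff, Set.mem_compl_iff, T, Set.mem_iUnion, not_exists]
      constructor
      · rintro rfl C ⟨hC, hne⟩ hzC
        exact hne (hq C hC hzC)
      · intro hz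
        by_contra hne
        refine hz _ ⟨irreducibleComponent_mem_irreducibleComponents z, fun hc => hne ?_⟩ mem_irreducibleComponent
        exact (hc ▸ mem_irreducibleComponent : z ∈ ({q} : Set W))
    have := W.2.isOpenMap_subtype_val _ (e ▸ hT.isOpen_compl)
    rwa [Set.image_singleton] at this

end Groth.Agent.S9334
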