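import Groth.Statements.S9349
import Groth.Agent.QCoh.FlatOver
import Groth.Agent.QCoh.Support

set_option autoImplicit false
universe u
open FlatMod

namespace Groth.Agent.S9349

open AlgebraicGeometry CategoryTheory in
/-- Let f : X → Y be an affine morphism of S-schemes, with q : Y → S, and F a quasi-coherent O_X-module.
Flatness of F over S (along f ≫ q) is equivalent to flatness of f_*F over S (along q). -/
theorem result {X Y S : Scheme.{u}} (f : X ⟶ Y) [IsAffineHom f] (q : Y ⟶ S)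
    (F : X.Modules) (hF : Coh.IsQCoh F) :
    FlatMod.IsFlatOver (f ≫ q) F ↔ FlatMod.IsFlatOver q ((Coh.push f).obj F) := by
  have hP := Groth.Agent.QCoh.isQCoh_pushforward f hF
  have key : ∀ (U : Y.Opens) (V : S.Opens) (hUV : U ≤ q ⁻¹ᵁ V), IsAffineOpen U → IsAffineOpen V →
      ((∀ x ∈ f ⁻¹ᵁ U, FlatMod.IsFlatOverAt (f ≫ q) F x) ↔
        ∀ y ∈ U, FlatMod.IsFlatOverAt q ((Coh.push f).obj F) y) := by
    intro U V hUV hU hV
    have hle : f ⁻¹ᵁ U ≤ (f ≫ q) ⁻¹ᵁ V := fun x hx => hUV hx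
    rw [← Groth.Agent.QCoh.flat_appLE_iff (f ≫ q) hF (hU.preimage f) hV hle,
      ← Groth.Agent.QCoh.flat_appLE_iff q hP hU hV hUV]
    let e : @LinearEquiv Γ(S, V) Γ(S, V) _ _ (RingHom.id _) (RingHom.id _) _ _
        Γ(F, f ⁻¹ᵁ U) Γ((Coh.push f).obj F, U) _ _
        (Module.compHom _ ((f ≫ q).appLE V (f ⁻¹ᵁ U) hle).hom) (Module.compHom _ (q.appLE V U hUV).hom) :=
      letI := Module.compHom Γ(F, f ⁻¹ᵁ U) ((f ≫ q).appLE V (f ⁻¹ᵁ U) hle).hom
      letI := Module.compHom Γ((Coh.push f).obj F, U) (q.appLE V U hUV).hom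
      { toFun := id, invFun := id, left_inv := fun _ => rfl, right_inv := fun _ => rfl,
        map_add' := fun _ _ => rfl,
        map_smul' := fun r s => by
          show (show Γ(F, f ⁻¹ᵁ U) from (f ≫ q).appLE V (f ⁻¹ᵁ U) hle r • s) =
            (show Γ(F, f ⁻¹ᵁ U) from f.app U (q.appLE V U hUV r) • s)
          refine congrArg (· • s) ?_
          rw [← CommRingCat.comp_apply, Scheme.Hom.app_eq_appLE, Scheme.Hom.appLE_comp_appLE] }
    exact @Module.Flat.equiv_iff Γ(S, V) Γ(F, f ⁻¹ᵁ U) Γ((Coh.push f).obj F, U) _ _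
      (Module.compHom _ ((f ≫ q).appLE V (f ⁻¹ᵁ U) hle).hom) _
      (Module.compHom _ (q.appLE V U hUV).hom) e
  have cov : ∀ y : Y, ∃ (U : Y.Opens) (V : S.Opens), y ∈ U ∧ U ≤ q ⁻¹ᵁ V ∧ IsAffineOpen U ∧ IsAffineOpen V := fun y => by
    obtain ⟨_, ⟨V, hV, rfl⟩, hyV, -⟩ :=
      S.isBasis_affineOpens.exists_subset_of_mem_open (Set.mem_univ (q.base y)) isOpen_univ
    obtain ⟨_, ⟨U, hU, rfl⟩, hyU, hUV⟩ :=
      Y.isBasis_affineOpens.exists_subset_of_mem_open (show y ∈ q ⁻¹ᵁ V from hyV) (q ⁻¹ᵁ V).2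
    exact ⟨U, V, hyU, hUV, hU, hV⟩
  constructor
  · intro h y
    obtain ⟨U, V, hyU, hUV, hU, hV⟩ := cov y
    exact (key U V hUV hU hV).1 (fun x _ => h x) y hyU
  · intro h x
    obtain ⟨U, V, hyU, hUV, hU, hV⟩ := cov (f.base x)
    exact (key U V hUV hU hV).2 (fun y _ => h y) x hyU


end Groth.Agent.S9349
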