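import Groth.Statements.S9350
import Groth.Agent.S4655
-- import your own Groth.Agent.* helpers here

set_option autoImplicit false
universe u
open FlatMod

namespace Groth.Agent.S9350

open AlgebraicGeometry CategoryTheory in
/-- Let h : X → Y be a morphism of S-schemes, q : Y → S, G a quasi-coherent O_Y-module and x ∈ X with h
flat at x. Flatness of G over S at h x is equivalent to flatness of h^*G over S at x. -/
theorem result {X Y S : Scheme.{u}} (h : X ⟶ Y) (q : Y ⟶ S)
    (G : Y.Modules) (hG : Coh.IsQCoh G) (x : X) (hflat : (h.stalkMap x).hom.Flat) :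
    FlatMod.IsFlatOverAt q G (h.base x) ↔ FlatMod.IsFlatOverAt (h ≫ q) ((Scheme.Modules.pullback h).obj G) x := by
    letI := (q.stalkMap (h.base x)).hom.toAlgebra
    letI : Algebra (Y.presheaf.stalk (h.base x)) (X.presheaf.stalk x) := (h.stalkMap x).hom.toAlgebra
    letI : Algebra (S.presheaf.stalk (q.base (h.base x))) (X.presheaf.stalk x) :=
      ((h ≫ q).stalkMap x).hom.toAlgebra
    haveI : IsScalarTower (S.presheaf.stalk (q.base (h.base x))) (Y.presheaf.stalk (h.base x))
        (X.presheaf.stalk x) := IsScalarTower.of_algebraMap_eq fun a => by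
      show ((h ≫ q).stalkMap x).hom a = _
      rw [Scheme.Hom.stalkMap_comp]; rfl
    haveI : Module.Flat (Y.presheaf.stalk (h.base x)) (X.presheaf.stalk x) := hflat
    haveI : IsLocalHom (algebraMap (Y.presheaf.stalk (h.base x)) (X.presheaf.stalk x)) :=
      inferInstanceAs (IsLocalHom (h.stalkMap x).hom)
    haveI := Module.FaithfullyFlat.of_flat_of_isLocalHom
      (A := Y.presheaf.stalk (h.base x)) (B := X.presheaf.stalk x)
    letI := FlatMod.moduleStalkOver q G (h.base x)
    haveI : IsScalarTower (S.presheaf.stalk (q.base (h.base x))) (Y.presheaf.stalk (h.base x))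
        (G.presheaf.stalk (h.base x)) := IsScalarTower.of_algebraMap_smul fun _ _ => rfl
    letI : Module (S.presheaf.stalk (q.base (h.base x))) (((Scheme.Modules.pullback h).obj G).presheaf.stalk x) :=
      FlatMod.moduleStalkOver (h ≫ q) ((Scheme.Modules.pullback h).obj G) x
    let e₀ : ((Scheme.Modules.pullback h).obj G).presheaf.stalk x ≃ₗ[X.presheaf.stalk x]
        TensorProduct (Y.presheaf.stalk (h.base x)) (X.presheaf.stalk x) (G.presheaf.stalk (h.base x)) :=
      ((Groth.Agent.KFlatLib.stalkPullbackIso h x).app G).toLinearEquiv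
    haveI : IsScalarTower (S.presheaf.stalk (q.base (h.base x))) (X.presheaf.stalk x)
        (((Scheme.Modules.pullback h).obj G).presheaf.stalk x) :=
      IsScalarTower.of_algebraMap_smul fun _ _ => rfl
    let e := e₀.restrictScalars (S.presheaf.stalk (q.base (h.base x)))
    constructor
    · intro hh
      haveI : Module.Flat (S.presheaf.stalk (q.base (h.base x))) (G.presheaf.stalk (h.base x)) := hh
      haveI : Module.Flat (S.presheaf.stalk (q.base (h.base x)))
          (TensorProduct (Y.presheaf.stalk (h.base x)) (X.presheaf.stalk x) (G.presheaf.stalk (h.base x))) :=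
        Groth.Agent.MorLib.FlatBC.flat_tensor_of_flat
      have r : Module.Flat (S.presheaf.stalk (q.base (h.base x)))
          (((Scheme.Modules.pullback h).obj G).presheaf.stalk x) := Module.Flat.of_linearEquiv e
      exact r
    · intro hh
      haveI : Module.Flat (S.presheaf.stalk (q.base (h.base x)))
          (((Scheme.Modules.pullback h).obj G).presheaf.stalk x) := hh
      haveI := Module.Flat.of_linearEquiv e.symm
      exact Groth.Agent.S4655.flat_of_tensor _ (Y.presheaf.stalk (h.base x)) (X.presheaf.stalk x) _

end Groth.Agent.S9350
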