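import Groth.Statements.S9362
import Groth.Agent.QCohGab.Groth
-- import your own Groth.Agent.* helpers here

set_option autoImplicit false
universe u
open QCohSub

namespace Groth.Agent.S9362

open AlgebraicGeometry CategoryTheory in
/-- Let F be a quasi-coherent O_X-module and G ⊆ F an O_X-submodule. There is a quasi-coherent submodule
G' ⊆ G such that Hom(H, G') → Hom(H, G) is bijective for every quasi-coherent O_X-module H; in
particular G' is the largest quasi-coherent submodule of F contained in G (it is unique up to unique
isomorphism over G). -/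
theorem result (X : Scheme.{u}) (F G : X.Modules) (hF : Coh.IsQCoh F) (j : G ⟶ F) [Mono j] :
    ∃ (G' : X.Modules) (k : G' ⟶ G), Coh.IsQCoh G' ∧ Mono k ∧
      ∀ H : X.Modules, Coh.IsQCoh H → Function.Bijective (fun φ : H ⟶ G' => φ ≫ k) := by
    open CategoryTheory in
    haveI := Groth.Agent.QCohGab.isLeftAdjoint_ι X
    let adj := Adjunction.ofIsLeftAdjoint (QCohCat.isQCoh X).ι
    let ι := (QCohCat.isQCoh X).ι
    let Q := ι.rightAdjoint
    haveI : Q.PreservesMonomorphisms := Functor.preservesMonomorphisms_of_adjunction adj
    let F' : QCohCat.QCoh X := ⟨F, hF⟩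
    let ε := adj.counit.app
    refine ⟨ι.obj (Q.obj G), ε G, (Q.obj G).property, ?_, fun H hH => ?_⟩
    · haveI : IsIso (adj.unit) := Adjunction.unit_isIso_of_L_fully_faithful adj
      haveI : IsIso (ε (ι.obj F')) := by
        have := adj.left_triangle_components F'
        exact IsIso.of_isIso_fac_left this
      have hnat : ι.map (Q.map j) ≫ ε (ι.obj F') = ε G ≫ j := adj.counit.naturality j
      haveI : Mono (ι.map (Q.map j)) := inferInstance
      haveI : Mono (ε G ≫ j) := hnat ▸ mono_comp _ _
      exact mono_of_mono (ε G) j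
    · let H' : QCohCat.QCoh X := ⟨H, hH⟩
      have e : ∀ ψ : H' ⟶ Q.obj G, (adj.homEquiv H' G).symm ψ = ι.map ψ ≫ ε G := fun ψ => adj.homEquiv_counit _ _ ψ
      constructor
      · intro φ φ' h
        have : (ObjectProperty.homMk φ : H' ⟶ Q.obj G) = ObjectProperty.homMk φ' :=
          (adj.homEquiv H' G).symm.injective ((e _).trans (h.trans (e _).symm))
        exact congrArg InducedCategory.Hom.hom this
      · intro ψ
        refine ⟨ι.map (adj.homEquiv H' G ψ), ?_⟩
        exact (e _).symm.trans (Equiv.symm_apply_apply _ ψ)

end Groth.Agent.S9362
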