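import Groth.Statements.S9380
import Groth.Agent.RelSpecX.AffHom
import Groth.Agent.RelSpecX.Gamma
-- import your own Groth.Agent.* helpers here

set_option autoImplicit false
universe u
open QAff

namespace Groth.Agent.S9380

open AlgebraicGeometry CategoryTheory in
/-- A quasi-compact quasi-separated morphism f : X → S is quasi-affine if and only if the canonical
S-morphism X → Spec_S(f_*O_X) (the one inducing the comparison map on direct-image algebras) exists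
as a quasi-compact open immersion. -/
theorem result {X S : Scheme.{u}} (f : X ⟶ S) [QuasiCompact f] [QuasiSeparated f] :
    MoreMor.IsQuasiAffineHom f ↔
      ∃ (c : X ⟶ (RelSpec.QCAlg.directImage f).spec) (e : c ≫ (RelSpec.QCAlg.directImage f).π = f),
        (RelSpec.QCAlg.directImage f).gammaMap = AffAlg.algHom (RelSpec.QCAlg.directImage f).π f c e ∧
          QuasiCompact c ∧ IsOpenImmersion c := by
  let A := RelSpec.QCAlg.directImage f
  let ω : AffAlg.algHoms A.π f := ⟨A.gammaMap, A.π_c_gammaMap⟩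
  let c := Groth.Agent.RelSpecX.ofAlgHom A.π f ω
  have hc : c ≫ A.π = f := Groth.Agent.RelSpecX.ofAlgHom_comp A.π f ω
  have hchart : ∀ (U : S.Opens) (hU : IsAffineOpen U),
      Spec.map (A.gammaAff U hU) ≫ (hU.preimage A.π).fromSpec = A.ι U hU := by
    intro U hU
    rw [RelSpec.QCAlg.gammaAff, Spec.map_comp, Category.assoc,
      IsAffineOpen.SpecMap_appLE_fromSpec _ (hU.preimage A.π) (isAffineOpen_top _), IsAffineOpen.fromSpec_top,
      ← Category.assoc]
    convert Category.id_comp (A.ι U hU) using 2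
    rw [Scheme.isoSpec_Spec_inv, ← Spec.map_comp, Iso.inv_hom_id, Spec.map_id]
  have key : ∀ (U : S.Opens) (hU : IsAffineOpen U),
      (f ⁻¹ᵁ U).ι ≫ c = (f ⁻¹ᵁ U).toSpecΓ ≫ A.ι U hU := by
    intro U hU
    refine (Groth.Agent.RelSpecX.ι_ofAlgHom A.π f ω ⟨U, hU⟩).trans ?_
    exact congrArg ((f ⁻¹ᵁ U).toSpecΓ ≫ ·) ((congrArg (fun e => Spec.map e ≫ (hU.preimage A.π).fromSpec) (A.gammaMap_app U hU)).trans (hchart U hU))
  constructor
  · intro hq
    refine ⟨c, hc, (Groth.Agent.RelSpecX.algHom_ofAlgHom A.π f ω).symm,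
      (haveI : QuasiCompact (c ≫ A.π) := by rw [hc]; infer_instance
       QuasiCompact.of_comp c A.π), ?_⟩
    refine IsZariskiLocalAtTarget.of_iSup_eq_top (P := @IsOpenImmersion)
      (fun U : S.affineOpens => A.π ⁻¹ᵁ U.1) (TopologicalSpace.IsOpenCover.comap (iSup_affineOpens_eq_top S) A.π.base.1) fun U => ?_
    haveI := hq.2 U.1 U.2
    have hle : c ⁻¹ᵁ (A.π ⁻¹ᵁ U.1) = f ⁻¹ᵁ U.1 := (Groth.Agent.RelSpecX.preimage_eq A.π f c hc U.1).symm
    haveI h1 : IsOpenImmersion ((f ⁻¹ᵁ U.1).ι ≫ c) := by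
      rw [key U.1 U.2]
      haveI : IsOpenImmersion (f ⁻¹ᵁ U.1).toSpecΓ := IsOpenImmersion.comp _ _
      exact @IsOpenImmersion.comp _ _ _ _ _ this (RelSpec.QCAlg.instIsOpenImmersionι A U.1 U.2)
    haveI h2 : ∀ W : X.Opens, W = f ⁻¹ᵁ U.1 → IsOpenImmersion (W.ι ≫ c) := fun W hW => hW ▸ h1
    haveI : IsOpenImmersion ((c ∣_ (A.π ⁻¹ᵁ U.1)) ≫ (A.π ⁻¹ᵁ U.1).ι) := by
      rw [morphismRestrict_ι]; exact h2 _ hle
    exact IsOpenImmersion.of_comp _ (A.π ⁻¹ᵁ U.1).ι
  · rintro ⟨c', e, hγ, -, himm⟩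
    have hcc : c' = c := Groth.Agent.RelSpecX.algHom_injective A.π f e hc fun U => by
      rw [← hγ, Groth.Agent.RelSpecX.algHom_ofAlgHom A.π f ω]
    subst hcc
    refine ⟨inferInstance, fun U hU => ?_⟩
    haveI : IsOpenImmersion ((f ⁻¹ᵁ U).toSpecΓ ≫ A.ι U hU) := by rw [← key U hU]; infer_instance
    haveI hι : IsOpenImmersion (A.ι U hU) := RelSpec.QCAlg.instIsOpenImmersionι A U hU
    haveI := @IsOpenImmersion.of_comp _ _ _ (f ⁻¹ᵁ U).toSpecΓ (A.ι U hU) hι this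
    haveI : IsOpenImmersion ((f ⁻¹ᵁ U : X.Opens) : Scheme.{u}).toSpecΓ := by
      haveI : IsOpenImmersion (((f ⁻¹ᵁ U : X.Opens) : Scheme.{u}).toSpecΓ ≫ Spec.map (f ⁻¹ᵁ U).topIso.inv) :=
        inferInstanceAs (IsOpenImmersion (f ⁻¹ᵁ U).toSpecΓ)
      exact IsOpenImmersion.of_comp _ (Spec.map (f ⁻¹ᵁ U).topIso.inv)
    haveI : CompactSpace ((f ⁻¹ᵁ U : X.Opens) : Scheme.{u}) :=
      isCompact_iff_compactSpace.1 (f.isCompact_preimage hU.isCompact)
    exact {}

end Groth.Agent.S9380
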