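import Groth.Statements.S9383
import Groth.Agent.RingPO.Recognize

set_option autoImplicit false
universe u
open QCohSub

namespace Groth.Agent.S9383

open AlgebraicGeometry CategoryTheory in
/-- For closed subschemes X, Y ⊆ S with ideal sheaves I, J, the scheme-theoretic union (ideal sheaf I ⊓
J) is the pushout, in the category of schemes, of X and Y along the scheme-theoretic intersection
(ideal sheaf I ⊔ J). The exact sequence 0 → O_{X∪Y} → O_X × O_Y → O_{X∩Y} → 0 is not stated. -/
theorem result (S : Scheme.{u}) (I J : S.IdealSheafData) :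
    IsPushout (Scheme.IdealSheafData.inclusion (le_sup_left : I ≤ I ⊔ J))
      (Scheme.IdealSheafData.inclusion (le_sup_right : J ≤ I ⊔ J))
      (Scheme.IdealSheafData.inclusion (inf_le_left : I ⊓ J ≤ I))
      (Scheme.IdealSheafData.inclusion (inf_le_right : I ⊓ J ≤ J)) := by
  haveI hoi : ∀ (K : S.IdealSheafData) (U : S.affineOpens), IsOpenImmersion (K.subschemeCover.f U) := fun K U =>
    K.subschemeCover.openCover.map_prop U
  have hpb : ∀ {I J : S.IdealSheafData} (h : I ≤ J) (U : S.affineOpens),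
      IsPullback (J.subschemeCover.f U) (Spec.map (CommRingCat.ofHom (Ideal.Quotient.factor (h U))))
        (Scheme.IdealSheafData.inclusion h) (I.subschemeCover.f U) := fun {I J} h U => by
    haveI := hoi I U
    haveI := hoi J U
    refine (@IsOpenImmersion.isPullback _ _ _ _ (Spec.map (CommRingCat.ofHom (Ideal.Quotient.factor (h U))))
      (J.subschemeCover.f U) (I.subschemeCover.f U) (Scheme.IdealSheafData.inclusion h) (hoi J U) (hoi I U)
      (Scheme.IdealSheafData.subSchemeCover_map_inclusion h U) ?_).flip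
    refine (congrArg (Scheme.IdealSheafData.inclusion h ⁻¹ᵁ ·)
      (I.opensRange_subschemeCover_map U)).trans (Eq.trans ?_ (J.opensRange_subschemeCover_map U).symm)
    show (Scheme.IdealSheafData.inclusion h ≫ I.subschemeι) ⁻¹ᵁ U.1 = _
    rw [Scheme.IdealSheafData.inclusion_subschemeι]
  refine RingPO.isPushout_of_models ?_ (κ := S.affineOpens) (fun U =>
    { A := Γ(S, U.1) ⧸ (I ⊔ J).ideal U
      A' := Γ(S, U.1) ⧸ I.ideal U
      B := Γ(S, U.1) ⧸ J.ideal U
      C := Γ(S, U.1) ⧸ (I ⊓ J).ideal U
      p := Ideal.Quotient.factor ((le_sup_left : I ≤ I ⊔ J) U)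
      q := Ideal.Quotient.factor ((le_sup_right : J ≤ I ⊔ J) U)
      α := Ideal.Quotient.factor ((inf_le_left : I ⊓ J ≤ I) U)
      β := Ideal.Quotient.factor ((inf_le_right : I ⊓ J ≤ J) U)
      h := ?_
      φ := (I ⊓ J).subschemeCover.f U
      hφ := hoi _ U
      u := I.subschemeCover.f U
      v := J.subschemeCover.f U
      w := (I ⊔ J).subschemeCover.f U
      hw₁ := Scheme.IdealSheafData.subSchemeCover_map_inclusion _ U
      hw₂ := Scheme.IdealSheafData.subSchemeCover_map_inclusion _ U
      hu := hpb _ U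
      hv := hpb _ U }) fun x => ⟨_, (I ⊓ J).subschemeCover.covers x⟩
  · exact (Scheme.IdealSheafData.inclusion_comp _ _).trans (Scheme.IdealSheafData.inclusion_comp _ _).symm
  · refine ⟨Ideal.Quotient.factor_surjective _, fun z => ?_, fun z z' h1 h2 => ?_, fun b a hab => ?_⟩
    · obtain ⟨z, rfl⟩ := Ideal.Quotient.mk_surjective z
      rfl
    · obtain ⟨z, rfl⟩ := Ideal.Quotient.mk_surjective z
      obtain ⟨z', rfl⟩ := Ideal.Quotient.mk_surjective z'
      refine Ideal.Quotient.eq.2 ?_
      rw [Scheme.IdealSheafData.ideal_inf]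
      exact ⟨Ideal.Quotient.eq.1 h1, Ideal.Quotient.eq.1 h2⟩
    · obtain ⟨b, rfl⟩ := Ideal.Quotient.mk_surjective b
      obtain ⟨a, rfl⟩ := Ideal.Quotient.mk_surjective a
      have h1 : a - b ∈ (I ⊔ J).ideal U := Ideal.Quotient.eq.1 hab
      rw [Scheme.IdealSheafData.ideal_sup] at h1
      obtain ⟨i, hi, j, hj, hij⟩ := Submodule.mem_sup.1 h1
      refine ⟨Ideal.Quotient.mk _ (a - i), Ideal.Quotient.eq.2 ?_, Ideal.Quotient.eq.2 ?_⟩
      · rw [sub_sub_cancel_left]; exact neg_mem hi
      · have e : a - i - b = j := by linear_combination -hij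
        exact e ▸ hj

end Groth.Agent.S9383
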