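import Groth.Statements.S9440
import Mathlib
import Groth.Agent.CAlgOdd.NagataFT.Local
import Groth.Agent.CAlgOdd.NagataFT.Basic
import Groth.Agent.CompleteNagata.Unramified
import Groth.Agent.CplFib6.CplFinite


set_option autoImplicit false
universe u
open CAlg

namespace Groth.Agent.S9440

open TensorProduct IsLocalRing

/-- A finite local algebra with reduced completion has reduced completed tensor product. -/
theorem isReduced_tensor_of_cpl (R S : Type u) [CommRing R] [IsLocalRing R] [IsNoetherianRing R] [CommRing S]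
    [IsLocalRing S] [Algebra R S] [IsLocalHom (algebraMap R S)] [Module.Finite R S]
    (h : IsReduced (EGA4.Cpl S)) : IsReduced (EGA4.Cpl R ⊗[R] S) := by
  haveI : IsNoetherianRing S := IsNoetherianRing.of_finite R S
  haveI := FlatLoc6.isLocalRing_cpl R
  haveI := FlatLoc6.isNoetherianRing_cpl R
  haveI := FlatLoc6.faithfullyFlat_cpl S
  obtain ⟨alg, htow⟩ := Groth.Agent.CplFib6.exists_cplMap R S
  let Rh := EGA4.Cpl R
  let Sh := EGA4.Cpl S
  let W := Rh ⊗[R] S
  haveI : IsNoetherianRing W := IsNoetherianRing.of_finite Rh W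
  let Φ : W →ₐ[R] Sh :=
    Algebra.TensorProduct.lift (IsScalarTower.toAlgHom R Rh Sh) (IsScalarTower.toAlgHom R S Sh) fun _ _ => Commute.all _ _
  haveI : IsReduced Sh := h
  refine isReduced_of_injective Φ ((injective_iff_map_eq_zero Φ).2 fun z hz => ?_)
  let m := maximalIdeal R
  let I : Ideal W := m.map (algebraMap R W)
  have hmW : ∀ n, (m ^ n).map (algebraMap R W) = I ^ n := fun n => Ideal.map_pow _ _ n
  -- the closed point
  obtain ⟨e, he⟩ : ∃ e, maximalIdeal S ^ e ≤ m.map (algebraMap R S) := by
    refine Ideal.exists_pow_le_of_le_radical_of_fg ?_ (IsNoetherian.noetherian _)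
    intro x hx
    rw [Ideal.radical_eq_sInf, Ideal.mem_sInf]
    rintro P ⟨hP, hPp⟩
    haveI := hPp
    have hc : P.comap (algebraMap R S) = m := le_antisymm
      (IsLocalRing.le_maximalIdeal (Ideal.IsPrime.ne_top inferInstance)) (Ideal.map_le_iff_le_comap.1 hP)
    haveI : (P.comap (algebraMap R S)).IsMaximal := by rw [hc]; exact IsLocalRing.maximalIdeal.isMaximal R
    haveI : Algebra.IsIntegral R S := Algebra.IsIntegral.of_finite R S
    haveI hPmax : P.IsMaximal := Ideal.isMaximal_of_isIntegral_of_isMaximal_comap (R := R) P inferInstance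
    rwa [IsLocalRing.eq_maximalIdeal hPmax]
  have hlocal : m.map (algebraMap R S) ≤ maximalIdeal S :=
    ((local_hom_TFAE (algebraMap R S)).out 0 2).mp (by infer_instance)
  have hmem : ∀ n, z ∈ I ^ n := fun n => by
    let N := e * n + n
    -- approximate `z` by an element of `S`
    have happ : ∀ w : W, ∃ s : S, w - (1 : Rh) ⊗ₜ[R] s ∈ I ^ N := fun w => by
      induction w using TensorProduct.induction_on with
      | zero => exact ⟨0, by simp⟩
      | tmul a s =>
        obtain ⟨r, hr⟩ := Groth.Agent.CplFib6.exists_sub_mem_pow R N a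
        refine ⟨r • s, ?_⟩
        have e1 : a ⊗ₜ[R] s - (1 : Rh) ⊗ₜ[R] (r • s) =
            algebraMap Rh W (a - algebraMap R Rh r) * ((1 : Rh) ⊗ₜ[R] s) := by
          rw [Algebra.TensorProduct.algebraMap_apply, Algebra.algebraMap_self, RingHom.id_apply,
            Algebra.TensorProduct.tmul_mul_tmul, one_mul, mul_one, TensorProduct.sub_tmul,
            Algebra.algebraMap_eq_smul_one, TensorProduct.smul_tmul]
        rw [e1, ← hmW, IsScalarTower.algebraMap_eq R Rh W, ← Ideal.map_map]
        exact Ideal.mul_mem_right _ _ (Ideal.mem_map_of_mem _ hr)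
      | add u v hu hv =>
        obtain ⟨s, hs⟩ := hu
        obtain ⟨t, ht⟩ := hv
        exact ⟨s + t, by rw [TensorProduct.tmul_add, add_sub_add_comm]; exact add_mem hs ht⟩
    obtain ⟨s, hs⟩ := happ z
    have hIN : (I ^ N).map Φ.toRingHom ≤ (maximalIdeal S ^ N).map (algebraMap S Sh) := by
      rw [← hmW, Ideal.map_map]
      refine le_trans (le_of_eq ?_) (Ideal.map_mono ((Ideal.pow_right_mono hlocal N)))
      rw [← Ideal.map_pow, Ideal.map_map, ← IsScalarTower.algebraMap_eq]
      exact congrArg (fun f => Ideal.map f (m ^ N)) Φ.comp_algebraMap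
    have hsN : s ∈ maximalIdeal S ^ N := by
      rw [← Ideal.comap_map_eq_self_of_faithfullyFlat (B := Sh) (maximalIdeal S ^ N), Ideal.mem_comap]
      have h1 := hIN (Ideal.mem_map_of_mem Φ.toRingHom hs)
      have h2 : Φ ((1 : Rh) ⊗ₜ[R] s) = algebraMap S Sh s := by
        show Algebra.TensorProduct.lift _ _ _ ((1 : Rh) ⊗ₜ[R] s) = _
        rw [Algebra.TensorProduct.lift_tmul, map_one, one_mul]; rfl
      rw [AlgHom.toRingHom_eq_coe, RingHom.coe_coe, map_sub, hz, zero_sub, h2, neg_mem_iff] at h1
      exact h1
    have hsn : (1 : Rh) ⊗ₜ[R] s ∈ I ^ n := by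
      have h1 : s ∈ (m ^ n).map (algebraMap R S) := by
        rw [Ideal.map_pow]
        refine Ideal.pow_right_mono he n ?_
        rw [← pow_mul]
        exact Ideal.pow_le_pow_right (Nat.le_add_right _ _) hsN
      have h2 := Ideal.mem_map_of_mem (Algebra.TensorProduct.includeRight : S →ₐ[R] W).toRingHom h1
      rw [Ideal.map_map, show ((Algebra.TensorProduct.includeRight : S →ₐ[R] W).toRingHom.comp (algebraMap R S)) =
        algebraMap R W from RingHom.ext fun x => by exact (Algebra.TensorProduct.includeRight : S →ₐ[R] W).commutes x, hmW] at h2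
      exact h2
    rw [← sub_add_cancel z ((1 : Rh) ⊗ₜ[R] s)]
    exact add_mem (Ideal.pow_le_pow_right (Nat.le_add_left _ _) hs) hsn
  have hjac : I ≤ Ideal.jacobson ⊥ := by
    refine le_sInf fun M hM => ?_
    haveI := hM.2
    haveI : (M.comap (algebraMap Rh W)).IsMaximal := Ideal.isMaximal_comap_of_isIntegral_of_isMaximal M
    rw [Ideal.map_le_iff_le_comap, IsScalarTower.algebraMap_eq R Rh W, ← Ideal.comap_comap,
      IsLocalRing.eq_maximalIdeal (I := M.comap (algebraMap Rh W)) inferInstance, ← Ideal.map_le_iff_le_comap,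
      CAlgOdd.NagataFT.cpl_map_max]
  have h0 : z ∈ (⨅ i : ℕ, I ^ i • ⊤ : Submodule W W) := by
    rw [Submodule.mem_iInf]
    intro i
    rw [smul_eq_mul, Ideal.mul_top]
    exact hmem i
  rw [Ideal.iInf_pow_smul_eq_bot_of_le_jacobson _ hjac, Submodule.mem_bot] at h0
  exact h0

/-- In a purely inseparable extension, a finite subalgebra spanning the extension is local. -/
theorem exists_local_order (A K E : Type u) [CommRing A] [IsDomain A] [IsLocalRing A] [Field K] [Algebra A K]
    [IsFractionRing A K] [Field E] [Algebra K E] [FiniteDimensional K E] [Algebra A E] [IsScalarTower A K E]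
    [IsPurelyInseparable K E] :
    ∃ S : Subalgebra A E, Module.Finite A S ∧ IsFractionRing S E ∧
      ∃ _ : IsLocalRing S, IsLocalHom (algebraMap A S) := by
  classical
  let q := ringExpChar K
  haveI : ExpChar E q := expChar_of_injective_algebraMap (algebraMap K E).injective q
  have hinj : Function.Injective (algebraMap A E) := by
    rw [IsScalarTower.algebraMap_eq A K E]
    exact (algebraMap K E).injective.comp (IsFractionRing.injective A K)
  let T : Subalgebra A E :=
    { carrier := {y | ∃ (n : ℕ) (a : A), y ^ q ^ n = algebraMap A E a}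
      add_mem' := by
        rintro x y ⟨n, a, hx⟩ ⟨k, b, hy⟩
        refine ⟨n + k, a ^ q ^ k + b ^ q ^ n, ?_⟩
        rw [add_pow_expChar_pow, map_add, map_pow, map_pow, ← hx, ← hy, ← pow_mul, ← pow_mul, ← pow_add, ← pow_add,
          add_comm k n]
      mul_mem' := by
        rintro x y ⟨n, a, hx⟩ ⟨k, b, hy⟩
        refine ⟨n + k, a ^ q ^ k * b ^ q ^ n, ?_⟩
        rw [mul_pow, map_mul, map_pow, map_pow, ← hx, ← hy, ← pow_mul, ← pow_mul, ← pow_add, ← pow_add, add_comm k n]
      algebraMap_mem' := fun a => ⟨0, a, by rw [pow_zero, pow_one]⟩ }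
  have hscale : ∀ z : E, ∃ c : A, c ≠ 0 ∧ c • z ∈ T := fun z => by
    obtain ⟨n, k, hk⟩ := IsPurelyInseparable.pow_mem K q z
    obtain ⟨⟨b, c⟩, hbc⟩ := IsLocalization.surj (nonZeroDivisors A) k
    refine ⟨c, nonZeroDivisors.coe_ne_zero c, n, b * (c : A) ^ (q ^ n - 1), ?_⟩
    have hN : q ^ n = q ^ n - 1 + 1 := (Nat.sub_add_cancel (Nat.one_le_pow _ _ (expChar_pos K q))).symm
    rw [Algebra.smul_def, mul_pow, ← hk, map_mul, map_pow, IsScalarTower.algebraMap_apply A K E b, ← hbc, map_mul,
      ← IsScalarTower.algebraMap_apply A K E]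
    conv_lhs => rw [hN, pow_succ]
    ring
  let b := Module.finBasis K E
  choose c hc0 hcT using fun i => hscale (b i)
  let s : Set E := Set.range fun i => c i • b i
  let S := Algebra.adjoin A s
  have hST : S ≤ T := Algebra.adjoin_le (by rintro _ ⟨i, rfl⟩; exact hcT i)
  have hint : ∀ y ∈ T, IsIntegral A y := fun y hy => by
    obtain ⟨n, a, ha⟩ := hy
    exact IsIntegral.of_pow (Nat.one_le_pow n q (expChar_pos K q)) (ha ▸ isIntegral_algebraMap)
  haveI hfin : Module.Finite A S := Module.Finite.of_fg
    (fg_adjoin_of_finite (Set.finite_range _) fun y hy => hint y (hST (Algebra.subset_adjoin hy)))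
  haveI : FaithfulSMul S E := (faithfulSMul_iff_algebraMap_injective S E).2 Subtype.val_injective
  have hfrac : IsFractionRing S E := IsFractionRing.of_field S E fun z => by
    obtain ⟨d, hd⟩ := IsLocalization.exist_integer_multiples_of_finite (nonZeroDivisors A)
      (fun i => b.repr z i / algebraMap A K (c i))
    choose a ha using hd
    have hmem : (d : A) • z ∈ S := by
      have : (d : A) • z = ∑ i, a i • (c i • b i) := by
        conv_lhs => rw [← b.sum_repr z, Finset.smul_sum]
        refine Finset.sum_congr rfl fun i _ => ?_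
        have hci : algebraMap A K (c i) ≠ 0 := (map_ne_zero_iff _ (IsFractionRing.injective A K)).2 (hc0 i)
        have key : algebraMap A K (a i * c i) = algebraMap A K d * b.repr z i := by
          rw [map_mul, ha i, Algebra.smul_def, mul_assoc, div_mul_cancel₀ _ hci]
        rw [smul_smul, ← IsScalarTower.algebraMap_smul K (a i * c i) (b i), key,
          ← IsScalarTower.algebraMap_smul K (d : A), smul_smul]
      rw [this]
      exact S.sum_mem fun i _ => S.smul_mem (Algebra.subset_adjoin ⟨i, rfl⟩) _
    refine ⟨⟨_, hmem⟩, algebraMap A S d, ?_⟩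
    have hd0 : algebraMap A E d ≠ 0 := (map_ne_zero_iff _ hinj).2 (nonZeroDivisors.coe_ne_zero d)
    show z = ((d : A) • z) / algebraMap A E d
    rw [Algebra.smul_def, mul_div_cancel_left₀ _ hd0]
  haveI : Algebra.IsIntegral A S := Algebra.IsIntegral.of_finite A S
  have hcomap : ∀ M : Ideal S, M.IsMaximal → M.comap (algebraMap A S) = maximalIdeal A := fun M hM =>
    IsLocalRing.eq_maximalIdeal (Ideal.isMaximal_comap_of_isIntegral_of_isMaximal M)
  obtain ⟨M, hM⟩ := Ideal.exists_maximal S
  have huniq : ∀ N : Ideal S, N.IsMaximal → N = M := fun N hN => by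
    refine hN.eq_of_le hM.ne_top fun y hy => ?_
    obtain ⟨n, a, ha⟩ := hST y.2
    have hya : y ^ q ^ n = algebraMap A S a := Subtype.ext ha
    refine hM.isPrime.mem_of_pow_mem (q ^ n) ?_
    rw [hya]
    have h1 : a ∈ N.comap (algebraMap A S) := by
      rw [Ideal.mem_comap, ← hya]; exact Ideal.pow_mem_of_mem _ hy _ (Nat.one_le_pow n q (expChar_pos K q))
    rwa [hcomap N hN, ← hcomap M hM] at h1
  haveI hloc : IsLocalRing S := IsLocalRing.of_unique_max_ideal ⟨M, hM, huniq⟩
  refine ⟨S, hfin, hfrac, hloc, ⟨fun a ha => ?_⟩⟩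
  by_contra hn
  have h1 : a ∈ M.comap (algebraMap A S) := by rw [hcomap M hM]; exact (mem_maximalIdeal a).2 hn
  exact hM.ne_top (Ideal.eq_top_of_isUnit_mem _ h1 ha)

theorem backward (R : Type u) [CommRing R] [IsLocalRing R] [IsNoetherianRing R]
    (h : ∀ (S : Type u) [CommRing S] [IsDomain S] [IsLocalRing S] [Algebra R S]
      [IsLocalHom (algebraMap R S)] [Module.Finite R S],
      IsReduced (AdicCompletion (IsLocalRing.maximalIdeal S) S)) : CAlg.IsNagata R := by
  classical
  refine ⟨inferInstance, fun p _ => ?_⟩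
  intro L _ _ _ _ hfd
  let A := R ⧸ p
  let K := FractionRing A
  haveI : IsLocalRing A := IsLocalRing.of_surjective' (Ideal.Quotient.mk p) Ideal.Quotient.mk_surjective
  haveI : IsLocalHom (algebraMap R A) := IsLocalHom.of_surjective _ Ideal.Quotient.mk_surjective
  let Ω := AlgebraicClosure L
  let L' := IntermediateField.normalClosure K L Ω
  haveI : Normal K L' := inferInstance
  haveI : FiniteDimensional K L' := inferInstance
  let G := L' ≃ₐ[K] L'
  let E : IntermediateField K L' := FixedPoints.intermediateField G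
  haveI : Algebra.IsSeparable E L' := FixedPoints.isSeparable G L'
  haveI : IsPurelyInseparable K E := by
    rw [isPurelyInseparable_iff_pow_mem K (ringExpChar K)]
    intro x
    have hx : (minpoly K (x : L')).natSepDegree = 1 := by
      rw [Polynomial.natSepDegree_eq_of_splits _ (Normal.splits inferInstance (x : L'))]
      refine Finset.card_eq_one.2 ⟨(x : L'), ?_⟩
      ext y
      rw [Multiset.mem_toFinset, Finset.mem_singleton, Polynomial.mem_aroots]
      constructor
      · rintro ⟨-, hy⟩
        obtain ⟨σ, hσ⟩ := minpoly.exists_algEquiv_of_root' (Algebra.IsAlgebraic.isAlgebraic (x : L')) hy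
        exact hσ.symm.trans (x.2 σ)
      · rintro rfl
        exact ⟨minpoly.ne_zero (Algebra.IsIntegral.isIntegral _), minpoly.aeval K _⟩
    obtain ⟨n, k, hk⟩ := (minpoly.natSepDegree_eq_one_iff_pow_mem (ringExpChar K)).1 hx
    exact ⟨n, k, Subtype.ext hk⟩
  letI : Algebra A L' := ((algebraMap K L').comp (algebraMap A K)).toAlgebra
  haveI : IsScalarTower A K L' := IsScalarTower.of_algebraMap_eq fun _ => rfl
  letI : Algebra A E := ((algebraMap K E).comp (algebraMap A K)).toAlgebra
  haveI : IsScalarTower A K E := IsScalarTower.of_algebraMap_eq fun _ => rfl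
  haveI : IsScalarTower A E L' := IsScalarTower.of_algebraMap_eq fun _ => rfl
  obtain ⟨S, hSfin, hSfrac, hSloc, hShom⟩ := exists_local_order A K E
  letI : Algebra R E := ((algebraMap A E).comp (algebraMap R A)).toAlgebra
  haveI : IsScalarTower R A E := IsScalarTower.of_algebraMap_eq fun _ => rfl
  letI : Algebra R S := ((algebraMap A S).comp (algebraMap R A)).toAlgebra
  haveI : IsScalarTower R A S := IsScalarTower.of_algebraMap_eq fun _ => rfl
  haveI : IsScalarTower R S E := IsScalarTower.of_algebraMap_eq fun _ => rfl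
  haveI : Module.Finite R A := Module.Finite.of_surjective (Ideal.Quotient.mkₐ R p).toLinearMap Ideal.Quotient.mk_surjective
  haveI : Module.Finite R S := Module.Finite.trans A S
  haveI : IsLocalHom (algebraMap R S) := RingHom.isLocalHom_comp (algebraMap A S) (algebraMap R A)
  have hred := isReduced_tensor_of_cpl R S (h S)
  have hfinR : Module.Finite R (integralClosure R E) :=
    CompleteNagata.finite_integralClosure_of_reduced_tensor R S E (nonZeroDivisors S) le_rfl hred
  haveI : Module.Finite A (integralClosure A E) := by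
    let i : integralClosure R E →ₗ[R] integralClosure A E :=
      { toFun := fun z => ⟨z.1, IsIntegral.tower_top z.2⟩
        map_add' := fun _ _ => rfl
        map_smul' := fun r z => Subtype.ext rfl }
    haveI : Module.Finite R (integralClosure A E) := Module.Finite.of_surjective i fun z =>
      ⟨⟨z.1, isIntegral_trans (R := R) (A := A) (z.1 : E) z.2⟩, rfl⟩
    exact Module.Finite.of_restrictScalars_finite R A _
  let S₁ := integralClosure A E
  haveI : IsFractionRing S₁ E := integralClosure.isFractionRing_of_finite_extension K E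
  haveI : IsIntegrallyClosed S₁ := integralClosure.isIntegrallyClosedOfFiniteExtension K
  haveI : IsNoetherianRing S₁ := IsNoetherianRing.of_finite A S₁
  haveI : IsScalarTower A S₁ L' := IsScalarTower.of_algebraMap_eq fun _ => rfl
  haveI : FiniteDimensional E L' := FiniteDimensional.right K E L'
  haveI : Module.Finite S₁ (integralClosure S₁ L') := IsIntegralClosure.finite S₁ E L' (integralClosure S₁ L')
  haveI : Module.Finite A (integralClosure S₁ L') := Module.Finite.trans S₁ _
  haveI : IsNoetherianRing A := inferInstance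
  haveI := isNoetherian_of_isNoetherianRing_of_finite A (integralClosure S₁ L')
  let ι : L →ₐ[K] L' := IsScalarTower.toAlgHom K L L'
  let j : integralClosure A L →ₗ[A] integralClosure S₁ L' :=
    { toFun := fun z => ⟨ι.restrictScalars A z.1, IsIntegral.tower_top (z.2.map (ι.restrictScalars A))⟩
      map_add' := fun a b => Subtype.ext (map_add (ι.restrictScalars A) a.1 b.1)
      map_smul' := fun a z => Subtype.ext (map_smul (ι.restrictScalars A) a z.1) }
  exact Module.Finite.of_injective j fun a b hab => Subtype.ext (ι.injective (congrArg Subtype.val hab))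

end Groth.Agent.S9440

namespace Groth.Agent.S9440

/-- (1) ⇔ (3): a Noetherian local ring R is a Nagata ring if and only if for every finite local
homomorphism R → S of local rings with S a domain, the completion of S is reduced. -/
theorem result (R : Type u) [CommRing R]
    [IsLocalRing R] [IsNoetherianRing R] :
    CAlg.IsNagata R ↔ ∀ (S : Type u) [CommRing S] [IsDomain S] [IsLocalRing S] [Algebra R S]
      [IsLocalHom (algebraMap R S)] [Module.Finite R S],
      IsReduced (AdicCompletion (IsLocalRing.maximalIdeal S) S) := by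
  refine ⟨fun hR S _ _ _ _ _ _ => ?_, backward R⟩
  exact CAlgOdd.NagataFT.isReduced_cpl S (CAlgOdd.NagataFT.isNagata_of_finite S hR)

end Groth.Agent.S9440
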