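import Groth.Statements.S9485
import Groth.Agent.Pi1X.FEtFull
import Mathlib.RingTheory.Ideal.KrullsHeightTheorem

set_option linter.style.haveILetI false
set_option backward.isDefEq.respectTransparency false
set_option backward.isDefEq.respectTransparency.types false


set_option autoImplicit false
universe u
open Pi1


namespace Groth.Agent.S9485

open AlgebraicGeometry CategoryTheory CategoryTheory.Limits in
/-- Let A be a Noetherian local ring with maximal ideal m and f ∈ m, U the punctured spectrum of A and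
U₀ that of A/fA (realised as U ×_{Spec A} Spec(A/fA)). Let U' ⊆ U be an open through which U₀ ⟶ Spec
A factors (as u'). If dim(A/p) ≥ 2 for every minimal prime p of A which lies in U' and does not
contain f, then restriction of finite etale covers along u' is faithful. (Such U' exist, e.g. the
complement in U of the one-dimensional irreducible components not meeting U₀, and the condition
passes to smaller such opens, so restriction from the system of these opens is faithful.) -/
theorem result (A : Type u) [CommRing A] [IsNoetherianRing A] [IsLocalRing A] (f : A) (hf : f ∈ IsLocalRing.maximalIdeal A)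
    (U' : (Spec (CommRingCat.of A)).Opens) (hU' : U' ≤ FEt.puncturedSpec A)
    (u' : pullback (FEt.puncturedSpec A).ι (Spec.map (CommRingCat.ofHom (Ideal.Quotient.mk (Ideal.span {f})))) ⟶ (U' : Scheme.{u})) (hu' : u' ≫ U'.ι = (pullback.fst (FEt.puncturedSpec A).ι (Spec.map (CommRingCat.ofHom (Ideal.Quotient.mk (Ideal.span {f})))) ≫ (FEt.puncturedSpec A).ι))
    (hdim : ∀ p : PrimeSpectrum A, p.asIdeal ∈ minimalPrimes A → p ∈ U' → f ∉ p.asIdeal →
      (2 : WithBot ℕ∞) ≤ ringKrullDim (A ⧸ p.asIdeal)) :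
    (FEt.restrict u').Faithful := by
  haveI : IsClosedImmersion (Spec.map (CommRingCat.ofHom (Ideal.Quotient.mk (Ideal.span {f})))) :=
    IsClosedImmersion.spec_of_surjective _ Ideal.Quotient.mk_surjective
  refine Groth.Agent.Pi1X.restrict_faithful u' fun C hC hne => ?_
  have hmem : ∀ q : PrimeSpectrum A, q ≠ IsLocalRing.closedPoint A → f ∈ q.asIdeal →
      ∃ x, U'.ι.base (u'.base x) = q := by
    intro q hq hfq
    obtain ⟨y, hy⟩ : q ∈ Set.range (PrimeSpectrum.comap (Ideal.Quotient.mk (Ideal.span {f}))) := by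
      rw [_root_.range_comap_of_surjective _ _ Ideal.Quotient.mk_surjective, Ideal.mk_ker, PrimeSpectrum.zeroLocus_span]
      exact Set.singleton_subset_iff.2 hfq
    obtain ⟨x, hx, -⟩ := Scheme.Pullback.exists_preimage_pullback
      (f := (FEt.puncturedSpec A).ι) (g := Spec.map (CommRingCat.ofHom (Ideal.Quotient.mk (Ideal.span {f}))))
      ⟨q, hq⟩ y hy.symm
    refine ⟨x, ?_⟩
    rw [← Scheme.Hom.comp_apply, hu', Scheme.Hom.comp_apply, hx]
    rfl
  obtain ⟨c, hc⟩ := hne
  obtain ⟨P, hP, hPc⟩ := Ideal.exists_minimalPrimes_le (I := (⊥ : Ideal A)) (J := (U'.ι.base c).asIdeal) bot_le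
  let p : PrimeSpectrum A := ⟨P, hP.1.1⟩
  have hspec : p ⤳ U'.ι.base c := (PrimeSpectrum.le_iff_specializes p _).1 hPc
  have hpU : p ∈ U' := hspec.mem_open U'.isOpen c.2
  have hinj : Function.Injective U'.ι.base := U'.ι.isOpenEmbedding.injective
  have hcp : (⟨p, hpU⟩ : (U' : Scheme.{u})) ∈ C :=
    (U'.ι.isOpenEmbedding.isInducing.specializes_iff.1 (show U'.ι.base ⟨p, hpU⟩ ⤳ U'.ι.base c from hspec)).mem_open hC.2 hc
  have key : ∀ q : PrimeSpectrum A, p ≤ q → q ≠ IsLocalRing.closedPoint A → f ∈ q.asIdeal →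
      (C ∩ Set.range u'.base).Nonempty := by
    intro q hpq hq hfq
    obtain ⟨x, hx⟩ := hmem q hq hfq
    refine ⟨u'.base x, (U'.ι.isOpenEmbedding.isInducing.specializes_iff.1 ?_).mem_closed hC.1 hcp, x, rfl⟩
    rw [hx]
    exact (PrimeSpectrum.le_iff_specializes p q).1 hpq
  by_cases hfp : f ∈ p.asIdeal
  · exact key p le_rfl (fun h => hU' hpU (Set.mem_singleton_iff.2 h)) hfp
  · have hdim' := hdim p hP hpU hfp
    haveI : P.IsPrime := hP.1.1
    haveI : Nontrivial (A ⧸ P) := Ideal.Quotient.nontrivial_iff.2 hP.1.1.ne_top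
    haveI : IsLocalRing (A ⧸ P) := IsLocalRing.of_surjective' (Ideal.Quotient.mk P) Ideal.Quotient.mk_surjective
    haveI : IsLocalHom (Ideal.Quotient.mk P) := IsLocalHom.of_surjective _ Ideal.Quotient.mk_surjective
    let fb := Ideal.Quotient.mk P f
    have hfb : Ideal.span {fb} ≤ IsLocalRing.maximalIdeal (A ⧸ P) := by
      refine Ideal.span_le.2 (Set.singleton_subset_iff.2 ?_)
      exact fun hu => hf ((IsUnit.of_map (Ideal.Quotient.mk P) f hu))
    obtain ⟨Q, hQ, hQm⟩ := Ideal.exists_minimalPrimes_le hfb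
    haveI : Q.IsPrime := hQ.1.1
    have hht : Q.height ≤ 1 := Ideal.height_le_one_of_isPrincipal_of_mem_minimalPrimes _ _ hQ
    let q : PrimeSpectrum A := ⟨Q.comap (Ideal.Quotient.mk P), inferInstance⟩
    refine key q (fun a ha => ?_) (fun h => ?_) (hQ.1.2 (Ideal.subset_span (Set.mem_singleton _)))
    · show Ideal.Quotient.mk P a ∈ Q
      rw [Ideal.Quotient.eq_zero_iff_mem.2 ha]
      exact zero_mem _
    · have h1 : Q.comap (Ideal.Quotient.mk P) = IsLocalRing.maximalIdeal A := congrArg PrimeSpectrum.asIdeal h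
      have h2 : Q = IsLocalRing.maximalIdeal (A ⧸ P) := by
        refine le_antisymm hQm fun z hz => ?_
        obtain ⟨a, rfl⟩ := Ideal.Quotient.mk_surjective z
        exact (h1.symm.le (fun hu => hz (hu.map _)) : a ∈ Q.comap (Ideal.Quotient.mk P))
      subst h2
      have h3 := IsLocalRing.maximalIdeal_height_eq_ringKrullDim (R := A ⧸ P)
      have h4 : ((2 : ℕ∞) : WithBot ℕ∞) ≤ ((1 : ℕ∞) : WithBot ℕ∞) := by
        refine le_trans ?_ (WithBot.coe_le_coe.2 hht)
        rw [h3]
        exact hdim'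
      exact absurd (WithBot.coe_le_coe.1 h4) (by decide)
end Groth.Agent.S9485
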