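import Groth.Statements.S9491
import Groth.Agent.NormUniq.Basic
import Groth.Agent.Pi1X.NormalCover

set_option linter.style.haveILetI false
set_option backward.isDefEq.respectTransparency false
set_option backward.isDefEq.respectTransparency.types false


set_option autoImplicit false
universe u
open Pi1


namespace Groth.Agent.S9491

open AlgebraicGeometry CategoryTheory CategoryTheory.Limits in
/-- The essential image of restriction of finite etale covers from a normal integral scheme X to its
generic point Spec K consists of the finite etale K-schemes whose points are spectra of finite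
extensions L of K in which X is unramified. Precisely: let L be a finite field extension of K and Y₀
the object Spec L → Spec K of the category of finite etale covers of Spec K; then Y₀ is isomorphic
to the restriction of a finite etale cover of X if and only if the normalization of X in Spec L is
finite etale over X. (With full faithfulness of this restriction functor for normal X, this says
that the fundamental group of X is the Galois group of the union M of all finite subextensions of a
separable closure in which X is unramified.) -/
theorem result {X : Scheme.{u}} [IsIntegral X] (hX : Pi1.IsNormalScheme X)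
    (L : Type u) [Field L] [Algebra X.functionField L] [FiniteDimensional X.functionField L]
    [QuasiCompact (Spec.map (CommRingCat.ofHom (algebraMap X.functionField L)) ≫ X.fromSpecStalk (genericPoint X))] [QuasiSeparated (Spec.map (CommRingCat.ofHom (algebraMap X.functionField L)) ≫ X.fromSpecStalk (genericPoint X))]
    (Y₀ : FEt.Cat (Spec X.functionField)) (e : Y₀.left ≅ Spec (CommRingCat.of L))
    (he : e.hom ≫ Spec.map (CommRingCat.ofHom (algebraMap X.functionField L)) = Y₀.hom) :
    (FEt.restrict (X.fromSpecStalk (genericPoint X))).essImage Y₀ ↔
      (Etale (Spec.map (CommRingCat.ofHom (algebraMap X.functionField L)) ≫ X.fromSpecStalk (genericPoint X)).fromNormalization ∧ IsFinite (Spec.map (CommRingCat.ofHom (algebraMap X.functionField L)) ≫ X.fromSpecStalk (genericPoint X)).fromNormalization) := by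
  let φ : X.functionField →+* L := algebraMap X.functionField L
  let p := Groth.Agent.NormFieldX.pnt X L φ
  haveI : QuasiCompact p := ‹_›
  haveI : QuasiSeparated p := ‹_›
  let cp : Spec (CommRingCat.of L) := IsLocalRing.closedPoint L
  constructor
  · rintro ⟨Y, ⟨iso⟩⟩
    let W : Scheme.{u} := Y.left
    let h : W ⟶ X := Y.hom
    haveI : IsFinite h := Y.prop.1
    haveI : Etale h := Y.prop.2
    let j := pullback.fst h (X.fromSpecStalk (genericPoint X))
    let l : Spec (CommRingCat.of L) ⟶ pullback h (X.fromSpecStalk (genericPoint X)) := e.inv ≫ iso.inv.left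
    haveI : IsIso iso.inv.left := inferInstanceAs (IsIso ((MorphismProperty.Over.forget _ _ _ ⋙ Over.forget _).mapIso iso).inv)
    haveI : IsIso l := inferInstanceAs (IsIso (e.inv ≫ iso.inv.left))
    let g : Spec (CommRingCat.of L) ⟶ W := l ≫ j
    have hsnd : l ≫ pullback.snd h (X.fromSpecStalk (genericPoint X)) = Spec.map (CommRingCat.ofHom φ) := by
      have h1 : iso.inv.left ≫ ((FEt.restrict (X.fromSpecStalk (genericPoint X))).obj Y).hom = Y₀.hom :=
        MorphismProperty.Over.w iso.inv
      show (e.inv ≫ iso.inv.left) ≫ ((FEt.restrict (X.fromSpecStalk (genericPoint X))).obj Y).hom = _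
      rw [Category.assoc, h1, ← he, Iso.inv_hom_id_assoc]
    have hg : g ≫ h = p := by
      show (l ≫ j) ≫ h = _
      rw [Category.assoc, pullback.condition, reassoc_of% hsnd]
      rfl
    have hrange : h ⁻¹' {genericPoint X} = {g cp} := by
      ext y
      constructor
      · intro hy
        obtain ⟨q, rfl⟩ : y ∈ Set.range j := by
          rw [Scheme.Pullback.range_fst]
          exact ⟨_, Scheme.fromSpecStalk_closedPoint.trans hy.symm⟩
        obtain ⟨z, rfl⟩ := l.surjective q
        rw [show z = cp from Subsingleton.elim _ _]
        rfl
      · rintro rfl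
        show h (g cp) = genericPoint X
        rw [← Scheme.Hom.comp_apply, hg, Groth.Agent.NormFieldX.pnt_apply]
    have hN : Pi1.IsNormalScheme W := Groth.Agent.Pi1X.isNormalScheme_of_finite_etale hX h
    have hgen : ∀ y : W, g cp ⤳ y := fun y => by
      obtain ⟨η, ⟨hη, hηy⟩, -⟩ := Groth.Agent.Pi1X.exists_unique_generization hX h y
      rwa [show g cp = η from (hrange.subset hη).symm]
    haveI : Nonempty W := ⟨g cp⟩
    haveI : ∀ x : W, _root_.IsReduced (W.presheaf.stalk x) := fun x => by
      haveI := (hN x).1
      infer_instance
    haveI : IsReduced W := isReduced_of_isReduced_stalk W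
    have hgp : IsGenericPoint (g cp) (⊤ : Set W) := by
      rw [isGenericPoint_iff_specializes]
      exact fun y => ⟨fun _ => trivial, fun _ => hgen y⟩
    haveI : IrreducibleSpace W := by
      rw [irreducibleSpace_def]
      exact hgp.isIrreducible
    haveI : IsIntegral W := (isIntegral_iff_irreducibleSpace_and_isReduced _).2 ⟨inferInstance, inferInstance⟩
    have hgeq : g cp = genericPoint W := hgp.eq (genericPoint_spec _)
    have hψ : Function.Bijective (Scheme.stalkClosedPointTo g).hom := by
      have hF : IsField (W.presheaf.stalk (g cp)) := by
        rw [hgeq]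
        exact Field.toIsField W.functionField
      refine ⟨?_, ?_⟩
      · letI := hF.toField
        exact (Scheme.stalkClosedPointTo g).hom.injective
      · rw [Scheme.stalkClosedPointTo]
        haveI : IsPreimmersion g := inferInstanceAs (IsPreimmersion (l ≫ j))
        exact ((ConcreteCategory.isIso_iff_bijective (stalkClosedPointIso (CommRingCat.of L)).hom).1 inferInstance).2.comp (g.stalkMap_surjective _)
    haveI := Groth.Agent.NormUniq.isIso_desc φ h g hg hN hgeq hψ
    let d := p.normalizationDesc g h hg.symm
    have hd : d ≫ h = p.fromNormalization := Scheme.Hom.normalizationDesc_comp _ _ _ _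
    show Etale p.fromNormalization ∧ IsFinite p.fromNormalization
    rw [← hd]
    exact ⟨inferInstance, inferInstance⟩
  · rintro ⟨het, hfin⟩
    let ν := Groth.Agent.NormFieldX.ν X L φ
    let g := p.toNormalization
    have hψ : Function.Bijective (Scheme.stalkClosedPointTo g).hom := by
      obtain ⟨h1, h2⟩ := Groth.Agent.NormFieldX.range_stalkClosedPointTo X L φ
      refine ⟨h1, Set.range_eq_univ.1 (h2.trans (Set.eq_univ_iff_forall.2 fun y => ?_))⟩
      exact IsIntegral.of_finite X.functionField y
    have hpb := Groth.Agent.NormUniq.isPullback_genericFibre φ ν g p.toNormalization_fromNormalization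
      (by rw [Groth.Agent.NormFieldX.preimage_genericPoint, ← Groth.Agent.NormFieldX.η_eq])
      (by
        show IsField ((Groth.Agent.NormFieldX.norm X L φ).presheaf.stalk
          (Groth.Agent.NormFieldX.η X L φ))
        rw [Groth.Agent.NormFieldX.η_eq]
        exact Field.toIsField (Groth.Agent.NormFieldX.norm X L φ).functionField)
      hψ
    let W : FEt.Cat X := MorphismProperty.Over.mk _ ν ⟨hfin, het⟩
    refine ⟨W, ⟨MorphismProperty.Over.isoMk (hpb.isoPullback.symm ≪≫ e.symm) ?_⟩⟩
    show (hpb.isoPullback.inv ≫ e.inv) ≫ Y₀.hom = pullback.snd ν (X.fromSpecStalk (genericPoint X))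
    rw [Category.assoc, ← he, Iso.inv_hom_id_assoc]
    exact hpb.isoPullback_inv_snd
end Groth.Agent.S9491
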