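import Groth.Statements.S9503
import Groth.Agent.ExtShX.AffineGlobal

set_option autoImplicit false
universe u
open AffSch

namespace Groth.Agent.S9503

open AlgebraicGeometry in
open CategoryTheory in
set_option linter.style.haveILetI false
set_option backward.isDefEq.respectTransparency false
set_option backward.isDefEq.respectTransparency.types false
set_option maxHeartbeats 1000000

open CategoryTheory AlgebraicGeometry

/-- The unit. -/
noncomputable def unitIso {A : CommRingCat.{u}} (M : ModuleCat.{u} A) :
    M ≅ (moduleSpecΓFunctor (R := A)).obj ((tilde.functor A).obj M) :=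
  (asIso (tilde.adjunction (R := A)).unit).app M

/-- A quasi-coherent module is the tilde of its sections. -/
theorem qcoh_iso {A : CommRingCat.{u}} {F : (Spec A).Modules} (hF : Coh.IsQCoh F) :
    Nonempty (F ≅ (tilde.functor A).obj ((moduleSpecΓFunctor (R := A)).obj F)) := by
  obtain ⟨M, ⟨e⟩⟩ := Groth.Agent.QCoh.isQCoh_spec_iff.1 hF
  exact ⟨e.symm ≪≫ (tilde.functor A).mapIso (unitIso M ≪≫ (moduleSpecΓFunctor (R := A)).mapIso e)⟩

/-- Let A be a commutative ring, M a finitely presented A-module and N an A-module, with associated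
O_X-modules M~ and N~ on X = Spec A, and let Hom_{O_X}(M~, -) denote the sheaf-Hom functor (the
right adjoint of M~ ⊗ -, assumed to exist). Then Hom_{O_X}(M~, N~) is isomorphic to the O_X-module
associated to the A-module Hom_A(M, N) (existence of an isomorphism only; the prelude's sheaf Hom is
a chosen right adjoint, so no particular map is singled out). -/
theorem result
    (A : Type u) [CommRing A] (M N : Type u) [AddCommGroup M] [Module A M]
    [Module.FinitePresentation A M] [AddCommGroup N] [Module A N]
    [DCoh.HasSheafHom (tilde (R := CommRingCat.of A) (ModuleCat.of A M))] :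
    Nonempty ((DCoh.sheafHom (tilde (R := CommRingCat.of A) (ModuleCat.of A M))).obj
        (tilde (R := CommRingCat.of A) (ModuleCat.of A N)) ≅
      tilde (R := CommRingCat.of A) (ModuleCat.of A (M →ₗ[A] N))) := by
  let R := CommRingCat.of A
  let Fm : (Spec R).Modules := tilde (R := R) (ModuleCat.of A M)
  let Gm : (Spec R).Modules := tilde (R := R) (ModuleCat.of A N)
  haveI : Module.FinitePresentation R (ModuleCat.of A M) := ‹Module.FinitePresentation A M›
  let u : DCoh.sheafHom Fm ≅ Groth.Agent.SheafHomX.hom Fm :=
    Adjunction.rightAdjointUniq ((DCoh.sheafHomAdj Fm).ofNatIsoLeft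
      ((Groth.Agent.KFlatLib.tensorBiFlipIso (Spec R)).app Fm).symm) (Groth.Agent.SheafHomX.adj Fm)
  obtain ⟨b⟩ := qcoh_iso (Groth.Agent.ExtShX.isQCoh_hom_tilde (A := R) (G := Gm)
    (inferInstanceAs (Coh.IsQCoh (tilde (R := R) (ModuleCat.of A N)))) (ModuleCat.of A M))
  let e := (Groth.Agent.ExtShX.psi (A := R) Gm (ModuleCat.of A M)).trans
    ((Linear.homCongr A (Iso.refl (ModuleCat.of A M))
      (unitIso (A := R) (ModuleCat.of A N)).symm).trans ModuleCat.homLinearEquiv)
  exact ⟨u.app Gm ≪≫ b ≪≫ (tilde.functor R).mapIso e.toModuleIso⟩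

end Groth.Agent.S9503
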