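import Groth.Statements.S9504
import Groth.Agent.ExtPowSh.Iso
import Groth.Agent.QCoh.TensorA

set_option linter.style.haveILetI false
set_option backward.isDefEq.respectTransparency false
set_option backward.isDefEq.respectTransparency.types false
set_option autoImplicit false
universe u
open AffSch

set_option maxHeartbeats 1000000
open AlgebraicGeometry CategoryTheory in
theorem Groth.Agent.QCoh.nonempty_iso_tilde_X {R : CommRingCat.{u}} {N : (Spec R).Modules} (hN : Coh.IsQCoh N)
    {M : ModuleCat.{u} R} (e : M ≅ (moduleSpecΓFunctor (R := R)).obj N) : Nonempty (N ≅ tilde M) := by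
  haveI : IsIso N.fromTildeΓ := (isQuasicoherent_iff_isIso_fromTildeΓ N).1 hN
  exact ⟨(asIso N.fromTildeΓ).symm ≪≫ ((tilde.functor R).mapIso e).symm⟩

namespace Groth.Agent.S9504

open AlgebraicGeometry in
open CategoryTheory in
/-- Let A be a commutative ring, M an A-module and n a natural number. On X = Spec A the O_X-module
associated to the A-module ⋀^n M is an n-th exterior power of M~: on every affine open U its
sections are identified, linearly over Γ(U, O_X), with the n-th exterior power of the sections of M~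
over U, compatibly with restrictions on decomposable elements. -/
theorem result
    (A : Type u) [CommRing A] (M : Type u) [AddCommGroup M] [Module A M] (n : ℕ) :
    ExtPow.IsExtPow n (tilde (R := CommRingCat.of A) (ModuleCat.of A M))
      (tilde (R := CommRingCat.of A) (ModuleCat.of A ↥(⋀[A]^n M))) := by
  classical
  let M₀ : ModuleCat.{u} A := ModuleCat.of A M
  let R := CommRingCat.of A
  let T : (Spec R).Modules := tilde (R := R) M₀
  have hT : Coh.IsQCoh T := Groth.Agent.QCoh.isQCoh_spec_iff.2 ⟨M₀, ⟨Iso.refl _⟩⟩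
  let N := Groth.Agent.ExtPowSh.L T n
  have hN : Coh.IsQCoh N := Groth.Agent.ExtPowSh.isQCoh T n hT
  let σ : A →+* Γ(Spec R, ⊤) := (Scheme.ΓSpecIso R).inv.hom
  let σ' : Γ(Spec R, ⊤) →+* A := (Scheme.ΓSpecIso R).hom.hom
  have hσ : ∀ a, σ' (σ a) = a := fun a => congr($((Scheme.ΓSpecIso R).inv_hom_id) a)
  have hσ' : ∀ a, σ (σ' a) = a := fun a => congr($((Scheme.ΓSpecIso R).hom_inv_id) a)
  haveI : RingHomCompTriple σ σ' (RingHom.id A) := ⟨RingHom.ext hσ⟩
  haveI : RingHomCompTriple σ' σ (RingHom.id _) := ⟨RingHom.ext hσ'⟩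
  let ts := Groth.Agent.QCoh.topSec (A := A) M₀
  have hts := Groth.Agent.QCoh.bijective_topSec (A := A) M₀
  let g : M →ₛₗ[σ] T.val.obj (Opposite.op ⊤) :=
    { toFun := ts
      map_add' := Groth.Agent.QCoh.topSec_add M₀
      map_smul' := Groth.Agent.QCoh.topSec_smul M₀ }
  let g' : T.val.obj (Opposite.op ⊤) →ₛₗ[σ'] M :=
    { toFun := fun x => (hts.2 x).choose
      map_add' := fun x y => hts.1 (by
        rw [(hts.2 (x + y)).choose_spec]
        refine Eq.symm ?_
        show Groth.Agent.QCoh.topSec M₀ (_ + _) = _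
        rw [Groth.Agent.QCoh.topSec_add]
        exact congrArg₂ (· + ·) (hts.2 x).choose_spec (hts.2 y).choose_spec)
      map_smul' := fun r x => hts.1 (by
        rw [(hts.2 (r • x)).choose_spec]
        refine Eq.symm ?_
        show Groth.Agent.QCoh.topSec M₀ (σ' r • _) = _
        rw [Groth.Agent.QCoh.topSec_smul]
        exact congrArg₂ (· • ·) (hσ' r) (hts.2 x).choose_spec) }
  let G : ↥(⋀[A]^n M) →ₛₗ[σ] ↥(⋀[Γ(Spec R, ⊤)]^n (T.val.obj (Opposite.op ⊤))) :=
    Groth.Agent.ExtPowSh.map n g
  have hG : Function.Bijective G := by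
    refine ⟨Function.LeftInverse.injective (g := Groth.Agent.ExtPowSh.map n g') fun z => ?_,
      Function.RightInverse.surjective (g := Groth.Agent.ExtPowSh.map n g') fun z => ?_⟩
    · exact (Groth.Agent.ExtPowSh.map_map g g' LinearMap.id (fun m => hts.1 (hts.2 (g m)).choose_spec) z).trans
        (Groth.Agent.ExtPowSh.map_self _ (fun _ => rfl) z)
    · exact (Groth.Agent.ExtPowSh.map_map g' g LinearMap.id (fun m => (hts.2 m).choose_spec) z).trans
        (Groth.Agent.ExtPowSh.map_self _ (fun _ => rfl) z)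
  have hL := Groth.Agent.ExtPowSh.toL_bijective T n hT (isAffineOpen_top (Spec R))
  let Φ₀ : ↥(⋀[A]^n M) →ₗ[A] (moduleSpecΓFunctor (R := R)).obj N :=
    { toFun := fun z => Groth.Agent.ExtPowSh.toL T n ⊤ (G z)
      map_add' := fun x y => (congrArg (Groth.Agent.ExtPowSh.toL T n ⊤) (map_add G x y)).trans (map_add _ _ _)
      map_smul' := fun r x => (congrArg (Groth.Agent.ExtPowSh.toL T n ⊤) (LinearMap.map_smulₛₗ G r x)).trans
        (LinearMap.map_smul (Groth.Agent.ExtPowSh.toL T n ⊤) (σ r) (G x)) }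
  let Φ := (LinearEquiv.ofBijective Φ₀ (hL.comp hG)).toModuleIso
  obtain ⟨e⟩ := Groth.Agent.QCoh.nonempty_iso_tilde_X hN Φ
  exact Groth.Agent.ExtPowSh.isExtPow_of_iso e (Groth.Agent.ExtPowSh.isExtPow T n hT)

end Groth.Agent.S9504
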