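import Groth.Statements.S9511
import Mathlib.AlgebraicGeometry.Limits
-- import your own Groth.Agent.* helpers here

set_option autoImplicit false
universe u
open LRSImm

namespace Groth.Agent.S9511

open AlgebraicGeometry in
open CategoryTheory TopologicalSpace in
/-- Let X be a locally ringed space and U, V ⊆ X open with X = U ⊔ V (they cover X and are disjoint),
such that the open subspaces X|_U and X|_V are affine schemes. Then X is an affine scheme: the
canonical morphism X → Spec Γ(X, O_X) is an isomorphism of locally ringed spaces. -/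
theorem result
    (X : LocallyRingedSpace.{u}) (U V : Opens X.toTopCat) (hUV : IsCompl U V)
    (A B : CommRingCat.{u})
    (eU : X.restrict U.isOpenEmbedding ≅ (Spec A).toLocallyRingedSpace)
    (eV : X.restrict V.isOpenEmbedding ≅ (Spec B).toLocallyRingedSpace) :
    IsIso X.toΓSpec := by
    let Y : Scheme.{u} :=
      { toLocallyRingedSpace := X
        local_affine := fun x => by
          have hx : x ∈ U ∨ x ∈ V := by
            have : x ∈ U ⊔ V := hUV.sup_eq_top ▸ trivial
            exact this
          rcases hx with h | h
          · exact ⟨⟨U, h⟩, A, ⟨eU⟩⟩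
          · exact ⟨⟨V, h⟩, B, ⟨eV⟩⟩ }
    have hU : IsAffineOpen (X := Y) U :=
      IsAffine.of_isIso (Scheme.fullyFaithfulForgetToLocallyRingedSpace.preimageIso
        (X := Scheme.Opens.toScheme (X := Y) U) (Y := Spec A) eU).hom
    have hV : IsAffineOpen (X := Y) V :=
      IsAffine.of_isIso (Scheme.fullyFaithfulForgetToLocallyRingedSpace.preimageIso
        (X := Scheme.Opens.toScheme (X := Y) V) (Y := Spec B) eV).hom
    have hd : Disjoint U V := hUV.disjoint
    have hT : IsAffineOpen (⊤ : Y.Opens) := by
      rw [← (hUV.sup_eq_top : (U : Y.Opens) ⊔ V = ⊤)]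
      exact IsAffineOpen.sup_of_disjoint hU hV hd
    haveI : IsAffine (⊤ : Y.Opens).toScheme := hT
    haveI : IsAffine Y := IsAffine.of_isIso Y.topIso.inv
    haveI : IsIso Y.toSpecΓ := IsAffine.affine
    exact inferInstanceAs (IsIso (Scheme.forgetToLocallyRingedSpace.map Y.toSpecΓ))

end Groth.Agent.S9511
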