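import Groth.Statements.S9513
import Groth.Agent.AffBasis.Sheaf
-- import your own Groth.Agent.* helpers here

set_option autoImplicit false
universe u
open SchMor

namespace Groth.Agent.S9513

open AlgebraicGeometry in
open CategoryTheory TopologicalSpace Opposite in
/-- (1) ⇔ (3): Let X be a scheme and B the set of affine opens of X, ordered by inclusion; let F be a
presheaf of sets on B (a functor on Bᵒᵖ) and E ∈ B the empty open. Then F is isomorphic to the
restriction to B of a sheaf of sets on X if and only if (a) F(∅) is a singleton and (b) for all U ∈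
B and sections f, g of O_X over U with U = D(f) ∪ D(g), writing V = D(f), W = D(g) and V ∩ W = D(fg)
(all in B), the map F(U) → F(V) × F(W) is injective with image exactly the pairs (s, t) whose
restrictions to D(fg) agree. (The order relations V, W ≤ U and D(fg) ≤ V, W are supplied as
hypotheses; they follow from the equations.) -/
theorem result (X : Scheme.{u})
    (F : (X.affineOpens)ᵒᵖ ⥤ Type u) (E : X.affineOpens) (hE : (E : X.Opens) = ⊥) :
    (∃ G : TopCat.Sheaf (Type u) X.carrier,
        Nonempty ((Monotone.functor (f := fun U : X.affineOpens => (U : X.Opens)) (fun _ _ h => h)).op ⋙ G.1 ≅ F)) ↔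
    ((Nonempty (F.obj (op E)) ∧ Subsingleton (F.obj (op E))) ∧
      ∀ (U V W VW : X.affineOpens) (f g : Γ(X, (U : X.Opens))),
        (V : X.Opens) = X.basicOpen f → (W : X.Opens) = X.basicOpen g →
        (VW : X.Opens) = X.basicOpen (f * g) → (U : X.Opens) = (V : X.Opens) ⊔ (W : X.Opens) →
        ∀ (hV : V ≤ U) (hW : W ≤ U) (h1 : VW ≤ V) (h2 : VW ≤ W),
        Function.Injective (fun s : F.obj (op U) => (F.map (homOfLE hV).op s, F.map (homOfLE hW).op s)) ∧
        Set.range (fun s : F.obj (op U) => (F.map (homOfLE hV).op s, F.map (homOfLE hW).op s)) =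
          {p | F.map (homOfLE h1).op p.1 = F.map (homOfLE h2).op p.2}) := by
    refine ⟨fun ⟨G, ⟨e⟩⟩ => ⟨Groth.Agent.AffBasis.empty_of_iso G e E hE, ?_⟩, fun ⟨⟨hne, hss⟩, hb⟩ => ?_⟩
    · intro U V W VW f g hV hW hVW hU hVle hWle h1 h2
      obtain ⟨rfl⟩ : V = Groth.Agent.AffBasis.bo U f := Subtype.ext hV
      obtain ⟨rfl⟩ : W = Groth.Agent.AffBasis.bo U g := Subtype.ext hW
      obtain ⟨rfl⟩ : VW = Groth.Agent.AffBasis.bo U (f * g) := Subtype.ext hVW
      obtain ⟨hs, hg⟩ := Groth.Agent.AffBasis.pair_of_iso G e U f g hU.le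
      refine ⟨fun s t h => hs s t (congrArg Prod.fst h) (congrArg Prod.snd h), Set.Subset.antisymm ?_ ?_⟩
      · rintro _ ⟨s, rfl⟩
        show Groth.Agent.AffBasis.R F _ (Groth.Agent.AffBasis.R F _ s) = Groth.Agent.AffBasis.R F _ (Groth.Agent.AffBasis.R F _ s)
        rw [Groth.Agent.AffBasis.R_trans, Groth.Agent.AffBasis.R_trans]
      · rintro ⟨a, b⟩ hab
        obtain ⟨s, hsa, hsb⟩ := hg a b (fun _ _ => hab)
        exact ⟨s, Prod.ext hsa hsb⟩
    · refine Groth.Agent.AffBasis.exists_sheaf ?_ E hE hss hne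
      intro U f g hU
      obtain ⟨hinj, hrange⟩ := hb U (Groth.Agent.AffBasis.bo U f) (Groth.Agent.AffBasis.bo U g)
        (Groth.Agent.AffBasis.bo U (f * g)) f g rfl rfl rfl
        (le_antisymm hU (sup_le (X.basicOpen_le f) (X.basicOpen_le g)))
        (Groth.Agent.AffBasis.bo_le U f) (Groth.Agent.AffBasis.bo_le U g)
        ((X.basicOpen_mul f g).trans_le inf_le_left) ((X.basicOpen_mul f g).trans_le inf_le_right)
      refine ⟨fun s t h h' => hinj (Prod.ext h h'), fun a b hab => ?_⟩
      obtain ⟨s, hs⟩ := hrange.ge (show (a, b) ∈ _ from hab _ _)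
      exact ⟨s, congrArg Prod.fst hs, congrArg Prod.snd hs⟩

end Groth.Agent.S9513
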