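import Groth.Statements.S9515
import Groth.Agent.QCoh.SubCompare
import Groth.Agent.QCoh.ExtendFT
import Groth.Agent.QCoh.DevissageTheta
import Groth.Agent.QCoh.RpushProper

set_option autoImplicit false
universe u
open CategoryTheory CategoryTheory.Limits AlgebraicGeometry
attribute [local instance] HasDerivedCategory.standard
open Coherent

namespace Groth.Agent.S9515

/-- Let X be a Noetherian scheme, F a quasi-coherent O_X-module, G a coherent O_X-module and I a
quasi-coherent sheaf of ideals, with U the open complement of the closed subset cut out by I. For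
every morphism φ : G|_U → F|_U there are an n ≥ 0 and a morphism ψ : I^n G → F whose restriction to
U is the restriction of the inclusion I^n G → G followed by φ. (Here I^n G ⊆ G is the submodule
sheaf Dual3.idealMul (I^n) G.) -/
theorem result (X : Scheme.{u}) [IsNoetherian X] (F G : X.Modules)
    (hF : Coh.IsQCoh F) (hG : Coh.IsCoh G) (I : X.IdealSheafData)
    (U : X.Opens) (hU : (U : Set X) = (I.support : Set X)ᶜ)
    (φ : (Scheme.Modules.restrictFunctor U.ι).obj G ⟶
      (Scheme.Modules.restrictFunctor U.ι).obj F) :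
    ∃ (n : ℕ) (ψ : (Dual3.idealMul (I ^ n)).obj G ⟶ F),
      (Scheme.Modules.restrictFunctor U.ι).map ψ =
        (Scheme.Modules.restrictFunctor U.ι).map (Dual3.idealMulι (I ^ n) G) ≫ φ := by
  classical
  haveI := Groth.Agent.QCoh.hasFiniteBiproducts (X := X)
  let R := Scheme.Modules.restrictFunctor U.ι
  have hGU : Coh.IsQCoh (R.obj G) := Groth.Agent.QCoh.isQCoh_restrict U.ι hG.1
  have hGUft : CohB1.IsFT (R.obj G) := (Groth.Agent.QCoh.isCoh_restrict_open (U := U) hG).2
  let S : ShortComplex X.Modules := ShortComplex.mk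
    (biprod.inl : G ⟶ G ⊞ F) biprod.snd biprod.inl_snd
  have hS : S.ShortExact := (ShortComplex.Splitting.ofHasBinaryBiproduct _ _).shortExact
  have hGF : Coh.IsQCoh (G ⊞ F) := Groth.Agent.QCoh.isQCoh_X₂ hS hG.1 hF
  let i : R.obj G ⟶ R.obj (G ⊞ F) := R.map biprod.inl + φ ≫ R.map biprod.inr
  have hi1 : i ≫ R.map biprod.fst = 𝟙 (R.obj G) := by
    simp [i, ← R.map_comp]
  have hi2 : i ≫ R.map biprod.snd = φ := by
    simp only [i, Preadditive.add_comp, Category.assoc, ← R.map_comp, biprod.inl_snd, biprod.inr_snd,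
      Functor.map_zero, zero_add, Functor.map_id]
    exact Category.comp_id φ
  haveI : Mono i := mono_of_mono_fac hi1
  obtain ⟨H, i', e, _, hHq, hHft, he⟩ := Groth.Agent.QCoh.exists_extension' hGF
    (Groth.Agent.QCoh.extStep_noetherian (fun x => ⟨⊤, trivial, inferInstance⟩) U) i hGU hGUft
  let p : H ⟶ G := i' ≫ biprod.fst
  let q : H ⟶ F := i' ≫ biprod.snd
  have hp : R.map p = e.hom := by
    show R.map (i' ≫ biprod.fst) = e.hom
    rw [R.map_comp, ← he, Category.assoc, hi1, Category.comp_id]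
  have hq : R.map q = R.map p ≫ φ := by
    rw [hp]
    show R.map (i' ≫ biprod.snd) = e.hom ≫ φ
    rw [R.map_comp, ← he, Category.assoc, hi2]
  haveI : IsIso (R.map p) := hp ▸ inferInstance
  have hbij : ∀ V : X.Opens, V ≤ U → Function.Bijective (p.app V) := fun V hV => by
    have h : ∀ W, U.ι ''ᵁ (U.ι ⁻¹ᵁ V) = W → Function.Bijective (p.app W) := by
      rintro _ rfl
      exact ConcreteCategory.bijective_of_isIso ((R.map p).app (U.ι ⁻¹ᵁ V))
    refine h V ?_
    rw [U.ι.image_preimage_eq_opensRange_inf, Scheme.Opens.opensRange_ι, inf_eq_right.2 hV]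
  have hH : Coh.IsCoh H := ⟨hHq, hHft⟩
  have hK : Coh.IsCoh (kernel p) := Groth.Agent.QCoh.isCoh_kernel hH hG p
  have hC : Coh.IsCoh (cokernel p) := Groth.Agent.QCoh.isCoh_cokernel hHq hG p
  have hKs : CohB1.support (kernel p) ⊆ (I.support : Set X) := fun x hx => by
    by_contra hxI
    obtain ⟨_, ⟨V, hV, rfl⟩, hxV, hVU⟩ :=
      X.isBasis_affineOpens.exists_subset_of_mem_open (hU.ge hxI) U.2
    refine (Groth.Agent.QCoh.notMem_support_iff hK.1 hV hxV).2 (fun z => ⟨1, ?_, ?_⟩) hx
    · rw [Scheme.basicOpen_of_isUnit _ isUnit_one]; exact hxV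
    refine (one_smul _ _).trans (Groth.Agent.QCoh.app_injective (kernel.ι p) V ?_)
    rw [map_zero]
    refine (hbij V hVU).1 ?_
    rw [map_zero]
    exact congr(($(kernel.condition p)).app V z)
  have hCs : CohB1.support (cokernel p) ⊆ (I.support : Set X) := fun x hx => by
    by_contra hxI
    obtain ⟨_, ⟨V, hV, rfl⟩, hxV, hVU⟩ :=
      X.isBasis_affineOpens.exists_subset_of_mem_open (hU.ge hxI) U.2
    refine (Groth.Agent.QCoh.notMem_support_iff hC.1 hV hxV).2 (fun z => ⟨1, ?_, ?_⟩) hx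
    · rw [Scheme.basicOpen_of_isUnit _ isUnit_one]; exact hxV
    obtain ⟨g, rfl⟩ := Groth.Agent.QCoh.app_surjective_of_epi hG.1 hC.1 (cokernel.π p) hV z
    obtain ⟨w, rfl⟩ := (hbij V hVU).2 g
    exact (one_smul _ _).trans (congr(($(cokernel.condition p)).app V w))
  obtain ⟨c, hc⟩ := Groth.Agent.QCoh.exists_pow_mono hH hK (kernel.ι p) I hKs
  obtain ⟨m, hm⟩ := Groth.Agent.QCoh.exists_pow_kills hC I hCs
  let a := Dual3.idealMulι (I ^ c) H ≫ p
  let b := Dual3.idealMulι (I ^ (c + m)) G
  haveI : Mono (Dual3.idealMulι (I ^ c) H) := equalizer.ι_mono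
  haveI : Mono b := equalizer.ι_mono
  haveI : Mono a := Preadditive.mono_of_cancel_zero _ fun {T} t ht => by
    let k := kernel.lift p (t ≫ Dual3.idealMulι (I ^ c) H) (by rw [Category.assoc]; exact ht)
    have h0 : k ≫ (kernel.ι p ≫
        (Scheme.Modules.pullbackPushforwardAdjunction (I ^ c).subschemeι).unit.app H) = 0 := by
      rw [← Category.assoc, kernel.lift_ι, Category.assoc]
      exact (congrArg (t ≫ ·) (kernel.condition _)).trans comp_zero
    have hk : k = 0 := zero_of_comp_mono _ h0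
    refine zero_of_comp_mono (Dual3.idealMulι (I ^ c) H) ?_
    rw [← kernel.lift_ι p (t ≫ Dual3.idealMulι (I ^ c) H) (by rw [Category.assoc]; exact ht)]
    show k ≫ kernel.ι p = 0
    rw [hk, zero_comp]
  have hqa := Groth.Agent.QCoh.isQCoh_idealMul (I ^ c) hHq
  have hqb := Groth.Agent.QCoh.isQCoh_idealMul (I ^ (c + m)) hG.1
  have hle : Subobject.mk b ≤ Subobject.mk a := by
    refine Groth.Agent.QCoh.subobject_le_of_cover hqb hqa hG.1 b a (fun V : X.affineOpens => V.1) (fun V => V.2)
      (fun x => ?_) fun V => ?_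
    · obtain ⟨V, hV, hxV⟩ := Groth.Agent.QCoh.exists_affine_mem x
      exact ⟨⟨V, hV⟩, hxV⟩
    · rw [Groth.Agent.QCoh.range_idealMul _ hG.1 V.2, Groth.Agent.QCoh.range_idealMul_comp _ hHq p V.2,
        Scheme.IdealSheafData.ideal_pow, Pi.pow_apply, Scheme.IdealSheafData.ideal_pow, Pi.pow_apply,
        pow_add, Submodule.mul_smul]
      refine Submodule.smul_mono le_rfl (Submodule.smul_le.2 fun r hr g _ => ?_)
      refine Groth.Agent.QCoh.exists_app_f_eq (S := ShortComplex.mk (kernel.ι (cokernel.π p)) (cokernel.π p)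
        (kernel.condition _)) (.mk' (ShortComplex.exact_of_f_is_kernel _ (kernelIsKernel _)) inferInstance inferInstance)
        V.1 (r • g) ?_ |> fun ⟨y, hy⟩ => ?_
      · rw [Scheme.Modules.Hom.app_smul]
        exact Module.mem_annihilator.1 (hm V hr) _
      · obtain ⟨w, hw⟩ := Groth.Agent.QCoh.app_surjective_of_epi hHq
          (Groth.Agent.QCoh.isQCoh_kernel hG.1 hC.1 _) (Abelian.factorThruImage p) V.2 y
        exact ⟨w, ((congr(($(Abelian.image.fac p)).app V.1 w)).symm.trans
          ((congrArg ((kernel.ι (cokernel.π p)).app V.1) hw).trans hy))⟩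
  let l := Subobject.ofMkLEMk b a hle
  have hl : l ≫ a = b := Subobject.ofMkLEMk_comp hle
  refine ⟨c + m, l ≫ Dual3.idealMulι (I ^ c) H ≫ q, ?_⟩
  show R.map (l ≫ Dual3.idealMulι (I ^ c) H ≫ q) = R.map b ≫ φ
  rw [← hl]
  show R.map (l ≫ Dual3.idealMulι (I ^ c) H ≫ q) = R.map (l ≫ Dual3.idealMulι (I ^ c) H ≫ p) ≫ φ
  rw [R.map_comp l, R.map_comp _ q, hq, R.map_comp l, R.map_comp _ p]
  simp only [Category.assoc]

end Groth.Agent.S9515
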