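import Groth.Statements.S9519
import Groth.Agent.CechBCh.Rpush
-- import your own Groth.Agent.* helpers here

set_option autoImplicit false
universe u
open CategoryTheory CategoryTheory.Limits AlgebraicGeometry
attribute [local instance] HasDerivedCategory.standard
open CechOX

namespace Groth.Agent.S9519

/-- Let f : X → S be a morphism of schemes with X quasi-compact and X and S with affine diagonal, F a
quasi-coherent O_X-module, 𝒰 a finite covering of X by affine opens and g : S' → S a morphism; write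
X' = X ×_S S' with projections g' : X' → X and f' : X' → S', F' = g'^* F and 𝒰' for the covering of
X' by the preimages (g')⁻¹(𝒰 i). Then g^* Č(𝒰, f, F) (termwise pullback) is isomorphic as a complex
of O_S'-modules to the relative Čech complex Č(𝒰', f', F'), and its image in the derived category of
O_S'-modules is isomorphic to Rf'_* F'. (The published statement calls the first identification an
equality and states it for g affine, in which case the opens of 𝒰' are affine; this row asserts the
existence of the isomorphisms for any g, with Rf'_* the unbounded derived functor under its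
existence binder.) -/
theorem result {X S S' : Scheme.{u}} (f : X ⟶ S) [CompactSpace X]
    [IsAffineHom (pullback.diagonal (terminal.from X))] [IsAffineHom (pullback.diagonal (terminal.from S))]
    (F : X.Modules) (hF : Coh.IsQCoh F) {ι : Type u} [Finite ι] (𝒰 : ι → X.Opens)
    (h𝒰 : ∀ i, IsAffineOpen (𝒰 i)) (hcov : ⨆ i, 𝒰 i = ⊤) (g : S' ⟶ S)
    [(Scheme.Modules.pullback g).Additive] [DCoh.HasRpush (pullback.snd f g)] :
    Nonempty (((Scheme.Modules.pullback g).mapHomologicalComplex (ComplexShape.up ℕ)).obj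
        ((CechOX.relCech 𝒰 f).obj F) ≅
      (CechOX.relCech (fun i => (pullback.fst f g) ⁻¹ᵁ (𝒰 i)) (pullback.snd f g)).obj
        ((Scheme.Modules.pullback (pullback.fst f g)).obj F)) ∧
    Nonempty (DCoh.toD S' ((((Scheme.Modules.pullback g).mapHomologicalComplex (ComplexShape.up ℕ)).obj
        ((CechOX.relCech 𝒰 f).obj F)).extend ComplexShape.embeddingUpNat) ≅
      (DCoh.Rpush (pullback.snd f g)).obj
        (DCoh.inD _ ((Scheme.Modules.pullback (pullback.fst f g)).obj F))) := by
  let sq : IsPullback (pullback.fst f g) (pullback.snd f g) f g := IsPullback.of_hasPullback f g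
  let g' := pullback.fst f g
  let η := (Scheme.Modules.pullbackPushforwardAdjunction g').unit.app F
  have hη : ∀ (V : X.Opens), IsAffineOpen V → ∀ (V' : (pullback f g).Opens), IsAffineOpen V' →
      ∀ (hle : V' ≤ g' ⁻¹ᵁ V), Groth.Agent.CohBC.IsBCAt g' η V V' hle := fun V hV V' hV' hle => by
    refine Groth.Agent.CohBC.isBCAt_of_isIso_transpose g' η hF hV hV' hle ?_
    rw [show ((Scheme.Modules.pullbackPushforwardAdjunction g').homEquiv _ _).symm η = 𝟙 _ from
      (Adjunction.homEquiv_counit ..).trans ((Scheme.Modules.pullbackPushforwardAdjunction g').left_triangle_components F)]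
    infer_instance
  let 𝒰' := fun i => g' ⁻¹ᵁ (𝒰 i)
  haveI := Groth.Agent.CechBCh.isIso_betaCech η sq hη 𝒰 hF h𝒰
  let e := asIso (Groth.Agent.CechBCh.betaCech (f := f) (f' := pullback.snd f g) η 𝒰 sq.w)
  have hcov' : ⨆ i, 𝒰' i = ⊤ := by
    rw [show (⨆ i, 𝒰' i) = g' ⁻¹ᵁ (⨆ i, 𝒰 i) from (Scheme.Hom.preimage_iSup g' 𝒰).symm, hcov]
    rfl
  have key : ∀ (p : ℕ) (i : Fin (p + 1) → ι), IsAffineHom (∏ᶜ fun a => 𝒰' (i a) : (pullback f g).Opens).ι ∧
      IsAffineHom ((∏ᶜ fun a => 𝒰' (i a) : (pullback f g).Opens).ι ≫ pullback.snd f g) := fun p i => by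
    haveI : IsAffine ((∏ᶜ fun a => 𝒰 (i a) : X.Opens) : Scheme.{u}) :=
      Groth.Agent.CechShRes.isAffineOpen_piObj p (fun a => 𝒰 (i a)) fun a => h𝒰 _
    haveI := Groth.Agent.CechShRes.isAffineHom_of_isAffine_of_affineDiag (∏ᶜ fun a => 𝒰 (i a) : X.Opens).ι
    haveI := Groth.Agent.CechShRes.isAffineHom_of_isAffine_of_affineDiag ((∏ᶜ fun a => 𝒰 (i a) : X.Opens).ι ≫ f)
    rw [show (∏ᶜ fun a => 𝒰' (i a)) = g' ⁻¹ᵁ (∏ᶜ fun a => 𝒰 (i a)) from Groth.Agent.CechBCh.piObj_eq g' 𝒰 i]
    exact Groth.Agent.CechBCh.isAffineHom_preimage sq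
  obtain ⟨e'⟩ := Groth.Agent.CechBCh.nonempty_rpush_iso' (pullback.snd f g) 𝒰' hcov'
    ((Scheme.Modules.pullback g').obj F) (Groth.Agent.QCoh.isQCoh_pullback g' hF) (fun p i => (key p i).1) (fun p i => (key p i).2)
  exact ⟨⟨e⟩, ⟨DerivedCategory.Q.mapIso
    ⟨HomologicalComplex.extendMap e.hom _, HomologicalComplex.extendMap e.inv _,
      by rw [← HomologicalComplex.extendMap_comp, e.hom_inv_id, HomologicalComplex.extendMap_id]; rfl,
      by rw [← HomologicalComplex.extendMap_comp, e.inv_hom_id, HomologicalComplex.extendMap_id]⟩ ≪≫ e'⟩⟩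

end Groth.Agent.S9519
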