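import Groth.Statements.S9526
import Groth.Agent.RefX.Lift
-- import your own Groth.Agent.* helpers here

set_option autoImplicit false
universe u
open Coherent

namespace Groth.Agent.S9526

open CategoryTheory CategoryTheory.Limits AlgebraicGeometry in
/-- Let X be a locally Noetherian scheme, F and G coherent O_X-modules, x ∈ X and ψ : G_x → F_x an
O_{X,x}-linear map. Then there are an open neighbourhood U of x and a morphism φ : G|_U → F|_U with
φ_x = ψ (the stalk map of φ at x, composed with the canonical identifications of the stalks of G|_U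
and F|_U at x with G_x and F_x, is ψ). -/
theorem result (X : Scheme.{u}) [IsLocallyNoetherian X]
    (F G : X.Modules) (hF : Coh.IsCoh F) (hG : Coh.IsCoh G) (x : X)
    (ψ : ↑(G.presheaf.stalk x) →ₗ[X.presheaf.stalk x] ↑(F.presheaf.stalk x)) :
    ∃ (U : X.Opens) (hx : x ∈ U)
      (φ : (Scheme.Modules.restrictFunctor U.ι).obj G ⟶ (Scheme.Modules.restrictFunctor U.ι).obj F),
      (Scheme.Modules.restrictStalkNatIso U.ι (⟨x, hx⟩ : U)).inv.app G ≫
          (TopCat.Presheaf.stalkFunctor _ (⟨x, hx⟩ : U)).map φ.mapPresheaf ≫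
            (Scheme.Modules.restrictStalkNatIso U.ι (⟨x, hx⟩ : U)).hom.app F =
        AddCommGrpCat.ofHom ψ.toAddMonoidHom := by
    obtain ⟨U, hU, hxU, -⟩ := exists_isAffineOpen_mem_and_subset (x := x) (U := ⊤) trivial
    haveI : IsNoetherianRing Γ(X, U) := IsLocallyNoetherian.component_noetherian ⟨U, hU⟩
    haveI := Groth.Agent.QCoh.finite_of_isFT hG.1 hG.2 hU
    haveI : Module.FinitePresentation Γ(X, U) Γ(G, U) := Module.finitePresentation_of_finite _ _
    obtain ⟨W, h, hxW, θ, hθ⟩ := Groth.Agent.RefX.exists_lin (F := G) (G := F) hG.1 hU hxU ψ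
    let g := Groth.Agent.RefX.ofLin hG.1 hU h θ
    have hg : g.1 ⟨x, hxW⟩ = ψ := Groth.Agent.RefX.stalkHom_ext hG.1 hU (h hxW) fun m =>
      (Groth.Agent.RefX.ofLin_germ hG.1 hU h θ hxW m).trans (hθ m)
    have hi : ∀ V : (W : Scheme.{u}).Opens, W.ι ''ᵁ V ≤ W := fun V => by rintro _ ⟨z, -, rfl⟩; exact z.2
    let φ : (Scheme.Modules.restrictFunctor W.ι).obj G ⟶ (Scheme.Modules.restrictFunctor W.ι).obj F :=
      ⟨PresheafOfModules.homMk
        { app := fun V => AddCommGrpCat.ofHom (AddMonoidHom.mk'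
            (fun m : Γ(G, W.ι ''ᵁ V.unop) => (show Γ(F, W.ι ''ᵁ V.unop) from Groth.Agent.RefX.app (hi V.unop) g m))
            fun a b => Groth.Agent.RefX.app_add (hi V.unop) g a b)
          naturality := fun V V' i => AddCommGrpCat.ext fun m =>
            (Groth.Agent.RefX.res_app (hi V.unop) (W.ι.opensFunctor.map i.unop).le g m).symm }
        fun V r m => Groth.Agent.RefX.app_smul (hi V.unop) g _ _⟩
    refine ⟨W, hxW, φ, ?_⟩
    refine TopCat.Presheaf.stalk_hom_ext _ fun V hxV => ?_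
    let O : (W : Scheme.{u}).Opens := W.ι ⁻¹ᵁ V
    have hx' : (⟨x, hxW⟩ : W) ∈ O := hxV
    have hxO : x ∈ W.ι ''ᵁ O := ⟨⟨x, hxW⟩, hx', rfl⟩
    ext m
    let m' : Γ(G, W.ι ''ᵁ O) := G.presheaf.map (homOfLE (W.ι.image_preimage_le V)).op m
    have hm : G.presheaf.germ V x hxV m = G.presheaf.germ (W.ι ''ᵁ O) x hxO m' :=
      (TopCat.Presheaf.germ_res_apply G.presheaf (homOfLE (W.ι.image_preimage_le V)) x hxO m).symm
    show _ = ψ (G.presheaf.germ V x hxV m)
    rw [hm]
    show (Scheme.Modules.restrictStalkNatIso W.ι ⟨x, hxW⟩).hom.app F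
      ((TopCat.Presheaf.stalkFunctor _ (⟨x, hxW⟩ : W)).map φ.mapPresheaf
        ((Scheme.Modules.restrictStalkNatIso W.ι ⟨x, hxW⟩).inv.app G (G.presheaf.germ V x hxV m))) = _
    rw [hm]
    erw [ConcreteCategory.congr_hom (Scheme.Modules.germ_restrictStalkNatIso_inv_app W.ι (⟨x, hxW⟩ : W) G hx') m',
      TopCat.Presheaf.stalkFunctor_map_germ_apply,
      ConcreteCategory.congr_hom (Scheme.Modules.germ_restrictStalkNatIso_hom_app W.ι (⟨x, hxW⟩ : W) F hx')]
    exact (Groth.Agent.RefX.germ_app (hi O) g m' hxO).trans (LinearMap.congr_fun hg _)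

end Groth.Agent.S9526
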