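import Groth.Statements.S9542
import Groth.Agent.FormalDual.Final
import Groth.Agent.LefAlgz.LefPunct
set_option backward.isDefEq.respectTransparency false
set_option backward.isDefEq.respectTransparency.types false
set_option linter.style.haveILetI false

set_option autoImplicit false
universe u
open CategoryTheory
attribute [local instance] HasDerivedCategory.standard
open Formal2

namespace Groth.Agent.S9542

open AlgebraicGeometry Opposite in
/-- Let I ⊆ 𝔞 be ideals of a Noetherian ring A which is I-adically complete and has a dualizing complex,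
let d bound the cohomological dimension of I, and let U = Spec A ∖ V(𝔞). Assume that for every
associated prime 𝔭 of A with I ⊄ 𝔭 and V(𝔭) ∩ V(I) ⊄ V(𝔞) and every prime 𝔮 ⊇ 𝔭 + 𝔞 the dimension of
(A/𝔭)_𝔮 exceeds d + 1, and that depth A_𝔭 ≥ 2 for every prime 𝔭 with I ⊄ 𝔭 and V(𝔭) ∩ V(I) ⊆ V(𝔞).
Then the completion functor for I is fully faithful on finite locally free O_U-modules: every
morphism of systems (E/I^nE) → (E'/I^nE') comes from exactly one morphism E → E'. -/
theorem result (A : Type u) [CommRing A] [IsNoetherianRing A]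
    (I 𝔞 : Ideal A) (hI : I ≤ 𝔞) [IsAdicComplete I A] (hω : ∃ ω : Dual.D A, Dual.IsDualizing A ω)
    (d : ℕ) (hd : LocCoh.CdLE A I d)
    (h₂ : ∀ p ∈ associatedPrimes A A, ¬ I ≤ p →
      (∃ r : Ideal A, r.IsPrime ∧ p ≤ r ∧ I ≤ r ∧ ¬ 𝔞 ≤ r) →
        ∀ (q : Ideal A) [q.IsPrime], p ≤ q → 𝔞 ≤ q → ((d + 1 : ℕ) : WithBot ℕ∞) < Formal2.dimBetween A p q)
    (h₃ : ∀ (p : Ideal A) [p.IsPrime], ¬ I ≤ p →
      (∀ (r : Ideal A), r.IsPrime → p ≤ r → I ≤ r → 𝔞 ≤ r) →
        (2 : ℕ∞) ≤ LocCoh.depth (Localization.AtPrime p) (Localization.AtPrime p)) :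
    ∀ (E E' : (↑(LocCoh.puncturedOpen A 𝔞) : Scheme.{u}).Modules), FlatMod.IsFinLocFree E → FlatMod.IsFinLocFree E' →
      ∀ ψ : Formal.completion I E ⟶ Formal.completion I E',
        ∃! φ : E ⟶ E', ∀ n : ℕ, Formal.modPowπ I (n + 1) E ≫ ψ.app (op n) = φ ≫ Formal.modPowπ I (n + 1) E' := by
  intro E E' hE hE' ψ
  let U : (Spec (CommRingCat.of A)).Opens := LocCoh.puncturedOpen A 𝔞
  let X : Scheme.{u} := (U : Scheme.{u})
  haveI : IsNoetherianRing (CommRingCat.of A) := inferInstanceAs (IsNoetherianRing A)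
  haveI : IsNoetherian (Spec (CommRingCat.of A)) := inferInstance
  haveI : IsLocallyNoetherian X := LocallyOfFiniteType.isLocallyNoetherian U.ι
  haveI : CompactSpace X :=
    isCompact_iff_compactSpace.1 (TopologicalSpace.NoetherianSpace.isCompact _)
  haveI : IsNoetherian X := ⟨⟩
  haveI : X.IsQuasiAffine := Scheme.IsQuasiAffine.of_isImmersion U.ι
  have hU : Formal2.FormalCohBijective A I A 0 U := by
    refine FormalDual.Final.bijective_self I 𝔞 hI hω hd A (FormalDual.Final.depthCond_one I 𝔞 A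
      (fun p hp _ hIp => h₂ p hp hIp)) (fun p _ hIp hT => ?_) 0 Nat.one_pos
    exact lt_of_lt_of_le (by exact_mod_cast one_lt_two) (h₃ p.asIdeal hIp fun r hr hpr hIr => hT ⟨r, hr⟩ hpr hIr)
  have hO : H9FCoh.QAff.SecBij I (Coh.structureModule X) := by
    refine LefAlgz.secBij_of_iso _ (Scheme.Modules.restrictUnitIso U.ι) (LefAlgz.secBij_rt _ A U.ι rfl ?_)
    rwa [show U.ι ''ᵁ ⊤ = U by rw [Scheme.Hom.image_top_eq_opensRange, Scheme.Opens.opensRange_ι]]
  have hEc : Coh.IsCoh E := QCoh.isCoh_iff_isFP.2 (QCoh.isFP_of_isFinLocFree hE)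
  have hEc' : Coh.IsCoh E' := QCoh.isCoh_iff_isFP.2 (QCoh.isFP_of_isFinLocFree hE')
  exact SheafHomX.existsUnique_of_bijective I hEc hEc'
    ((H9FCoh.QAff.bijective_toHHlim_iff _ _).2
      (H9FCoh.QAff.secBij_of_isFinLocFree _ (SheafHomX.isFinLocFree_hom hE hE') hO)) ψ

end Groth.Agent.S9542
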