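import Groth.Statements.S9543
import Groth.Agent.LefAlgz.LefPunct
set_option backward.isDefEq.respectTransparency false
set_option backward.isDefEq.respectTransparency.types false
set_option linter.style.haveILetI false

set_option autoImplicit false
set_option linter.style.haveILetI false
set_option backward.isDefEq.respectTransparency false
set_option backward.isDefEq.respectTransparency.types false
universe u
open CategoryTheory
open Formal2

namespace Groth.Agent.S9543

open AlgebraicGeometry Opposite in
/-- Let A be a Noetherian ring, f an element of an ideal 𝔞 with A complete for the f-adic topology, U =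
Spec A ∖ V(𝔞), and assume that H^1_𝔞(A) and H^2_𝔞(A) are each annihilated by a power of f. Then the
completion functor for the ideal (f) is fully faithful on finite locally free O_U-modules. (The
published statement writes the target category with an unnamed ideal I; the proof is for the ideal
(f), which is what is stated.) -/
theorem result (A : Type u) [CommRing A]
    [IsNoetherianRing A] (𝔞 : Ideal A) (f : A) (hf : f ∈ 𝔞) [IsAdicComplete (Ideal.span {f}) A]
    (h₁ : ∃ n : ℕ, ∀ x : LocCoh.H 𝔞 1 A, f ^ n • x = 0) (h₂ : ∃ n : ℕ, ∀ x : LocCoh.H 𝔞 2 A, f ^ n • x = 0) :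
    ∀ (E E' : (↑(LocCoh.puncturedOpen A 𝔞) : Scheme.{u}).Modules), FlatMod.IsFinLocFree E → FlatMod.IsFinLocFree E' →
      ∀ ψ : Formal.completion (Ideal.span {f}) E ⟶ Formal.completion (Ideal.span {f}) E',
        ∃! φ : E ⟶ E', ∀ n : ℕ, Formal.modPowπ (Ideal.span {f}) (n + 1) E ≫ ψ.app (op n) = φ ≫ Formal.modPowπ (Ideal.span {f}) (n + 1) E' := by
  intro E E' hE hE' ψ
  let U : (Spec (CommRingCat.of A)).Opens := LocCoh.puncturedOpen A 𝔞
  let X : Scheme.{u} := (U : Scheme.{u})
  haveI : IsNoetherianRing (CommRingCat.of A) := inferInstanceAs (IsNoetherianRing A)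
  haveI : IsNoetherian (Spec (CommRingCat.of A)) := inferInstance
  haveI : IsLocallyNoetherian X := LocallyOfFiniteType.isLocallyNoetherian U.ι
  haveI : CompactSpace X :=
    isCompact_iff_compactSpace.1 (TopologicalSpace.NoetherianSpace.isCompact _)
  haveI : IsNoetherian X := ⟨⟩
  haveI : X.IsQuasiAffine := Scheme.IsQuasiAffine.of_isImmersion U.ι
  have hU : Formal2.FormalCohBijective A (Ideal.span {f}) A 0 U := H9Lef.formalCohBijective_zero 𝔞 f A h₁ h₂
  have hO : H9FCoh.QAff.SecBij (Ideal.span {f}) (Coh.structureModule X) := by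
    refine LefAlgz.secBij_of_iso _ (Scheme.Modules.restrictUnitIso U.ι) (LefAlgz.secBij_rt _ A U.ι rfl ?_)
    rwa [show U.ι ''ᵁ ⊤ = U by rw [Scheme.Hom.image_top_eq_opensRange, Scheme.Opens.opensRange_ι]]
  have hEc : Coh.IsCoh E := QCoh.isCoh_iff_isFP.2 (QCoh.isFP_of_isFinLocFree hE)
  have hEc' : Coh.IsCoh E' := QCoh.isCoh_iff_isFP.2 (QCoh.isFP_of_isFinLocFree hE')
  exact SheafHomX.existsUnique_of_bijective (Ideal.span {f}) hEc hEc'
    ((H9FCoh.QAff.bijective_toHHlim_iff _ _).2
      (H9FCoh.QAff.secBij_of_isFinLocFree _ (SheafHomX.isFinLocFree_hom hE hE') hO)) ψ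

end Groth.Agent.S9543
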