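import Groth.Statements.S9567
import Mathlib
-- import your own Groth.Agent.* helpers here

set_option autoImplicit false
universe u
open EtLocal

attribute [-instance] CategoryTheory.catToReflQuiver

namespace Groth.Agent.S9567

open AlgebraicGeometry CategoryTheory in
/-- Let φ : X ⟶ Y be any morphism of schemes, x a point of X and V an affine open neighbourhood of φ(x),
with ring R = Γ(Y, V). If φ is étale on some open neighbourhood of x, then there are an affine open
neighbourhood U of x with φ(U) ⊆ V, a monic polynomial p over R and an open immersion j of U into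
Spec of (R[t]/(p))[1/p′] (the localization of R[t]/(p) away from the image of the derivative of p)
such that j followed by the projection to Spec R is the morphism U → Spec R induced by φ. -/
theorem result {X Y : Scheme.{u}} (φ : X ⟶ Y) (x : X)
    (V : Y.Opens) (hV : IsAffineOpen V) (hxV : φ.base x ∈ V)
    (hφ : ∃ W : X.Opens, x ∈ W ∧ Etale (W.ι ≫ φ)) :
    ∃ (U : X.Opens) (hU : IsAffineOpen U) (_ : x ∈ U) (e : U ≤ φ ⁻¹ᵁ V)
      (p : Polynomial Γ(Y, V)) (_ : p.Monic)
      (j : U.toScheme ⟶ Spec (CommRingCat.of (Localization.Away (AdjoinRoot.mk p (Polynomial.derivative p))))),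
      IsOpenImmersion j ∧
        j ≫ Spec.map (CommRingCat.ofHom
            (algebraMap Γ(Y, V) (Localization.Away (AdjoinRoot.mk p (Polynomial.derivative p))))) =
          hU.isoSpec.hom ≫ Spec.map (φ.appLE V U e) := by
  obtain ⟨W, hxW, hW⟩ := hφ
  obtain ⟨U₀, hU₀, hxU₀, hle⟩ := exists_isAffineOpen_mem_and_subset (U := W ⊓ φ ⁻¹ᵁ V) (x := x) ⟨hxW, hxV⟩
  have hUW : U₀ ≤ W := fun y hy => (hle hy).1
  have hUV : U₀ ≤ φ ⁻¹ᵁ V := fun y hy => (hle hy).2
  haveI : Etale (U₀.ι ≫ φ) := by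
    rw [← X.homOfLE_ι hUW, Category.assoc]
    infer_instance
  haveI : IsAffine U₀ := hU₀
  have het : (φ.appLE V U₀ hUV).hom.Etale := by
    have h1 := (U₀.ι ≫ φ).etale_appLE hV (isAffineOpen_top (U₀ : Scheme.{u})) (fun y _ => hUV y.2)
    have h2 : (U₀.ι ≫ φ).appLE V ⊤ (fun y _ => hUV y.2) = φ.appLE V U₀ hUV ≫ U₀.topIso.inv := by
      simp [Scheme.Hom.appLE]
      exact (Category.assoc _ _ _).trans ((congrArg _ ((X.presheaf.map_comp _ _).symm.trans
        ((congrArg X.presheaf.map (Subsingleton.elim _ _)).trans (X.presheaf.map_comp _ _)))).trans (Category.assoc _ _ _).symm)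
    rw [h2] at h1
    have h3 := RingHom.Etale.respectsIso.1 _ U₀.topIso.commRingCatIsoToRingEquiv h1
    convert! h3 using 1
    ext r
    exact (Iso.inv_hom_id_apply U₀.topIso _).symm
  letI : Algebra Γ(Y, V) Γ(X, U₀) := (φ.appLE V U₀ hUV).hom.toAlgebra
  haveI : Algebra.Etale Γ(Y, V) Γ(X, U₀) := RingHom.etale_algebraMap.1 het
  let P₀ : Ideal Γ(X, U₀) := (hU₀.primeIdealOf ⟨x, hxU₀⟩).asIdeal
  haveI : P₀.IsPrime := (hU₀.primeIdealOf ⟨x, hxU₀⟩).2
  obtain ⟨g, hg, hstd⟩ := Algebra.IsEtaleAt.exists_isStandardEtale (R := Γ(Y, V)) P₀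
  haveI := hstd
  let U := X.basicOpen g
  have hU : IsAffineOpen U := hU₀.basicOpen g
  have hxU : x ∈ U := by
    have h1 : hU₀.primeIdealOf ⟨x, hxU₀⟩ ∈ hU₀.fromSpec ⁻¹ᵁ U := by
      rw [hU₀.fromSpec_preimage_basicOpen]
      exact hg
    have h2 : hU₀.fromSpec (hU₀.primeIdealOf ⟨x, hxU₀⟩) ∈ U := h1
    rwa [hU₀.fromSpec_primeIdealOf] at h2
  have e : U ≤ φ ⁻¹ᵁ V := (X.basicOpen_le g).trans hUV
  letI : Algebra Γ(Y, V) Γ(X, U) := (φ.appLE V U e).hom.toAlgebra
  haveI := hU₀.isLocalization_basicOpen g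
  haveI : IsScalarTower Γ(Y, V) Γ(X, U₀) Γ(X, U) := IsScalarTower.of_algebraMap_eq' (by
    show (φ.appLE V U e).hom = _
    rw [← Scheme.Hom.appLE_map φ hUV (homOfLE (X.basicOpen_le g)).op]
    rfl)
  haveI : Algebra.IsStandardEtale Γ(Y, V) Γ(X, U) := Algebra.IsStandardEtale.of_equiv
    ((IsLocalization.algEquiv (Submonoid.powers g) (Localization.Away g) Γ(X, U)).restrictScalars Γ(Y, V))
  obtain ⟨P⟩ := Algebra.IsStandardEtale.nonempty_standardEtalePresentation (R := Γ(Y, V)) (S := Γ(X, U))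
  let ε := (P.equivRing.trans P.P.equivAwayAdjoinRoot).symm
  let A := AdjoinRoot P.f
  let L := Localization.Away (AdjoinRoot.mk P.f P.g)
  let L' := Localization.Away (AdjoinRoot.mk P.f (Polynomial.derivative P.f))
  have hu : IsUnit (algebraMap A L (AdjoinRoot.mk P.f (Polynomial.derivative P.f))) := by
    obtain ⟨p₁, p₂, n, hn⟩ := P.cond
    have h1 : AdjoinRoot.mk P.f (Polynomial.derivative P.f) ∣ AdjoinRoot.mk P.f P.g ^ n :=
      ⟨AdjoinRoot.mk P.f p₁, by rw [← map_pow, ← hn, map_add, map_mul, map_mul, AdjoinRoot.mk_self, zero_mul, add_zero]⟩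
    refine isUnit_of_dvd_unit (map_dvd (algebraMap A L) h1) ?_
    rw [map_pow]
    exact (IsLocalization.Away.algebraMap_isUnit _).pow n
  let ev : L' →+* L := IsLocalization.Away.lift _ hu
  have hev : ∀ a : A, ev (algebraMap A L' a) = algebraMap A L a := fun a => IsLocalization.Away.lift_eq _ hu a
  let χ : L' →+* Γ(X, U) := ε.toRingEquiv.toRingHom.comp ev
  refine ⟨U, hU, hxU, e, P.f, P.monic_f, hU.isoSpec.hom ≫ Spec.map (CommRingCat.ofHom χ), ?_, ?_⟩
  · haveI : IsOpenImmersion (Spec.map (CommRingCat.ofHom ev)) := by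
      haveI : IsOpenImmersion (Spec.map (CommRingCat.ofHom (algebraMap A L'))) :=
        IsOpenImmersion.of_isLocalization (AdjoinRoot.mk P.f (Polynomial.derivative P.f))
      haveI : IsOpenImmersion (Spec.map (CommRingCat.ofHom ev) ≫ Spec.map (CommRingCat.ofHom (algebraMap A L'))) := by
        rw [← Spec.map_comp, show CommRingCat.ofHom (algebraMap A L') ≫ CommRingCat.ofHom ev = CommRingCat.ofHom (algebraMap A L) from CommRingCat.hom_ext (RingHom.ext hev)]
        exact IsOpenImmersion.of_isLocalization (AdjoinRoot.mk P.f P.g)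
      exact IsOpenImmersion.of_comp _ (Spec.map (CommRingCat.ofHom (algebraMap A L')))
    haveI : IsIso (CommRingCat.ofHom ε.toRingEquiv.toRingHom) := ε.toRingEquiv.toCommRingCatIso.isIso_hom
    rw [show CommRingCat.ofHom χ = CommRingCat.ofHom ev ≫ CommRingCat.ofHom ε.toRingEquiv.toRingHom from rfl, Spec.map_comp]
    infer_instance
  · rw [Category.assoc, ← Spec.map_comp]
    refine congrArg (fun m => hU.isoSpec.hom ≫ Spec.map m) (CommRingCat.hom_ext (RingHom.ext fun r => ?_))
    show ε (ev (algebraMap Γ(Y, V) L' r)) = algebraMap Γ(Y, V) Γ(X, U) r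
    rw [IsScalarTower.algebraMap_apply Γ(Y, V) A L', hev, ← IsScalarTower.algebraMap_apply Γ(Y, V) A L, AlgEquiv.commutes]

end Groth.Agent.S9567
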