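import Groth.Statements.S9654
-- import your own Groth.Agent.* helpers here
import Mathlib

set_option linter.style.haveILetI false

set_option autoImplicit false
universe u
open CAlg

namespace Groth.Agent.S9654

/-- Polynomials in mutually inverse elements meet only in integral elements. -/
theorem isIntegral_of_mem_adjoin_inv {R L : Type u} [CommRing R] [CommRing L] [Algebra R L] (t u z : L)
    (htu : t * u = 1) (h₁ : z ∈ Algebra.adjoin R {t}) (h₂ : z ∈ Algebra.adjoin R {u}) : IsIntegral R z := by
  classical
  rw [Algebra.adjoin_singleton_eq_range_aeval] at h₁ h₂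
  obtain ⟨P, hP⟩ := h₁
  obtain ⟨Q, hQ⟩ := h₂
  let n := P.natDegree
  let m := Q.natDegree
  let v : ℕ → L := fun k => u ^ m * t ^ k
  let M : Submodule R L := Submodule.span R ((Finset.range (n + m + 1)).image v : Set L)
  have hv : ∀ k ≤ n + m, v k ∈ M := fun k hk =>
    Submodule.subset_span (Finset.mem_coe.2 (Finset.mem_image.2 ⟨k, Finset.mem_range.2 (by omega), rfl⟩))
  have hmul : ∀ w ∈ M, z * w ∈ M := by
    intro w hw
    refine Submodule.span_induction (p := fun w _ => z * w ∈ M) ?_ (by rw [mul_zero]; exact zero_mem _)
      (fun a b _ _ ha hb => by rw [mul_add]; exact add_mem ha hb)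
      (fun r a _ ha => by rw [mul_smul_comm]; exact Submodule.smul_mem _ r ha) hw
    intro w hw
    obtain ⟨k, hk, rfl⟩ := Finset.mem_image.1 (Finset.mem_coe.1 hw)
    rw [Finset.mem_range] at hk
    by_cases hkm : k ≤ m
    · rw [← hP]
      show (Polynomial.aeval t P) * v k ∈ M
      rw [Polynomial.aeval_eq_sum_range, Finset.sum_mul]
      refine Submodule.sum_mem _ fun i hi => ?_
      rw [Finset.mem_range] at hi
      rw [smul_mul_assoc]
      refine Submodule.smul_mem _ _ ?_
      rw [show t ^ i * v k = v (k + i) by simp only [v]; rw [pow_add]; ring]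
      exact hv _ (by omega)
    · rw [← hQ]
      show (Polynomial.aeval u Q) * v k ∈ M
      rw [Polynomial.aeval_eq_sum_range, Finset.sum_mul]
      refine Submodule.sum_mem _ fun i hi => ?_
      rw [Finset.mem_range] at hi
      rw [smul_mul_assoc]
      refine Submodule.smul_mem _ _ ?_
      rw [show u ^ i * v k = v (k - i) by
        simp only [v]
        conv_lhs => rw [show k = i + (k - i) by omega, pow_add]
        rw [show u ^ i * (u ^ m * (t ^ i * t ^ (k - i))) = (t * u) ^ i * (u ^ m * t ^ (k - i)) by ring,
          htu, one_pow, one_mul]]
      exact hv _ (by omega)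
  haveI : Module.Finite R M := Module.Finite.of_fg ⟨_, rfl⟩
  let f : Module.End R M := (LinearMap.mulLeft R z).restrict hmul
  obtain ⟨p, hp, hp0⟩ := LinearMap.exists_monic_and_aeval_eq_zero R f
  have h1M : (1 : L) ∈ M := by
    have := hv m (by omega)
    rwa [show v m = 1 by simp only [v]; rw [← mul_pow, mul_comm u t, htu, one_pow]] at this
  refine ⟨p, hp, ?_⟩
  have hpow : ∀ (q : Polynomial R) (w : M), ((Polynomial.aeval f q) w : L) = Polynomial.aeval z q * (w : L) := by
    intro q
    induction q using Polynomial.induction_on' with
    | add a b ha hb => intro w; rw [map_add, map_add, LinearMap.add_apply, Submodule.coe_add, ha, hb, add_mul]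
    | monomial k r =>
      intro w
      rw [Polynomial.aeval_monomial, Polynomial.aeval_monomial, Module.End.mul_apply,
        Module.algebraMap_end_apply, Submodule.coe_smul, Algebra.smul_def, mul_assoc]
      congr 1
      induction k generalizing w with
      | zero => simp
      | succ k ih =>
        rw [pow_succ', Module.End.mul_apply, pow_succ', mul_assoc, ← ih]
        rfl
  have h := hpow p ⟨1, h1M⟩
  rw [hp0, LinearMap.zero_apply, ZeroMemClass.coe_zero, mul_one] at h
  exact h.symm

/-- Let R be a ring and x, y ∈ R nonzerodivisors. In the localization R_{xy} let a = x/y and b = y/x,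
and let R[a], R[b], R[a, b] be the R-subalgebras they generate. If R is integrally closed in R_x or
in R_y, then the sequence 0 → R → R[a] ⊕ R[b] → R[a, b] → 0 (difference map, then sum map) is short
exact; equivalently R[a] ∩ R[b] is the image of R and R[a] + R[b] = R[a, b] inside R_{xy}. -/
theorem result {R : Type u} [CommRing R] (x y : R) (hx : x ∈ nonZeroDivisors R) (hy : y ∈ nonZeroDivisors R)
    (hint : IsIntegrallyClosedIn R (Localization.Away x) ∨ IsIntegrallyClosedIn R (Localization.Away y)) :
    (Algebra.adjoin R {algebraMap R (Localization.Away (x * y)) (x * x) * IsLocalization.Away.invSelf (x * y)}).toSubmodule ⊓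
        (Algebra.adjoin R {algebraMap R (Localization.Away (x * y)) (y * y) * IsLocalization.Away.invSelf (x * y)}).toSubmodule =
        (⊥ : Subalgebra R (Localization.Away (x * y))).toSubmodule ∧
      (Algebra.adjoin R {algebraMap R (Localization.Away (x * y)) (x * x) * IsLocalization.Away.invSelf (x * y)}).toSubmodule ⊔
        (Algebra.adjoin R {algebraMap R (Localization.Away (x * y)) (y * y) * IsLocalization.Away.invSelf (x * y)}).toSubmodule =
        (Algebra.adjoin R {algebraMap R (Localization.Away (x * y)) (x * x) * IsLocalization.Away.invSelf (x * y), algebraMap R (Localization.Away (x * y)) (y * y) * IsLocalization.Away.invSelf (x * y)}).toSubmodule := by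
  classical
  set L := Localization.Away (x * y)
  set t : L := algebraMap R L (x * x) * IsLocalization.Away.invSelf (x * y) with ht
  set u : L := algebraMap R L (y * y) * IsLocalization.Away.invSelf (x * y) with hu
  have hinv : algebraMap R L (x * y) * IsLocalization.Away.invSelf (x * y) = 1 := IsLocalization.Away.mul_invSelf _
  have htu : t * u = 1 := by
    rw [ht, hu]
    rw [map_mul] at hinv
    simp only [map_mul]
    linear_combination (algebraMap R L x * algebraMap R L y * IsLocalization.Away.invSelf (x * y) + 1) * hinv
  have hnz : Submonoid.powers (x * y) ≤ nonZeroDivisors R := Submonoid.powers_le.2 (mul_mem hx hy)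
  have hinjL : Function.Injective (algebraMap R L) := IsLocalization.injective L hnz
  refine ⟨le_antisymm ?_ (le_inf ?_ ?_), ?_⟩
  · rintro z ⟨hz₁, hz₂⟩
    have hz : IsIntegral R z := isIntegral_of_mem_adjoin_inv t u z htu hz₁ hz₂
    -- a general step: the element comes from one of the two localizations
    have key : ∀ (a b : R) (hab : a * b = x * y), b ∈ nonZeroDivisors R →
        IsIntegrallyClosedIn R (Localization.Away a) →
        z ∈ Algebra.adjoin R {algebraMap R L (b * b) * IsLocalization.Away.invSelf (x * y)} →
        z ∈ (⊥ : Subalgebra R L) := by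
      intro a b hab hb hcl hzb
      haveI := hcl
      have hunit : IsUnit (algebraMap R L a) :=
        IsUnit.of_mul_eq_one (algebraMap R L b * IsLocalization.Away.invSelf (x * y)) (by
          rw [← mul_assoc, ← map_mul, hab, hinv])
      let ι : Localization.Away a →ₐ[R] L :=
        IsLocalization.liftAlgHom (M := Submonoid.powers a) (f := Algebra.ofId R L) (by
          rintro ⟨_, k, rfl⟩
          rw [show (Algebra.ofId R L) (a ^ k) = algebraMap R L a ^ k from map_pow (algebraMap R L) a k]
          exact hunit.pow k)
      have hι : Function.Injective ι := by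
        rw [injective_iff_map_eq_zero]
        intro w hw
        obtain ⟨r, s, rfl⟩ := IsLocalization.exists_mk'_eq (Submonoid.powers a) w
        have h1 := congrArg ι (IsLocalization.mk'_spec (Localization.Away a) r s)
        rw [map_mul, hw, zero_mul, AlgHom.commutes] at h1
        rw [hinjL (h1.symm.trans (map_zero _).symm), IsLocalization.mk'_zero]
      have hmem : algebraMap R L (b * b) * IsLocalization.Away.invSelf (x * y) ∈ ι.range := by
        refine ⟨algebraMap R (Localization.Away a) b * IsLocalization.Away.invSelf a, ?_⟩
        show ι _ = _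
        rw [map_mul, AlgHom.commutes, map_mul, mul_assoc]
        congr 1
        have h1 := congrArg ι (IsLocalization.Away.mul_invSelf (S := Localization.Away a) a)
        rw [map_mul, AlgHom.commutes, map_one] at h1
        have hinv' : algebraMap R L a * algebraMap R L b * IsLocalization.Away.invSelf (x * y) = 1 := by
          rw [← map_mul, hab]; exact hinv
        calc ι (IsLocalization.Away.invSelf a) = ι (IsLocalization.Away.invSelf a) *
              (algebraMap R L a * algebraMap R L b * IsLocalization.Away.invSelf (x * y)) := by
              rw [hinv', mul_one]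
          _ = algebraMap R L b * IsLocalization.Away.invSelf (x * y) := by
              linear_combination (algebraMap R L b * IsLocalization.Away.invSelf (x * y)) * h1
      obtain ⟨w, rfl⟩ := Algebra.adjoin_le (Set.singleton_subset_iff.2 hmem) hzb
      have hw : IsIntegral R w := (isIntegral_algHom_iff ι hι).1 hz
      obtain ⟨r, rfl⟩ := IsIntegrallyClosedIn.algebraMap_eq_of_integral hw
      exact ⟨r, (ι.commutes r).symm⟩
    rcases hint with h | h
    · exact key x y rfl hy h hz₂
    · exact key y x (mul_comm y x) hx h hz₁
  · exact bot_le (a := Algebra.adjoin R {t})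
  · exact bot_le (a := Algebra.adjoin R {u})
  · clear_value t u
    refine le_antisymm (sup_le (Algebra.adjoin_mono (by simp)) (Algebra.adjoin_mono (by simp))) ?_
    rw [Algebra.adjoin_eq_span, Submodule.span_le]
    intro w hw
    obtain ⟨a, b, rfl⟩ : ∃ a b : ℕ, w = t ^ a * u ^ b := by
      induction hw using Submonoid.closure_induction with
      | mem w hw =>
        rcases hw with rfl | rfl
        · exact ⟨1, 0, by simp⟩
        · exact ⟨0, 1, by simp⟩
      | one => exact ⟨0, 0, by simp⟩
      | mul p q _ _ hp hq =>
        obtain ⟨a, b, rfl⟩ := hp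
        obtain ⟨c, d, rfl⟩ := hq
        exact ⟨a + c, b + d, by ring⟩
    rcases le_total b a with h | h
    · refine Submodule.mem_sup_left ?_
      rw [show t ^ a * u ^ b = t ^ (a - b) * (t * u) ^ b by rw [mul_pow, ← mul_assoc, ← pow_add, Nat.sub_add_cancel h],
        htu, one_pow, mul_one]
      exact pow_mem (Algebra.self_mem_adjoin_singleton R t) _
    · refine Submodule.mem_sup_right ?_
      rw [show t ^ a * u ^ b = u ^ (b - a) * (t * u) ^ a by
          rw [mul_pow, mul_left_comm, ← pow_add, Nat.sub_add_cancel h, mul_comm],
        htu, one_pow, mul_one]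
      exact pow_mem (Algebra.self_mem_adjoin_singleton R u) _

end Groth.Agent.S9654
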