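import Groth.Statements.S9659
-- import your own Groth.Agent.* helpers here
import Mathlib.RingTheory.GradedAlgebra.Homogeneous.Ideal
import Mathlib.RingTheory.GradedAlgebra.Radical
import Mathlib.RingTheory.Spectrum.Prime.Topology

set_option autoImplicit false
universe u
open CAlg

namespace Groth.Agent.S9659

open DirectSum

section

variable {R S : Type u} [CommRing R] [CommRing S] [Algebra R S] (𝒜 : ℤ → Submodule R S) [GradedAlgebra 𝒜]

/-- Powers of a homogeneous unit are homogeneous. -/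
theorem unit_zpow_mem (u : Sˣ) (d : ℤ) (hf : (u : S) ∈ 𝒜 d) (n : ℤ) : ((u ^ n : Sˣ) : S) ∈ 𝒜 (n * d) := by
  have hinv : ((u⁻¹ : Sˣ) : S) ∈ 𝒜 (-d) := by
    set g := ((u⁻¹ : Sˣ) : S) with hg
    have h1 : (u : S) * (decompose 𝒜 g (-d) : S) = 1 := by
      have h2 := coe_decompose_mul_add_of_left_mem (b := g) (j := -d) 𝒜 hf
      rw [add_neg_cancel, hg, Units.mul_inv, decompose_of_mem_same 𝒜 SetLike.GradedOne.one_mem] at h2
      exact h2.symm
    have h3 : (decompose 𝒜 g (-d) : S) = g := by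
      rw [← one_mul (decompose 𝒜 g (-d) : S), ← Units.inv_mul u, mul_assoc, h1, mul_one]
    exact h3 ▸ SetLike.coe_mem _
  induction n using Int.induction_on with
  | zero => simpa using SetLike.GradedOne.one_mem
  | succ n ih =>
    rw [zpow_add_one, Units.val_mul, add_mul, one_mul]
    exact SetLike.GradedMul.mul_mem ih hf
  | pred n ih =>
    rw [zpow_sub_one, Units.val_mul, sub_mul, one_mul, sub_eq_add_neg]
    exact SetLike.GradedMul.mul_mem ih hinv

/-- The degree zero element attached to a homogeneous element of degree `i`. -/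
noncomputable def tr (u : Sˣ) (d i : ℤ) (x : S) : S := x ^ d.toNat * ((u ^ (-i) : Sˣ) : S)

theorem tr_mem (u : Sˣ) (d : ℤ) (hd : 0 < d) (hf : (u : S) ∈ 𝒜 d) {i : ℤ} {x : S} (hx : x ∈ 𝒜 i) :
    tr u d i x ∈ 𝒜 0 := by
  have h := SetLike.GradedMul.mul_mem (SetLike.pow_mem_graded d.toNat hx) (unit_zpow_mem 𝒜 u d hf (-i))
  have e : d.toNat • i + -i * d = 0 := by
    rw [nsmul_eq_mul, Int.toNat_of_nonneg hd.le]; ring
  rwa [e] at h

theorem tr_mem_iff {u : Sˣ} {d : ℤ} (hd : 0 < d) {i : ℤ} {x : S} (p : Ideal S) [p.IsPrime] :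
    tr u d i x ∈ p ↔ x ∈ p := by
  rw [tr, Ideal.mul_unit_mem_iff_mem p (Units.isUnit _)]
  exact ⟨fun h => Ideal.IsPrime.mem_of_pow_mem ‹_› _ h, fun h => Ideal.pow_mem_of_mem p h _ (by omega)⟩

end

/-- Let S be a ℤ-graded ring which contains an invertible homogeneous element of positive degree. Then
the set of homogeneous prime ideals of S, with the topology induced from Spec(S), maps
homeomorphically onto Spec(S₀) by p ↦ p ∩ S₀. -/
theorem result {R S : Type u} [CommRing R] [CommRing S] [Algebra R S] (𝒜 : ℤ → Submodule R S) [GradedAlgebra 𝒜]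
    (f : S) (d : ℤ) (hd : 0 < d) (hf : f ∈ 𝒜 d) (hu : IsUnit f) :
    IsHomeomorph (fun p : {p : PrimeSpectrum S // p.asIdeal.IsHomogeneous 𝒜} => PrimeSpectrum.comap (SetLike.GradeZero.subring 𝒜).subtype p.1) := by
  classical
  obtain ⟨u, rfl⟩ := hu
  set S₀ := SetLike.GradeZero.subring 𝒜
  set φ := fun p : {p : PrimeSpectrum S // p.asIdeal.IsHomogeneous 𝒜} => PrimeSpectrum.comap S₀.subtype p.1
    with hφ
  have hkey : ∀ (p : {p : PrimeSpectrum S // p.asIdeal.IsHomogeneous 𝒜}) (i : ℤ) (x : S) (hx : x ∈ 𝒜 i),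
      (⟨tr u d i x, tr_mem 𝒜 u d hd hf hx⟩ : S₀) ∈ (φ p).asIdeal ↔ x ∈ p.1.asIdeal := fun p i x _ =>
    tr_mem_iff hd p.1.asIdeal
  have hinj : Function.Injective φ := by
    intro p p' h
    refine Subtype.ext (PrimeSpectrum.ext (SetLike.ext fun x => ?_))
    rw [p.2.mem_iff, p'.2.mem_iff]
    refine forall_congr' fun i => ?_
    rw [← hkey p i _ (SetLike.coe_mem _), ← hkey p' i _ (SetLike.coe_mem _), h]
  have hsurj : Function.Surjective φ := by
    intro P
    have me : ∀ {a : S₀} (b : S₀), (a : S) = (b : S) → b ∈ P.asIdeal → a ∈ P.asIdeal := fun b e h => Subtype.ext e ▸ h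
    have hle : (P.asIdeal.map S₀.subtype).comap S₀.subtype ≤ P.asIdeal := by
      intro a ha
      have key : ∀ y ∈ P.asIdeal.map S₀.subtype,
          (⟨(decompose 𝒜 y 0 : S), SetLike.coe_mem _⟩ : S₀) ∈ P.asIdeal := by
        intro y hy
        induction hy using Submodule.span_induction with
        | mem y hy =>
          obtain ⟨b, hb, rfl⟩ := hy
          refine me _ ?_ (hb)
          exact (decompose_of_mem_same 𝒜 b.2)
        | zero =>
          refine me _ ?_ (P.asIdeal.zero_mem)
          exact (by simp)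
        | add y y' _ _ h h' =>
          refine me _ ?_ (P.asIdeal.add_mem h h')
          exact (by rw [decompose_add]; rfl)
        | smul s y hy' h =>
          have hy'' : ∀ s : S, (⟨(decompose 𝒜 (s * y) 0 : S), SetLike.coe_mem _⟩ : S₀) ∈ P.asIdeal := by
            clear h
            induction hy' using Submodule.span_induction with
            | mem y hy =>
              obtain ⟨b, hb, rfl⟩ := hy
              intro s
              refine me _ ?_ (P.asIdeal.mul_mem_left ⟨(decompose 𝒜 s 0 : S), SetLike.coe_mem _⟩ hb)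
              exact (coe_decompose_mul_of_right_mem_zero 𝒜 b.2)
            | zero =>
              intro s
              refine me _ ?_ (P.asIdeal.zero_mem)
              exact (by simp)
            | add y y' _ _ h h' =>
              intro s
              refine me _ ?_ (P.asIdeal.add_mem (h s) (h' s))
              exact (by rw [mul_add, decompose_add]; rfl)
            | smul t y _ h =>
              intro s
              refine me _ ?_ (h (s * t))
              exact (by rw [smul_eq_mul, mul_assoc])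
          exact hy'' s
      refine me _ ?_ (key _ ha)
      exact (decompose_of_mem_same 𝒜 a.2).symm
    obtain ⟨q, hq⟩ : P ∈ Set.range (PrimeSpectrum.comap S₀.subtype) :=
      (PrimeSpectrum.mem_range_comap_iff S₀.subtype).2 (le_antisymm hle Ideal.le_comap_map)
    refine ⟨⟨⟨(q.asIdeal.homogeneousCore 𝒜).toIdeal, q.isPrime.homogeneousCore⟩,
      HomogeneousIdeal.isHomogeneous _⟩, ?_⟩
    rw [← hq]
    refine PrimeSpectrum.ext (SetLike.ext fun a => ⟨fun h => Ideal.toIdeal_homogeneousCore_le 𝒜 _ h, fun h => ?_⟩)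
    exact Ideal.mem_homogeneousCore_of_homogeneous_of_mem ⟨0, a.2⟩ h
  refine ⟨(PrimeSpectrum.continuous_comap _).comp continuous_subtype_val, ?_, hinj, hsurj⟩
  intro U hU
  obtain ⟨V, hV, rfl⟩ := hU
  rw [isOpen_iff_forall_mem_open]
  rintro _ ⟨p, hp, rfl⟩
  obtain ⟨_, ⟨g, rfl⟩, hgp, hgV⟩ :=
    PrimeSpectrum.isTopologicalBasis_basic_opens.exists_subset_of_mem_open hp hV
  have hgp' : g ∉ p.1.asIdeal := hgp
  rw [p.2.mem_iff, not_forall] at hgp'
  obtain ⟨i, hi⟩ := hgp'
  refine ⟨(PrimeSpectrum.basicOpen (⟨tr u d i (decompose 𝒜 g i : S), tr_mem 𝒜 u d hd hf (SetLike.coe_mem _)⟩ : S₀) :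
    Set (PrimeSpectrum S₀)), ?_, PrimeSpectrum.isOpen_basicOpen, fun h => hi ((hkey p i _ (SetLike.coe_mem _)).1 h)⟩
  intro P hP
  obtain ⟨p', rfl⟩ := hsurj P
  refine ⟨p', hgV ?_, rfl⟩
  show g ∉ p'.1.asIdeal
  rw [p'.2.mem_iff, not_forall]
  exact ⟨i, fun h => hP ((hkey p' i _ (SetLike.coe_mem _)).2 h)⟩

end Groth.Agent.S9659
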