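import Groth.Statements.S9661
import Groth.Agent.H4Hilb.Basic

set_option autoImplicit false
set_option linter.style.haveILetI false
universe u
attribute [local instance] MvPolynomial.gradedAlgebra
open CAlg

namespace Groth.Agent.S9661

/-- Let k be a field, d ≥ 1, and I a nonzero homogeneous ideal of the standard-graded polynomial ring
k[X_1, …, X_d]; put M = k[X_1, …, X_d]/I. Then the function n ↦ dim_k M_n (equal to dim_k of the
degree-n part of the polynomial ring minus dim_k of the degree-n part of I) coincides for all large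
n with a polynomial of degree < d - 1, the zero polynomial if d = 1. -/
theorem result {k : Type u} [Field k] (d : ℕ) (hd : 0 < d)
    (I : HomogeneousIdeal (MvPolynomial.homogeneousSubmodule (Fin d) k)) (hI : I ≠ ⊥) :
    ∃ P : Polynomial ℚ, P.degree < ((d - 1 : ℕ) : WithBot ℕ) ∧ ∃ N : ℕ, ∀ n : ℕ, N ≤ n →
      ((Module.finrank k ↥(MvPolynomial.homogeneousSubmodule (Fin d) k n) : ℚ) -
        (Module.finrank k ↥(I.toIdeal.restrictScalars k ⊓ MvPolynomial.homogeneousSubmodule (Fin d) k n) : ℚ)) = P.eval (n : ℚ) := by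
  classical
  obtain ⟨r, rfl⟩ : ∃ r, d = r + 1 := ⟨d - 1, by omega⟩
  rw [Nat.add_sub_cancel]
  let R := MvPolynomial (Fin (r + 1)) k
  have hcomp : ∀ x ∈ I.toIdeal, ∀ n, MvPolynomial.homogeneousComponent n x ∈ I.toIdeal := fun x hx n => by
    exact MvPolynomial.homogeneousComponent_mem_of_mem I.isHomogeneous hx n
  have hfin := fun n => (H4Hilb.finrank_homogeneous (k := k) r n).1
  obtain ⟨P, N, hP⟩ := H4Hilb.exists_poly I.toIdeal hcomp hfin
  obtain ⟨f, hf0, e, hfI, hfe⟩ : ∃ f : R, f ≠ 0 ∧ ∃ e, f ∈ I.toIdeal ∧ f ∈ MvPolynomial.homogeneousSubmodule (Fin (r + 1)) k e := by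
    obtain ⟨x, hx, hx0⟩ : ∃ x ∈ I.toIdeal, x ≠ 0 := Submodule.exists_mem_ne_zero_of_ne_bot fun h => hI (HomogeneousIdeal.toIdeal_injective (h.trans (by simp)))
    by_contra hno
    push Not at hno
    refine hx0 ?_
    rw [← MvPolynomial.sum_homogeneousComponent x]
    refine Finset.sum_eq_zero fun n _ => ?_
    by_contra hne
    exact hno _ hne n (hcomp x hx n) (MvPolynomial.homogeneousComponent_mem n x)
  -- the binomial bound
  let C : ℕ → Polynomial ℚ := fun s => Polynomial.C ((r.factorial : ℚ)⁻¹) *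
    (descPochhammer ℚ r).comp (Polynomial.X + Polynomial.C ((r : ℚ) - s))
  have hC : ∀ s n : ℕ, s ≤ n → (C s).eval (n : ℚ) = (Nat.choose (r + (n - s)) r : ℚ) := by
    intro s n hsn
    have hq : ((n : ℚ) + ((r : ℚ) - s)) = ((r + (n - s) : ℕ) : ℚ) := by
      push_cast [Nat.cast_sub hsn]; ring
    rw [Polynomial.eval_mul, Polynomial.eval_C, Polynomial.eval_comp, Polynomial.eval_add, Polynomial.eval_X,
      Polynomial.eval_C, hq, ← div_eq_inv_mul, ← Nat.cast_choose_eq_descPochhammer_div]
  have hdegC : ∀ s, (C s).natDegree = r ∧ (C s).leadingCoeff = (r.factorial : ℚ)⁻¹ := by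
    intro s
    have h1 : ((descPochhammer ℚ r).comp (Polynomial.X + Polynomial.C ((r : ℚ) - s))).Monic :=
      (monic_descPochhammer ℚ r).comp_X_add_C _
    refine ⟨?_, ?_⟩
    · rw [Polynomial.natDegree_C_mul (by positivity), Polynomial.natDegree_comp, descPochhammer_natDegree,
        Polynomial.natDegree_X_add_C, mul_one]
    · rw [Polynomial.leadingCoeff_mul, Polynomial.leadingCoeff_C, h1.leadingCoeff, mul_one]
  have hC0 : ∀ s, C s ≠ 0 := fun s h => by
    have := (hdegC s).2
    rw [h, Polynomial.leadingCoeff_zero] at this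
    exact absurd this.symm (by positivity)
  have hg : (C 0 - C e).degree < (r : WithBot ℕ) := by
    have hd : ∀ s, (C s).degree = (r : WithBot ℕ) := fun s => by
      rw [Polynomial.degree_eq_natDegree (hC0 s), (hdegC s).1]
    calc (C 0 - C e).degree < (C 0).degree :=
          Polynomial.degree_sub_lt_left ((hd 0).trans (hd e).symm) (hC0 0) ((hdegC 0).2.trans (hdegC e).2.symm)
      _ = _ := hd 0
  refine ⟨P, H4Hilb.degree_lt_of_squeeze (N := max N e) hg (fun n hn => ?_), N, hP⟩
  haveI := hfin n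
  haveI := hfin (n - e)
  rw [← hP n (le_trans (le_max_left _ _) hn)]
  have hle : Module.finrank k ↥(I.toIdeal.restrictScalars k ⊓ MvPolynomial.homogeneousSubmodule (Fin (r + 1)) k n) ≤
      Module.finrank k ↥(MvPolynomial.homogeneousSubmodule (Fin (r + 1)) k n) := Submodule.finrank_mono inf_le_right
  have hlow : Module.finrank k ↥(MvPolynomial.homogeneousSubmodule (Fin (r + 1)) k (n - e)) ≤
      Module.finrank k ↥(I.toIdeal.restrictScalars k ⊓ MvPolynomial.homogeneousSubmodule (Fin (r + 1)) k n) := by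
    haveI : Module.Finite k ↥(I.toIdeal.restrictScalars k ⊓ MvPolynomial.homogeneousSubmodule (Fin (r + 1)) k n) :=
      Submodule.finiteDimensional_of_le inf_le_right
    refine LinearMap.finrank_le_finrank_of_injective (f :=
      ((LinearMap.mulLeft k f).comp (MvPolynomial.homogeneousSubmodule (Fin (r + 1)) k (n - e)).subtype).codRestrict
        (I.toIdeal.restrictScalars k ⊓ MvPolynomial.homogeneousSubmodule (Fin (r + 1)) k n) fun g => ⟨I.toIdeal.mul_mem_right _ hfI, ?_⟩) ?_
    · have h := MvPolynomial.IsHomogeneous.mul hfe g.2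
      rwa [Nat.add_sub_cancel' (le_trans (le_max_right _ _) hn)] at h
    · intro a b hab
      exact Subtype.ext (mul_left_cancel₀ hf0 (congrArg Subtype.val hab))
  rw [Polynomial.eval_sub, hC 0 n (Nat.zero_le _), hC e n (le_trans (le_max_right _ _) hn), Nat.sub_zero,
    ← (H4Hilb.finrank_homogeneous (k := k) r n).2, ← (H4Hilb.finrank_homogeneous (k := k) r (n - e)).2]
  refine ⟨sub_nonneg.2 (by exact_mod_cast hle), sub_le_sub_left (by exact_mod_cast hlow) _⟩

end Groth.Agent.S9661
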