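import Groth.Statements.S9673
-- import your own Groth.Agent.* helpers here
import Mathlib
import Groth.Agent.H4Norm.Main
import Groth.Agent.FDescent.QuasiFlat

set_option autoImplicit false
universe u
open CategoryTheory CategoryTheory.Limits AlgebraicGeometry
open Mor

namespace Groth.Agent.S9673

/-- Let f : Y ⟶ X be quasi-compact and quasi-separated, with Y normal and the irreducible components of
Y locally finite (equivalently, each quasi-compact open subset of Y meets only finitely many of
them). Let X' be the normalization of X in Y and f' : Y ⟶ X' the canonical morphism. Then X' is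
normal with locally finitely many irreducible components (hence a disjoint union of normal integral
schemes), f' maps generic points of irreducible components of Y to generic points of irreducible
components of X', and over each generic point of a component of X' there lies exactly one generic
point of a component of Y. (Dominance of f' holds for every quasi-compact quasi-separated f and is
not restated.) -/
theorem result {X Y : Scheme.{u}} (f : Y ⟶ X)
    [QuasiCompact f] [QuasiSeparated f] (hY : Pi1.IsNormalScheme Y)
    (hfin : LocallyFinite (fun Z : ↥(irreducibleComponents ↥Y) => (Z : Set ↥Y))) :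
    Pi1.IsNormalScheme f.normalization ∧
    LocallyFinite (fun Z : ↥(irreducibleComponents ↥f.normalization) => (Z : Set ↥f.normalization)) ∧
    (∀ y : Y, closure {y} ∈ irreducibleComponents ↥Y →
      closure {f.toNormalization.base y} ∈ irreducibleComponents ↥f.normalization) ∧
    (∀ x' : ↥f.normalization, closure {x'} ∈ irreducibleComponents ↥f.normalization →
      ∃! y : Y, closure {y} ∈ irreducibleComponents ↥Y ∧ f.toNormalization.base y = x') := by
  have hG : H4Norm.Good Y := ⟨fun y => (hY y).1, fun y => (hY y).2, hfin⟩
  refine ⟨H4Norm.isNormal f hG, H4Norm.locallyFinite_components f hG, fun y hy => H4Norm.generic_maps f hG hy,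
    fun x' hx' => ?_⟩
  obtain ⟨η, hη, hηx⟩ : ∃ η : Y, closure {η} ∈ irreducibleComponents ↥Y ∧ f.toNormalization η = x' := by
    obtain ⟨z, hz⟩ := FDescent.exists_specializes_of_mem_closure_range f.toNormalization
      (f.toNormalization.denseRange x')
    obtain ⟨η, hη, hηz⟩ := H4Norm.exists_generic z
    exact ⟨η, hη, FDescent.maximal_of_closure_mem_irreducibleComponents hx'
      ((hηz.map f.toNormalization.continuous).trans hz)⟩
  exact ⟨η, ⟨hη, hηx⟩, fun η' h' => H4Norm.generic_unique f hG hη h'.1 (hηx.trans h'.2.symm)⟩

end Groth.Agent.S9673
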