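import Groth.Statements.S9674
import Groth.Agent.NagataLib.EssField
import Mathlib.AlgebraicGeometry.ResidueField

set_option autoImplicit false
set_option linter.style.haveILetI false
set_option backward.isDefEq.respectTransparency false
set_option backward.isDefEq.respectTransparency.types false
universe u
open CategoryTheory CategoryTheory.Limits AlgebraicGeometry
open Mor

namespace Groth.Agent.S9674

/-- Let f : X ⟶ S be quasi-compact and quasi-separated. Assume every affine open of S has Nagata
coordinate ring, X is reduced, the irreducible components of X are locally finite (equivalently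
every quasi-compact open of X has finitely many), and at each point x that is generic in a component
of X, the residue field of x is essentially of finite type over the residue field of f x. Then the
normalization of S in X is finite over S. -/
theorem result {X S : Scheme.{u}} (f : X ⟶ S)
    [QuasiCompact f] [QuasiSeparated f] [IsReduced X]
    (hS : ∀ U : S.affineOpens, CAlg.IsNagata Γ(S, U))
    (hfin : LocallyFinite (fun Z : ↥(irreducibleComponents ↥X) => (Z : Set ↥X)))
    (hres : ∀ x : X, closure {x} ∈ irreducibleComponents ↥X → (f.residueFieldMap x).hom.EssFiniteType) :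
    IsFinite f.fromNormalization := by
  refine ⟨fun U hU => ?_⟩
  letI := (f.app U).hom.toAlgebra
  have hA := hS ⟨U, hU⟩
  haveI := hA.1
  suffices h : Module.Finite Γ(S, U) (integralClosure Γ(S, U) Γ(X, f ⁻¹ᵁ U)) by
    rw [Scheme.Hom.fromNormalization_app f hU, CommRingCat.hom_comp]
    exact RingHom.Finite.comp
      (RingHom.Finite.of_surjective _ (ConcreteCategory.bijective_of_isIso (f.normalizationObjIso hU).inv).2)
      ((RingHom.finite_algebraMap).mpr h)
  -- the generic points of the components meeting the preimage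
  let T : Set ↥(irreducibleComponents ↥X) :=
    {Z | ((Z : Set ↥X) ∩ (f ⁻¹ᵁ U : X.Opens)).Nonempty}
  have hT : T.Finite := hfin.finite_nonempty_inter_compact (f.isCompact_preimage hU.isCompact)
  haveI := hT.to_subtype
  have hpt : ∀ Z : T, ∃ x : X, IsGenericPoint x (Z.1 : Set ↥X) ∧ x ∈ f ⁻¹ᵁ U := fun Z => by
    have hirr : IsIrreducible (Z.1 : Set ↥X) := Z.1.2.1
    have hcl : IsClosed (Z.1 : Set ↥X) := isClosed_of_mem_irreducibleComponents _ Z.1.2
    obtain ⟨x, hx⟩ := QuasiSober.sober hirr hcl
    exact ⟨x, hx, (hx.mem_open_set_iff (f ⁻¹ᵁ U).isOpen).2 Z.2⟩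
  choose η hη hηU using hpt
  let ev : ∀ Z : T, Γ(X, f ⁻¹ᵁ U) →+* X.residueField (η Z) := fun Z =>
    (X.evaluation (f ⁻¹ᵁ U) (η Z) (hηU Z)).hom
  letI : ∀ Z : T, Algebra Γ(S, U) (X.residueField (η Z)) := fun Z =>
    ((ev Z).comp (f.app U).hom).toAlgebra
  haveI : ∀ Z : T, Algebra.EssFiniteType Γ(S, U) (X.residueField (η Z)) := fun Z => by
    let y := f (η Z)
    have h1 : (S.evaluation U y (hηU Z)).hom.EssFiniteType := by
      letI := TopCat.Presheaf.algebra_section_stalk S.presheaf ⟨y, hηU Z⟩
      haveI := hU.isLocalization_stalk ⟨y, hηU Z⟩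
      have hst : (S.presheaf.germ U y (hηU Z)).hom.EssFiniteType :=
        RingHom.essFiniteType_algebraMap.2
          (Algebra.EssFiniteType.of_isLocalization (R := Γ(S, U)) _ (hU.primeIdealOf ⟨y, hηU Z⟩).asIdeal.primeCompl)
      exact RingHom.EssFiniteType.comp hst
        (RingHom.FiniteType.of_surjective _ (S.residue_surjective y)).essFiniteType
    have h2 := RingHom.EssFiniteType.comp h1 (hres (η Z) (by
      rw [(hη Z).def]
      exact Z.1.2))
    rw [← CommRingCat.hom_comp, Scheme.evaluation_naturality, CommRingCat.hom_comp] at h2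
    exact RingHom.essFiniteType_algebraMap.1 h2
  haveI : ∀ Z : T, Module.Finite Γ(S, U) (integralClosure Γ(S, U) (X.residueField (η Z))) := fun Z =>
    NagataLib.finite_integralClosure_field hA _
  haveI : IsNoetherian Γ(S, U) ((Z : T) → integralClosure Γ(S, U) (X.residueField (η Z))) :=
    isNoetherian_of_isNoetherianRing_of_finite _ _
  let evA : ∀ Z : T, Γ(X, f ⁻¹ᵁ U) →ₐ[Γ(S, U)] X.residueField (η Z) := fun Z =>
    { ev Z with commutes' := fun a => rfl }
  let L : integralClosure Γ(S, U) Γ(X, f ⁻¹ᵁ U) →ₗ[Γ(S, U)]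
      ((Z : T) → integralClosure Γ(S, U) (X.residueField (η Z))) :=
    LinearMap.pi fun Z => ((evA Z).comp (integralClosure Γ(S, U) Γ(X, f ⁻¹ᵁ U)).val).toLinearMap.codRestrict
      (integralClosure Γ(S, U) (X.residueField (η Z))).toSubmodule fun z => z.2.map (evA Z)
  refine Module.Finite.of_injective L fun a b h => Subtype.ext (sub_eq_zero.1 ?_)
  rw [← basicOpen_eq_bot_iff]
  refine eq_bot_iff.2 fun x hx => ?_
  have hxU : x ∈ f ⁻¹ᵁ U := X.basicOpen_le _ hx
  have hZ : irreducibleComponent x ∈ irreducibleComponents ↥X := irreducibleComponent_mem_irreducibleComponents x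
  let Z : T := ⟨⟨_, hZ⟩, x, mem_irreducibleComponent, hxU⟩
  have hmem : η Z ∈ X.basicOpen (a.1 - b.1) :=
    ((hη Z).specializes mem_irreducibleComponent).mem_open (X.basicOpen _).isOpen hx
  have h0 : ev Z (a.1 - b.1) = 0 := by
    rw [map_sub, sub_eq_zero]
    exact congrArg Subtype.val (congrFun h Z)
  exact absurd h0 ((X.evaluation_ne_zero_iff_mem_basicOpen (η Z) (hηU Z) _).2 hmem)

end Groth.Agent.S9674
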