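import Groth.Statements.S9682
-- import your own Groth.Agent.* helpers here
import Mathlib
import Groth.Agent.FDescent.MaxPoint

set_option autoImplicit false
universe u
open CategoryTheory CategoryTheory.Limits AlgebraicGeometry
open Mor

namespace Groth.Agent.S9682

lemma specializes_fiber {X Y : Scheme.{u}} (f : X ⟶ Y) (η : Y) {a b : f.fiber η} :
    a ⤳ b ↔ f.fiberι η a ⤳ f.fiberι η b :=
  ((f.fiberι η).isEmbedding.isInducing.specializes_iff).symm

lemma base_fiberι {X Y : Scheme.{u}} (f : X ⟶ Y) (η : Y) (a : f.fiber η) : f.base (f.fiberι η a) = η := by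
  have : f.fiberι η a ∈ Set.range (f.fiberι η) := ⟨a, rfl⟩
  rw [f.range_fiberι] at this
  exact this

lemma eq_of_specializes_fiber {X Y : Scheme.{u}} (f : X ⟶ Y) {η : Y}
    (hη : closure {η} ∈ irreducibleComponents ↥Y) {x z : X} (hx : f.base x = η) (h : z ⤳ x) :
    f.base z = η :=
  FDescent.maximal_of_closure_mem_irreducibleComponents hη (hx ▸ h.map f.continuous)

/-- A quasi-finite point over a maximal point is maximal. -/
lemma maximal_of_quasiFiniteAt {X Y : Scheme.{u}} (f : X ⟶ Y) [LocallyOfFiniteType f] {η : Y}
    (hη : closure {η} ∈ irreducibleComponents ↥Y) {x : X} (hx : f.base x = η)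
    (hq : f.QuasiFiniteAt x) {z : X} (h : z ⤳ x) : z = x := by
  have hz := eq_of_specializes_fiber f hη hx h
  subst hx
  let a : f.fiber (f.base x) := (f.fiberHomeo (f.base x)).symm ⟨z, hz⟩
  have ha : f.fiberι _ a = z := f.fiberι_fiberHomeo_symm _ _
  have hsp : a ⤳ f.asFiber x := by
    rw [specializes_fiber, ha]
    exact (f.fiberι_asFiber x).symm ▸ h
  have : a = f.asFiber x := hsp.mem_open hq.isClopen_singleton_asFiber.2 rfl
  rw [← ha, this]
  exact f.fiberι_asFiber x

lemma isOpen_singleton_of_closed_points {F : Scheme.{u}} [IsLocallyNoetherian F]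
    (hcl : ∀ a : F, IsClosed ({a} : Set F)) (a : F) : IsOpen ({a} : Set F) := by
  obtain ⟨V, hV, haV, -⟩ := exists_isAffineOpen_mem_and_subset (x := a) (U := ⊤) trivial
  haveI : IsNoetherianRing Γ(F, V) := IsLocallyNoetherian.component_noetherian ⟨V, hV⟩
  haveI := hV.fromSpec.isOpenEmbedding.quasiSober
  have hcV : ∀ v : V, IsClosed ({v} : Set V) := fun v => by
    have e : ({v} : Set V) = Subtype.val ⁻¹' {v.1} := by ext w; exact Subtype.ext_iff
    rw [e]
    exact (hcl _).preimage continuous_subtype_val
  haveI : TopologicalSpace.NoetherianSpace V := by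
    haveI : IsNoetherian (V : Scheme.{u}) :=
      { toIsLocallyNoetherian := inferInstance, toCompactSpace := isCompact_iff_compactSpace.mp hV.isCompact }
    exact inferInstanceAs (TopologicalSpace.NoetherianSpace (V : Scheme.{u}))
  have hfin : Finite V := by
    classical
    rw [← Set.finite_univ_iff]
    refine Set.Finite.subset (TopologicalSpace.NoetherianSpace.finite_irreducibleComponents.image
      fun Z : Set V => if h : Z.Nonempty then h.some else ⟨a, haV⟩) fun v _ => ?_
    obtain ⟨Z, hZ, hvZ⟩ := exists_mem_irreducibleComponents_subset_of_isIrreducible {v} isIrreducible_singleton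
    refine ⟨Z, hZ, ?_⟩
    have hZs : Z.Subsingleton := by
      haveI : T1Space V := ⟨hcV⟩
      haveI : QuasiSober V := (inferInstance : QuasiSober (V : Scheme.{u}))
      obtain ⟨g, hg⟩ := QuasiSober.sober hZ.1 (isClosed_of_mem_irreducibleComponents Z hZ)
      intro p hp q hq
      rw [← hg.def] at hp hq
      have e := (hcV g).closure_eq
      exact (e.le hp).trans (e.le hq).symm
    have hne : Z.Nonempty := ⟨v, hvZ rfl⟩
    refine (dif_pos hne).trans ?_
    exact hZs hne.some_mem (hvZ rfl)
  haveI : T1Space V := ⟨hcV⟩
  have h1 : IsOpen ({⟨a, haV⟩} : Set V) := isOpen_discrete _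
  have := V.2.isOpenMap_subtype_val _ h1
  have e : Subtype.val '' ({⟨a, haV⟩} : Set V) = ({a} : Set F) := Set.image_singleton
  exact e ▸ this

lemma quasiFiniteAt_of_maximal {X Y : Scheme.{u}} (f : X ⟶ Y) [LocallyOfFiniteType f] {η : Y}
    (hmax : ∀ x : X, f.base x = η → closure {x} ∈ irreducibleComponents ↥X) {x : X}
    (hx : f.base x = η) : f.QuasiFiniteAt x := by
  subst hx
  rw [Scheme.Hom.quasiFiniteAt_iff_isOpen_singleton_asFiber]
  haveI : LocallyOfFiniteType (f.fiberToSpecResidueField (f.base x)) :=
    inferInstanceAs (LocallyOfFiniteType (pullback.snd f (Y.fromSpecResidueField (f.base x))))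
  haveI : IsLocallyNoetherian (f.fiber (f.base x)) :=
    LocallyOfFiniteType.isLocallyNoetherian (f.fiberToSpecResidueField (f.base x))
  refine isOpen_singleton_of_closed_points (fun a => ?_) _
  refine isClosed_of_closure_subset fun b hb => ?_
  have hs := (specializes_fiber f _).mp (specializes_iff_mem_closure.mpr hb)
  exact ((f.fiberι _).injective (FDescent.maximal_of_closure_mem_irreducibleComponents
    (hmax _ (base_fiberι f _ b)) hs)).symm

/-- Take f : X ⟶ Y locally of finite type and η the generic point of some irreducible component of Y.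
Three conditions turn out to coincide: (1) each point of X mapping to η is the generic point of some
irreducible component of X; (2) f is quasi-finite at every point over η; (3) f is quasi-finite at
each point over η that is generic in some irreducible component of X. Stated as (1) iff (2) together
with (1) iff (3). -/
theorem result {X Y : Scheme.{u}} (f : X ⟶ Y)
    [LocallyOfFiniteType f] (η : Y) (hη : closure {η} ∈ irreducibleComponents ↥Y) :
    ((∀ x : X, f.base x = η → closure {x} ∈ irreducibleComponents ↥X) ↔
      (∀ x : X, f.base x = η → f.QuasiFiniteAt x)) ∧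
    ((∀ x : X, f.base x = η → closure {x} ∈ irreducibleComponents ↥X) ↔
      (∀ x : X, f.base x = η → closure {x} ∈ irreducibleComponents ↥X → f.QuasiFiniteAt x)) := by
  have h21 : (∀ x : X, f.base x = η → closure {x} ∈ irreducibleComponents ↥X → f.QuasiFiniteAt x) →
      ∀ x : X, f.base x = η → closure {x} ∈ irreducibleComponents ↥X := by
    intro h x hx
    obtain ⟨Z, hZ, hxZ⟩ := exists_mem_irreducibleComponents_subset_of_isIrreducible {x} isIrreducible_singleton
    obtain ⟨z, rfl, hz⟩ := FDescent.exists_maximal_of_mem_irreducibleComponents hZ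
    have hs : z ⤳ x := specializes_iff_mem_closure.mpr (hxZ rfl)
    have hzη := eq_of_specializes_fiber f hη hx hs
    have hq := h z hzη hZ
    obtain rfl : z = x := by
      subst hzη
      let a : f.fiber (f.base z) := (f.fiberHomeo (f.base z)).symm ⟨x, hx⟩
      have ha : f.fiberι _ a = x := f.fiberι_fiberHomeo_symm _ _
      have hsp : f.asFiber z ⤳ a := by
        rw [specializes_fiber, ha, f.fiberι_asFiber]
        exact hs
      have := hsp.mem_closed hq.isClopen_singleton_asFiber.1 rfl
      rw [← ha, Set.mem_singleton_iff.mp this]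
      exact (f.fiberι_asFiber z).symm
    exact hZ
  refine ⟨⟨fun h x hx => quasiFiniteAt_of_maximal f h hx, fun h x hx => h21 (fun x hx _ => h x hx) x hx⟩,
    ⟨fun h x hx _ => quasiFiniteAt_of_maximal f h hx, h21⟩⟩

end Groth.Agent.S9682
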