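import Groth.Statements.S9685
import Groth.Agent.DimIneqCor.Closed

set_option autoImplicit false
universe u
open CategoryTheory CategoryTheory.Limits AlgebraicGeometry
open Mor

namespace Groth.Agent.S9685

/-- Let X and Y be integral schemes with Y locally Noetherian and f : X ⟶ Y dominant and locally of
finite type. If n is the transcendence degree of the function field of X over the function field of
Y (computed on residue fields at the generic points), then dim X ≤ dim Y + n, and equality holds
when the underlying map of f is closed. -/
theorem result {X Y : Scheme.{u}} [IsIntegral X] [IsIntegral Y]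
    [IsLocallyNoetherian Y] (f : X ⟶ Y) [IsDominant f] [LocallyOfFiniteType f] (n : ℕ)
    (hn : letI := (f.residueFieldMap (genericPoint ↥X)).hom.toAlgebra
      Algebra.trdeg (Y.residueField (f.base (genericPoint ↥X))) (X.residueField (genericPoint ↥X)) = n) :
    topologicalKrullDim ↥X ≤ topologicalKrullDim ↥Y + n ∧
      (IsClosedMap f.base → topologicalKrullDim ↥X = topologicalKrullDim ↥Y + n) := by
  have hr := DimIneqCor.rd_eq f (genericPoint ↥X) n hn
  have hle : topologicalKrullDim ↥X ≤ topologicalKrullDim ↥Y + n :=
    DimIneqCor.dim_le_add f n fun ξ h => by
      rw [irreducibleComponents_eq_singleton (X := ↥X)] at h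
      have hg : IsGenericPoint ξ (Set.univ : Set X) := h
      rw [hg.eq (genericPoint_spec X), hr]
  refine ⟨hle, fun hf => le_antisymm hle ?_⟩
  have := DimIneqCor.add_le_dim_of_isClosedMap f hf
  rwa [hr] at this

end Groth.Agent.S9685
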