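import Groth.Statements.S9691
import Groth.Agent.AmpleX.Rel
-- import your own Groth.Agent.* helpers here

set_option autoImplicit false
universe u
open CategoryTheory CategoryTheory.Limits AlgebraicGeometry
open Mor

namespace Groth.Agent.S9691

/-- Let f : X ⟶ S be a morphism of schemes and L an invertible O_X-module which is ample relative to f.
Then f is separated. -/
theorem result {X S : Scheme.{u}} (f : X ⟶ S) (L : X.Modules)
    (hL : RelAmple.IsRelAmple f L) : IsSeparated f := by
  exact Groth.Agent.AmpleX.isSeparated_of_ampleOn fun x =>
    Groth.Agent.AmpleX.ampleOn_of_isRelAmple hL (f x)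

end Groth.Agent.S9691
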