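import Groth.Statements.S9693
import Groth.Agent.ProjLoc.Loc

set_option autoImplicit false
universe u
open CategoryTheory CategoryTheory.Limits AlgebraicGeometry
open Mor

namespace Groth.Agent.S9693

/-- A base change of an H-projective morphism (a closed immersion into some P^n over the base followed
by the projection) is H-projective. -/
theorem result {X S S' : Scheme.{u}} (f : X ⟶ S) (hf : RelProj.IsHProjective f)
    (g : S' ⟶ S) : RelProj.IsHProjective (pullback.snd f g) := by
  exact Groth.Agent.ProjLoc.isHProjective_of_isPullback (IsPullback.of_hasPullback f g) hf

end Groth.Agent.S9693
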