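import Groth.Statements.S9695
import Groth.Agent.S9710
import Groth.Agent.VeryAmple.Converse
import Groth.Agent.AmpleX.Comp

set_option backward.isDefEq.respectTransparency false

set_option autoImplicit false
universe u
open CategoryTheory CategoryTheory.Limits AlgebraicGeometry
open Mor

namespace Groth.Agent.S9695

/-- Suppose f : X ⟶ S is a morphism of finite type and L is an invertible O_X-module. Then L is
f-relatively ample exactly when S can be covered by open subsets V with the following property: for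
every such V there is an integer d ≥ 1 for which the tensor power L^{⊗d}, restricted to f⁻¹(V), is
isomorphic to the pullback of O(1) under some V-immersion of f⁻¹(V) into a projective space P^n_V. -/
theorem result {X S : Scheme.{u}} (f : X ⟶ S)
    [LocallyOfFiniteType f] [QuasiCompact f] (L : X.Modules) (hLinv : PicF.IsInvertible L) :
    RelAmple.IsRelAmple f L ↔
      ∃ (ι : Type u) (V : ι → S.Opens), (⨆ j, V j) = ⊤ ∧
        ∀ j, ∃ d : ℕ, 0 < d ∧
          RelAmple.IsRelVeryAmplePn (f ∣_ V j) ((CohB1.tensorPow L d).restrict (f ⁻¹ᵁ V j).ι) := by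
  constructor
  · intro h
    obtain ⟨hqc, hV⟩ := h
    haveI := hqc
    refine ⟨S.affineOpens, fun V => V.1, ?_, fun V => ?_⟩
    · refine top_unique fun s _ => ?_
      obtain ⟨W, hW, hsW, -⟩ := exists_isAffineOpen_mem_and_subset (x := s) (U := ⊤) trivial
      exact TopologicalSpace.Opens.mem_iSup.2 ⟨⟨W, hW⟩, hsW⟩
    · obtain ⟨d, hd, hd'⟩ := S9710.result (f ∣_ V.1) (L.restrict (f ⁻¹ᵁ V.1).ι) (hV V)
      obtain ⟨m, i, hi, hi', ⟨φ⟩⟩ := hd' d le_rfl
      obtain ⟨e⟩ := AmpleX.nonempty_restrict_tensorPow (L := L) (f ⁻¹ᵁ V.1).ι d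
      first
        | exact ⟨d, hd, m, i, hi, hi', ⟨e ≪≫ φ⟩⟩
        | exact ⟨d, hd, m, i, hi, hi', ⟨e.symm ≪≫ φ⟩⟩
  · rintro ⟨ι, V, hV, h⟩
    refine (AmpleX.isRelAmple_iff_cover V hV).2 fun j => ?_
    haveI : QuasiCompact (f ∣_ V j) := IsZariskiLocalAtTarget.restrict (P := @QuasiCompact) inferInstance (V j)
    obtain ⟨d, hd, m, i, hi, hi', ⟨φ⟩⟩ := h j
    refine (AmpleX.isRelAmple_tensorPow_iff (AmpleX.isInvertible_restrict _ hLinv) hd).2 ?_
    obtain ⟨e⟩ := AmpleX.nonempty_restrict_tensorPow (L := L) (f ⁻¹ᵁ V j).ι d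
    haveI := hi
    haveI : QuasiCompact i := by
      haveI : QuasiCompact (i ≫ CohB1.ProjSpaceOver.toBase m _) := hi' ▸ inferInstance
      haveI : IsProper (CohB1.ProjSpace.toSpec m (ULift.{u} ℤ)) := PnCoh.Chow.isProper_toSpec m _
      haveI : IsProper (CohB1.ProjSpaceOver.toBase m (V j : Scheme.{u})) :=
        MorphismProperty.pullback_snd (P := @IsProper) _ _ inferInstance
      exact QuasiCompact.of_comp i (CohB1.ProjSpaceOver.toBase m _)
    have h1 := AmpleX.isRelAmple_pullback_embedding (CohB1.ProjSpaceOver.toBase m _) i i.isEmbedding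
      (TwistFlat.isRelAmple_twistOver m)
    have hiso : ∀ {A B : ((f ⁻¹ᵁ V j : X.Opens) : Scheme.{u}).Modules}, (A ≅ B) →
        RelAmple.IsRelAmple (f ∣_ V j) A → RelAmple.IsRelAmple (f ∣_ V j) B := fun α hA =>
      ⟨hA.1, fun W => AmpleX.isAmple_of_iso ((Scheme.Modules.restrictFunctor _).mapIso α) (hA.2 W)⟩
    rw [show i ≫ CohB1.ProjSpaceOver.toBase m _ = f ∣_ V j from hi'] at h1
    first
      | exact hiso (φ.symm ≪≫ e) h1
      | exact hiso (φ.symm ≪≫ e.symm) h1

end Groth.Agent.S9695
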