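import Groth.Statements.S9703
import Groth.Agent.FinSplit.Basic
-- import your own Groth.Agent.* helpers here

set_option autoImplicit false
universe u
open CategoryTheory CategoryTheory.Limits AlgebraicGeometry
open Mor

namespace Groth.Agent.S9703

theorem isFinLocFree_spec {R S : Type u} [CommRing R] [CommRing S] [Algebra R S] [Module.Finite R S] [Module.Free R S] :
    Mor2.IsFinLocFree (Spec.map (CommRingCat.ofHom (algebraMap R S))) :=
  ⟨(IsFinite.SpecMap_iff _).2 (RingHom.finite_algebraMap.2 inferInstance),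
    (HasRingHomProperty.Spec_iff (P := @Flat)).2 (RingHom.flat_algebraMap_iff.2 inferInstance),
    (HasRingHomProperty.Spec_iff (P := @LocallyOfFinitePresentation)).2
      (RingHom.finitePresentation_algebraMap.2 (haveI := Module.finitePresentation_of_projective R S; inferInstance))⟩

open TensorProduct in

/-- Let f : Y ⟶ X be finite with X affine. Then there exist a surjective finite locally free b : X' ⟶ X,
a finite locally free c : Z' ⟶ X' and a closed immersion i of Y' = X' ×_X Y into Z' over X' such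
that Z' is, as a set, the union of finitely many closed subschemes each mapping isomorphically onto
X'. (The published statement also records that Y' ⟶ Y is surjective finite locally free, which
follows by base change; this row omits it.) -/
theorem result {X Y : Scheme.{u}} [IsAffine X] (f : Y ⟶ X)
    [IsFinite f] :
    ∃ (X' : Scheme.{u}) (b : X' ⟶ X) (Z' : Scheme.{u}) (c : Z' ⟶ X') (i : pullback f b ⟶ Z'),
      Mor2.IsFinLocFree b ∧ Surjective b ∧ Mor2.IsFinLocFree c ∧ IsClosedImmersion i ∧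
      i ≫ c = pullback.snd f b ∧
      ∃ (m : ℕ) (Zj : Fin m → Scheme.{u}) (ιj : ∀ j, Zj j ⟶ Z'),
        (∀ j, IsClosedImmersion (ιj j)) ∧ (∀ j, IsIso (ιj j ≫ c)) ∧
        (⋃ j, Set.range (ιj j).base) = Set.univ := by
  haveI : IsAffine Y := isAffine_of_isAffineHom f
  letI : Algebra Γ(X, ⊤) Γ(Y, ⊤) := f.appTop.hom.toAlgebra
  haveI : Module.Finite Γ(X, ⊤) Γ(Y, ⊤) := RingHom.finite_algebraMap.1 f.finite_appTop
  obtain ⟨A', _, _, _, _, hs, C, _, _, _, _, π, hπ, M, σ, hσ⟩ :=
    Groth.Agent.FinSplit.exists_sections_cover Γ(X, ⊤) Γ(Y, ⊤)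
  let b₀ : Spec (CommRingCat.of A') ⟶ Spec Γ(X, ⊤) := Spec.map (CommRingCat.ofHom (algebraMap Γ(X, ⊤) A'))
  let b : Spec (CommRingCat.of A') ⟶ X := b₀ ≫ X.isoSpec.inv
  have hsq : IsPullback
      (Spec.map (CommRingCat.ofHom (Algebra.TensorProduct.includeRight : Γ(Y, ⊤) →ₐ[Γ(X, ⊤)] A' ⊗[Γ(X, ⊤)] Γ(Y, ⊤)).toRingHom) ≫ Y.isoSpec.inv)
      (Spec.map (CommRingCat.ofHom (algebraMap A' (A' ⊗[Γ(X, ⊤)] Γ(Y, ⊤))))) f b := by
    refine (isPullback_SpecMap_of_isPushout _ _ _ _
      (CommRingCat.isPushout_tensorProduct Γ(X, ⊤) A' Γ(Y, ⊤)).flip).of_iso (Iso.refl _) Y.isoSpec.symm (Iso.refl _)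
        X.isoSpec.symm (by simp) (by simp [Algebra.TensorProduct.algebraMap_apply]) ?_ (by simp [b, b₀])
    exact Scheme.isoSpec_inv_naturality f
  haveI : IsClosedImmersion (Spec.map (CommRingCat.ofHom π.toRingHom)) := IsClosedImmersion.spec_of_surjective _ hπ
  have hfl := isFinLocFree_spec (R := Γ(X, ⊤)) (S := A')
  haveI : Surjective b₀ := ⟨hs⟩
  refine ⟨_, b, _, Spec.map (CommRingCat.ofHom (algebraMap A' C)),
    hsq.isoPullback.inv ≫ Spec.map (CommRingCat.ofHom π.toRingHom), ?_, inferInstance,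
    isFinLocFree_spec, inferInstance, ?_, M, fun _ => Spec (CommRingCat.of A'),
    fun j => Spec.map (CommRingCat.ofHom (σ j).toRingHom), fun j => ?_, fun j => ?_, ?_⟩
  · obtain ⟨h₁, h₂, h₃⟩ := hfl
    exact ⟨inferInstance, inferInstance, inferInstance⟩
  · rw [Category.assoc, ← Spec.map_comp, ← CommRingCat.ofHom_comp]
    exact (congrArg (fun h => hsq.isoPullback.inv ≫ Spec.map (CommRingCat.ofHom h)) π.comp_algebraMap).trans
      hsq.isoPullback_inv_snd
  · exact IsClosedImmersion.spec_of_surjective _ fun a => ⟨algebraMap A' C a, (σ j).commutes a⟩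
  · rw [← Spec.map_comp, ← CommRingCat.ofHom_comp, AlgHom.toRingHom_eq_coe, (σ j).comp_algebraMap]
    simp only [Algebra.algebraMap_self, CommRingCat.ofHom_id, Spec.map_id]
    infer_instance
  · refine Set.eq_univ_of_forall fun Q => ?_
    obtain ⟨j, hj⟩ := hσ Q
    refine Set.mem_iUnion.2 ⟨j, ?_⟩
    show Q ∈ Set.range (PrimeSpectrum.comap (σ j).toRingHom)
    rw [range_comap_of_surjective _ _ fun a => ⟨algebraMap A' C a, (σ j).commutes a⟩]
    exact hj

end Groth.Agent.S9703
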