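import Groth.Statements.S9712
-- import your own Groth.Agent.* helpers here
import Groth.Agent.S4414
import Groth.Agent.ChowGen.Projective
import Groth.Agent.AmpleX.QuasiAffine

set_option autoImplicit false
universe u
open CategoryTheory CategoryTheory.Limits AlgebraicGeometry
open Mor

set_option backward.isDefEq.respectTransparency false
set_option backward.isDefEq.respectTransparency.types false

namespace Groth.Agent.S9712

/-- A morphism f : X ⟶ S is locally quasi-projective (S is covered by opens U with f⁻¹(U) ⟶ U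
quasi-projective) if and only if S is covered by opens U such that f⁻¹(U) ⟶ U is H-quasi-projective
(a quasi-compact immersion into some P^n_U followed by the projection). -/
theorem result {X S : Scheme.{u}} (f : X ⟶ S) :
    (∀ s : S, ∃ U : S.Opens, s ∈ U ∧ RelProj.IsQuasiProjective (f ∣_ U)) ↔
      (∀ s : S, ∃ U : S.Opens, s ∈ U ∧ RelProj.IsHQuasiProjective (f ∣_ U)) := by
  constructor
  · intro h s
    obtain ⟨U, hsU, hlft, hqc, L, hL⟩ := h s
    haveI := hlft
    haveI := hqc
    obtain ⟨_, ⟨V, hV, rfl⟩, hsV, -⟩ :=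
      U.toScheme.isBasis_affineOpens.exists_subset_of_mem_open (Set.mem_univ (⟨s, hsU⟩ : U)) isOpen_univ
    refine ⟨U.ι ''ᵁ V, ⟨⟨s, hsU⟩, hsV, rfl⟩, ?_⟩
    let c : ULift.{u} Bool → U.toScheme.Opens := fun b => bif b.down then V else ⊤
    have hc : ⨆ b, c b = ⊤ := eq_top_iff.2 fun x _ => TopologicalSpace.Opens.mem_iSup.2 ⟨⟨false⟩, trivial⟩
    have hamp := (Groth.Agent.AmpleX.isRelAmple_iff_cover c hc).1 hL ⟨true⟩
    haveI : IsAffine (Scheme.Opens.toScheme V) := hV
    haveI : LocallyOfFiniteType (f ∣_ U ∣_ V) := IsZariskiLocalAtTarget.restrict (P := @LocallyOfFiniteType) hlft V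
    haveI : QuasiCompact (f ∣_ U ∣_ V) := IsZariskiLocalAtTarget.restrict (P := @QuasiCompact) hqc V
    obtain ⟨-, -, n, i, hi, hif⟩ := (Groth.Agent.S4414.result (Y := (Scheme.Opens.toScheme V))
      ⟨_, Groth.Agent.AmpleX.isAmple_of_isQuasiAffine Groth.Agent.InvX.isInvertible_structureModule⟩
      (f ∣_ U ∣_ V)).1 ⟨inferInstance, inferInstance, _, hamp⟩
    let e := morphismRestrictRestrict f U V
    let m := pullback.map (CohB1.ProjSpace.toSpec n (ULift.{u} ℤ)) (specULiftZIsTerminal.from (Scheme.Opens.toScheme V))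
      (CohB1.ProjSpace.toSpec n (ULift.{u} ℤ)) (specULiftZIsTerminal.from (U.ι ''ᵁ V).toScheme) (𝟙 _) e.hom.right (𝟙 _)
      (by simp) (specULiftZIsTerminal.hom_ext _ _)
    have hm : m ≫ CohB1.ProjSpaceOver.toBase n (U.ι ''ᵁ V).toScheme =
        CohB1.ProjSpaceOver.toBase n (Scheme.Opens.toScheme V) ≫ e.hom.right := pullback.lift_snd _ _ _
    haveI := hi
    haveI := Groth.Agent.TwistFlat.isProper_toBase n (Y := (U.ι ''ᵁ V).toScheme)
    have he : (e.inv.left ≫ i ≫ m) ≫ CohB1.ProjSpaceOver.toBase n (U.ι ''ᵁ V).toScheme = f ∣_ U.ι ''ᵁ V := by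
      rw [Category.assoc, Category.assoc, hm, reassoc_of% hif]
      exact (Arrow.w_assoc e.inv _).trans ((congrArg (_ ≫ ·) (congrArg CommaMorphism.right e.inv_hom_id)).trans (Category.comp_id _))
    haveI : QuasiCompact (f ∣_ U.ι ''ᵁ V) :=
      (MorphismProperty.arrow_mk_iso_iff @QuasiCompact e).1 inferInstance
    haveI : IsIso e.inv.left := inferInstance
    haveI : IsIso m := inferInstance
    have him : IsImmersion (e.inv.left ≫ i ≫ m) := inferInstance
    have hqi : QuasiCompact (e.inv.left ≫ i ≫ m) := by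
      haveI : QuasiCompact ((e.inv.left ≫ i ≫ m) ≫ CohB1.ProjSpaceOver.toBase n (U.ι ''ᵁ V).toScheme) := by
        rw [he]; infer_instance
      exact QuasiCompact.of_comp _ (CohB1.ProjSpaceOver.toBase n (U.ι ''ᵁ V).toScheme)
    exact ⟨n, _, him, hqi, he⟩
  · intro h s
    obtain ⟨U, hsU, n, i, hi, hiq, hif⟩ := h s
    refine ⟨U, hsU, ?_⟩
    haveI := hi
    haveI := hiq
    haveI := Groth.Agent.TwistFlat.isProper_toBase n (Y := U.toScheme)
    haveI : LocallyOfFiniteType (f ∣_ U) := by rw [← hif]; infer_instance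
    haveI : QuasiCompact (f ∣_ U) := by rw [← hif]; infer_instance
    exact Groth.Agent.ChowGen.isQuasiProjective_of_immersion _ i hif

end Groth.Agent.S9712
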