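import Groth.Statements.S9727
import Groth.Agent.EtFound.LiftEtaleFrac
-- import your own Groth.Agent.* helpers here

set_option autoImplicit false
universe u
open scoped TensorProduct
open FlatMor

namespace Groth.Agent.S9727

open CategoryTheory Limits AlgebraicGeometry

theorem isFracImage_residue {S : Scheme.{u}} {V : S.Opens} (hV : IsAffineOpen V) {s : S} (hs : s ∈ V) :
    letI := (S.evaluation V s hs).hom.toAlgebra
    Groth.Agent.EtFound.IsFracImage Γ(S, V) (S.residueField s) := by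
  letI := (S.evaluation V s hs).hom.toAlgebra
  intro z
  obtain ⟨x, rfl⟩ := Ideal.Quotient.mk_surjective z
  let _ := (S.presheaf.germ V s hs).hom.toAlgebra
  have := hV.isLocalization_stalk ⟨s, hs⟩
  obtain ⟨⟨a, b⟩, h⟩ := IsLocalization.surj (hV.primeIdealOf ⟨s, hs⟩).asIdeal.primeCompl x
  refine ⟨a, b.1, ?_, ?_⟩
  · exact (IsLocalization.map_units (S.presheaf.stalk s) b).map (S.residue s).hom
  · have e := congrArg (S.residue s).hom h
    rw [map_mul] at e
    exact e

theorem main {X S V : Scheme.{u}} (f : X ⟶ S) (x : X) (g : V ⟶ f.fiber (f x)) [Etale g] (v : V)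
    (hv : g v = f.asFiber x) :
    ∃ (W : X.Etale) (h : pullback W.hom (f.fiberι (f x)) ⟶ V),
      h ≫ g = pullback.snd W.hom (f.fiberι (f x)) ∧ IsOpenImmersion h ∧ v ∈ Set.range h.base := by
  let s := f x
  obtain ⟨V₀, hV₀, hs, -⟩ := exists_isAffineOpen_mem_and_subset (U := (⊤ : S.Opens)) (x := s) trivial
  obtain ⟨U₀, hU₀, hxU, hUV⟩ := exists_isAffineOpen_mem_and_subset (U := f ⁻¹ᵁ V₀) (x := x) hs
  letI : Algebra Γ(S, V₀) Γ(X, U₀) := (f.appLE V₀ U₀ hUV).hom.toAlgebra
  letI : Algebra Γ(S, V₀) (S.residueField s) := (S.evaluation V₀ s hs).hom.toAlgebra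
  let T : CommRingCat.{u} := CommRingCat.of (Γ(X, U₀) ⊗[Γ(S, V₀)] S.residueField s)
  letI : Algebra Γ(X, U₀) T :=
    (Algebra.TensorProduct.leftAlgebra : Algebra Γ(X, U₀) (Γ(X, U₀) ⊗[Γ(S, V₀)] S.residueField s))
  let q : Spec T ⟶ Spec Γ(X, U₀) := Spec.map (CommRingCat.ofHom (algebraMap Γ(X, U₀) T))
  let r : Spec T ⟶ Spec (S.residueField s) := Spec.map (CommRingCat.ofHom
    (Algebra.TensorProduct.includeRight : S.residueField s →ₐ[Γ(S, V₀)] _).toRingHom)
  let a : Spec Γ(X, U₀) ⟶ Spec Γ(S, V₀) := Spec.map (f.appLE V₀ U₀ hUV)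
  let e : Spec (S.residueField s) ⟶ Spec Γ(S, V₀) := Spec.map (S.evaluation V₀ s hs)
  have he : e ≫ hV₀.fromSpec = S.fromSpecResidueField s := by
    rw [Scheme.fromSpecResidueField, ← hV₀.fromSpecStalk_eq_fromSpecStalk hs,
      IsAffineOpen.fromSpecStalk, ← Spec.map_comp_assoc]
    rfl
  have ha : a ≫ hV₀.fromSpec = hU₀.fromSpec ≫ f := IsAffineOpen.SpecMap_appLE_fromSpec f hV₀ hU₀ hUV
  have s1 : IsPullback q r a e := isPullback_SpecMap_of_isPushout _ _ _ _
    (CommRingCat.isPushout_tensorProduct Γ(S, V₀) Γ(X, U₀) (S.residueField s))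
  have s2 : IsPullback (q ≫ 𝟙 _) r (a ≫ hV₀.fromSpec) (e ≫ hV₀.fromSpec) := by
    rw [Category.comp_id]
    refine ⟨⟨by rw [← Category.assoc, ← Category.assoc, s1.w]⟩, ⟨PullbackCone.IsLimit.mk _
      (fun c => s1.lift c.fst c.snd (by
        rw [← cancel_mono hV₀.fromSpec, Category.assoc, Category.assoc]; exact c.condition))
      (fun c => s1.lift_fst _ _ _) (fun c => s1.lift_snd _ _ _)
      (fun c m h1 h2 => s1.hom_ext (by simpa using h1) (by simpa using h2))⟩⟩
  let k : Spec T ⟶ f.fiber s := pullback.lift (q ≫ hU₀.fromSpec) r (by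
    rw [Category.assoc, ← ha, ← he, ← Category.assoc, ← Category.assoc, s1.w])
  have sq : IsPullback k q (f.fiberι s) hU₀.fromSpec := by
    refine (IsPullback.of_right ?_ ?_ (IsPullback.of_hasPullback f (S.fromSpecResidueField s)).flip).flip.flip
    · rw [pullback.lift_snd]
      have := s2.flip
      rw [Category.comp_id, ha, he] at this
      exact this
    · exact pullback.lift_fst _ _ _
  obtain ⟨t, ht⟩ : ∃ t, k.base t = g.base v := by
    have hx : x ∈ Set.range hU₀.fromSpec.base := by rw [hU₀.range_fromSpec]; exact hxU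
    obtain ⟨b, hb⟩ := hx
    have : f.fiberι s (f.asFiber x) = x := f.fiberι_asFiber x
    obtain ⟨z, hz, -⟩ := Scheme.Pullback.exists_preimage_pullback (f := f.fiberι s) (g := hU₀.fromSpec)
      (f.asFiber x) b (this.trans hb.symm)
    refine ⟨sq.isoPullback.inv.base z, ?_⟩
    rw [← Scheme.Hom.comp_apply, sq.isoPullback_inv_fst]
    exact hz.trans hv.symm
  exact Groth.Agent.EtFound.exists_etale_lift_gen (f.fiberι s) g v Γ(X, U₀) hU₀.fromSpec T k sq t ht
    (Groth.Agent.EtFound.isFracImage_tensor _ _ _ (isFracImage_residue hV₀ hs))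


open AlgebraicGeometry CategoryTheory Limits in
theorem finish {X S V U : Scheme.{u}} (f : X ⟶ S) (x : X) (g : V ⟶ f.fiber (f x)) (v : V)
    (hv : g v = f.asFiber x) (p : U ⟶ X) [Etale p]
    (h : pullback p (f.fiberι (f x)) ⟶ V) (hh : h ≫ g = pullback.snd p (f.fiberι (f x))) [IsOpenImmersion h]
    (w : ↥(pullback p (f.fiberι (f x)))) (hw : h w = v) :
    ∃ (U : Scheme.{u}) (p : U ⟶ X) (u : U) (m : (p ≫ f).fiber (f x) ⟶ V) (u' : ↑((p ≫ f).fiber (f x))),
      Etale p ∧ p u = x ∧ IsOpenImmersion m ∧ m ≫ g = MoreMor.fiberMap p f (f x) ∧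
      (p ≫ f).fiberι (f x) u' = u ∧ m u' = v := by
  let e : pullback p (f.fiberι (f x)) ≅ (p ≫ f).fiber (f x) :=
    pullbackRightPullbackFstIso f (S.fromSpecResidueField (f x)) p
  refine ⟨U, p, pullback.fst p (f.fiberι (f x)) w, e.inv ≫ h, e.hom w, inferInstance, ?_,
    inferInstance, ?_, ?_, ?_⟩
  · rw [← Scheme.Hom.comp_apply, pullback.condition, Scheme.Hom.comp_apply, ← hh, Scheme.Hom.comp_apply, hw, hv]
    exact f.fiberι_asFiber x
  · rw [Category.assoc, hh, Iso.inv_comp_eq]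
    apply pullback.hom_ext
    · refine ((Category.assoc _ _ _).trans ((congrArg (e.hom ≫ ·) (pullback.lift_fst _ _ _)).trans
        ((Category.assoc _ _ _).symm.trans ((congrArg (· ≫ p)
          (pullbackRightPullbackFstIso_hom_fst f (S.fromSpecResidueField (f x)) p)).trans ?_)))).symm
      exact pullback.condition
    · exact ((Category.assoc _ _ _).trans ((congrArg (e.hom ≫ ·) (pullback.lift_snd _ _ _)).trans
        (pullbackRightPullbackFstIso_hom_snd f (S.fromSpecResidueField (f x)) p))).symm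
  · rw [← Scheme.Hom.comp_apply]
    exact congrArg (fun m => m w) (pullbackRightPullbackFstIso_hom_fst f (S.fromSpecResidueField (f x)) p)
  · rw [← Scheme.Hom.comp_apply, Iso.hom_inv_id_assoc]
    exact hw

/-- Let f : X ⟶ S be a morphism, x a point of X with image s, and (V, v) ⟶ (X_s, x) an étale
neighbourhood of x in its fibre. Then there is an étale neighbourhood (U, u) ⟶ (X, x) whose fibre
U_s over s admits a morphism of étale neighbourhoods (U_s, u) ⟶ (V, v) over X_s which is an open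
immersion. -/
theorem result {X S V : Scheme.{u}} (f : X ⟶ S) (x : X)
    (g : V ⟶ f.fiber (f x)) [Etale g] (v : V) (hv : g v = f.asFiber x) :
    ∃ (U : Scheme.{u}) (p : U ⟶ X) (u : U) (m : (p ≫ f).fiber (f x) ⟶ V) (u' : ↑((p ≫ f).fiber (f x))),
      Etale p ∧ p u = x ∧ IsOpenImmersion m ∧ m ≫ g = MoreMor.fiberMap p f (f x) ∧
      (p ≫ f).fiberι (f x) u' = u ∧ m u' = v := by
  obtain ⟨W, h, hh, hho, w, hw⟩ := main f x g v hv
  haveI := hho
  exact finish f x g v hv W.hom h hh w hw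

end Groth.Agent.S9727
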