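import Groth.Statements.S9736
import Groth.Agent.Synt29.Descent
import Groth.Agent.Synt29.RelGCI
import Groth.Agent.Synt29.LocalRelGCI

set_option autoImplicit false
universe u
open FlatMor

namespace Groth.Agent.S9736

open AlgebraicGeometry CategoryTheory Limits in
/-- Let f : X ⟶ S be a standard syntomic morphism of affine schemes. Then f is the base change of a
morphism of finite type f₀ : X₀ ⟶ S₀ between affine schemes with S₀ of finite type over ℤ and f₀
standard syntomic. -/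
theorem result {X S : Scheme.{u}} (f : X ⟶ S) [IsAffine X] [IsAffine S] (hf : Synt.IsStandardSyntomic f) :
    ∃ (X₀ S₀ : Scheme.{u}) (f₀ : X₀ ⟶ S₀) (g : S ⟶ S₀) (g' : X ⟶ X₀), IsAffine X₀ ∧ IsAffine S₀ ∧ IsPullback g' f f₀ g ∧
      Algebra.FiniteType ℤ Γ(S₀, ⊤) ∧ LocallyOfFiniteType f₀ ∧ Synt.IsStandardSyntomic f₀ := by
  obtain ⟨R, _, n, c, F, hF, e₁, e₂, hcomm⟩ := hf
  obtain ⟨R₀, F₀, hft, hF₀, h₀⟩ := Groth.Agent.Synt29.exists_descent hF
  obtain rfl : Groth.Agent.Synt29.mapPoly R₀ F₀ R = F := funext hF₀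
  let B₀ := Synt.RelGCIRing R₀ n c F₀
  let B := Synt.RelGCIRing R n c (Groth.Agent.Synt29.mapPoly R₀ F₀ R)
  let e := Groth.Agent.Synt29.baseChangeEquiv R₀ F₀ R
  let f₀ : Spec (CommRingCat.of B₀) ⟶ Spec (CommRingCat.of R₀) :=
    Spec.map (CommRingCat.ofHom (algebraMap R₀ B₀))
  let q : Spec (CommRingCat.of B) ⟶ Spec (CommRingCat.of B₀) :=
    Spec.map (CommRingCat.ofHom ((e.toRingEquiv.toRingHom).comp
      (Algebra.TensorProduct.includeRight : B₀ →ₐ[R₀] TensorProduct R₀ R B₀).toRingHom))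
  refine ⟨Spec (CommRingCat.of B₀), Spec (CommRingCat.of R₀), f₀,
    e₂.hom ≫ Spec.map (CommRingCat.ofHom (algebraMap R₀ R)), e₁.hom ≫ q, inferInstance, inferInstance, ?_, ?_, ?_,
    R₀, inferInstance, n, c, F₀, h₀, Iso.refl _, Iso.refl _, ?_⟩
  · have hpo := CommRingCat.isPushout_tensorProduct R₀ R B₀
    have hpo' : CategoryTheory.IsPushout (CommRingCat.ofHom (algebraMap R₀ R)) (CommRingCat.ofHom (algebraMap R₀ B₀))
        (CommRingCat.ofHom (algebraMap R B))
        (CommRingCat.ofHom ((e.toRingEquiv.toRingHom).comp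
          (Algebra.TensorProduct.includeRight : B₀ →ₐ[R₀] TensorProduct R₀ R B₀).toRingHom)) := by
      refine hpo.of_iso (Iso.refl _) (Iso.refl _) (Iso.refl _) e.toRingEquiv.toCommRingCatIso ?_ ?_ ?_ ?_
      · simp
      · simp
      · exact CommRingCat.hom_ext (RingHom.ext fun x => e.commutes x)
      · exact CommRingCat.hom_ext (RingHom.ext fun x => rfl)
    have hpb := (isPullback_SpecMap_of_isPushout _ _ _ _ hpo').flip
    exact hpb.of_iso e₁.symm (Iso.refl _) e₂.symm (Iso.refl _) (by simp [q]) (by rw [Iso.symm_hom, Iso.symm_hom, Iso.comp_inv_eq, Category.assoc, Iso.eq_inv_comp]; exact hcomm) (by simp [f₀]) (by simp)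
  · have h1 : (algebraMap ℤ R₀).FiniteType := RingHom.finiteType_algebraMap.mpr hft
    have h2 := RingHom.FiniteType.comp_surjective h1
      (g := (Scheme.ΓSpecIso (CommRingCat.of R₀)).inv.hom)
      (Scheme.ΓSpecIso (CommRingCat.of R₀)).symm.commRingCatIsoToRingEquiv.surjective
    rw [Subsingleton.elim (RingHom.comp _ (algebraMap ℤ R₀)) (algebraMap ℤ Γ(Spec (CommRingCat.of R₀), ⊤))] at h2
    exact RingHom.finiteType_algebraMap.mp h2
  · exact HasRingHomProperty.Spec_iff.2 (RingHom.finiteType_algebraMap.mpr inferInstance)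
  · simp [f₀, B₀]

end Groth.Agent.S9736
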