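import Groth.Statements.S9761
import Groth.Agent.ConsPropLib.ModelAffine
import Groth.Agent.S4849
import Groth.Agent.ModStLib.FibGrpd

set_option autoImplicit false
universe u
open FlatMor

namespace Groth.Agent.S9761

set_option backward.isDefEq.respectTransparency false in
set_option backward.isDefEq.respectTransparency.types false in
open AlgebraicGeometry CategoryTheory Limits Groth.Agent in
/-- For a finitely presented morphism f : X ⟶ S of affine schemes and a quasi-coherent, finitely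
presented O_X-module F that is flat over S, f is the base change along some g' : X ⟶ X₀ of a finite
type morphism f₀ : X₀ ⟶ S₀ of affine schemes with S₀ of finite type over ℤ, and some coherent
O_{X₀}-module F₀, flat over S₀, satisfies g'^*F₀ ≅ F. -/
theorem result {X S : Scheme.{u}} (f : X ⟶ S) [IsAffine X] [IsAffine S] [LocallyOfFinitePresentation f]
    (F : X.Modules) [Coh.IsQCoh F] (hF : CohB1.IsFP F) (hfl : FlatMod.IsFlatOver f F) :
    ∃ (X₀ S₀ : Scheme.{u}) (f₀ : X₀ ⟶ S₀) (g : S ⟶ S₀) (g' : X ⟶ X₀), IsAffine X₀ ∧ IsAffine S₀ ∧ IsPullback g' f f₀ g ∧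
      Algebra.FiniteType ℤ Γ(S₀, ⊤) ∧ LocallyOfFiniteType f₀ ∧
      ∃ F₀ : X₀.Modules, Coh.IsCoh F₀ ∧ FlatMod.IsFlatOver f₀ F₀ ∧ Nonempty ((Scheme.Modules.pullback g').obj F₀ ≅ F) := by
  let A := Γ(S, ⊤)
  let D := ConsPropLib.NoethApprox.diagram A
  let c := ConsPropLib.NoethApprox.cone A
  let hc : IsLimit c := ConsPropLib.NoethApprox.isLimit A
  let e : c.pt ≅ S := S.isoSpec.symm
  haveI : ∀ i, IsAffine (D.obj i) := ConsPropLib.NoethApprox.isAffine_obj A
  haveI : ∀ {i j : (Finset A)ᵒᵖ} (g : i ⟶ j), IsAffineHom (D.map g) := fun g => isAffineHom_of_isAffine _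
  haveI : QuasiCompact f := inferInstance
  obtain ⟨i, X₁, u₁, g₁, hX⟩ := ConsPropLib.hasModel hc (f ≫ e.inv)
  haveI := hX.lfp; haveI := hX.qc; haveI := hX.qs
  haveI := hX.compactSpace; haveI := hX.quasiSeparatedSpace
  haveI : ∀ (j k : Over i) (g : j ⟶ k), IsAffineHom ((MorLib.BC.diag D u₁).map g) := fun j k g => inferInstance
  haveI : ∀ o, CompactSpace ((MorLib.BC.diag D u₁).obj o) := fun o => MorLib.BC.compactSpace_obj D u₁ o
  haveI : ∀ o, QuasiSeparatedSpace ((MorLib.BC.diag D u₁).obj o) := fun o =>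
    MorLib.BC.quasiSeparatedSpace_obj D u₁ o
  haveI : IsAffine (MorLib.BC.cone D u₁ hX.sq).pt := ‹IsAffine X›
  obtain ⟨o, ho⟩ := Scheme.exists_isAffine_of_isLimit _ _ (MorLib.BC.isLimitCone D u₁ hX.sq hc)
  haveI := ho
  obtain ⟨j, ψ, Fj, hFj, ⟨θ⟩⟩ := LimMod.exists_module_descend (MorLib.BC.diag D u₁)
    (MorLib.BC.cone D u₁ hX.sq) (MorLib.BC.isLimitCone D u₁ hX.sq hc) (i := o) (F := F) hF
  haveI hjA : IsAffine ((MorLib.BC.diag D u₁).obj j) := isAffine_of_isAffineHom ((MorLib.BC.diag D u₁).map ψ)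
  let f₀ := pullback.snd u₁ (D.map j.hom)
  let qX := MorLib.BC.proj D u₁ hX.sq j
  have hXj : IsPullback qX f f₀ (e.inv ≫ c.π.app j.left) :=
    (MorLib.BC.isPullback_proj D u₁ hX.sq j).of_iso (Iso.refl _) (Iso.refl _) e (Iso.refl _) (by simp [qX])
      (by simp) (by simp [f₀]) (by simp)
  have hY : IsPullback (e.inv ≫ c.π.app j.left) e.inv (𝟙 (D.obj j.left)) (c.π.app j.left) :=
    IsPullback.of_vert_isIso ⟨(Category.comp_id _).trans rfl⟩
  haveI : Coh.IsQCoh Fj := QCoh.isQCoh_of_isFP hFj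
  haveI : IsAffine (pullback u₁ (D.map j.hom)) := hjA
  haveI : LocallyOfFinitePresentation f₀ := inferInstance
  haveI : QuasiCompact (f₀ ≫ 𝟙 (D.obj j.left)) := inferInstance
  haveI : QuasiSeparated (f₀ ≫ 𝟙 (D.obj j.left)) := inferInstance
  haveI : LocallyOfFinitePresentation (f₀ ≫ 𝟙 (D.obj j.left)) := inferInstance
  have hflat : FlatMod.IsFlatOver f ((Scheme.Modules.pullback qX).obj Fj) := fun x =>
    GrFlat5.isFlatOverAt_of_iso f θ.symm x (hfl x)
  obtain ⟨k, φ, Xk, Yk, fk, gk, pY, pX, hYk, hXk, hflk⟩ :=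
    (Groth.Agent.S4849.result D c hc j.left f₀ (𝟙 (D.obj j.left)) Fj hFj f e.inv (e.inv ≫ c.π.app j.left) qX hY hXj).1 hflat
  haveI : IsIso gk := hYk.isIso_snd_of_isIso
  haveI : IsAffine Yk := IsAffine.of_isIso gk
  haveI : IsAffineHom f₀ := inferInstance
  haveI : IsAffineHom fk := MorphismProperty.of_isPullback hXk inferInstance
  haveI : IsAffine Xk := isAffine_of_isAffineHom fk
  haveI : LocallyOfFiniteType fk := MorphismProperty.of_isPullback hXk inferInstance
  haveI : IsNoetherian (D.obj k) := ConsPropLib.NoethApprox.isNoetherian_obj A k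
  haveI : IsLocallyNoetherian Yk := LocallyOfFiniteType.isLocallyNoetherian gk
  haveI : IsLocallyNoetherian Xk := LocallyOfFiniteType.isLocallyNoetherian fk
  let g : S ⟶ Yk := hYk.lift (e.inv ≫ c.π.app j.left) (e.inv ≫ c.π.app k) (by
    rw [Category.comp_id, Category.assoc, c.w])
  let g' : X ⟶ Xk := hXk.lift qX (f ≫ g) (by
    rw [Category.assoc, IsPullback.lift_fst, hXj.w])
  refine ⟨Xk, Yk, fk, g, g', inferInstance, inferInstance, ?_, ?_, inferInstance,
    (Scheme.Modules.pullback pX).obj Fj, QCoh.isCoh_iff_isFP.2 (ModStLib.isFP_pullback pX hFj), hflk,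
    ⟨(Scheme.Modules.pullbackComp g' pX).app Fj ≪≫
      (Scheme.Modules.pullbackCongr (hXk.lift_fst _ _ _)).app Fj ≪≫ θ⟩⟩
  · refine IsPullback.of_right ?_ (hXk.lift_snd _ _ _) hXk
    rw [IsPullback.lift_fst, IsPullback.lift_fst]
    exact hXj
  · haveI : Algebra.FiniteType ℤ (Algebra.adjoin ℤ ((k.unop : Finset A) : Set A)) :=
      Algebra.FiniteType.adjoin_of_finite (Finset.finite_toSet _)
    have h1 : Algebra.FiniteType ℤ Γ(D.obj k, ⊤) := Algebra.FiniteType.equiv ‹_›
      ((Scheme.ΓSpecIso (CommRingCat.of (Algebra.adjoin ℤ ((k.unop : Finset A) : Set A)))).symm.commRingCatIsoToRingEquiv.toIntAlgEquiv)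
    exact Algebra.FiniteType.equiv h1 (asIso gk.appTop).commRingCatIsoToRingEquiv.toIntAlgEquiv

end Groth.Agent.S9761
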