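import Groth.Statements.S9770
import Groth.Agent.SubtrRef.UOpenStage
import Groth.Agent.ConsPropLib.Cores
import Groth.Agent.MorLib.DescendCI

set_option autoImplicit false
universe u
open CategoryTheory AlgebraicGeometry
open FlatMor

namespace Groth.Agent.S9770

set_option linter.style.haveILetI false
set_option backward.isDefEq.respectTransparency false
set_option backward.isDefEq.respectTransparency.types false

open MorLib.Desc Limits in
/-- Cores for two properties combine. -/
theorem core_inf {P P' Q Q' : MorphismProperty Scheme.{u}} [P.IsStableUnderBaseChange] [P'.IsStableUnderBaseChange]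
    (h : Core P Q) (h' : Core P' Q') : Core (P ⊓ P') (Q ⊓ Q') := by
  intro I _ _ D c hc hD i hi X₀ f₀ hcs hqs hQ hP
  obtain ⟨j, φ, hj⟩ := h I D c hc hD i hi f₀ hcs hqs hQ.1 hP.1
  obtain ⟨j', φ', hj'⟩ := h' I D c hc hD i hi f₀ hcs hqs hQ.2 hP.2
  obtain ⟨l, a, b, hab⟩ := IsCofiltered.cospan φ φ'
  refine ⟨l, a ≫ φ, ?_, ?_⟩
  · exact of_factor P hj (a := D.map a) (by rw [← D.map_comp]) (IsPullback.of_hasPullback _ _)
  · exact of_factor P' hj' (a := D.map b) (by rw [← D.map_comp, hab]) (IsPullback.of_hasPullback _ _)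

/-- Let S = lim S_i be a cofiltered limit of schemes with affine transition morphisms, i₀ an index with
S_{i₀} quasi-compact and quasi-separated, and f₀ : X₀ ⟶ Y₀ a morphism of schemes over S_{i₀} with X₀
and Y₀ quasi-compact and quasi-separated and f₀ locally of finite presentation. Write f : X ⟶ Y for
the pullback of f₀ along S ⟶ S_{i₀} (all base changes given by pullback squares). Assuming f is
universally open and locally quasi-finite (with locally of finite type, as the book's notion
includes), there is a stage S_i over S_{i₀} where the pulled-back morphism f_i : X_i ⟶ Y_i already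
has both properties. -/
theorem result {I : Type u} [SmallCategory I] [IsCofiltered I]
    (D : I ⥤ Scheme.{u}) (c : Limits.Cone D) (hc : Limits.IsLimit c)
    [∀ (i j : I) (φ : i ⟶ j), IsAffineHom (D.map φ)] (i₀ : I) [CompactSpace (D.obj i₀)] [QuasiSeparatedSpace (D.obj i₀)]
    {X₀ Y₀ : Scheme.{u}} (f₀ : X₀ ⟶ Y₀) (g₀ : Y₀ ⟶ D.obj i₀) [CompactSpace X₀] [QuasiSeparatedSpace X₀]
    [CompactSpace Y₀] [QuasiSeparatedSpace Y₀] [LocallyOfFinitePresentation f₀]
    {X Y : Scheme.{u}} (f : X ⟶ Y) (g : Y ⟶ c.pt) (qY : Y ⟶ Y₀) (qX : X ⟶ X₀)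
    (hY : IsPullback qY g g₀ (c.π.app i₀)) (hX : IsPullback qX f f₀ qY)
    [LocallyQuasiFinite f] [LocallyOfFiniteType f] [UniversallyOpen f] :
    ∃ (i : I) (φ : i ⟶ i₀) (Xi Yi : Scheme.{u}) (fi : Xi ⟶ Yi) (gi : Yi ⟶ D.obj i) (pY : Yi ⟶ Y₀) (pX : Xi ⟶ X₀),
      IsPullback pY gi g₀ (D.map φ) ∧ IsPullback pX fi f₀ pY ∧ LocallyQuasiFinite fi ∧ LocallyOfFiniteType fi ∧ UniversallyOpen fi := by
  haveI : ∀ {i j : I} (φ : i ⟶ j), IsAffineHom (D.map φ) := fun {i j} φ => inferInstance
  haveI : QuasiCompact f₀ := quasiCompact_of_compactSpace f₀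
  haveI : QuasiSeparated f₀ := QuasiSeparated.of_quasiSeparatedSpace f₀
  haveI : MorphismProperty.RespectsIso (@LocallyOfFiniteType : MorphismProperty Scheme.{u}) :=
    MorphismProperty.IsStableUnderBaseChange.respectsIso
  haveI : MorphismProperty.RespectsIso (@LocallyOfFinitePresentation : MorphismProperty Scheme.{u}) :=
    MorphismProperty.IsStableUnderBaseChange.respectsIso
  haveI : IsZariskiLocalAtTarget (@LocallyQuasiFinite ⊓ @UniversallyOpen : MorphismProperty Scheme.{u}) :=
    inferInstance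
  obtain ⟨i, φ, Xi, Yi, fi, gi, pY, pX, h₁, h₂, h₃⟩ := MorLib.Desc.descend₂ D c hc
    (P := @LocallyQuasiFinite ⊓ @UniversallyOpen) (Q := @LocallyOfFiniteType ⊓ @LocallyOfFinitePresentation)
    (core_inf ConsPropLib.core_locallyQuasiFinite SubtrRef.core_universallyOpen)
    f₀ g₀ ⟨inferInstance, inferInstance⟩ f g qY qX hY hX ⟨inferInstance, inferInstance⟩
  exact ⟨i, φ, Xi, Yi, fi, gi, pY, pX, h₁, h₂, h₃.1,
    MorphismProperty.of_isPullback h₂ (inferInstance : LocallyOfFiniteType f₀), h₃.2⟩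

end Groth.Agent.S9770
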