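import Groth.Statements.S9779
import Groth.Agent.H4RG.QFSlice
import Mathlib
-- import your own Groth.Agent.* helpers here

set_option autoImplicit false
universe u
open FlatMor

namespace Groth.Agent.S9779

open AlgebraicGeometry CategoryTheory Limits in
/-- Suppose S is locally Noetherian and the morphism f : X ⟶ S is locally of finite type; take x a point
of X closed in its fibre, and U ⊆ X an open subscheme not meeting the fibre through x but with x in
the closure of U. Then there is a closed subscheme Z of X passing through x such that Z ⟶ S is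
quasi-finite at x and Z contains a point z of U specializing to x with f z ≠ f x. -/
theorem result {X S : Scheme.{u}} (f : X ⟶ S) [LocallyOfFiniteType f] [IsLocallyNoetherian S] (x : X)
    (hcl : IsClosed (Subtype.val ⁻¹' {x} : Set ↑(f ⁻¹' {f x}))) (U : X.Opens)
    (hU : ∀ x' ∈ U, f x' ≠ f x) (hxU : x ∈ closure (U : Set ↑X)) :
    ∃ (I : X.IdealSheafData) (z₀ x₀ : ↑I.subscheme), I.subschemeι x₀ = x ∧ (I.subschemeι ≫ f).QuasiFiniteAt x₀ ∧
      I.subschemeι z₀ ∈ U ∧ I.subschemeι z₀ ⤳ x ∧ f (I.subschemeι z₀) ≠ f x := by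
  haveI : IsLocallyNoetherian X := LocallyOfFiniteType.isLocallyNoetherian f
  obtain ⟨W, hW, hxW, -⟩ := (TopologicalSpace.Opens.isBasis_iff_nbhd.mp X.isBasis_affineOpens)
    (show x ∈ (⊤ : X.Opens) from trivial)
  haveI : IsNoetherianRing Γ(X, W) := IsLocallyNoetherian.component_noetherian ⟨W, hW⟩
  haveI : TopologicalSpace.NoetherianSpace ↥((W : X.Opens) : Set X) := noetherianSpace_of_isAffineOpen W hW
  have hT : TopologicalSpace.NoetherianSpace ↥((U ⊓ W : X.Opens) : Set X) :=
    (Topology.IsEmbedding.inclusion (fun _ h => h.2 : ((U ⊓ W : X.Opens) : Set X) ⊆ W)).isInducing.noetherianSpace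
  let T : X.Opens := U ⊓ W
  haveI : TopologicalSpace.NoetherianSpace T := hT
  haveI : QuasiSober T := inferInstanceAs (QuasiSober (T : Scheme.{u}))
  have hfin : (irreducibleComponents T).Finite := TopologicalSpace.NoetherianSpace.finite_irreducibleComponents
  have hx : x ∈ closure (T : Set X) := by
    rw [mem_closure_iff] at hxU ⊢
    intro o ho hxo
    obtain ⟨y, hy, hyU⟩ := hxU (o ∩ W) (ho.inter W.2) ⟨hxo, hxW⟩
    exact ⟨y, hy.1, hyU, hy.2⟩
  have hsub : (T : Set X) ⊆ ⋃ Z ∈ irreducibleComponents T, closure (Subtype.val '' Z) := fun y hy =>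
    Set.mem_biUnion (irreducibleComponent_mem_irreducibleComponents (⟨y, hy⟩ : T))
      (subset_closure ⟨⟨y, hy⟩, mem_irreducibleComponent, rfl⟩)
  obtain ⟨Z, hZ, hxZ⟩ := Set.mem_iUnion₂.1 ((hfin.isClosed_biUnion fun _ _ => isClosed_closure).closure_subset_iff.2 hsub hx)
  have hg := hZ.1.isGenericPoint_genericPoint (isClosed_of_mem_irreducibleComponents Z hZ)
  have hspec : (hZ.1.genericPoint).1 ⤳ x := by
    rw [specializes_iff_mem_closure]
    refine closure_minimal ?_ isClosed_closure hxZ
    rintro _ ⟨z, hz, rfl⟩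
    exact specializes_iff_mem_closure.1 ((hg.specializes hz).map continuous_subtype_val)
  exact Groth.Agent.H4RG.exists_quasiFinite_slice f x hcl U
    ⟨_, hZ.1.genericPoint.2.1, hspec, hU _ hZ.1.genericPoint.2.1⟩

end Groth.Agent.S9779
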