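import Groth.Statements.S9781
import Groth.Agent.BrnchNbhd.Unibranch

set_option autoImplicit false
universe u
open Brnch

namespace Groth.Agent.S9781

open AlgebraicGeometry CategoryTheory Limits in
/-- The local ring of X at x is unibranch exactly when, for each étale morphism g : U ⟶ X and point u
over x with trivial residue field extension (an elementary étale neighbourhood), the point u lies on
a single irreducible component of U. -/
theorem result (X : Scheme.{u}) (x : X) :
    CAlg2.IsUnibranch ↑(X.presheaf.stalk x) ↔ ∀ (U : Scheme.{u}) (g : U ⟶ X) (u : U), Hens2.IsEtaleNbhd g u x →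
      {Z : Set ↑U | Z ∈ irreducibleComponents ↑U ∧ u ∈ Z}.encard = 1 := by
  rw [← (BrnchNbhd.unibranch_iff (X.presheaf.stalk x)).1,
    show Brnch.numBranches (X.presheaf.stalk x) = Brnch.numBranchesAt X x from rfl,
    BrnchNbhd.numBranchesAt_eq]
  refine ⟨fun h U g u hn => ?_, fun h => le_antisymm (iSup_le fun U => iSup_le fun g => iSup_le fun u =>
    iSup_le fun hn => (h U g u hn).le) ?_⟩
  · refine le_antisymm ?_ (BrnchNbhd.one_le_encard u)
    rw [← h]
    exact le_iSup_of_le U (le_iSup_of_le g (le_iSup_of_le u (le_iSup_of_le hn le_rfl)))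
  · exact le_iSup_of_le X (le_iSup_of_le (𝟙 X) (le_iSup_of_le x
      (le_iSup_of_le (BrnchNbhd.isEtaleNbhd_id X x) (BrnchNbhd.one_le_encard x))))

end Groth.Agent.S9781
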