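import Groth.Statements.S9787
-- import your own Groth.Agent.* helpers here
import Groth.Agent.H4CI.BlowLfp
import Groth.Agent.H4CI.RegSmooth
import Groth.Agent.RegImmLib.SmoothClosed

set_option linter.style.haveILetI false

set_option autoImplicit false
universe u
open CategoryTheory CategoryTheory.Limits AlgebraicGeometry TopologicalSpace
open FlatMor

namespace Groth.Agent.S9787

/-- An effective Cartier ideal is, at each point of its support, generated by a regular sequence. -/
theorem exists_regular_seq {X : Scheme.{u}} {C : X.IdealSheafData} (hC : BlowUp.IsEffCartierIdeal C)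
    (x : X) (hx : x ∈ C.support) : ∃ (U : X.Opens) (hU : IsAffineOpen U), x ∈ U ∧
      ∃ rs : List Γ(X, U), RingTheory.Sequence.IsRegular Γ(X, U) rs ∧ C.ideal ⟨U, hU⟩ = Ideal.ofList rs := by
  obtain ⟨U, hxU, f, hf, hI⟩ := hC x
  refine ⟨U.1, U.2, hxU, [f], ⟨?_, fun h => ?_⟩, by rw [Ideal.ofList_singleton]; exact hI⟩
  · rw [RingTheory.Sequence.isWeaklyRegular_cons_iff]
    exact ⟨((isRegular_iff_mem_nonZeroDivisors).2 hf).left.isSMulRegular,
      RingTheory.Sequence.IsWeaklyRegular.nil _ _⟩
  · rw [Ideal.smul_top_eq_map, Ideal.ofList_singleton, Algebra.algebraMap_self, Ideal.map_id,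
      ← hI] at h
    have h1 : C.ideal ⟨U.1, U.2⟩ = ⊤ := by simpa using h.symm
    have h2 := C.coe_support_inter ⟨U.1, U.2⟩
    rw [h1, Submodule.top_coe, Scheme.zeroLocus_univ] at h2
    exact ((Set.ext_iff.1 h2 x).1 ⟨hx, hxU⟩).1 hxU

/-- For a smooth q : X ⟶ S and a closed immersion i : Z ⟶ X whose composite with q is smooth, any
blowing up b : X' ⟶ X of the ideal sheaf of Z (given by its universal property) is smooth over S,
and so is its exceptional divisor. The published statement also identifies the exceptional divisor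
over Z with the projective bundle of the conormal sheaf, with O(1) the restriction of O_{X'}(−E);
this row proves only the two smoothness claims. -/
theorem result {Z X X' S : Scheme.{u}} (q : X ⟶ S) [Smooth q] (i : Z ⟶ X) [IsClosedImmersion i]
    [Smooth (i ≫ q)] (b : X' ⟶ X) (hb : BlowUp.IsBlowUp b i.ker) :
    Smooth (b ≫ q) ∧ Smooth ((BlowUp.exceptional b i.ker).subschemeι ≫ b ≫ q) := by
  haveI hsm : IsZariskiLocalAtSource @Smooth.{u} := HasRingHomProperty.instIsZariskiLocalAtSource
  have hreg : Mor2.IsRegularClosedImmersion i := by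
    refine ⟨inferInstance, fun z => ?_⟩
    obtain ⟨U, hU, -, rs, hrs, hker⟩ := (Groth.Agent.RegImmLib.regular_of_smooth q i).2 z
    exact ⟨U.1, U.2, hU, rs, hrs, by rw [Scheme.Hom.ker_apply]; exact hker⟩
  haveI := Groth.Agent.H4CI.BlowLfp.lfp_of_isBlowUp i hreg b hb
  set E := BlowUp.exceptional b i.ker with hE
  have hle : i.ker ≤ (E.subschemeι ≫ b).ker := by
    rw [Scheme.Hom.ker_comp, Scheme.IdealSheafData.ker_subschemeι]
    exact Scheme.IdealSheafData.le_map_iff_comap_le.2 le_rfl
  let g := IsClosedImmersion.lift i (E.subschemeι ≫ b) hle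
  have hg : g ≫ i = E.subschemeι ≫ b := IsClosedImmersion.lift_fac i _ hle
  haveI : Smooth g := Groth.Agent.BlowExc.smooth_exceptional i hreg b hb g hg
  haveI hEs : Smooth (E.subschemeι ≫ b ≫ q) := by
    rw [← Category.assoc, ← hg, Category.assoc]
    infer_instance
  refine ⟨?_, hEs⟩
  have main : ∀ x : X', ∃ W : X'.Opens, x ∈ W ∧ Smooth (W.ι ≫ b ≫ q) := by
    intro x
    by_cases hx : x ∈ E.support
    · obtain ⟨e, he⟩ : x ∈ Set.range E.subschemeι := by
        rw [Scheme.IdealSheafData.range_subschemeι]; exact hx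
      obtain ⟨W, hW, hWs⟩ := Groth.Agent.H4CI.RegSmooth.smooth_nhd (b ≫ q) (E.subschemeι ≫ b ≫ q)
        E.subschemeι rfl e ⟨⊤, trivial, inferInstance⟩
        (by rw [Scheme.IdealSheafData.ker_subschemeι, he]; exact exists_regular_seq hb.1 x hx)
      exact ⟨W, he ▸ hW, hWs⟩
    · let U : X.Opens := ⟨(i.ker.support : Set X)ᶜ, i.ker.support.isClosed.isOpen_compl⟩
      haveI := Groth.Agent.BlowUpLib.isIso_restrict hb U (fun z hz => hz)
      refine ⟨b ⁻¹ᵁ U, fun h => hx ?_, ?_⟩
      · show x ∈ (i.ker.comap b).support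
        rw [Scheme.IdealSheafData.support_comap]
        exact h
      · rw [← Category.assoc, ← morphismRestrict_ι, Category.assoc]
        infer_instance
  choose W hW hWs using main
  exact IsZariskiLocalAtSource.of_openCover (P := @Smooth.{u})
    (Scheme.Cover.mkOfCovers (P := @IsOpenImmersion) _ _ (fun x => (W x).ι)
      (fun x => ⟨x, ⟨x, hW x⟩, rfl⟩) inferInstance) hWs

end Groth.Agent.S9787
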