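import Groth.Statements.S9789
import Groth.Agent.SmStrat.Global
import Groth.Agent.S0590
import Groth.Agent.S0591
-- import your own Groth.Agent.* helpers here

set_option autoImplicit false
universe u
open FlatMor

namespace Groth.Agent.S9789

open CategoryTheory CategoryTheory.Limits AlgebraicGeometry TopologicalSpace

open AlgebraicGeometry CategoryTheory Limits in
/-- For f : X ⟶ S locally of finite presentation, quasi-compact and quasi-separated, with X and S
quasi-compact and quasi-separated, one can find t ≥ 0 and closed subschemes S ⊃ S_0 ⊃ S_1 ⊃ … ⊃ S_t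
= ∅, each cut out by an ideal sheaf of finite type (written as ideals I_0 ≤ … ≤ I_t = O_S), with S_0
⊂ S a thickening, and for each i a surjective finite locally free morphism T_i ⟶ S_i ∖ S_{i+1}
together with t_i ≥ 0 and closed subschemes X ×_S T_i ⊃ Z_{i,0} ⊃ … ⊃ Z_{i,t_i} = ∅ cut out by
finite type ideal sheaves, Z_{i,0} a thickening, such that each Z_{i,j} ∖ Z_{i,j+1} is smooth over
T_i. -/
theorem result {X S : Scheme.{u}} (f : X ⟶ S) [LocallyOfFinitePresentation f] [QuasiCompact f] [QuasiSeparated f]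
    [CompactSpace ↑S] [QuasiSeparatedSpace ↑S] [CompactSpace ↑X] [QuasiSeparatedSpace ↑X] :
    ∃ (t : ℕ) (I : Fin (t + 1) → S.IdealSheafData), Monotone I ∧ I (Fin.last t) = ⊤ ∧ ((I 0).support : Set ↑S) = Set.univ ∧
      (∀ i, ∀ U : S.affineOpens, ((I i).ideal U).FG) ∧
      ∀ i : Fin t, ∃ (T : Scheme.{u}) (v : T ⟶ ↑((I i.castSucc).subschemeι ⁻¹ᵁ (I i.succ).support.compl)),
        Surjective v ∧ Mor2.IsFinLocFree v ∧
        ∃ (t' : ℕ) (J : Fin (t' + 1) → (pullback f (v ≫ ((I i.castSucc).subschemeι ⁻¹ᵁ (I i.succ).support.compl).ι ≫ (I i.castSucc).subschemeι)).IdealSheafData),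
          Monotone J ∧ J (Fin.last t') = ⊤ ∧ ((J 0).support : Set ↑(pullback f (v ≫ ((I i.castSucc).subschemeι ⁻¹ᵁ (I i.succ).support.compl).ι ≫ (I i.castSucc).subschemeι))) = Set.univ ∧
          (∀ j, ∀ O : (pullback f (v ≫ ((I i.castSucc).subschemeι ⁻¹ᵁ (I i.succ).support.compl).ι ≫ (I i.castSucc).subschemeι)).affineOpens, ((J j).ideal O).FG) ∧
          ∀ j : Fin t', Smooth (((J j.castSucc).subschemeι ⁻¹ᵁ (J j.succ).support.compl).ι ≫ (J j.castSucc).subschemeι ≫ pullback.snd f (v ≫ ((I i.castSucc).subschemeι ⁻¹ᵁ (I i.succ).support.compl).ι ≫ (I i.castSucc).subschemeι)) := by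
  obtain ⟨I₀, _, _, _, Ss, cS₀, hcS₀, htr, hSs, ⟨eS⟩⟩ := S0590.result S
  let cS : Cone Ss := cS₀.extend eS.inv
  have hcS : IsLimit cS := IsLimit.extendIso eS.inv hcS₀
  haveI : ∀ (i j : I₀ᵒᵖ) (a : i ⟶ j), IsAffineHom (Ss.map a) := htr
  haveI : ∀ j, CompactSpace (Ss.obj j) := fun j => (hSs j).1
  haveI hN : ∀ j, IsNoetherian (Ss.obj j) := fun j => by
    haveI := (hSs j).2
    haveI : IsNoetherianRing (ULift.{u} ℤ) := isNoetherianRing_of_ringEquiv ℤ ULift.ringEquiv.symm
    haveI : IsNoetherianRing (CommRingCat.of (ULift.{u} ℤ)) := ‹_›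
    haveI : IsLocallyNoetherian (Ss.obj j) :=
      LocallyOfFiniteType.isLocallyNoetherian (Limits.IsTerminal.from specULiftZIsTerminal (Ss.obj j))
    exact {}
  haveI : ∀ j, QuasiSeparatedSpace (Ss.obj j) := fun j => inferInstance
  let f' : X ⟶ cS.pt := f
  haveI : LocallyOfFinitePresentation f' := ‹LocallyOfFinitePresentation f›
  haveI : QuasiCompact f' := ‹QuasiCompact f›
  haveI : QuasiSeparated f' := ‹QuasiSeparated f›
  obtain ⟨j, Xj, fj, gj, h1, h2, h3, hpb⟩ := S0591.result Ss cS hcS X f'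
  haveI := h1; haveI := h2; haveI := h3
  obtain ⟨t, C, hC, hC0, hCl, hgood⟩ := (SmStrat.exists_bchain fj ⊤).exists_fin
  let π : S ⟶ Ss.obj j := cS.π.app j
  let I : Fin (t + 1) → S.IdealSheafData := fun i => (Scheme.IdealSheafData.vanishingIdeal (C i)).comap π
  refine ⟨t, I, fun a b hab => Scheme.IdealSheafData.comap_mono π
    (Scheme.IdealSheafData.vanishingIdeal_antimono (hC hab)), ?_, ?_, fun i => MorLib.IdealFG.isFG_comap ?_ π, fun i => ?_⟩
  · simp only [I, hCl, Scheme.IdealSheafData.vanishingIdeal_bot, Scheme.IdealSheafData.comap_top]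
  · simp only [I, Scheme.IdealSheafData.support_comap, hC0]
    show π ⁻¹' ((Scheme.IdealSheafData.vanishingIdeal (⊤ : Closeds (Ss.obj j))).support : Set _) = Set.univ
    rw [Scheme.IdealSheafData.coe_support_vanishingIdeal]
    exact Set.preimage_univ
  · intro U
    haveI := IsLocallyNoetherian.component_noetherian U
    exact (isNoetherianRing_iff_ideal_fg _).1 ‹_› _
  obtain ⟨q, hq⟩ := SmStrat.isPullback_sι π (Scheme.IdealSheafData.vanishingIdeal (C i.castSucc))
    (Scheme.IdealSheafData.vanishingIdeal (C i.succ))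
  obtain ⟨T, v, hs, hfl, t', J, hJ⟩ := (hgood i).of_sq (f' := f) (π := π) hpb hq.w
  refine ⟨T, v, hs, hfl, t', J, hJ.mono, hJ.last, hJ.zero, hJ.fg, fun k => ?_⟩
  have h := hJ.smooth k
  rw [Category.assoc] at h
  exact h

end Groth.Agent.S9789
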