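import Groth.Statements.S9802
import Groth.Agent.AlgSpDec.NagataLocal
import Groth.Agent.N12Aux.Nagata
import Groth.Agent.H23.RedSub
import Mathlib
-- import your own Groth.Agent.* helpers here

set_option autoImplicit false
universe u
open CategoryTheory AlgebraicGeometry TopologicalSpace
open Props

namespace Groth.Agent.S9802

/-- A locally Noetherian scheme is Nagata (every affine open has a Nagata coordinate ring) if and only
if every integral closed subscheme is Japanese (every nonempty affine open of it has an N-2
coordinate ring). -/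
theorem result (X : Scheme.{u})
    [IsLocallyNoetherian X] :
    (∀ U : X.Opens, IsAffineOpen U → CAlg.IsNagata Γ(X, U)) ↔
      ∀ (Z : Scheme.{u}) (i : Z ⟶ X) [IsClosedImmersion i] [IsIntegral Z]
        (V : Z.Opens) [Nonempty V], IsAffineOpen V → CAlg.IsN2 Γ(Z, V) := by
  classical
  constructor
  · intro h Z i _ _ V _ hV
    refine Groth.Agent.N12Aux.isN2_of_isNagata ?_
    exact Groth.Agent.AlgSpDec.NagataLocal.isNagata_affineOpen i (fun U : X.affineOpens => (U : X.Opens))
      (iSup_affineOpens_eq_top X) (fun U => U.2) (fun U => h U U.2) V hV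
  · intro h U hU
    refine ⟨IsLocallyNoetherian.component_noetherian ⟨U, hU⟩, fun p hp => ?_⟩
    let pt : Spec Γ(X, U) := ⟨p, hp⟩
    let C : Closeds X := ⟨closure {hU.fromSpec pt}, isClosed_closure⟩
    let I := Scheme.IdealSheafData.vanishingIdeal C
    haveI : IsReduced I.subscheme := Groth.Agent.H23.RedSub.isReduced_vanishingIdeal _
    have hrange : Set.range I.subschemeι = (C : Set X) := Groth.Agent.H23.RedSub.range_vanishingIdeal C
    obtain ⟨z, hz⟩ : hU.fromSpec pt ∈ Set.range I.subschemeι := hrange ▸ subset_closure rfl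
    have hgen : IsGenericPoint z (Set.univ : Set I.subscheme) := Set.eq_univ_of_forall fun y => by
      rw [← specializes_iff_mem_closure, ← I.subschemeι.isEmbedding.specializes_iff, hz, specializes_iff_mem_closure]
      exact hrange.le ⟨y, rfl⟩
    haveI : IrreducibleSpace I.subscheme :=
      { isPreirreducible_univ := hgen.isIrreducible.2
        toNonempty := ⟨z⟩ }
    haveI : IsIntegral I.subscheme := isIntegral_of_irreducibleSpace_of_isReduced _
    haveI : Nonempty (I.subschemeι ⁻¹ᵁ U) := ⟨⟨z, by
      show I.subschemeι z ∈ U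
      rw [hz]
      exact hU.range_fromSpec.le ⟨pt, rfl⟩⟩⟩
    have h2 := h I.subscheme I.subschemeι (I.subschemeι ⁻¹ᵁ U) (hU.preimage I.subschemeι)
    have hker : RingHom.ker (I.subschemeι.app U).hom = p := by
      rw [show RingHom.ker (I.subschemeι.app U).hom = I.ideal ⟨U, hU⟩ from
        Scheme.IdealSheafData.ker_subschemeι_app I ⟨U, hU⟩, Scheme.IdealSheafData.vanishingIdeal_ideal]
      have e : hU.fromSpec ⁻¹' (C : Set X) = closure {pt} := by
        rw [hU.fromSpec.isEmbedding.isInducing.closure_eq_preimage_closure_image, Set.image_singleton]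
        rfl
      show PrimeSpectrum.vanishingIdeal (hU.fromSpec ⁻¹' (C : Set X)) = p
      refine (congrArg PrimeSpectrum.vanishingIdeal e).trans ?_
      exact (PrimeSpectrum.vanishingIdeal_closure _).trans (PrimeSpectrum.vanishingIdeal_singleton _)
    exact Groth.Agent.N12Aux.isN2_of_ringEquiv
      ((RingHom.quotientKerEquivOfSurjective (Scheme.IdealSheafData.subschemeι_app_surjective I ⟨U, hU⟩)).symm.trans
        (Ideal.quotEquivOfEq hker)) h2

end Groth.Agent.S9802
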