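import Groth.Statements.S9817
import Groth.Agent.H23.TwistAmple
import Groth.Agent.InvX.GenLocusPull
import Groth.Agent.AmpleX.Pow
import Groth.Agent.Proj16.ConeData

set_option autoImplicit false
universe u
open CategoryTheory CategoryTheory.Limits AlgebraicGeometry TopologicalSpace
open Props

set_option backward.isDefEq.respectTransparency false
set_option backward.isDefEq.respectTransparency.types false

namespace Groth.Agent.S9817

variable {R A : Type u} [CommRing R] [CommRing A] [Algebra R A]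
  {𝒜 : ℕ → Submodule R A} [GradedAlgebra 𝒜] {d : ℕ} {a b : A}

open Opposite in
theorem le_basicOpen_of_frame (ha : a ∈ 𝒜 d) (hb : b ∈ 𝒜 d) {V : (Proj 𝒜).Opens}
    (hVb : V ≤ Proj.basicOpen 𝒜 b)
    (hV : InvX.IsFrame (AModX.res (Twist.twist 𝒜 (d : ℤ)) (le_top : V ≤ ⊤) (Twist.globalOf 𝒜 ⟨a, ha⟩))) :
    V ≤ Proj.basicOpen 𝒜 a := by
  intro x hx
  obtain ⟨r, hr⟩ := hV.exists_coord le_rfl
    (AModX.res (Twist.twist 𝒜 (d : ℤ)) (le_top : V ≤ ⊤) (Twist.globalOf 𝒜 ⟨b, hb⟩))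
  rw [AModX.res_res] at hr
  have h := congrArg (fun q => ((show Twist.sectN (𝒜 := 𝒜) (d : ℤ) (op V) from q).1 ⟨x, hx⟩).1) hr
  have h' : (Localization.mk b 1 : Twist.Loc 𝒜 x) =
      ((show Twist.O (𝒜 := 𝒜) (op V) from r).1 ⟨x, hx⟩).val * Localization.mk a 1 :=
    h.trans (Twist.coe_smul_val (d : ℤ) x _ _)
  have hu : IsUnit (Localization.mk b 1 : Twist.Loc 𝒜 x) := by
    rw [Localization.mk_one_eq_algebraMap]
    exact (IsLocalization.AtPrime.isUnit_to_map_iff _ x.asHomogeneousIdeal.toIdeal _).2 (hVb hx)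
  rw [h'] at hu
  have hu' := isUnit_of_mul_isUnit_right hu
  rw [Localization.mk_one_eq_algebraMap] at hu'
  exact (IsLocalization.AtPrime.isUnit_to_map_iff _ x.asHomogeneousIdeal.toIdeal _).1 hu'

/-- For a quasi-compact scheme X admitting an open immersion j into Proj of a graded ring, some positive
twist O(d) pulls back along j to an ample invertible module on X. -/
theorem result {R A : Type u} [CommRing R] [CommRing A]
    [Algebra R A] (𝒜 : ℕ → Submodule R A) [GradedAlgebra 𝒜] (X : Scheme.{u}) [CompactSpace X]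
    (j : X ⟶ Proj 𝒜) [IsOpenImmersion j] :
    ∃ d : ℕ, 0 < d ∧ CohB1.IsAmple ((Scheme.Modules.pullback j).obj (Twist.twist 𝒜 (d : ℤ))) := by
  have hloc : ∀ x : X, ∃ (k : ℕ) (f : A), 0 < k ∧ f ∈ 𝒜 k ∧ j x ∈ Proj.basicOpen 𝒜 f ∧
      Proj.basicOpen 𝒜 f ≤ j.opensRange := fun x => by
    obtain ⟨_, ⟨r, rfl⟩, hxr, hr⟩ := (ProjectiveSpectrum.isTopologicalBasis_basic_opens 𝒜).exists_subset_of_mem_open
      (show j x ∈ (j.opensRange : Set (Proj 𝒜)) from ⟨x, rfl⟩) j.opensRange.2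
    have e := ProjectiveSpectrum.basicOpen_eq_union_of_projection 𝒜 r
    obtain ⟨i, hi⟩ := Opens.mem_iSup.1 (e.le hxr)
    obtain ⟨k, f, hk, hf, hfx⟩ := Proj16.exists_homogeneous_notMem 𝒜 (I := (j x).asHomogeneousIdeal.toIdeal)
      (j x).not_irrelevant_le
    refine ⟨i + k, GradedRing.proj 𝒜 i r * f, by omega, SetLike.mul_mem_graded (SetLike.coe_mem _) hf, ?_, ?_⟩
    · exact fun h => ((j x).isPrime.mem_or_mem h).elim hi hfx
    · refine fun p hp => hr (e.ge (Opens.mem_iSup.2 ⟨i, fun h => hp ?_⟩))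
      exact Ideal.mul_mem_right _ _ h
  choose k f hk hf hxf hfle using hloc
  obtain ⟨S, hS⟩ := isCompact_univ.elim_finite_subcover
    (fun x : X => ((j ⁻¹ᵁ Proj.basicOpen 𝒜 (f x) : X.Opens) : Set X))
    (fun x => (j ⁻¹ᵁ Proj.basicOpen 𝒜 (f x)).2) (fun x _ => Set.mem_iUnion.2 ⟨x, hxf x⟩)
  let d := ∏ x ∈ S, k x
  have hd : 0 < d := Finset.prod_pos fun x _ => hk x
  refine ⟨d, hd, ?_⟩
  let M := Twist.twist 𝒜 (d : ℤ)
  have hS' : ∀ z : X, ∃ b : A, b ∈ 𝒜 d ∧ j z ∈ Proj.basicOpen 𝒜 b ∧ Proj.basicOpen 𝒜 b ≤ j.opensRange ∧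
      IsAffineOpen (Proj.basicOpen 𝒜 b) := fun z => by
    obtain ⟨x, hxS, hzx⟩ := Set.mem_iUnion₂.1 (hS (Set.mem_univ z))
    obtain ⟨c, hc⟩ : k x ∣ d := Finset.dvd_prod_of_mem _ hxS
    have hc0 : 0 < c := Nat.pos_of_ne_zero fun h0 => by rw [h0, mul_zero] at hc; omega
    have hmem : f x ^ c ∈ 𝒜 d := by
      rw [hc, mul_comm]; simpa using SetLike.pow_mem_graded c (hf x)
    have e : Proj.basicOpen 𝒜 (f x ^ c) = Proj.basicOpen 𝒜 (f x) := Proj.basicOpen_pow 𝒜 (f x) c hc0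
    exact ⟨f x ^ c, hmem, e.symm ▸ hzx, e.symm ▸ hfle x, e.symm ▸ Proj.isAffineOpen_basicOpen 𝒜 (f x) (hf x) (hk x)⟩
  have hfr : ∀ (b : A) (hb : b ∈ 𝒜 d), InvX.IsFrame (InvX.pullElt j
      (AModX.res M (le_top : Proj.basicOpen 𝒜 b ≤ ⊤) (Twist.globalOf 𝒜 ⟨b, hb⟩))) := fun b hb =>
    InvX.isFrame_pullElt j (TwistX.isFrame_res_globalOf hb fun y => y.2)
  have hL : PicF.IsInvertible ((Scheme.Modules.pullback j).obj M) := InvX.isInvertible_of_frames fun z => by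
    obtain ⟨b, hb, hzb, -, -⟩ := hS' z
    exact ⟨_, hzb, _, hfr b hb⟩
  refine ⟨hL, inferInstance, fun z => ?_⟩
  obtain ⟨a, ha, hza, hale, haff⟩ := hS' z
  let σ : Γ((Scheme.Modules.pullback j).obj M, ⊤) := InvX.pullElt j (show Γ(M, (⊤ : (Proj 𝒜).Opens)) from Twist.globalOf 𝒜 ⟨a, ha⟩)
  have hG : CohB1.genLocus _ (InvX.ofSect σ) = j ⁻¹ᵁ Proj.basicOpen 𝒜 a := by
    refine le_antisymm (fun p hp => ?_) (InvX.le_genLocus _ ?_)
    · obtain ⟨b, hb, hpb, -, -⟩ := hS' p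
      obtain ⟨c, hc⟩ := (TwistX.isFrame_res_globalOf hb (U := Proj.basicOpen 𝒜 b) fun y => y.2).exists_coord le_rfl
        (AModX.res M (le_top : Proj.basicOpen 𝒜 b ≤ ⊤) (Twist.globalOf 𝒜 ⟨a, ha⟩))
      rw [AModX.res_self] at hc
      have hx : AModX.res ((Scheme.Modules.pullback j).obj M) (le_top : j ⁻¹ᵁ Proj.basicOpen 𝒜 b ≤ ⊤)
          (InvX.one (InvX.ofSect σ)) = j.app (Proj.basicOpen 𝒜 b) c •
            InvX.pullElt j (AModX.res M (le_top : Proj.basicOpen 𝒜 b ≤ ⊤) (Twist.globalOf 𝒜 ⟨b, hb⟩)) := by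
        rw [InvX.one_ofSect]
        exact (InvX.res_pullElt j le_top _).trans ((congrArg (InvX.pullElt j) hc).trans (InvX.pullElt_smul j c _))
      have h1 : p ∈ X.basicOpen (j.app (Proj.basicOpen 𝒜 b) c) := by
        rw [← InvX.genLocus_inf (InvX.ofSect σ) (hfr b hb) hx]
        exact ⟨hp, hpb⟩
      rw [← Scheme.preimage_basicOpen] at h1
      refine le_basicOpen_of_frame ha hb ((Proj 𝒜).basicOpen_le c) ?_ h1
      have h2 := congrArg (AModX.res M ((Proj 𝒜).basicOpen_le c)) hc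
      rw [AModX.res_res, AModX.res_smul] at h2
      exact h2 ▸ ((TwistX.isFrame_res_globalOf hb (U := Proj.basicOpen 𝒜 b) fun y => y.2).res
        ((Proj 𝒜).basicOpen_le c)).isUnit_smul (AModX.isUnit_resR _ _ le_rfl)
    · rw [InvX.one_ofSect]
      exact (InvX.res_pullElt j le_top _).symm ▸ hfr a ha
  refine ⟨0, InvX.powHom (InvX.ofSect σ) 1, ?_⟩
  rw [InvX.genLocus_powHom hL _ 0, hG]
  refine ⟨hza, ?_⟩
  rw [← j.isAffineOpen_iff_of_isOpenImmersion, Scheme.Hom.image_preimage_eq_opensRange_inf, inf_eq_right.2 hale]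
  exact haff

end Groth.Agent.S9817
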