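import Groth.Statements.S9828
import Groth.Agent.LimMod.FPColim

set_option autoImplicit false
universe u
open CategoryTheory CategoryTheory.Limits AlgebraicGeometry TopologicalSpace Opposite
open Props


set_option linter.style.haveILetI false
set_option backward.isDefEq.respectTransparency false
set_option backward.isDefEq.respectTransparency.types false
open Limits Groth.Agent Groth.Agent.QCoh Groth.Agent.QcqsColim Groth.Agent.LimMod

namespace Groth.Agent.S9828

/-- On a quasi-compact quasi-separated scheme, a quasi-coherent module of finite type is a directed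
colimit of modules of finite presentation with surjective transition maps. -/
theorem result {X : Scheme.{u}} [CompactSpace X]
    [QuasiSeparatedSpace X] (F : X.Modules) [Coh.IsQCoh F] (hF : CohB1.IsFT F) :
    ∃ (J : Type u) (_ : PartialOrder J) (_ : IsDirected J (· ≤ ·)) (_ : Nonempty J) (D : J ⥤ X.Modules)
      (ι : D ⟶ (Functor.const J).obj F), Nonempty (IsColimit (Cocone.mk F ι)) ∧
      (∀ j, CohB1.IsFP (D.obj j)) ∧ ∀ (j j' : J) (h : j ⟶ j'), Epi (D.map h) := by
  classical
  obtain ⟨m, V, hV, hcov⟩ := LimMod.exists_fin_succ_affine_cover X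
  haveI := fun b => QCoh.finite_of_isFT (M := F) inferInstance hF (hV b)
  choose T hT using fun b => (Module.Finite.fg_top (R := Γ(X, V b)) (M := Γ(F, V b)))
  obtain ⟨G, p, hG, hp⟩ := LimMod.exists_fp_hom_mem_fin (F := F) inferInstance V hV T
  let P : PUnit.{u + 1} ⥤ X.Modules := (Functor.const _).obj G
  let π : P ⟶ (Functor.const _).obj F := { app := fun _ => p }
  have hP : ∀ l, CohB1.IsFP (P.obj l) := fun _ => hG
  haveI := LimMod.FPC.directed P π hP inferInstance
  obtain ⟨hc⟩ := LimMod.FPC.nonempty_isColimit P π hP inferInstance (fun W s x hx => by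
    obtain ⟨b, hb⟩ := hcov x
    obtain ⟨f, hf, hxf⟩ := (hV b).exists_basicOpen_le (V := W) ⟨x, hx⟩ hb
    obtain ⟨n, t, ht⟩ := QCoh.exists_pow_smul_eq_map (M := F) inferInstance (hV b) f (rs F hf s)
    have hmem : ∀ t : Γ(F, V b), ∃ z, p.app (V b) z = t := fun t => by
      have ht' : t ∈ Submodule.span Γ(X, V b) (T b : Set Γ(F, V b)) := (hT b).symm ▸ trivial
      induction ht' using Submodule.span_induction with
      | mem w hw => exact hp b w hw
      | zero => exact ⟨0, map_zero _⟩
      | add a a' _ _ ha ha' =>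
        obtain ⟨z, hz⟩ := ha
        obtain ⟨z', hz'⟩ := ha'
        exact ⟨z + z', by rw [map_add, hz, hz']⟩
      | smul r a _ ha =>
        obtain ⟨z, hz⟩ := ha
        exact ⟨r • z, by rw [Scheme.Modules.Hom.app_smul, hz]⟩
    obtain ⟨z, hz⟩ := hmem t
    obtain ⟨u, hu⟩ := ((QCoh.isUnit_rf_basicOpen f).pow n).exists_left_inv
    refine ⟨X.basicOpen f, hf, PUnit.unit, u • rs G (X.basicOpen_le f) z, hxf, ?_⟩
    show p.app (X.basicOpen f) (u • rs G (X.basicOpen_le f) z) = rs F hf s
    rw [Scheme.Modules.Hom.app_smul, ColimCrit.app_rs, hz]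
    refine (congrArg (u • ·) ht).trans ?_
    rw [smul_smul]
    exact (congrArg (· • rs F hf s) hu).trans (one_smul _ _))
  let J := Antisymmetrization (LimMod.FPC.Idx P π) (· ≤ ·)
  have hmono : Monotone (fun q : J => ofAntisymmetrization (· ≤ ·) q) :=
    fun a b h => ofAntisymmetrization_le_ofAntisymmetrization_iff.2 h
  have hup : ∀ a : LimMod.FPC.Idx P π,
      a ≤ ofAntisymmetrization (· ≤ ·) (toAntisymmetrization (· ≤ ·) a) := fun a =>
    (toAntisymmetrization_le_toAntisymmetrization_iff.1
      (le_of_eq (toAntisymmetrization_ofAntisymmetrization _ (toAntisymmetrization (· ≤ ·) a)).symm))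
  haveI : IsDirected J (· ≤ ·) := ⟨fun a b => by
    obtain ⟨c, hac, hbc⟩ := exists_ge_ge (ofAntisymmetrization (· ≤ ·) a) (ofAntisymmetrization (· ≤ ·) b)
    exact ⟨toAntisymmetrization (· ≤ ·) c,
      ofAntisymmetrization_le_ofAntisymmetrization_iff.1 (hac.trans (hup c)),
      ofAntisymmetrization_le_ofAntisymmetrization_iff.1 (hbc.trans (hup c))⟩⟩
  haveI : Nonempty J := ⟨toAntisymmetrization (· ≤ ·) (Classical.arbitrary _)⟩
  haveI : hmono.functor.Final := Functor.final_of_exists_of_isFiltered _
    (fun a => ⟨toAntisymmetrization (· ≤ ·) a, ⟨homOfLE (hup a)⟩⟩) fun {d c} s s' => ⟨c, 𝟙 c, Subsingleton.elim _ _⟩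
  refine ⟨J, inferInstance, inferInstance, inferInstance, hmono.functor ⋙ LimMod.FPC.quots P π,
    ((LimMod.FPC.quotsCocone P π).whisker hmono.functor).ι,
    ⟨(Functor.Final.isColimitWhiskerEquiv hmono.functor _).symm hc⟩,
    fun q => LimMod.FPC.isFP_quots P π hP inferInstance _, fun a b h => ?_⟩
  have e : cokernel.π (LimMod.FPC.rel P π (hmono.functor.obj a)) ≫ (LimMod.FPC.quots P π).map (hmono.functor.map h) =
      cokernel.π (LimMod.FPC.rel P π (hmono.functor.obj b)) :=
    (cokernel.π_desc _ _ _).trans (Category.id_comp _)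
  haveI : Epi (cokernel.π (LimMod.FPC.rel P π (hmono.functor.obj a)) ≫
      (LimMod.FPC.quots P π).map (hmono.functor.map h)) := by rw [e]; infer_instance
  haveI : Epi (cokernel.π (LimMod.FPC.rel P π (hmono.functor.obj a)) ≫
      (hmono.functor ⋙ LimMod.FPC.quots P π).map h) := ‹_›
  exact epi_of_epi (cokernel.π (LimMod.FPC.rel P π (hmono.functor.obj a))) _

end Groth.Agent.S9828
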