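import Groth.Statements.S9834
import Groth.Agent.S9398
import Groth.Agent.S9399
import Mathlib
-- import your own Groth.Agent.* helpers here

set_option autoImplicit false
universe u
open CategoryTheory AlgebraicGeometry TopologicalSpace
open Props

namespace Groth.Agent.S9834

/-- If a scheme has an affine open covering by spectra of universally Japanese rings, then the
coordinate ring of every affine open is universally Japanese. -/
theorem result (X : Scheme.{u}) {ι : Type u} (U : ι → X.Opens)
    (hU : iSup U = ⊤) (haff : ∀ i, IsAffineOpen (U i)) (hJ : ∀ i, CAlg.IsUniversallyJapanese Γ(X, U i))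
    (V : X.Opens) (hV : IsAffineOpen V) : CAlg.IsUniversallyJapanese Γ(X, V) := by
  classical
  have key : ∀ y : V, ∃ g : Γ(X, V), y.1 ∈ X.basicOpen g ∧ CAlg.IsUniversallyJapanese (Localization.Away g) := fun y => by
    obtain ⟨i, hi⟩ := TopologicalSpace.Opens.mem_iSup.1 (hU.symm ▸ trivial : y.1 ∈ iSup U)
    obtain ⟨g, hg, hyg⟩ := hV.exists_basicOpen_le ⟨y.1, hi⟩ y.2
    refine ⟨g, hyg, ?_⟩
    have : IsLocalization.Away g Γ(X, X.basicOpen g) := hV.isLocalization_basicOpen g
    let e := (IsLocalization.algEquiv (Submonoid.powers g) Γ(X, X.basicOpen g) (Localization.Away g)).toRingEquiv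
    letI := (e.toRingHom.comp ((𝟙 X : X ⟶ X).appLE (U i) (X.basicOpen g) hg).hom).toAlgebra
    haveI : Algebra.FiniteType Γ(X, U i) (Localization.Away g) :=
      RingHom.FiniteType.comp (RingHom.FiniteType.of_surjective _ e.surjective)
        ((𝟙 X : X ⟶ X).finiteType_appLE (haff i) (hV.basicOpen g) hg)
    exact Groth.Agent.S9398.result Γ(X, U i) (hJ i) (Localization.Away g)
  choose g hg hJg using key
  have hspan : Ideal.span (Set.range g) = ⊤ := by
    refine (hV.self_le_iSup_basicOpen_iff (s := Set.range g)).1 ?_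
    intro y hy
    exact TopologicalSpace.Opens.mem_iSup.2 ⟨⟨g ⟨y, hy⟩, ⟨y, hy⟩, rfl⟩, hg ⟨y, hy⟩⟩
  obtain ⟨s, hs, hs1⟩ := (Ideal.span_eq_top_iff_finite _).1 hspan
  refine Groth.Agent.S9399.result Γ(X, V) (ι := ↥(s : Set Γ(X, V))) (fun x => x.1) (by simpa using hs1) fun x => ?_
  obtain ⟨y, hy⟩ := hs x.2
  show CAlg.IsUniversallyJapanese (Localization.Away x.1)
  exact hy ▸ hJg y

end Groth.Agent.S9834
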