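import Groth.Statements.S9835
import Groth.Agent.N12Aux.Nagata
import Mathlib
-- import your own Groth.Agent.* helpers here

set_option autoImplicit false
universe u
open CategoryTheory AlgebraicGeometry TopologicalSpace
open Props

namespace Groth.Agent.S9835

/-- If an integral scheme has an affine open covering by spectra of Japanese (N-2) domains, then the
coordinate ring of every nonempty affine open is a Japanese domain. -/
theorem result (X : Scheme.{u}) [IsIntegral X] {ι : Type u}
    (U : ι → X.Opens) [∀ i, Nonempty (U i)] (hU : iSup U = ⊤) (haff : ∀ i, IsAffineOpen (U i))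
    (hJ : ∀ i, CAlg.IsN2 Γ(X, U i)) (V : X.Opens) [Nonempty V] (hV : IsAffineOpen V) :
    CAlg.IsN2 Γ(X, V) := by
  classical
  have key : ∀ y : V, ∃ g : Γ(X, V), y.1 ∈ X.basicOpen g ∧
      ∀ [IsDomain (Localization.Away g)], CAlg.IsN2 (Localization.Away g) := fun y => by
    obtain ⟨i, hi⟩ := TopologicalSpace.Opens.mem_iSup.1 (hU.symm ▸ trivial : y.1 ∈ iSup U)
    obtain ⟨g, h, e, hyg⟩ := exists_basicOpen_le_affine_inter hV (haff i) y.1 ⟨y.2, hi⟩
    refine ⟨g, hyg, ?_⟩
    intro _
    have h1 : IsLocalization.Away g Γ(X, X.basicOpen g) := hV.isLocalization_basicOpen g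
    have h2 : IsLocalization.Away h Γ(X, X.basicOpen h) := (haff i).isLocalization_basicOpen h
    haveI : Nonempty (X.basicOpen h) := ⟨⟨y.1, e ▸ hyg⟩⟩
    have hh : h ≠ 0 := by
      rintro rfl
      rw [Scheme.basicOpen_zero] at e
      exact (e ▸ hyg : y.1 ∈ (⊥ : X.Opens))
    have h3 := Groth.Agent.N12Aux.isN2_of_isLocalization (hJ i) (Submonoid.powers h) Γ(X, X.basicOpen h)
    let e' : Γ(X, X.basicOpen h) ≃+* Localization.Away g :=
      ((X.presheaf.mapIso (eqToIso e).op).commRingCatIsoToRingEquiv).trans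
        (IsLocalization.algEquiv (Submonoid.powers g) Γ(X, X.basicOpen g) (Localization.Away g)).toRingEquiv
    exact Groth.Agent.N12Aux.isN2_of_ringEquiv e' h3
  choose g hg hJg using key
  have hspan : Ideal.span (Set.range g) = ⊤ := by
    refine (hV.self_le_iSup_basicOpen_iff (s := Set.range g)).1 ?_
    intro y hy
    exact TopologicalSpace.Opens.mem_iSup.2 ⟨⟨g ⟨y, hy⟩, ⟨y, hy⟩, rfl⟩, hg ⟨y, hy⟩⟩
  obtain ⟨s, hs, hs1⟩ := (Ideal.span_eq_top_iff_finite _).1 hspan
  refine Groth.Agent.N12Aux.isN2_of_cover_ne (ι := ↥(s : Set Γ(X, V))) (fun x => x.1) (by simpa using hs1) fun x _ => ?_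
  obtain ⟨y, hy⟩ := hs x.2
  intro hd
  have hgoal : ∀ a, g y = a → ∀ [IsDomain (Localization.Away a)], CAlg.IsN2 (Localization.Away a) := by
    rintro _ rfl
    exact hJg y
  exact hgoal x.1 hy

end Groth.Agent.S9835
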