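import Groth.Statements.S9836
import Groth.Agent.HomOLib.Killed
import Groth.Agent.QCoh.AnnIdeal
import Groth.Agent.QCoh.Qcqs
set_option backward.isDefEq.respectTransparency false
set_option backward.isDefEq.respectTransparency.types false
set_option linter.style.haveILetI false
set_option maxHeartbeats 1000000
open CategoryTheory AlgebraicGeometry Groth.Agent Groth.Agent.AModX

set_option autoImplicit false
universe u
open CategoryTheory CategoryTheory.Limits AlgebraicGeometry
open Props

namespace Groth.Agent.S9836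

/-- For a closed immersion i : Z → X with ideal sheaf of finite type and a quasi-coherent O_X-module F,
the subsheaf of sections of F annihilated by the ideal, namely i_* Hom(O_Z, F) for the right adjoint
Hom(O_Z, -) of i_*, is a quasi-coherent O_X-module. -/
theorem result {Z X : Scheme.{u}} (i : Z ⟶ X)
    [IsClosedImmersion i] [LocallyOfFinitePresentation i] [Dual3.HasHomO i] (F : X.Modules) [Coh.IsQCoh F] :
    Coh.IsQCoh ((Scheme.Modules.pushforward i).obj ((Dual3.homO i).obj F)) := by
  have hF : Coh.IsQCoh F := ‹_›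
  haveI := HomOLib.mono_counit i F
  let P := (Scheme.Modules.pushforward i).obj ((Dual3.homO i).obj F)
  let c : P ⟶ F := (Dual3.homOAdj i).counit.app F
  haveI : Mono c := HomOLib.mono_counit i F
  refine QCoh.isQCoh_of_sections (fun U hU f s => ?_) (fun U hU f t ht => ?_)
  · letI := QCoh.basicModule f F
    haveI := hU.isLocalization_basicOpen f
    haveI := QCoh.isLocalizedModule_basicRes f hF hU
    let y : Γ(F, X.basicOpen f) := c.app _ s
    obtain ⟨⟨x, ⟨_, n, rfl⟩⟩, hx⟩ := IsLocalizedModule.surj (Submonoid.powers f) (QCoh.basicRes f F) y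
    have hx' : res F (X.basicOpen_le f) x = resR (X.basicOpen_le f) f ^ n • y := by
      rw [← map_pow]; exact hx.symm
    have hI : (i.ker.ideal ⟨U, hU⟩).FG := by
      rw [FComplLib.ideal_ker]
      have hfp := i.finitePresentation_appLE hU (hU.preimage i) (le_refl (i ⁻¹ᵁ U))
      rw [← Scheme.Hom.app_eq_appLE] at hfp
      letI := (i.app U).hom.toAlgebra
      haveI : Algebra.FinitePresentation Γ(X, U) Γ(Z, i ⁻¹ᵁ U) := hfp
      exact Algebra.FinitePresentation.ker_fG_of_surjective (Algebra.ofId Γ(X, U) Γ(Z, i ⁻¹ᵁ U)) (i.app_surjective U hU)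
    obtain ⟨G, hG⟩ := hI
    have hz : ∀ a : G, ∃ m : ℕ, f ^ m • ((a : Γ(X, U)) • x) = 0 := fun a => by
      have h0 : res F (X.basicOpen_le f) ((a : Γ(X, U)) • x) = 0 := by
        rw [res_smul, hx', smul_comm, ← Scheme.Modules.Hom.app_smul]
        have hk : resR (X.basicOpen_le f) (a : Γ(X, U)) ∈ i.ker.ideal ⟨X.basicOpen f, hU.basicOpen f⟩ := by
          rw [← i.ker.map_ideal (V := ⟨U, hU⟩) (U := ⟨X.basicOpen f, hU.basicOpen f⟩) (X.basicOpen_le f)]
          exact Ideal.mem_map_of_mem _ (hG ▸ Ideal.subset_span a.2)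
        rw [HomOLib.killed_push i _ ⟨X.basicOpen f, hU.basicOpen f⟩ _ hk s, map_zero, smul_zero]
      obtain ⟨⟨_, m, rfl⟩, hm⟩ :=
        (IsLocalizedModule.eq_zero_iff (Submonoid.powers f) (QCoh.basicRes f F)).1
          (show QCoh.basicRes f F ((a : Γ(X, U)) • x) = 0 from h0)
      exact ⟨m, hm⟩
    choose m hm using hz
    let N := Finset.univ.sup m
    have hk : ∀ a ∈ i.ker.ideal ⟨U, hU⟩, a • (f ^ N • x) = 0 := by
      intro a ha
      have hle : i.ker.ideal ⟨U, hU⟩ ≤ LinearMap.ker (LinearMap.toSpanSingleton Γ(X, U) Γ(F, U) (f ^ N • x)) := by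
        rw [← hG, Ideal.span_le]
        intro b hb
        show b • (f ^ N • x) = 0
        have hle : m ⟨b, hb⟩ ≤ N := Finset.le_sup (f := m) (Finset.mem_univ (⟨b, hb⟩ : G))
        obtain ⟨k, hk⟩ := Nat.exists_eq_add_of_le' hle
        rw [smul_comm, hk, pow_add, mul_smul, hm ⟨b, hb⟩, smul_zero]
      exact hle ha
    obtain ⟨t, ht⟩ := HomOLib.mem_range_counit i F (U := ⟨U, hU⟩) hk
    refine ⟨N + n, t, QCoh.app_injective c _ ?_⟩
    show c.app _ (res _ (X.basicOpen_le f) t) = c.app _ (resR (X.basicOpen_le f) f ^ (N + n) • s)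
    rw [app_res, Scheme.Modules.Hom.app_smul]
    refine (congrArg (res F (X.basicOpen_le f)) ht).trans ?_
    rw [res_smul, hx', map_pow, pow_add, mul_smul]
  · letI := QCoh.basicModule f F
    haveI := hU.isLocalization_basicOpen f
    haveI := QCoh.isLocalizedModule_basicRes f hF hU
    have h0 : res F (X.basicOpen_le f) (c.app U t) = 0 := by
      rw [← app_res]
      exact (congrArg (c.app _) ht).trans (map_zero _)
    obtain ⟨⟨_, n, rfl⟩, hn⟩ := (IsLocalizedModule.eq_zero_iff (Submonoid.powers f) (QCoh.basicRes f F)).1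
      (show QCoh.basicRes f F (c.app U t) = 0 from h0)
    refine ⟨n, QCoh.app_injective c U ?_⟩
    rw [Scheme.Modules.Hom.app_smul, map_zero]
    exact hn

end Groth.Agent.S9836
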