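import Groth.Statements.S9894
-- import your own Groth.Agent.* helpers here
import Groth.Agent.AlgSpDec.EffDescentRep
import Groth.Agent.AlgSpPts.Diag

set_option autoImplicit false
universe u
open CategoryTheory CategoryTheory.Limits AlgebraicGeometry
open AlgSp

namespace Groth.Agent.S9894
open Groth.Agent Groth.Agent.AlgSpLib Groth.Agent.AlgSpPts

/-- Let `P` be a property of morphisms of schemes which is stable under base change, fppf local on the
base, and such that morphisms of type `P` satisfy descent: for every surjective, flat, locally
finitely presented `p : X' ⟶ S'` every descent datum relative to `p` whose scheme has structure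
morphism in `P` is effective (descent is asked along single fppf covers, the case the argument
uses). Let `F` be an algebraic space over `S`, `G` an fppf sheaf of sets with a map `f : G ⟶ F`, and
`q : h_U ⟶ F` representable etale and surjective such that the base change of `f` along `q` is
represented by a scheme `V` over `S` with `g : V ⟶ U` having `P`. Then `G` is an algebraic space
over `S` and `f` is representable by schemes with property `P`. -/
theorem result (S : Scheme.{u}) (P : MorphismProperty Scheme.{u})
    [P.IsStableUnderBaseChange] [P.IsLocalAtTarget Scheme.fppfPrecoverage]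
    (hdesc : ∀ ⦃X' S' : Scheme.{u}⦄ (p : X' ⟶ S'), Surjective p → Flat p → LocallyOfFinitePresentation p →
      ∀ D : Desc.SchDD p, P D.obj.hom → (Desc.toDD p).essImage D)
    (F : AlgSp.Space S) (G : AlgSp.Sp S) (f : G ⟶ F.obj) {U V : Over S} (q : (AlgSp.yon S).obj U ⟶ F.obj)
    (hqe : AlgSp.RepWith @Etale q) (hqs : AlgSp.RepWith @Surjective q) (fst : (AlgSp.yon S).obj V ⟶ G)
    (g : V ⟶ U) (sq : IsPullback fst ((AlgSp.yon S).map g) f q) (hP : P g.left) :
    AlgSp.IsAlgSpace G ∧ AlgSp.RepWith P f := by
  have hr : Representable f := by
    intro T g₀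
    let T' := hqe.rep.pullback g₀
    let e : T' ⟶ T := hqe.rep.snd g₀
    let v : T' ⟶ U := hqe.rep.fst' g₀
    have hev : IsPullback ((yon S).map v) ((yon S).map e) q g₀ := hqe.rep.isPullback' g₀
    haveI : Etale e.left := hqe.property_snd g₀
    haveI : Surjective e.left := hqs.property g₀ _ _ (hqe.rep.isPullback g₀)
    let W : Over S := Over.mk (pullback.fst g.left v.left ≫ V.hom)
    let a : W ⟶ V := Over.homMk (pullback.fst g.left v.left) rfl
    let b : W ⟶ T' := Over.homMk (pullback.snd g.left v.left) (by
      show _ ≫ T'.hom = _ ≫ V.hom
      rw [← Over.w v, ← Category.assoc, ← pullback.condition, Category.assoc, Over.w g])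
    have sqW : IsPullback a b g v :=
      IsPullback.of_map (Over.forget S) (Over.OverMorphism.ext pullback.condition) (IsPullback.of_hasPullback _ _)
    have hPb : P b.left := MorphismProperty.pullback_snd (P := P) g.left v.left hP
    have sqP := IsPullback.of_hasPullback f g₀
    have big := (sqW.map (yon S)).paste_horiz sq
    rw [hev.w] at big
    let w : (yon S).obj W ⟶ pullback f g₀ := sqP.lift ((yon S).map a ≫ fst) ((yon S).map b ≫ (yon S).map e) (by
      rw [Category.assoc ((yon S).map b)]; exact big.w)
    have sqw : IsPullback w ((yon S).map b) (pullback.snd f g₀) ((yon S).map e) :=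
      IsPullback.of_right (by rw [sqP.lift_fst]; exact big) (sqP.lift_snd _ _ _) sqP
    obtain ⟨Q, h, φ, hφ⟩ := AlgSpDec.EffDescentRep.exists_rep_of_effective sqw
      (hdesc e.left inferInstance inferInstance inferInstance (AlgSpDec.EffDescentRep.datum sqw) hPb)
    exact ⟨Q, h, φ.hom ≫ pullback.fst f g₀,
      sqP.of_iso φ.symm (Iso.refl _) (Iso.refl _) (Iso.refl _) (by simp) (by simp [← hφ]) (by simp) (by simp)⟩
  refine ⟨AlgSpLib.isAlgSpace_of_representable f hr F.property, ?_⟩
  haveI : Sheaf.IsLocallySurjective q := AlgSpLib.isLocallySurjective_of_repWith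
    ⟨hqe.rep, fun T W k a b e => by
      haveI : Etale b.left := hqe.property k a b e
      haveI : Surjective b.left := hqs.property k a b e
      exact AlgSpLib.fppf_of b.left⟩
  exact repWith_of_locallySurjective hr q sq P ((repWith_yon_map_iff _ _).2 hP)

end Groth.Agent.S9894
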