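import Groth.Statements.S9967
import Groth.Agent.AlgSpDec2.SchImageEt
import Groth.Agent.AlgSpLib.EtaleSmoothLocal
import Groth.Agent.AlgSpPts.Misc
-- import your own Groth.Agent.* helpers here

set_option autoImplicit false
universe u

set_option backward.isDefEq.respectTransparency false
set_option backward.isDefEq.respectTransparency.types false
open CategoryTheory CategoryTheory.Limits AlgebraicGeometry
open AlgSp

namespace Groth.Agent.S9967

open AlgSp Groth.Agent.AlgSpLib Groth.Agent.AlgSpPts Groth.Agent.AlgSpDec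

/-- For a separated f : X -> Y and a section s of f over a quasi-compact open V of Y, the scheme
theoretic image of s maps isomorphically to Y over V. -/
theorem result {S : Scheme.{u}} {X Y V Y' : AlgSp.Space S} (f : X ⟶ Y) (j : V ⟶ Y)
    (hj : AlgSp.RepWith @IsOpenImmersion j.hom) (hjq : AlgSp.IsQuasiCompactMor j.hom) (hf : AlgSp.IsSeparatedMor f.hom)
    (s : V ⟶ X) (hs : s ≫ f = j) (c : Y' ⟶ X) (hc : AlgSp.IsSchImage s.hom c.hom)
    {P : AlgSp.Sp S} (fst : P ⟶ Y'.obj) (snd : P ⟶ V.obj) (sq : IsPullback fst snd (c ≫ f).hom j.hom) :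
    IsIso snd := by
  have hjo : RepWith @IsOpenImmersion j.hom := hj
  haveI : Mono j.hom :=
    mono_of_repWith (repWith_mono (fun _ _ e (_ : IsOpenImmersion e) => inferInstanceAs (Mono e)) _ hj)
  have hs' : s.hom ≫ f.hom = j.hom := congrArg InducedCategory.Hom.hom hs
  let XV := pullback f.hom j.hom
  have hXV : IsAlgSpace XV := isAlgSpace_pullback X.property V.property Y.property _ _
  let σ : V.obj ⟶ XV := pullback.lift s.hom (𝟙 _) (by rw [hs', Category.id_comp])
  have hσf : σ ≫ pullback.fst f.hom j.hom = s.hom := pullback.lift_fst _ _ _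
  have hσs : σ ≫ pullback.snd f.hom j.hom = 𝟙 _ := pullback.lift_snd _ _ _
  have hσc : RepWith @IsClosedImmersion σ :=
    Groth.Agent.AlgSpLib.of_comp_of_diagonal (RepWith @IsClosedImmersion) σ (pullback.snd f.hom j.hom)
      (hσs ▸ repWith_of_isIso @IsClosedImmersion (𝟙 V.obj))
      (isSeparatedMor_of_isPullback (IsPullback.of_hasPullback f.hom j.hom) hf)
  haveI : Mono (pullback.fst f.hom j.hom) := inferInstance
  have hfst : RepWith @IsOpenImmersion (pullback.fst f.hom j.hom) := repWith_fst f.hom hj
  have sqσ : IsPullback (𝟙 V.obj) σ s.hom (pullback.fst f.hom j.hom) := by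
    refine ⟨⟨by rw [Category.id_comp, hσf]⟩, ⟨PullbackCone.IsLimit.mk _ (fun c => c.fst) (fun c => by simp)
      (fun c => ?_) (fun c m h1 h2 => by simpa using h1)⟩⟩
    apply (cancel_mono (pullback.fst f.hom j.hom)).1
    rw [Category.assoc, hσf, c.condition]
  have hsq : IsQuasiCompactMor s.hom := by
    rw [← hσf]
    exact isQuasiCompactMor_comp hXV X.property
      (isQuasiCompactMor_of_repWith (repWith_mono (fun _ _ g (_ : IsClosedImmersion g) =>
        inferInstanceAs (QuasiCompact g)) _ hσc))
      (isQuasiCompactMor_of_isPullback (IsPullback.of_hasPullback f.hom j.hom).flip hjq)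
  have hmain := Groth.Agent.AlgSpDec2.isSchImage_of_etale V.property X.property hXV
    (isEtaleMor_of_repWith_isOpenImmersion hfst) hsq hc sqσ
    (IsPullback.of_hasPullback c.hom (pullback.fst f.hom j.hom))
  obtain ⟨hiV, ⟨g, hg⟩, hmin⟩ := hmain
  obtain ⟨k, hk⟩ := hmin σ V.property hσc ⟨𝟙 _, Category.id_comp σ⟩
  haveI := mono_of_closedImmersion hiV
  haveI := mono_of_closedImmersion hσc
  haveI : IsIso k := ⟨g, by rw [← cancel_mono (pullback.snd c.hom (pullback.fst f.hom j.hom)), Category.assoc, hg, hk,
      Category.id_comp],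
    by rw [← cancel_mono σ, Category.assoc, hk, hg, Category.id_comp]⟩
  have hpk : pullback.snd c.hom (pullback.fst f.hom j.hom) ≫ pullback.snd f.hom j.hom = k := by
    rw [← hk, Category.assoc, hσs, Category.comp_id]
  have sq' : IsPullback (pullback.fst c.hom (pullback.fst f.hom j.hom)) k (c ≫ f).hom j.hom := by
    rw [← hpk]
    exact (IsPullback.of_hasPullback c.hom (pullback.fst f.hom j.hom)).paste_vert (IsPullback.of_hasPullback f.hom j.hom)
  rw [← sq.isoIsPullback_hom_snd _ _ sq']
  infer_instance

end Groth.Agent.S9967
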