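import Groth.Statements.S9992
import Groth.Agent.AlgSpMod.Colimit

set_option autoImplicit false
universe u
open CategoryTheory CategoryTheory.Limits AlgebraicGeometry Opposite
open AlgSp

namespace Groth.Agent.S9992

set_option backward.isDefEq.respectTransparency false
set_option backward.isDefEq.respectTransparency.types false
set_option maxHeartbeats 1000000
open Groth.Agent.AlgSpMod AlgebraicGeometry CategoryTheory CategoryTheory.Limits Opposite

theorem assoc_aux {C : Type*} [Category C] {K I H P J G : C} (p : K ⟶ I) (l : I ⟶ H) (j : H ⟶ P) (q : P ⟶ J)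
    (r : J ⟶ G) (ψ : P ⟶ G) (b : H ⟶ G) (c : I ⟶ G) (h1 : q ≫ r = ψ) (h2 : j ≫ ψ = b) (h3 : l ≫ b = c)
    (φ : K ⟶ G) (h4 : p ≫ c = φ) : (p ≫ l ≫ j ≫ q) ≫ r = φ := by
  rw [Category.assoc, Category.assoc, Category.assoc, h1, h2, h3, h4]

open AlgSp in
theorem exists_lift_of_ranges {S : Scheme.{u}} {X : Sp S} {A B G : ModEt X} (a : A ⟶ G) (b : B ⟶ G) [Mono b]
    (h : ∀ E : EtOver X, ∀ x : sectModEt A E, ∃ y : sectModEt B E, b.val.app (op E) y = a.val.app (op E) x) :
    ∃ l : A ⟶ B, l ≫ b = a := by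
  have h0 : a ≫ cokernel.π b = 0 := by
    ext U x
    obtain ⟨y, hy⟩ := h U.unop x
    show (cokernel.π b).val.app U (a.val.app U x) = 0
    rw [← show b.val.app U y = a.val.app U x from hy]
    exact congr(($(cokernel.condition b)).val.app U y)
  exact ⟨Abelian.monoLift b a h0, Abelian.monoLift_comp _ _ h0⟩

open AlgSp in
theorem good_image {S : Scheme.{u}} {X : Sp S} {A G F : ModEt X} (a : A ⟶ G) (ι : G ⟶ F) [Mono ι] (hA : Good A)
    (hF : Good F) : Good (Abelian.image a) := by
  have hK : Good (kernel a) := Good.of_iso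
    (good_of_left_exact (ShortComplex.mk (kernel.ι (a ≫ ι)) (a ≫ ι) (kernel.condition _))
      (ShortComplex.kernelSequence_exact _) (inferInstanceAs (Mono (kernel.ι (a ≫ ι)))) hA hF) (kernelCompMono a ι)
  have hC : Good (Abelian.coimage a) :=
    good_of_right_exact (ShortComplex.mk (kernel.ι a) (cokernel.π (kernel.ι a)) (cokernel.condition _))
      (ShortComplex.cokernelSequence_exact _) (inferInstanceAs (Epi (cokernel.π (kernel.ι a)))) hK hA
  exact hC.of_iso (Abelian.coimageIsoImage a)

/-- For a quasi-coherent O_X-module F on the small etale site of an algebraic space X and a submodule G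
of F, there is a quasi-coherent submodule G' of G through which every map from a quasi-coherent
module to G factors uniquely; G' is the largest quasi-coherent submodule of F contained in G (it is
unique up to isomorphism over G, which is formal and not restated). -/
theorem result {S : Scheme.{u}} (X : AlgSp.Space S) (F G : AlgSp.ModEt X.obj)
    [F.IsQuasicoherent] (ι : G ⟶ F) [Mono ι] :
    ∃ (G' : AlgSp.ModEt X.obj) (κ : G' ⟶ G), Mono κ ∧ G'.IsQuasicoherent ∧
      ∀ H : AlgSp.ModEt X.obj, H.IsQuasicoherent → Function.Bijective (fun φ : H ⟶ G' => φ ≫ κ) := by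
  classical
  let Idx := {s : ∀ E : AlgSp.EtOver X.obj, Set (AlgSp.sectModEt G E) //
    ∃ (H : AlgSp.ModEt X.obj) (a : H ⟶ G), Mono a ∧ H.IsQuasicoherent ∧
      ∀ E, Set.range (fun x : AlgSp.sectModEt H E => a.val.app (op E) x) = s E}
  choose H a ha hH hs using fun i : Idx => i.2
  obtain ⟨P, inj, ψ, hsum, hinj⟩ : ∃ (P : AlgSp.ModEt X.obj) (inj : ∀ i, H i ⟶ P) (ψ : P ⟶ G),
      Good P ∧ ∀ i, inj i ≫ ψ = a i :=
    ⟨∐ H, Sigma.ι H, Sigma.desc a, good_colimit (Discrete.functor H) (fun j => (haveI := hH j.as; good_of_qcoh (H j.as))),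
      Sigma.ι_desc a⟩
  have hF := good_of_qcoh F
  refine ⟨Abelian.image ψ, Abelian.image.ι ψ, inferInstance, (good_image ψ ι hsum hF).isQuasicoherent,
    fun K hK => ⟨fun p q hpq => (cancel_mono (Abelian.image.ι ψ)).1 hpq, fun φ => ?_⟩⟩
  let i : Idx := ⟨fun E => Set.range (fun x : AlgSp.sectModEt (Abelian.image φ) E => (Abelian.image.ι φ).val.app (op E) x),
    Abelian.image φ, Abelian.image.ι φ, inferInstance, (good_image φ ι (good_of_qcoh K) hF).isQuasicoherent,
    fun E => rfl⟩
  haveI := ha i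
  obtain ⟨l, hl⟩ := exists_lift_of_ranges (Abelian.image.ι φ) (a i) fun E x => (hs i E).ge ⟨x, rfl⟩
  exact ⟨_, assoc_aux (Abelian.factorThruImage φ) l (inj i) (Abelian.factorThruImage ψ) _ _ _ _
    (Abelian.image.fac ψ) (hinj i) hl _ (Abelian.image.fac φ)⟩

end Groth.Agent.S9992
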