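import Groth.Statements.S9996
import Groth.Agent.AlgSpDec.SchUnion

set_option backward.isDefEq.respectTransparency false

set_option autoImplicit false
universe u
open CategoryTheory CategoryTheory.Limits AlgebraicGeometry Opposite
open AlgSp

namespace Groth.Agent.S9996

/-- For closed subspaces Y, Z of an algebraic space X with scheme theoretic union W (cut out by the
intersection of the two ideal sheaves) and scheme theoretic intersection V (cut out by their sum),
the inclusions Y ⟶ W and Z ⟶ W are closed immersions and the square V ⟶ Y, V ⟶ Z, Y ⟶ W, Z ⟶ W is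
cocartesian among algebraic spaces over S (W = Y ⨿_V Z). (The published statement also gives the
short exact sequence 0 → O_W → O_Y × O_Z → O_V → 0; that clause is not stated here.) -/
theorem result {S : Scheme.{u}} {X Y Z W V : AlgSp.Space S} (iY : Y ⟶ X) (iZ : Z ⟶ X)
    (w : W ⟶ X) (v : V ⟶ X) (I J K : AlgSp.IdealEt X.obj) (hI : I.IsQCoh) (hJ : J.IsQCoh)
    (hK : ∀ (E : AlgSp.EtOver X.obj) (hE : IsAffine E.obj.left.left), K.ideal E hE = I.ideal E hE ⊓ J.ideal E hE)
    (hY : AlgSp.IsCutOutBy I iY.hom) (hZ : AlgSp.IsCutOutBy J iZ.hom) (hW : AlgSp.IsCutOutBy K w.hom)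
    (hV : AlgSp.IsCutOutBy (I ⊔ J) v.hom) (a : Y ⟶ W) (b : Z ⟶ W) (c : V ⟶ Y) (d : V ⟶ Z)
    (ha : a ≫ w = iY) (hb : b ≫ w = iZ) (hc : c ≫ iY = v) (hd : d ≫ iZ = v) :
    AlgSp.RepWith @IsClosedImmersion a.hom ∧ AlgSp.RepWith @IsClosedImmersion b.hom ∧ IsPushout c d a b := by
  obtain ⟨hY, rfl⟩ := hY
  obtain ⟨hZ, rfl⟩ := hZ
  obtain ⟨hW, rfl⟩ := hW
  obtain ⟨hV, hV'⟩ := hV
  have ha' := congrArg InducedCategory.Hom.hom ha
  have hb' := congrArg InducedCategory.Hom.hom hb
  have hm : Mono w.hom := Groth.Agent.AlgSpPts.mono_of_repWith (Groth.Agent.AlgSpLib.repWith_mono (fun _ _ h hh => by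
    have : IsClosedImmersion h := hh
    exact inferInstanceAs (Mono h)) _ hW)
  have key : ∀ {A : AlgSp.Space S} (x : A ⟶ W) (i : A ⟶ X), x ≫ w = i →
      AlgSp.RepWith @IsClosedImmersion i.hom → AlgSp.RepWith @IsClosedImmersion x.hom := by
    intro A x i hx hi
    have hx' : x.hom ≫ w.hom = i.hom := congrArg InducedCategory.Hom.hom hx
    refine Groth.Agent.AlgSpLib.repWith_of_isPullback (f := i.hom) (g := w.hom) (fst := 𝟙 A.obj) ?_ hi
    refine ⟨⟨by rw [Category.id_comp, hx']⟩, ⟨PullbackCone.IsLimit.mk _ (fun s => s.fst)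
      (fun s => Category.comp_id _) (fun s => ?_) (fun s m h₁ _ => by rw [← h₁, Category.comp_id])⟩⟩
    rw [← cancel_mono w.hom, Category.assoc, hx', s.condition]
  refine ⟨key a iY ha hY, key b iZ hb hZ, ?_⟩
  have hc' := congrArg InducedCategory.Hom.hom hc
  have hd' := congrArg InducedCategory.Hom.hom hd
  have hmY : Mono iY.hom := Groth.Agent.AlgSpPts.mono_of_repWith (Groth.Agent.AlgSpLib.repWith_mono (fun _ _ h hh => by
    have : IsClosedImmersion h := hh
    exact inferInstanceAs (Mono h)) _ hY)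
  have hcd : c ≫ a = d ≫ b := ObjectProperty.hom_ext _ ((cancel_mono w.hom).1 (by
    show (c.hom ≫ a.hom) ≫ w.hom = (d.hom ≫ b.hom) ≫ w.hom
    rw [Category.assoc, Category.assoc]
    rw [show a.hom ≫ w.hom = iY.hom from ha', show b.hom ≫ w.hom = iZ.hom from hb',
      show c.hom ≫ iY.hom = v.hom from hc', show d.hom ≫ iZ.hom = v.hom from hd']))
  choose g hg huniq using fun s : PushoutCocone c d =>
    Groth.Agent.AlgSpDec.SchUnion.existsUnique_desc X.property hY hZ hW hV ha' hb' hc' hd' hK hV'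
      s.inl.hom s.inr.hom (congrArg InducedCategory.Hom.hom s.condition)
  exact ⟨⟨hcd⟩, ⟨PushoutCocone.IsColimit.mk _ (fun s => ObjectProperty.homMk (g s))
    (fun s => ObjectProperty.hom_ext _ (hg s).1) (fun s => ObjectProperty.hom_ext _ (hg s).2)
    fun s m h₁ h₂ => ObjectProperty.hom_ext _ (huniq s m.hom
      ⟨congrArg InducedCategory.Hom.hom h₁, congrArg InducedCategory.Hom.hom h₂⟩)⟩⟩

end Groth.Agent.S9996
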