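import Groth.Statements.S9998
import Groth.Agent.AlgSpDec.EtNbhdCofiltered
import Groth.Agent.EtFound.LiftEtale
import Mathlib.CategoryTheory.Limits.Types.Filtered
-- import your own Groth.Agent.* helpers here

set_option autoImplicit false
universe u
open CategoryTheory CategoryTheory.Limits AlgebraicGeometry Opposite
open AlgSp

namespace Groth.Agent.S9998

set_option backward.isDefEq.respectTransparency false
set_option backward.isDefEq.respectTransparency.types false
open CategoryTheory CategoryTheory.Limits AlgebraicGeometry Opposite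
open Groth.Agent.AlgSpLib Groth.Agent.AlgSpPts Groth.Agent.AlgSpDec

section aux
variable {S : Scheme.{u}} {Z X : AlgSp.Sp S} {i : Z ⟶ X}
  (hi : AlgSp.RepWith @IsClosedImmersion i) (z : AlgSp.FieldPt Z)

/-- the base changed neighbourhood -/
noncomputable def nbhdObj (N : AlgSp.EtNbhd (z.map i)) : AlgSp.EtNbhd z :=
  ⟨(AlgSp.EtOver.bc hi.1).obj N.1,
    ⟨hi.1.lift z.toHom N.2.1 ((N.2.2.trans (AlgSp.FieldPt.toHom_map i z)).symm),
      hi.1.lift_fst _ _ _⟩⟩

theorem nbhdMap_aux {N N' : AlgSp.EtNbhd (z.map i)} (g : N ⟶ N') :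
    (AlgSp.FieldPt.liftsTo z).map ((AlgSp.EtOver.bc hi.1).map g.val) (nbhdObj hi z N).2 = (nbhdObj hi z N').2 := by
  refine Subtype.ext (hi.1.hom_ext ?_ ?_)
  · show (AlgSp.yon S).map (_ ≫ _) ≫ _ = (AlgSp.yon S).map _ ≫ _
    rw [Functor.map_comp, Category.assoc]
    refine Eq.trans (congrArg (_ ≫ ·) (AlgSp.EtOver.map_bcMap_fst hi.1 g.val)) ?_
    exact (hi.1.lift_fst _ _ _).trans (hi.1.lift_fst _ _ _).symm
  · show (_ ≫ _) ≫ _ = _ ≫ _
    rw [Category.assoc]
    refine Eq.trans (congrArg (_ ≫ ·) (AlgSp.EtOver.bcMap_snd hi.1 g.val)) ?_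
    refine Eq.trans (Category.assoc _ _ _).symm ?_
    refine Eq.trans (congrArg (· ≫ g.val.hom.left) (hi.1.lift_snd _ _ _)) ?_
    exact (congrArg Subtype.val g.2).trans (hi.1.lift_snd _ _ _).symm

/-- the base changed morphism of neighbourhoods -/
noncomputable def nbhdMap {N N' : AlgSp.EtNbhd (z.map i)} (g : N ⟶ N') : nbhdObj hi z N ⟶ nbhdObj hi z N' :=
  CategoryOfElements.homMk _ _ ((AlgSp.EtOver.bc hi.1).map g.val) (nbhdMap_aux hi z g)

/-- every neighbourhood of the point over a base changed one is refined by a base changed one -/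
theorem exists_refine (N : AlgSp.EtNbhd (z.map i)) (M : AlgSp.EtNbhd z) (h : M ⟶ nbhdObj hi z N) :
    ∃ (N' : AlgSp.EtNbhd (z.map i)) (n : N' ⟶ N) (g : nbhdObj hi z N' ⟶ M), g ≫ h = nbhdMap hi z n := by
  let iV := AlgSp.EtOver.bcπ hi.1 N.1
  have hiV : IsClosedImmersion iV.left := hi.property_snd N.1.obj.hom
  have hf : Etale h.val.hom.left.left := AlgSp.EtOver.etale_left h.val
  let pt : ↥M.1.obj.left.left := M.2.1.left (IsLocalRing.closedPoint z.K)
  obtain ⟨U, hh, hhf, hho, hpt⟩ := Groth.Agent.EtFound.exists_etale_lift iV.left h.val.hom.left.left pt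
  let E' : AlgSp.EtOver X := AlgSp.EtOver.mk
    ((AlgSp.yon S).map (AlgSp.EtOver.homOfEtale U) ≫ N.1.obj.hom)
    (AlgSp.EtOver.repWith_etale_ofChart_obj N.1.obj.hom N.1.property U)
  let n : E' ⟶ N.1 := AlgSp.EtOver.homMk (AlgSp.EtOver.homOfEtale U) rfl
  have sq : IsPullback (AlgSp.EtOver.bcπ hi.1 E').left (AlgSp.EtOver.bcMap hi.1 n).hom.left.left U.hom iV.left :=
    (AlgSp.EtOver.isPullback_bcMap_left hi.1 n).flip
  let m : ((AlgSp.EtOver.bc hi.1).obj E').obj.left.left ⟶ M.1.obj.left.left := sq.isoPullback.hom ≫ hh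
  have hm : m ≫ h.val.hom.left.left = (AlgSp.EtOver.bcMap hi.1 n).hom.left.left := by
    rw [Category.assoc, hhf, IsPullback.isoPullback_hom_snd]
  let mO : ((AlgSp.EtOver.bc hi.1).obj E').obj.left ⟶ M.1.obj.left := Over.homMk m (by
    rw [← Over.w h.val.hom.left, reassoc_of% hm]
    exact Over.w (AlgSp.EtOver.bcMap hi.1 n).hom.left)
  have hmO : mO ≫ h.val.hom.left = (AlgSp.EtOver.bcMap hi.1 n).hom.left := Over.OverMorphism.ext hm
  let gE : (AlgSp.EtOver.bc hi.1).obj E' ⟶ M.1 := AlgSp.EtOver.homMk mO (by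
    rw [← AlgSp.EtOver.w h.val, ← Functor.map_comp_assoc, hmO]
    exact AlgSp.EtOver.w (AlgSp.EtOver.bcMap hi.1 n))
  have hgE : gE ≫ h.val = (AlgSp.EtOver.bc hi.1).map n := AlgSp.EtOver.hom_ext _ _ hmO
  have hmop : IsOpenImmersion m := inferInstanceAs (IsOpenImmersion (_ ≫ _))
  have hr : Set.range M.2.1.left ⊆ Set.range m := by
    rintro _ ⟨q, rfl⟩
    have hq : q = IsLocalRing.closedPoint z.K := Subsingleton.elim (α := ↥(Spec (CommRingCat.of z.K))) q _
    rw [hq]
    obtain ⟨w, hw⟩ := hpt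
    refine ⟨sq.isoPullback.inv w, ?_⟩
    have e : sq.isoPullback.inv ≫ m = hh := Iso.inv_hom_id_assoc _ _
    exact (Scheme.Hom.comp_apply _ _ _).symm.trans ((congrArg (fun k => k w) e).trans hw)
  let t : z.pt ⟶ ((AlgSp.EtOver.bc hi.1).obj E').obj.left := Over.homMk (IsOpenImmersion.lift m M.2.1.left hr) (by
    rw [← Over.w mO]
    exact (IsOpenImmersion.lift_fac_assoc _ _ _ _).trans (Over.w M.2.1))
  have ht : t ≫ mO = M.2.1 := Over.OverMorphism.ext (IsOpenImmersion.lift_fac _ _ _)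
  have htf : (AlgSp.yon S).map t ≫ ((AlgSp.EtOver.bc hi.1).obj E').obj.hom = z.toHom := by
    rw [← AlgSp.EtOver.w gE, ← Functor.map_comp_assoc]
    exact (congrArg (fun k => (AlgSp.yon S).map k ≫ M.1.obj.hom) ht).trans M.2.2
  let u : (AlgSp.FieldPt.liftsTo (z.map i)).obj E' := ⟨t ≫ AlgSp.EtOver.bcπ hi.1 E', by
    refine Eq.trans ?_ (AlgSp.FieldPt.toHom_map i z).symm
    rw [← htf, Functor.map_comp, Category.assoc, Category.assoc]
    exact congrArg (_ ≫ ·) (AlgSp.EtOver.isPullback_bcObj hi.1 E').w.symm⟩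
  have hu : u.1 ≫ n.hom.left = N.2.1 := by
    refine (Category.assoc _ _ _).trans ?_
    rw [← AlgSp.EtOver.bcMap_snd, ← hmO, Category.assoc, reassoc_of% ht]
    have hM : M.2.1 ≫ h.val.hom.left = (nbhdObj hi z N).2.1 := congrArg Subtype.val h.2
    rw [reassoc_of% hM]
    exact hi.1.lift_snd _ _ _
  refine ⟨⟨E', u⟩, CategoryOfElements.homMk _ _ n (Subtype.ext hu),
    CategoryOfElements.homMk _ _ gE (Subtype.ext ?_), CategoryOfElements.ext _ _ _ hgE⟩
  refine Eq.trans (congrArg (· ≫ mO) (?_ : (nbhdObj hi z ⟨E', u⟩).2.1 = t)) ht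
  exact hi.1.hom_ext ((hi.1.lift_fst _ _ _).trans htf.symm) (hi.1.lift_snd _ _ _)

theorem map_eq_of_eq {C : Type*} [Category C] (D : Cᵒᵖ ⥤ Type (u + 1)) {A B M N : C} (g : A ⟶ B) (e : B ⟶ M)
    (f₁ f₂ : M ⟶ N) (he : e ≫ f₁ = e ≫ f₂) (r₁ r₂ : D.obj (op N)) (h : D.map f₁.op r₁ = D.map f₂.op r₂) :
    D.map (g ≫ e ≫ f₁).op r₁ = D.map (g ≫ e ≫ f₁).op r₂ := by
  conv_rhs => rw [he]
  simp only [op_comp, Functor.map_comp]
  exact congrArg (fun x => D.map g.op (D.map e.op x)) h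

end aux


/-- For a closed immersion i : Z ⟶ X of algebraic spaces over S, a geometric point z of Z and a sheaf of
sets F on the small etale site of Z, the stalk of i_* F at the image point of z is the stalk of F at
z: the map sending the germ at an etale neighbourhood (U, u) of the image point of a section s ∈
(i_* F)(U) = F(U ×_X Z) to the germ of s at the neighbourhood (U ×_X Z, lift of u) of z is a well
defined bijection. (The published statement writes the two stalks with their subscripts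
interchanged; the stalk of i_* F is taken at the point of X and that of F at the point of Z, the
only meaningful reading.) -/
theorem result {S : Scheme.{u}} {Z X : AlgSp.Space S} (i : Z ⟶ X)
    (hi : AlgSp.RepWith @IsClosedImmersion i.hom) (z : AlgSp.FieldPt Z.obj) (hz : z.IsGeometric)
    (F : AlgSp.EtSh Z.obj (Type (u + 1))) :
    ∃ φ : AlgSp.stalkEt (z.map i.hom) ((AlgSp.pushEt hi.1 (Type (u + 1))).obj F) ≃ AlgSp.stalkEt z F,
      ∀ (N : AlgSp.EtNbhd (z.map i.hom)) (s : F.obj.obj (op ((AlgSp.EtOver.bc hi.1).obj N.1))),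
        φ (AlgSp.stalkEtι (z.map i.hom) ((AlgSp.pushEt hi.1 (Type (u + 1))).obj F) N s) =
          AlgSp.stalkEtι z F ⟨(AlgSp.EtOver.bc hi.1).obj N.1,
            ⟨hi.1.lift z.toHom N.2.1 ((N.2.2.trans (AlgSp.FieldPt.toHom_map i.hom z)).symm),
              hi.1.lift_fst _ _ _⟩⟩ s := by
  have : IsCofiltered (AlgSp.EtNbhd z) := isCofiltered_etNbhd z Z.property hz
  have : IsCofiltered (AlgSp.EtNbhd (z.map i.hom)) := isCofiltered_etNbhd _ X.property hz
  let G := (AlgSp.pushEt hi.1 (Type (u + 1))).obj F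
  let c : Cocone (AlgSp.stalkEtDiagram (z.map i.hom) G) := Cocone.mk (AlgSp.stalkEt z F)
    { app := fun N => AlgSp.stalkEtι z F (nbhdObj hi z N.unop)
      naturality := fun N N' g =>
        (colimit.w (AlgSp.stalkEtDiagram z F) (nbhdMap hi z g.unop).op).trans (Category.comp_id _).symm }
  let φ := colimit.desc (AlgSp.stalkEtDiagram (z.map i.hom) G) c
  have hφ : ∀ (N : AlgSp.EtNbhd (z.map i.hom)) (s : G.obj.obj (op N.1)),
      φ (AlgSp.stalkEtι (z.map i.hom) G N s) = AlgSp.stalkEtι z F (nbhdObj hi z N) s := fun N s =>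
    ConcreteCategory.congr_hom (colimit.ι_desc c (op N)) s
  have hbij : Function.Bijective φ := by
    constructor
    · intro a b hab
      obtain ⟨⟨N₁⟩, s₁, rfl⟩ := Types.jointly_surjective' a
      obtain ⟨⟨N₂⟩, s₂, rfl⟩ := Types.jointly_surjective' b
      obtain ⟨N, n₁, n₂, -⟩ := IsCofilteredOrEmpty.cone_objs N₁ N₂
      let r₁ := (AlgSp.stalkEtDiagram (z.map i.hom) G).map n₁.op s₁
      let r₂ := (AlgSp.stalkEtDiagram (z.map i.hom) G).map n₂.op s₂
      have w₁ : colimit.ι (AlgSp.stalkEtDiagram (z.map i.hom) G) (op N) r₁ =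
          colimit.ι (AlgSp.stalkEtDiagram (z.map i.hom) G) (op N₁) s₁ :=
        ConcreteCategory.congr_hom (colimit.w (AlgSp.stalkEtDiagram (z.map i.hom) G) n₁.op) s₁
      have w₂ : colimit.ι (AlgSp.stalkEtDiagram (z.map i.hom) G) (op N) r₂ =
          colimit.ι (AlgSp.stalkEtDiagram (z.map i.hom) G) (op N₂) s₂ :=
        ConcreteCategory.congr_hom (colimit.w (AlgSp.stalkEtDiagram (z.map i.hom) G) n₂.op) s₂
      rw [← w₁, ← w₂] at hab ⊢
      have hab' : colimit.ι (AlgSp.stalkEtDiagram z F) (op (nbhdObj hi z N)) r₁ =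
          colimit.ι (AlgSp.stalkEtDiagram z F) (op (nbhdObj hi z N)) r₂ :=
        ((hφ N r₁).symm.trans hab).trans (hφ N r₂)
      obtain ⟨⟨M⟩, f₁, f₂, hM⟩ := (Types.FilteredColimit.colimit_eq_iff _).1 hab'
      let e := IsCofiltered.eq f₁.unop f₂.unop
      have he : IsCofiltered.eqHom f₁.unop f₂.unop ≫ f₁.unop = IsCofiltered.eqHom f₁.unop f₂.unop ≫ f₂.unop :=
        IsCofiltered.eq_condition _ _
      obtain ⟨N', n, g, hg⟩ := exists_refine hi z N _ (IsCofiltered.eqHom f₁.unop f₂.unop ≫ f₁.unop)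
      refine (Types.FilteredColimit.colimit_eq_iff _).2 ⟨op N', n.op, n.op, ?_⟩
      show (AlgSp.stalkEtDiagram z F).map (nbhdMap hi z n).op r₁ = (AlgSp.stalkEtDiagram z F).map (nbhdMap hi z n).op r₂
      rw [← hg]
      exact map_eq_of_eq (AlgSp.stalkEtDiagram z F) g _ f₁.unop f₂.unop he r₁ r₂ hM
    · intro b
      obtain ⟨⟨M⟩, s, rfl⟩ := Types.jointly_surjective' b
      obtain ⟨N₀⟩ : Nonempty (AlgSp.EtNbhd (z.map i.hom)) := IsCofiltered.nonempty
      obtain ⟨M', a₁, a₂, -⟩ := IsCofilteredOrEmpty.cone_objs M (nbhdObj hi z N₀)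
      obtain ⟨N, n, g, -⟩ := exists_refine hi z N₀ M' a₂
      exact ⟨AlgSp.stalkEtι (z.map i.hom) G N ((AlgSp.stalkEtDiagram z F).map (g ≫ a₁).op s),
        (hφ N _).trans (ConcreteCategory.congr_hom (colimit.w (AlgSp.stalkEtDiagram z F) (g ≫ a₁).op) s)⟩
  exact ⟨Equiv.ofBijective φ hbij, hφ⟩

end Groth.Agent.S9998
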