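import Groth.Agent.AlgSpDer.SingleTower

/-!
# Derived limits of systems in degree zero with eventually surjective sections

Variants of the results of `AlgSpDer.Tower` and `AlgSpDer.SingleTower` where the transition maps are only
asked to be surjective on sections from some index on.
-/

set_option autoImplicit false

universe w u

open CategoryTheory CategoryTheory.Limits Opposite Pretriangulated DerivedCategory

namespace Groth.Agent.SingleTowerEv6

open Groth.Agent.AlgSpDer (sK sT opSequence_w hIso hIso_naturality isZero_homology_single cls_bijective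
  subsingleton_sections_of_isZero hasProduct_nat)

section Tower

open Groth.Agent.SiteCmpLib Groth.Agent.SiteCmpLib.Secs

variable {A : Type (u + 1)} [Category.{u} A] [Abelian A] [HasDerivedCategory.{w} A] [IsGrothendieckAbelian.{u} A]
  {C : Type u} [SmallCategory C] {J : GrothendieckTopology C} (S : Secs J A) {B : Set C}
  {K : ℕ → DerivedCategory A} {t : ∀ n, K (n + 1) ⟶ K n} [HasProduct K] {L : DerivedCategory A}
  {a : ∀ n, L ⟶ K n}

local notation "H" => DerivedCategory.homologyFunctor A

variable {N : ℕ} (hB : DLim.IsCoveredBy J B) (hG : ∀ n, ∀ V ∈ B, S.Good (K n) 0 V)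
  (hs : ∀ (n : ℕ), N ≤ n → ∀ (q : ℤ), ∀ V ∈ B, Function.Surjective (S.hmap (t n) q V))

include hB hG

/-- A class of the derived limit is zero if its images in the sections of the cohomology are. -/
theorem class_eq_zero (hs : ∀ (n : ℕ), N ≤ n → ∀ (q : ℤ), ∀ V ∈ B, Function.Surjective (S.hmap (t n) q V))
    (hL : CohCx.IsRlimVia K t L a) (q : ℤ) {V : C} (hV : V ∈ B) (x : S.PD V ⟶ L⟦q⟧)
    (hx : ∀ n, S.cls (K n) q V (x ≫ (a n)⟦q⟧') = 0) : x = 0 := by
  have hb := fun n j => cls_bijective S (K n) hB (hG n) hV j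
  refine DLim.rlim_eq_zero hL q (fun b => ?_) x fun n => (hb n q).1 ((hx n).trans (map_zero _).symm)
  refine DLim.limOne_of_eventually_surjective N (fun n => S.PD V ⟶ (K n)⟦q - 1⟧)
    (fun n => Preadditive.rightComp _ ((t n)⟦q - 1⟧')) (fun n hn z => ?_) b
  obtain ⟨v, hv⟩ := hs n hn (q - 1) V hV (S.cls (K n) (q - 1) V z)
  obtain ⟨y, rfl⟩ := (hb (n + 1) (q - 1)).2 v
  exact ⟨y, (hb n (q - 1)).1 ((S.cls_comp (t n) (q - 1) V y).trans hv)⟩

include hs

/-- Sections of the cohomology of the derived limit are detected in the system. -/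
theorem rlim_sections_injective (hL : CohCx.IsRlimVia K t L a) (q : ℤ) (W : C)
    (s : (S.HDs L q).obj.obj (op W)) (h : ∀ n, S.hmap (a n) q W s = 0) : s = 0 := by
  obtain ⟨R, hR, hlift⟩ := S.exists_cover_lift L q W s
  obtain ⟨ι, Y, f, hf, hcov, hY⟩ := hB.refine_cover W hR
  refine DLim.sections_separated _ hcov s 0 ?_
  rintro Z k ⟨Z', b, c, ⟨i⟩, rfl⟩
  obtain ⟨x, hx⟩ := hlift _ (f i) (hf i)
  have hzero : x = 0 := class_eq_zero S hB hG hs hL q (hY i) x fun n => by
    rw [S.cls_comp, hx]
    exact (ConcreteCategory.congr_hom ((S.Φ.map ((H q).map (a n))).hom.naturality (f i).op) s).trans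
      ((congrArg ((S.HDs (K n) q).obj.map (f i).op).hom (h n)).trans (map_zero _))
  rw [op_comp, Functor.map_comp]
  show ((S.HDs L q).obj.map b.op).hom (((S.HDs L q).obj.map (f i).op).hom s) = _
  rw [← hx, hzero, map_zero, map_zero, map_zero]

end Tower

section Single

open Groth.Agent.SiteCmpLib Groth.Agent.SiteCmpLib.Secs

variable {A : Type (u + 1)} [Category.{u} A] [Abelian A] [HasDerivedCategory.{w} A]

local notation "Φ" => DerivedCategory.singleFunctor A 0
local notation "H" => DerivedCategory.homologyFunctor A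

variable [IsGrothendieckAbelian.{u} A] {C : Type u} [SmallCategory C] {J : GrothendieckTopology C}
  (S : Secs J A) {B : Set C} (M : ℕ → A) (t : ∀ n, M (n + 1) ⟶ M n)

include t in
/-- Good systems with surjective sections: the limit in degree zero is the derived limit. -/
theorem isRlimVia_single [HasProduct (sK M)] {N : ℕ} (hB : DLim.IsCoveredBy J B)
    (hG : ∀ n, ∀ V ∈ B, S.Good (sK M n) 0 V)
    (hs : ∀ (n : ℕ), N ≤ n → ∀ (q : ℤ), ∀ V ∈ B, Function.Surjective (S.hmap (sT M t n) q V)) :
    CohCx.IsRlimVia (sK M) (sT M t) ((Φ).obj (limit (Functor.ofOpSequence t)))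
      (fun n => (Φ).map (limit.π (Functor.ofOpSequence t) (op n))) := by
  let K := sK M
  let d : ∏ᶜ K ⟶ ∏ᶜ K := Pi.lift fun n => Pi.π K n - Pi.π K (n + 1) ≫ sT M t n
  obtain ⟨L, p, δ, hT⟩ := distinguished_cocone_triangle₁ d
  let a : ∀ n, L ⟶ K n := fun n => p ≫ Pi.π K n
  have hp : Pi.lift a = p := Pi.hom_ext _ _ fun n => Pi.lift_π _ _
  have hL : CohCx.IsRlimVia K (sT M t) L a := ⟨δ, by rw [hp]; exact hT⟩
  let D := Functor.ofOpSequence t
  let E := (Φ).obj (limit D)
  let b : ∀ n, E ⟶ K n := fun n => (Φ).map (limit.π D (op n))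
  obtain ⟨e, he⟩ : ∃ e : E ⟶ L, Pi.lift b = e ≫ p :=
    Triangle.coyoneda_exact₂ _ hT (Pi.lift b) (Pi.hom_ext _ _ fun n => by
      show (Pi.lift b ≫ d) ≫ Pi.π K n = 0 ≫ Pi.π K n
      rw [Category.assoc, Pi.lift_π, Preadditive.comp_sub, zero_comp, Pi.lift_π, ← Category.assoc, Pi.lift_π,
        sub_eq_zero]
      exact ((congrArg (Φ).map (opSequence_w M t n)).symm.trans ((Φ).map_comp _ _)))
  have hea : ∀ n, e ≫ a n = b n := fun n => by
    show e ≫ p ≫ Pi.π K n = b n
    rw [← Category.assoc, ← he, Pi.lift_π]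
  have hinj := rlim_sections_injective S hB hG hs hL
  have hiso : ∀ q : ℤ, IsIso ((H q).map e) := fun q => by
    by_cases hq : q = 0
    · subst hq
      suffices IsIso (S.Φ.map ((H 0).map e)) from isIso_of_reflects_iso ((H 0).map e) S.Φ
      refine DLim.isIso_of_bijective_on _ hB fun U _ => ?_
      have hcomp : ∀ (n : ℕ) (x : S.P.obj U ⟶ (H 0).obj E),
          S.hmap (a n) 0 U (S.hmap e 0 U (S.sec U _ x)) =
            S.sec U _ (x ≫ (H 0).map (b n)) := fun n x => by
        show S.hmap (a n) 0 U (((S.Φ.map ((H 0).map e)).hom.app (op U)).hom (S.sec U _ x)) = _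
        rw [← S.sec_comp]
        show ((S.Φ.map ((H 0).map (a n))).hom.app (op U)).hom (S.sec U _ (x ≫ (H 0).map e)) = _
        rw [← S.sec_comp, Category.assoc, ← Functor.map_comp, hea]
      constructor
      · intro s s' h
        obtain ⟨x, rfl⟩ := (S.sec U _).surjective s
        obtain ⟨x', rfl⟩ := (S.sec U _).surjective s'
        refine congrArg _ ((cancel_mono (hIso (limit D)).hom).1 (limit.hom_ext fun n => ?_))
        have h' : x ≫ (H 0).map (b n.unop) = x' ≫ (H 0).map (b n.unop) :=
          (S.sec U _).injective ((hcomp n.unop x).symm.trans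
            ((congrArg (S.hmap (a n.unop) 0 U) h).trans (hcomp n.unop x')))
        rw [Category.assoc, Category.assoc, ← hIso_naturality (limit.π D n)]
        exact ((Category.assoc _ _ _).symm.trans (congrArg (· ≫ _) h')).trans (Category.assoc _ _ _)
      · intro y
        choose x hx using fun n => (S.sec U ((H 0).obj (K n))).surjective (S.hmap (a n) 0 U y)
        have hw : ∀ n, x (n + 1) ≫ (H 0).map (sT M t n) = x n := fun n => by
          refine (S.sec U _).injective ?_
          rw [S.sec_comp, hx, hx]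
          have := congrArg (fun g => S.hmap g 0 U y) (DLim.rlim_comp_t hL n)
          refine Eq.trans ?_ this
          show S.hmap (sT M t n) 0 U (S.hmap (a (n + 1)) 0 U y) = _
          simp only [hmap, Functor.map_comp]
          rfl
        let c : Cone D := Cone.mk (S.P.obj U) (NatTrans.ofOpSequence (fun n => x n ≫ (hIso (M n)).hom) fun n => by
          refine (Category.id_comp _).trans ?_
          refine Eq.trans ?_ (congrArg ((x (n + 1) ≫ (hIso (M (n + 1))).hom) ≫ ·)
            (Functor.ofOpSequence_map_homOfLE_succ t n).symm)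
          exact (congrArg (· ≫ (hIso (M n)).hom) (hw n).symm).trans ((Category.assoc _ _ _).trans
            ((congrArg (x (n + 1) ≫ ·) (hIso_naturality (t n))).trans (Category.assoc _ _ _).symm)))
        refine ⟨S.sec U _ (limit.lift D c ≫ (hIso (limit D)).inv), sub_eq_zero.1 (hinj 0 U _ fun n => ?_)⟩
        rw [map_sub, sub_eq_zero]
        refine (hcomp n _).trans ((congrArg (S.sec U _) ?_).trans (hx n))
        refine (cancel_mono (hIso (M n)).hom).1 ?_
        rw [Category.assoc, Category.assoc]
        refine (congrArg (fun m => limit.lift D c ≫ (hIso (limit D)).inv ≫ m)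
          (hIso_naturality (limit.π D (op n)))).trans ?_
        rw [Iso.inv_hom_id_assoc]
        exact limit.lift_π c (op n)
    · refine (isZero_homology_single (limit D) hq).isIso ?_ _
      refine S.isZero_of_sections _ fun U s => hinj q U s fun n => ?_
      exact @Subsingleton.elim _ (subsingleton_sections_of_isZero S (isZero_homology_single (M n) hq) U) _ _
  haveI he' : IsIso e := (DerivedCategory.isIso_iff _ e).2 hiso
  let eI : E ≅ L := @asIso _ _ _ _ e he'
  refine ⟨δ ≫ eI.inv⟦(1 : ℤ)⟧', isomorphic_distinguished _ hT _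
    (Triangle.isoMk _ _ eI (Iso.refl _) (Iso.refl _) ?_ ?_ ?_)⟩
  · exact (Category.comp_id _).trans he
  · exact (Category.comp_id _).trans (Category.id_comp _).symm
  · refine (Category.assoc _ _ _).trans (Eq.trans ?_ (Category.id_comp δ).symm)
    refine (congrArg (δ ≫ ·) ?_).trans (Category.comp_id δ)
    exact (Functor.map_comp _ _ _).symm.trans
      ((congrArg _ eI.inv_hom_id).trans (CategoryTheory.Functor.map_id _ _))

include t in
/-- The limit of a good system with surjective sections has no higher cohomology on the covering set. -/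
theorem van_limit {N : ℕ} (hB : DLim.IsCoveredBy J B) (hG : ∀ n, ∀ V ∈ B, S.Good (sK M n) 0 V)
    (hs : ∀ (n : ℕ), N ≤ n → ∀ (q : ℤ), ∀ V ∈ B, Function.Surjective (S.hmap (sT M t n) q V))
    {V : C} (hV : V ∈ B) (k : ℕ) (hk : 0 < k) :
    S.Van (limit (Functor.ofOpSequence t)) k V := by
  have := hasProduct_nat (sK M)
  intro φ
  refine class_eq_zero S hB hG hs (isRlimVia_single S M t hB hG hs) (k : ℤ) hV φ fun n => ?_
  exact @Subsingleton.elim _
    (subsingleton_sections_of_isZero S (isZero_homology_single (M n) (by omega : (k : ℤ) ≠ 0)) V) _ _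

end Single

end Groth.Agent.SingleTowerEv6
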